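import Cfsg.Agent.Lib.McLThree.CoverModel

/-!
# Words in the seven letters
-/

set_option autoImplicit false

namespace CfsgLib.McLThree

universe u

/-- The inverse letter. -/
def invLetter (k : Fin 14) : Fin 14 := k + 7

/-- The inverse word. -/
def iw (w : List (Fin 14)) : List (Fin 14) := (w.map invLetter).reverse

/-- Prepend a letter to a reduced word. -/
def pushRed (k : Fin 14) : List (Fin 14) → List (Fin 14)
  | [] => [k]
  | l :: v => if l = invLetter k then v else k :: l :: v

/-- The free reduction of a word. -/
def freeRed (w : List (Fin 14)) : List (Fin 14) := w.foldr pushRed []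

/-- The value of a letter. -/
def lval {G : Type u} [Group G] (L : Fin 7 → G) (k : Fin 14) : G :=
  if h : k.1 < 7 then L ⟨k.1, h⟩ else (L ⟨k.1 - 7, by omega⟩)⁻¹

variable {G : Type u} [Group G] (L : Fin 7 → G)

theorem val_nil_lval : val L [] = 1 := rfl

theorem val_cons_lval (k : Fin 14) (w : List (Fin 14)) : val L (k :: w) = lval L k * val L w := by
  simp [val, lval]

theorem val_append (v w : List (Fin 14)) : val L (v ++ w) = val L v * val L w := by
  simp [val]

theorem val_singleton (k : Fin 14) : val L [k] = lval L k := by simp [val, lval]

theorem lval_invLetter (k : Fin 14) : lval L (invLetter k) = (lval L k)⁻¹ := by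
  fin_cases k <;> simp [lval, invLetter]

theorem val_iw (w : List (Fin 14)) : val L (iw w) = (val L w)⁻¹ := by
  induction w with
  | nil => simp [iw, val]
  | cons k w ih =>
    have e : iw (k :: w) = iw w ++ [invLetter k] := by simp [iw]
    rw [e, val_append, ih, val_singleton, lval_invLetter, val_cons_lval, mul_inv_rev]

theorem val_pushRed (k : Fin 14) (v : List (Fin 14)) : val L (pushRed k v) = lval L k * val L v := by
  rcases v with _ | ⟨l, v⟩
  · show val L [k] = _
    rw [val_cons_lval]
  · show val L (if l = invLetter k then v else k :: l :: v) = _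
    by_cases h : l = invLetter k
    · rw [if_pos h, h, val_cons_lval, lval_invLetter, mul_inv_cancel_left]
    · rw [if_neg h, val_cons_lval]

theorem val_freeRed (w : List (Fin 14)) : val L (freeRed w) = val L w := by
  induction w with
  | nil => rfl
  | cons k w ih =>
    show val L (pushRed k (freeRed w)) = _
    rw [val_pushRed, ih, val_cons_lval]

/-- The middle of a word with `k` letters cut at both ends. -/
def middle (v : List (Fin 14)) (k : ℕ) : List (Fin 14) := (v.drop k).take (v.length - 2 * k)

/-- A check that a word is a conjugate of a member of a list, after free reduction. -/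
def fromRelsB (rs : List (List (Fin 14))) (v : List (Fin 14)) : Bool :=
  (List.range (v.length / 2 + 1)).any fun k =>
    decide (v = v.take k ++ middle v k ++ iw (v.take k)) && rs.contains (middle v k)

theorem val_of_fromRels {rs : List (List (Fin 14))} (h : ∀ r ∈ rs, val L r = 1)
    {w : List (Fin 14)} (hw : fromRelsB rs (freeRed w) = true) : val L w = 1 := by
  rw [fromRelsB, List.any_eq_true] at hw
  obtain ⟨k, -, hk⟩ := hw
  rw [Bool.and_eq_true, decide_eq_true_eq, List.contains_iff_mem] at hk
  rw [← val_freeRed, hk.1, val_append, val_append, h _ hk.2, mul_one, val_iw, mul_inv_cancel]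

/-- The words of the basis of `Q` modulo its centre. -/
def wordB : Fin 4 → List (Fin 14)
  | 0 => [6]
  | 1 => wordS ++ [6] ++ iw wordS
  | 2 => wordW ++ [6] ++ iw wordW
  | 3 => wordW ++ (wordS ++ [6] ++ iw wordS) ++ iw wordW

/-- The commutator relator of two basis words with value `z ^ c`. -/
def commWord (i j : Fin 4) (c : List (Fin 14)) : List (Fin 14) :=
  wordB i ++ wordB j ++ iw (wordB i) ++ iw (wordB j) ++ c

theorem mem_range (w : List (Fin 14)) : val L w ∈ Subgroup.closure (Set.range L) := by
  induction w with
  | nil => exact one_mem _
  | cons k w ih =>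
    rw [val_cons_lval]
    refine mul_mem ?_ ih
    unfold lval
    split_ifs
    · exact Subgroup.subset_closure ⟨_, rfl⟩
    · exact inv_mem (Subgroup.subset_closure ⟨_, rfl⟩)

theorem map_val {H : Type*} [Group H] (f : G →* H) (w : List (Fin 14)) :
    f (val L w) = val (f ∘ L) w := by
  rw [val, val, map_list_prod, List.map_map]
  refine congrArg List.prod (List.map_congr_left fun k _ => ?_)
  by_cases h : k.1 < 7 <;> simp [h]

end CfsgLib.McLThree
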