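import Cfsg.Agent.Lib.McLThree.Assembly
import Cfsg.Agent.Lib.Components.FStar

/-!
# Recognition of the McLaughlin group and its automorphism group, modulo the pieces
-/

set_option autoImplicit false
set_option linter.style.haveILetI false

namespace CfsgLib.McLThree

open Subgroup

universe u

/-- The pieces that do not depend on the source of the data. -/
structure Pieces : Prop where
  coverWords : StmtCoverWords.{u}
  glue : StmtGlue.{u}
  bound : StmtBound.{u}
  bound₀ : StmtBound.{0}
  model : StmtModel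
  census : StmtCensus.{u}

variable {G : Type u} [Group G] [Finite G]

/-- A subgroup isomorphic to the McLaughlin group with full normalizer and trivial centraliser. -/
theorem iso_or_aut {G₀ : Subgroup G} (e : G₀ ≃* Cfsg.Spor.McL) (hM : StmtModel)
    (hN : normalizer (G₀ : Set G) = ⊤) (hC : centralizer (G₀ : Set G) = ⊥) :
    Nonempty (G ≃* Cfsg.Spor.McL) ∨ Nonempty (G ≃* MulAut Cfsg.Spor.McL) := by
  obtain ⟨_, -, -, hcard, hs⟩ := hM
  haveI := hs
  haveI : Finite Cfsg.Spor.McL := Nat.finite_of_card_ne_zero (by rw [hcard]; norm_num)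
  haveI : G₀.Normal := Subgroup.normalizer_eq_top_iff.1 hN
  set ψ : G →* MulAut Cfsg.Spor.McL :=
    (MulAut.congr e).toMonoidHom.comp (MulAut.conjNormal : G →* MulAut G₀) with hψ
  have hinj : Function.Injective ψ := by
    refine (injective_iff_map_eq_one ψ).2 fun x hx => ?_
    have h : (MulAut.conjNormal x : MulAut G₀) = 1 :=
      (MulAut.congr e).injective (hx.trans (map_one _).symm)
    have : x ∈ centralizer (G₀ : Set G) := mem_centralizer_iff.2 fun y hy => by
      have h' := congrArg (fun φ : MulAut G₀ => ((φ ⟨y, hy⟩ : G₀) : G)) h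
      simp only [MulAut.conjNormal_apply, MulAut.one_apply] at h'
      exact (mul_inv_eq_iff_eq_mul.1 h').symm
    rw [hC, Subgroup.mem_bot] at this
    exact this
  have hout : Nat.card (MulAut Cfsg.Spor.McL ⧸ Cfsg.Inn Cfsg.Spor.McL) = 2 :=
    Cfsg.Agent.S2073.result
  have hInn : Nat.card (Cfsg.Inn Cfsg.Spor.McL) ≤ 898128000 :=
    hcard ▸ Nat.card_le_card_of_surjective (MulAut.conj : Cfsg.Spor.McL →* _).rangeRestrict
      (MulAut.conj : Cfsg.Spor.McL →* _).rangeRestrict_surjective
  haveI : Finite (MulAut Cfsg.Spor.McL) := inferInstance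
  have hAut : Nat.card (MulAut Cfsg.Spor.McL) ≤ 2 * 898128000 := by
    rw [Subgroup.card_eq_card_quotient_mul_card_subgroup (Cfsg.Inn Cfsg.Spor.McL), hout]
    omega
  have hG₀ : Nat.card G₀ = 898128000 := (Nat.card_congr e.toEquiv).trans hcard
  obtain ⟨c, hc⟩ : 898128000 ∣ Nat.card G := hG₀ ▸ Subgroup.card_subgroup_dvd_card G₀
  have hle := Nat.card_le_card_of_injective ψ hinj
  have hpos : 0 < Nat.card G := Nat.card_pos
  rcases (show c = 1 ∨ c = 2 by omega) with h | h
  · left
    have htop : G₀ = ⊤ := Subgroup.eq_top_of_card_eq _ (by rw [hG₀, hc, h])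
    exact ⟨((MulEquiv.subgroupCongr htop).trans Subgroup.topEquiv).symm.trans e⟩
  · right
    exact ⟨MulEquiv.ofBijective ψ (hinj.bijective_of_nat_card_le (by omega))⟩

/-- Recognition from the data and the double cover. -/
theorem recognise_cover (P : Pieces.{u}) (D : Loc G) (C : Cover G D) :
    Nonempty (G ≃* Cfsg.Spor.McL) ∨ Nonempty (G ≃* MulAut Cfsg.Spor.McL) := by
  obtain ⟨G₀, ⟨e⟩, ht, -, hN, hC⟩ := core P.coverWords P.glue P.bound P.bound₀ P.model D C
  exact iso_or_aut e P.model (P.census G G₀ D.t ⟨e⟩ ht D.ord_t hC hN) hC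

/-- Recognition from the hypotheses, given the centralisers of the diagonal elements. -/
theorem recognise (P : Pieces.{u}) (hT : StmtTop.{u}) (hS : StmtSix.{u}) (hCT : StmtCentT.{u})
    {Z J Q : Subgroup G} (h : Hyp G Z J Q)
    (hY : ∀ D : Loc G, zpowers D.z = Z → D.Q = Q → D.J = J → CentY D) :
    Nonempty (G ≃* Cfsg.Spor.McL) ∨ Nonempty (G ≃* MulAut Cfsg.Spor.McL) := by
  obtain ⟨D, hz, hQ, hJ⟩ := hT G Z J Q h
  obtain ⟨E, hE⟩ := hS G Z J Q h D hz hQ hJ
  subst hE
  obtain ⟨C⟩ := hCT G E (hY E hz hQ hJ)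
  exact recognise_cover P E C

/-- A normal simple non-abelian subgroup with trivial centraliser is the generalised Fitting
subgroup. -/
theorem fstar_eq_of_normal_simple (N : Subgroup G) [N.Normal] [IsSimpleGroup ↥N]
    (hna : ¬ IsMulCommutative ↥N) (hcen : centralizer (N : Set G) = ⊥) :
    Cfsg.generalizedFittingSubgroup G = N := by
  have hN : Cfsg.IsComponent N := ⟨Subgroup.Normal.isSubnormal inferInstance,
    Components.isQuasisimple_of_isSimpleGroup hna⟩
  have key : ∀ K : Subgroup G, ⁅K, N⁆ = ⊥ → K = ⊥ := fun K h =>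
    le_bot_iff.1 (hcen ▸ Subgroup.commutator_eq_bot_iff_le_centralizer.1 h)
  refine le_antisymm ?_ ((Components.component_le_layer hN).trans Components.layer_le_fstar)
  rw [Cfsg.generalizedFittingSubgroup]
  refine sup_le (Components.layer_le_iff.2 fun K hK => ?_) ?_
  · by_contra hle
    exact Components.component_ne_bot hK
      (key K (Components.component_commutator_eq_bot_of_not_le hK hN.1 hle))
  · have h : ⁅N, Cfsg.fittingSubgroup G⁆ = ⊥ :=
      le_bot_iff.1 ((Subgroup.commutator_mono (Components.component_le_layer hN) le_rfl).trans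
        Components.layer_commutator_fitting.le)
    rw [Subgroup.commutator_comm] at h
    exact (key _ h).le.trans bot_le

/-- The generalised Fitting subgroup of a group recognised from data. -/
theorem fstar_recognise (P : Pieces.{u}) (D : Loc G) (C : Cover G D) :
    Cfsg.Spor.IsoMcL ↥(Cfsg.generalizedFittingSubgroup G) := by
  obtain ⟨G₀, ⟨e⟩, ht, hz, hN, hC⟩ := core P.coverWords P.glue P.bound P.bound₀ P.model D C
  haveI : G₀.Normal := Subgroup.normalizer_eq_top_iff.1 (P.census G G₀ D.t ⟨e⟩ ht D.ord_t hC hN)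
  obtain ⟨_, -, -, -, hs⟩ := P.model
  haveI := hs
  haveI : IsSimpleGroup G₀ := e.isSimpleGroup
  have hna : ¬ IsMulCommutative ↥G₀ := by
    intro hab
    have hmem : D.z ∈ centralizer (G₀ : Set G) := mem_centralizer_iff.2 fun y hy => by
      exact congrArg Subtype.val (hab.is_comm.comm (⟨y, hy⟩ : G₀) ⟨D.z, hz⟩)
    rw [hC, Subgroup.mem_bot] at hmem
    have := D.ord_z
    rw [hmem, orderOf_one] at this
    omega
  rw [fstar_eq_of_normal_simple G₀ hna hC]
  exact ⟨e⟩

end CfsgLib.McLThree
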