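import Cfsg.Agent.Lib.McLThree.Defs
import Cfsg.Agent.Lib.Base.Cores
import Cfsg.Agent.Lib.Components.FStar
import Cfsg.Agent.Lib.Base.Frattini
import Cfsg.Prelude.Def_Transfer
import Cfsg.Prelude.Def_Local

/-!
# The hypotheses of S5523 and S2913 give the common hypotheses
-/

set_option autoImplicit false
set_option linter.style.haveILetI false

namespace CfsgLib.McLThree

open Subgroup

universe u

variable {G : Type u} [Group G]

theorem center_map_eq (Q : Subgroup G) :
    (center Q).map Q.subtype = Q ⊓ centralizer (Q : Set G) := by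
  ext x
  rw [Subgroup.mem_map, Subgroup.mem_inf]
  constructor
  · rintro ⟨q, hq, rfl⟩
    exact ⟨q.2, mem_centralizer_iff.2 fun y hy =>
      congrArg Subtype.val (mem_center_iff.1 hq ⟨y, hy⟩)⟩
  · rintro ⟨hx, hc⟩
    exact ⟨⟨x, hx⟩, mem_center_iff.2 fun y => Subtype.ext (mem_centralizer_iff.1 hc y.1 y.2), rfl⟩

variable [Finite G]

/-- A subgroup of order three contained in `Q ⊓ C(Q)` is all of it. -/
theorem eq_center_of_le {Z Q : Subgroup G} (hQ : Cfsg.IsExtraspecial 3 Q) (hne : Z ≠ ⊥)
    (hle : Z ≤ Q ⊓ centralizer (Q : Set G)) : Nat.card Z = 3 ∧ Z = Q ⊓ centralizer (Q : Set G) := by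
  have h3 : Nat.card ↥(Q ⊓ centralizer (Q : Set G)) = 3 := by
    rw [← center_map_eq, Subgroup.card_subtype]
    exact hQ.2
  have hd : Nat.card Z ∣ 3 := h3 ▸ Subgroup.card_dvd_of_le hle
  rcases (Nat.dvd_prime Nat.prime_three).1 hd with h | h
  · exact absurd (Subgroup.card_eq_one.1 h) hne
  · exact ⟨h, Subgroup.eq_of_le_of_card_ge hle (by rw [h, h3])⟩

/-- A 3-element normalising a subgroup of order three centralises it. -/
theorem mem_centralizer_of_three {Z : Subgroup G} (hZ : Nat.card Z = 3) {g : G}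
    (hg : g ∈ normalizer (Z : Set G)) (h3 : ∃ k : ℕ, orderOf g = 3 ^ k) :
    g ∈ centralizer (Z : Set G) := by
  haveI : IsCyclic Z := isCyclic_of_prime_card (p := 3) hZ
  obtain ⟨k, hk⟩ := h3
  have h1 : orderOf (normalizerMonoidHom Z ⟨g, hg⟩) ∣ 3 ^ k := by
    rw [← hk, ← Subgroup.orderOf_mk g hg]
    exact orderOf_map_dvd _ _
  have h2 : orderOf (normalizerMonoidHom Z ⟨g, hg⟩) ∣ 2 := by
    refine (_root_.orderOf_dvd_natCard _).trans ?_
    rw [IsCyclic.card_mulAut, hZ, Nat.totient_prime Nat.prime_three]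
  have h := orderOf_eq_one_iff.1 (Nat.eq_one_of_dvd_coprimes
    (Nat.Coprime.pow_left k (by norm_num : Nat.Coprime 3 2)) h1 h2)
  have hmem : (⟨g, hg⟩ : normalizer (Z : Set G)) ∈ (normalizerMonoidHom Z).ker := h
  rw [normalizerMonoidHom_ker, mem_subgroupOf] at hmem
  exact hmem

omit [Finite G] in
/-- An element of a normalizer maps the closure of its 3-elements to itself. -/
theorem le_normalizer_closure_three (N : Subgroup G) :
    N ≤ normalizer (closure {g : G | g ∈ N ∧ ∃ k : ℕ, orderOf g = 3 ^ k} : Set G) := by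
  set T := {g : G | g ∈ N ∧ ∃ k : ℕ, orderOf g = 3 ^ k} with hT
  have key : ∀ n ∈ N, ∀ x ∈ closure T, n * x * n⁻¹ ∈ closure T := by
    intro n hn x hx
    have h := Subgroup.mem_map_of_mem (MulAut.conj n).toMonoidHom hx
    rw [MonoidHom.map_closure] at h
    refine (closure_le _).2 ?_ h
    rintro _ ⟨s, ⟨hs, k, hk⟩, rfl⟩
    exact subset_closure ⟨mul_mem (mul_mem hn hs) (inv_mem hn), k,
      by rw [MulEquiv.coe_toMonoidHom, MulEquiv.orderOf_eq, hk]⟩
  intro n hn
  refine mem_normalizer_iff.2 fun x => ⟨key n hn x, fun hx => ?_⟩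
  have h := key n⁻¹ (inv_mem hn) _ hx
  rwa [inv_inv, show n⁻¹ * (n * x * n⁻¹) * n = x by group] at h

/-- The hypotheses of S5523 (and of S3367) give the common hypotheses. -/
theorem hyp_of_S5523 (S : Sylow 3 G) (Z : Subgroup G)
    (hZ : Z = (S : Subgroup G) ⊓ centralizer ((S : Subgroup G) : Set G))
    (J : Subgroup G) (hJS : J ≤ S) (hJcomm : IsMulCommutative J) (hJexp : ∀ a ∈ J, a ^ 3 = 1)
    (hJcard : Nat.card J = 3 ^ 4)
    (M₀ : Subgroup G)
    (hM₀ : M₀ = closure {g : G | g ∈ normalizer (J : Set G) ∧ ∃ k : ℕ, orderOf g = 3 ^ k})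
    (hJM : J ≤ M₀) [(J.subgroupOf M₀).Normal]
    (eM : M₀ ⧸ J.subgroupOf M₀ ≃* alternatingGroup (Fin 6))
    (L₀ : Subgroup G)
    (hL₀ : L₀ = closure {g : G | g ∈ normalizer (Z : Set G) ∧ ∃ k : ℕ, orderOf g = 3 ^ k})
    (Q : Subgroup G)
    (hQ : Q = (Cfsg.pCore 3 (normalizer (Z : Set G))).map (normalizer (Z : Set G)).subtype)
    (hQex : Cfsg.IsExtraspecial 3 Q) (hQcard : Nat.card Q = 3 ^ 5) (hQexp : ∀ a ∈ Q, a ^ 3 = 1)
    (hQL : Q ≤ L₀) [(Q.subgroupOf L₀).Normal]
    (eL : L₀ ⧸ Q.subgroupOf L₀ ≃* Matrix.SpecialLinearGroup (Fin 2) (ZMod 5))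
    (hiii : centralizer (((Cfsg.pCore 3 (centralizer (Z : Set G))).map
        (centralizer (Z : Set G)).subtype : Subgroup G) : Set G)
        ≤ (Cfsg.pCore 3 (centralizer (Z : Set G))).map (centralizer (Z : Set G)).subtype) :
    Hyp G Z J Q := by
  set C := centralizer (Z : Set G) with hC
  set N := normalizer (Z : Set G) with hN
  have hCN : C ≤ N := centralizer_le_normalizer _
  have hSC : (S : Subgroup G) ≤ C := by
    intro s hs
    refine mem_centralizer_iff.2 fun w hw => ?_
    rw [hZ] at hw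
    exact (mem_centralizer_iff.1 hw.2 s hs).symm
  have hQ3 : IsPGroup 3 Q := hQ ▸ Base.isPGroup_map_pCore 3 N
  have hQS : Q ≤ S := by
    rw [hQ]
    calc (Cfsg.pCore 3 N).map N.subtype
        ≤ ((S.subtype (hSC.trans hCN)) : Subgroup N).map N.subtype :=
          Subgroup.map_mono (Base.pCore_le_sylow _)
      _ ≤ S := by
          rw [Sylow.coe_subtype, Subgroup.subgroupOf_map_subtype]
          exact inf_le_left
  have hQC : Q ≤ C := hQS.trans hSC
  have hNQ : N ≤ normalizer (Q : Set G) := hQ ▸ Base.le_normalizer_map_pCore N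
  -- the core of the centraliser is `Q`
  set R := (Cfsg.pCore 3 C).map C.subtype with hR
  have hRQ : R = Q := by
    refine le_antisymm ?_ (Base.le_map_pCore hQC (hCN.trans hNQ) hQ3)
    rw [hQ]
    exact Base.map_pCore_le_of_normal_subgroupOf hCN
      ((Subgroup.normal_subgroupOf_iff_le_normalizer hCN).2 (fun n hn =>
        mem_normalizer_iff.2 fun x => by
          have key : ∀ n ∈ N, ∀ x ∈ C, n * x * n⁻¹ ∈ C := fun n hn x hx =>
            mem_centralizer_iff.2 fun w hw => by
              have hw' : n⁻¹ * w * n ∈ Z := by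
                have := (mem_normalizer_iff.1 (inv_mem hn) w).1 hw
                rwa [inv_inv] at this
              have h := mem_centralizer_iff.1 hx _ hw'
              calc w * (n * x * n⁻¹) = n * (n⁻¹ * w * n * x) * n⁻¹ := by group
                _ = n * (x * (n⁻¹ * w * n)) * n⁻¹ := by rw [h]
                _ = n * x * n⁻¹ * w := by group
          refine ⟨key n hn x, fun hx => ?_⟩
          have h := key n⁻¹ (inv_mem hn) _ hx
          rwa [inv_inv, show n⁻¹ * (n * x * n⁻¹) * n = x by group] at h))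
  rw [hRQ] at hiii
  have hZC : Z ≤ centralizer (Q : Set G) := Subgroup.le_centralizer_iff.1 hQC
  have hSne : Nontrivial (S : Subgroup G) := by
    rw [Subgroup.nontrivial_iff_ne_bot]
    intro h
    rw [le_bot_iff.1 (hQS.trans_eq h : Q ≤ ⊥), Subgroup.card_bot] at hQcard
    norm_num at hQcard
  have hZne : Z ≠ ⊥ := by
    rw [hZ, ← center_map_eq]
    intro h
    haveI := hSne
    haveI := S.2.center_nontrivial
    exact (Subgroup.nontrivial_iff_ne_bot (center ↥(S : Subgroup G))).1 inferInstance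
      (Subgroup.map_injective (Subgroup.subtype_injective _) (h.trans (Subgroup.map_bot _).symm))
  obtain ⟨hZ3, -⟩ := eq_center_of_le hQex hZne (le_inf (hZC.trans hiii) hZC)
  refine ⟨hZ3, hQex, hQcard, hQexp, hZC.trans hiii, hQC, hNQ, hiii, ?_, hJcomm, hJexp, hJcard, ?_,
    ⟨S, hJS, hSC⟩⟩
  · refine ⟨L₀, hQL, ?_, ?_, eL.toMonoidHom.comp (QuotientGroup.mk' _), ?_, ?_⟩
    · rw [hL₀, closure_le]
      rintro g ⟨hg, hk⟩
      exact mem_centralizer_of_three hZ3 hg hk
    · rw [hL₀]
      exact le_normalizer_closure_three _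
    · exact eL.surjective.comp (QuotientGroup.mk'_surjective _)
    · rw [MonoidHom.ker_comp_of_injective _ _ eL.injective, QuotientGroup.ker_mk']
  · refine ⟨M₀, hJM, ?_, ?_, eM.toMonoidHom.comp (QuotientGroup.mk' _), ?_, ?_⟩
    · rw [hM₀, closure_le]
      exact fun g hg => hg.1
    · rw [hM₀]
      exact le_normalizer_closure_three _
    · exact eM.surjective.comp (QuotientGroup.mk'_surjective _)
    · rw [MonoidHom.ker_comp_of_injective _ _ eM.injective, QuotientGroup.ker_mk']

omit [Finite G] in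
/-- Automorphisms of a subgroup by conjugation in its normalizer fix a characteristic subgroup. -/
theorem normalizer_le_of_char {C : Subgroup G} (K : Subgroup C)
    (h : ∀ e : C ≃* C, K.map e.toMonoidHom = K) :
    normalizer (C : Set G) ≤ normalizer ((K.map C.subtype : Subgroup G) : Set G) := by
  have key : ∀ n ∈ normalizer (C : Set G), ∀ x ∈ K.map C.subtype,
      n * x * n⁻¹ ∈ K.map C.subtype := by
    rintro n hn _ ⟨c, hc, rfl⟩
    let e : C ≃* C := normalizerMonoidHom C ⟨n, hn⟩
    have hm : e c ∈ K := by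
      rw [← h e]
      exact Subgroup.mem_map_of_mem _ hc
    exact ⟨e c, hm, rfl⟩
  intro n hn
  refine mem_normalizer_iff.2 fun x => ⟨key n hn x, fun hx => ?_⟩
  have h' := key n⁻¹ (inv_mem hn) _ hx
  rwa [inv_inv, show n⁻¹ * (n * x * n⁻¹) * n = x by group] at h'

/-- The hypotheses of S2913 give the common hypotheses. -/
theorem hyp_of_S2913 (Z : Subgroup G) (hZ : Nat.card Z = 3)
    (S : Sylow 3 ↥(centralizer (Z : Set G))) (J : Subgroup G)
    (hJS : J ≤ (S : Subgroup ↥(centralizer (Z : Set G))).map (centralizer (Z : Set G)).subtype)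
    (hJ : Cfsg.IsElementaryAbelian 3 J) (hJcard : Nat.card J = 3 ^ 4)
    (hQ : Cfsg.IsExtraspecial 3 ↥(Cfsg.generalizedFittingSubgroup ↥(centralizer (Z : Set G))))
    (hQcard : Nat.card ↥(Cfsg.generalizedFittingSubgroup ↥(centralizer (Z : Set G))) = 3 ^ 5)
    [(Cfsg.generalizedFittingSubgroup ↥(centralizer (Z : Set G))).Normal]
    (hexp : ∀ x ∈ Cfsg.generalizedFittingSubgroup ↥(centralizer (Z : Set G)), x ^ 3 = 1)
    (hFMQ : Nonempty (↥(Cfsg.generalizedFittingSubgroup (↥(centralizer (Z : Set G)) ⧸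
      Cfsg.generalizedFittingSubgroup ↥(centralizer (Z : Set G)))) ≃*
        Matrix.SpecialLinearGroup (Fin 2) (ZMod 5)))
    [(J.subgroupOf (normalizer (J : Set G))).Normal]
    (hA6 : Nonempty (↥(closure {x : ↥(normalizer (J : Set G)) ⧸ J.subgroupOf (normalizer (J : Set G))
      | ∃ k : ℕ, orderOf x = 3 ^ k}) ≃* ↥(alternatingGroup (Fin 6)))) :
    Hyp G Z J ((Cfsg.generalizedFittingSubgroup ↥(centralizer (Z : Set G))).map
      (centralizer (Z : Set G)).subtype) := by
  revert hJS S
  set C := centralizer (Z : Set G) with hC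
  intro S hJS
  set F := Cfsg.generalizedFittingSubgroup ↥C with hF
  set Q := F.map C.subtype with hQdef
  let eF : F ≃* Q := Subgroup.equivMapOfInjective F C.subtype C.subtype_injective
  have hQC : Q ≤ C := Subgroup.map_subtype_le F
  have hQ' : Cfsg.IsExtraspecial 3 Q := by
    obtain ⟨⟨h1, h2, h3⟩, h4⟩ := hQ
    have hc : (center F).map eF.toMonoidHom = center Q := by
      ext x
      rw [Subgroup.mem_map]
      constructor
      · rintro ⟨y, hy, rfl⟩
        refine mem_center_iff.2 fun w => ?_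
        rw [← eF.apply_symm_apply w]
        exact ((map_mul eF _ _).symm.trans (congrArg eF (mem_center_iff.1 hy _))).trans (map_mul eF _ _)
      · intro hx
        refine ⟨eF.symm x, mem_center_iff.2 fun w => eF.injective ?_, eF.apply_symm_apply x⟩
        rw [map_mul, map_mul, eF.apply_symm_apply, mem_center_iff.1 hx (eF w)]
    refine ⟨⟨h1.of_equiv eF, ?_, ?_⟩, ?_⟩
    · rw [← hc, ← h2]
      exact (Base.map_frattini_mulEquiv eF).symm
    · rw [← hc, ← h3, _root_.commutator_def, _root_.commutator_def, Subgroup.map_commutator,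
        ← MonoidHom.range_eq_map, MonoidHom.range_eq_top.2 eF.surjective]
    · rw [← hc, Subgroup.card_map_of_injective eF.injective]
      exact h4
  have hQcard' : Nat.card Q = 3 ^ 5 := (Nat.card_congr eF.toEquiv).symm.trans hQcard
  have hCQ : centralizer (Q : Set G) ⊓ C ≤ Q := by
    rintro x ⟨hx, hxC⟩
    have h : (⟨x, hxC⟩ : C) ∈ centralizer (F : Set C) := mem_centralizer_iff.2 fun y hy =>
      Subtype.ext (mem_centralizer_iff.1 hx y.1 (Subgroup.mem_map_of_mem _ hy))
    exact Subgroup.mem_map_of_mem C.subtype (Components.centralizer_fstar_le h)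
  have hZQ' : Z ≤ centralizer (Q : Set G) := Subgroup.le_centralizer_iff.1 hQC
  have hZC : Z ≤ C := by
    haveI := isCyclic_of_prime_card (p := 3) hZ
    letI := IsCyclic.commGroup (α := Z)
    exact fun x hx => mem_centralizer_iff.2 fun y hy =>
      congrArg Subtype.val (mul_comm (⟨y, hy⟩ : Z) ⟨x, hx⟩)
  have hZQ : Z ≤ Q := (le_inf hZQ' hZC).trans hCQ
  have hZne : Z ≠ ⊥ := fun h => by rw [h, Subgroup.card_bot] at hZ; norm_num at hZ
  obtain ⟨-, hZeq⟩ := eq_center_of_le hQ' hZne (le_inf hZQ hZQ')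
  have hcentQ : centralizer (Q : Set G) ≤ Q := fun x hx => by
    refine hCQ ⟨hx, mem_centralizer_iff.2 fun w hw => ?_⟩
    exact mem_centralizer_iff.1 hx w (hZQ hw)
  have hNC : normalizer (Z : Set G) ≤ normalizer (C : Set G) := by
    have key : ∀ n ∈ normalizer (Z : Set G), ∀ x ∈ C, n * x * n⁻¹ ∈ C := fun n hn x hx =>
      mem_centralizer_iff.2 fun w hw => by
        have hw' : n⁻¹ * w * n ∈ Z := by
          have := (mem_normalizer_iff.1 (inv_mem hn) w).1 hw
          rwa [inv_inv] at this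
        have h := mem_centralizer_iff.1 hx _ hw'
        calc w * (n * x * n⁻¹) = n * (n⁻¹ * w * n * x) * n⁻¹ := by group
          _ = n * (x * (n⁻¹ * w * n)) * n⁻¹ := by rw [h]
          _ = n * x * n⁻¹ * w := by group
    intro n hn
    refine mem_normalizer_iff.2 fun x => ⟨key n hn x, fun hx => ?_⟩
    have h := key n⁻¹ (inv_mem hn) _ hx
    rwa [inv_inv, show n⁻¹ * (n * x * n⁻¹) * n = x by group] at h
  have hQ3 : IsPGroup 3 Q := hQ'.1.1
  -- a Sylow 3-subgroup of the centraliser is one of the group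
  set SG := (S : Subgroup C).map C.subtype with hSG
  have hSG3 : IsPGroup 3 SG := S.2.map _
  have hQS : Q ≤ SG := by
    refine Subgroup.map_mono (le_trans (Base.le_pCore ?_) (Base.pCore_le_sylow S))
    exact hQ3.of_equiv eF.symm
  have hZS : SG ⊓ centralizer (SG : Set G) ≤ Z := by
    rintro x ⟨hx, hc⟩
    rw [hZeq]
    have : x ∈ centralizer (Q : Set G) := mem_centralizer_iff.2 fun y hy =>
      mem_centralizer_iff.1 hc y (hQS hy)
    exact ⟨hcentQ this, this⟩
  have hZS' : Z ≤ SG ⊓ centralizer (SG : Set G) :=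
    le_inf (hZQ.trans hQS) (Subgroup.le_centralizer_iff.1 (Subgroup.map_subtype_le _))
  obtain ⟨P, hP⟩ := hSG3.exists_le_sylow
  have hPeq : (P : Subgroup G) = SG := by
    by_contra hne
    have hlt : (SG.subgroupOf (P : Subgroup G)) < ⊤ := by
      rw [lt_top_iff_ne_top, Ne, Subgroup.subgroupOf_eq_top]
      exact fun h => hne (le_antisymm h hP)
    haveI : Group.IsNilpotent (P : Subgroup G) := P.2.isNilpotent
    have hn := Group.normalizerCondition_of_isNilpotent (G := (P : Subgroup G)) _ hlt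
    obtain ⟨n, hn, hnS⟩ := SetLike.exists_of_lt hn
    have hnN : (n : G) ∈ normalizer (SG : Set G) := by
      refine mem_normalizer_iff.2 fun x => ⟨fun hx => ?_, fun hx => ?_⟩
      · have := (mem_normalizer_iff.1 hn ⟨x, hP hx⟩).1 (mem_subgroupOf.2 hx)
        simpa [mem_subgroupOf] using this
      · have hxP : x ∈ (P : Subgroup G) := by
          have := mul_mem (mul_mem (inv_mem n.2) (hP hx)) n.2
          rwa [show (n : G)⁻¹ * (n * x * (n : G)⁻¹) * n = x by group] at this
        have := (mem_normalizer_iff.1 hn ⟨x, hxP⟩).2 (by simpa [mem_subgroupOf] using hx)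
        exact mem_subgroupOf.1 this
    have hnZ : (n : G) ∈ normalizer (Z : Set G) := by
      have key : ∀ m ∈ normalizer (SG : Set G), ∀ x ∈ Z, m * x * m⁻¹ ∈ Z := by
        intro m hm x hx
        obtain ⟨hxS, hxc⟩ := hZS' hx
        refine hZS ⟨(mem_normalizer_iff.1 hm x).1 hxS, mem_centralizer_iff.2 fun y hy => ?_⟩
        have hy' : m⁻¹ * y * m ∈ SG := by
          have := (mem_normalizer_iff.1 (inv_mem hm) y).1 hy
          rwa [inv_inv] at this
        have h := mem_centralizer_iff.1 hxc _ hy'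
        calc y * (m * x * m⁻¹) = m * (m⁻¹ * y * m * x) * m⁻¹ := by group
          _ = m * (x * (m⁻¹ * y * m)) * m⁻¹ := by rw [h]
          _ = m * x * m⁻¹ * y := by group
      refine mem_normalizer_iff.2 fun x => ⟨key _ hnN x, fun hx => ?_⟩
      have h := key (n : G)⁻¹ (inv_mem hnN) _ hx
      rwa [inv_inv, show (n : G)⁻¹ * (n * x * (n : G)⁻¹) * n = x by group] at h
    have hnC : (n : G) ∈ C := mem_centralizer_of_three hZ hnZ
      (by rw [Subgroup.orderOf_coe]; exact IsPGroup.iff_orderOf.1 P.2 n)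
    -- `⟨S, n⟩` is a 3-subgroup of `C` above `S`
    have hmax := S.3 (Q := (P : Subgroup G).subgroupOf C)
      (P.2.comap_of_injective C.subtype C.subtype_injective)
      (fun c hc => mem_subgroupOf.2 (hP (Subgroup.mem_map_of_mem _ hc)))
    refine hnS (mem_subgroupOf.2 ?_)
    have : (⟨n, hnC⟩ : C) ∈ (P : Subgroup G).subgroupOf C := mem_subgroupOf.2 n.2
    rw [hmax] at this
    exact Subgroup.mem_map_of_mem C.subtype this
  refine ⟨hZ, hQ', hQcard', ?_, hZQ, hQC, ?_, hcentQ, ?_, hJ.1, hJ.2, hJcard, ?_,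
    ⟨P, by rw [hPeq]; exact hJS, by rw [hPeq]; exact Subgroup.map_subtype_le _⟩⟩
  · rintro _ ⟨x, hx, rfl⟩
    rw [← map_pow, hexp x hx, map_one]
  · exact hNC.trans (normalizer_le_of_char F fun e => Components.fstar_map_equiv e)
  · obtain ⟨eL⟩ := hFMQ
    set K := (Cfsg.generalizedFittingSubgroup (↥C ⧸ F)).comap (QuotientGroup.mk' F) with hK
    have hFK : F ≤ K := fun x hx => Subgroup.mem_comap.2 (by
      rw [QuotientGroup.mk'_apply, (QuotientGroup.eq_one_iff x).2 hx]; exact one_mem _)
    let eK : K ≃* K.map C.subtype := Subgroup.equivMapOfInjective K C.subtype C.subtype_injective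
    let ρ : K →* ↥(Cfsg.generalizedFittingSubgroup (↥C ⧸ F)) :=
      (QuotientGroup.mk' F).subgroupComap _
    refine ⟨K.map C.subtype, Subgroup.map_mono hFK, Subgroup.map_subtype_le _, ?_,
      eL.toMonoidHom.comp (ρ.comp eK.symm.toMonoidHom), ?_, ?_⟩
    · refine hNC.trans (normalizer_le_of_char K fun e => ?_)
      have hFe : F.map e.toMonoidHom = F := Components.fstar_map_equiv e
      let ē : (↥C ⧸ F) ≃* (↥C ⧸ F) := QuotientGroup.congr F F e hFe
      have hē : (Cfsg.generalizedFittingSubgroup (↥C ⧸ F)).map ē.toMonoidHom =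
          Cfsg.generalizedFittingSubgroup (↥C ⧸ F) := Components.fstar_map_equiv ē
      ext x
      rw [Subgroup.mem_map_equiv]
      rw [hK, Subgroup.mem_comap, Subgroup.mem_comap]
      conv_rhs => rw [← hē, Subgroup.mem_map_equiv]
      have hcomm : ē.symm (QuotientGroup.mk' F x) = QuotientGroup.mk' F (e.symm x) := by
        rw [MulEquiv.symm_apply_eq]
        show _ = QuotientGroup.mk' F (e (e.symm x))
        rw [e.apply_symm_apply]
      rw [hcomm]
    · intro y
      obtain ⟨k, hk⟩ := (QuotientGroup.mk' F).subgroupComap_surjective_of_surjective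
        (Cfsg.generalizedFittingSubgroup (↥C ⧸ F)) (QuotientGroup.mk'_surjective F) (eL.symm y)
      refine ⟨eK k, ?_⟩
      show eL (ρ (eK.symm (eK k))) = y
      rw [eK.symm_apply_apply]
      exact (congrArg eL hk).trans (eL.apply_symm_apply y)
    · ext x
      rw [MonoidHom.mem_ker, MonoidHom.comp_apply, MulEquiv.coe_toMonoidHom,
        MulEquiv.map_eq_one_iff, MonoidHom.comp_apply, MulEquiv.coe_toMonoidHom, Subtype.ext_iff,
        mem_subgroupOf]
      show QuotientGroup.mk' F (eK.symm x : C) = 1 ↔ _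
      rw [QuotientGroup.mk'_apply, QuotientGroup.eq_one_iff]
      have hval : ((eK.symm x : C) : G) = (x : G) := congrArg Subtype.val (eK.apply_symm_apply x)
      rw [← hval]
      exact (Subgroup.mem_map_iff_mem C.subtype_injective).symm
  · obtain ⟨eA⟩ := hA6
    set N := normalizer (J : Set G) with hN
    set T := closure {x : ↥N ⧸ J.subgroupOf N | ∃ k : ℕ, orderOf x = 3 ^ k} with hT
    set K := T.comap (QuotientGroup.mk' (J.subgroupOf N)) with hK
    have hJK : J.subgroupOf N ≤ K := fun x hx => Subgroup.mem_comap.2 (by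
      rw [QuotientGroup.mk'_apply, (QuotientGroup.eq_one_iff x).2 hx]; exact one_mem _)
    haveI : T.Normal := by
      refine ⟨fun x hx g => ?_⟩
      have h := Subgroup.mem_map_of_mem (MulAut.conj g).toMonoidHom hx
      rw [hT, MonoidHom.map_closure] at h
      refine (closure_le _).2 ?_ h
      rintro _ ⟨s, ⟨k, hk⟩, rfl⟩
      exact subset_closure ⟨k, by rw [MulEquiv.coe_toMonoidHom, MulEquiv.orderOf_eq, hk]⟩
    haveI : K.Normal := Subgroup.Normal.comap inferInstance _
    let eK : K ≃* K.map N.subtype := Subgroup.equivMapOfInjective K N.subtype N.subtype_injective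
    let ρ : K →* ↥T := (QuotientGroup.mk' (J.subgroupOf N)).subgroupComap _
    refine ⟨K.map N.subtype, ?_, Subgroup.map_subtype_le _, ?_,
      eA.toMonoidHom.comp (ρ.comp eK.symm.toMonoidHom), ?_, ?_⟩
    · calc J = (J.subgroupOf N).map N.subtype :=
            (Subgroup.map_subgroupOf_eq_of_le le_normalizer).symm
        _ ≤ _ := Subgroup.map_mono hJK
    · intro n hn
      refine mem_normalizer_iff.2 fun x => ⟨?_, ?_⟩
      · rintro ⟨c, hc, rfl⟩
        exact ⟨⟨n, hn⟩ * c * ⟨n, hn⟩⁻¹, Subgroup.Normal.conj_mem inferInstance c hc ⟨n, hn⟩, rfl⟩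
      · rintro ⟨c, hc, hcx⟩
        refine ⟨⟨n, hn⟩⁻¹ * c * ⟨n, hn⟩, ?_, ?_⟩
        · have := Subgroup.Normal.conj_mem inferInstance c hc (⟨n, hn⟩ : N)⁻¹
          rwa [inv_inv] at this
        · show n⁻¹ * (c : G) * n = x
          rw [show (c : G) = n * x * n⁻¹ from hcx]
          group
    · intro y
      obtain ⟨k, hk⟩ := (QuotientGroup.mk' (J.subgroupOf N)).subgroupComap_surjective_of_surjective
        T (QuotientGroup.mk'_surjective _) (eA.symm y)
      refine ⟨eK k, ?_⟩
      show eA (ρ (eK.symm (eK k))) = y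
      rw [eK.symm_apply_apply]
      exact (congrArg eA hk).trans (eA.apply_symm_apply y)
    · ext x
      rw [MonoidHom.mem_ker, MonoidHom.comp_apply, MulEquiv.coe_toMonoidHom,
        MulEquiv.map_eq_one_iff, MonoidHom.comp_apply, MulEquiv.coe_toMonoidHom, Subtype.ext_iff,
        mem_subgroupOf]
      show QuotientGroup.mk' (J.subgroupOf N) (eK.symm x : N) = 1 ↔ _
      rw [QuotientGroup.mk'_apply, QuotientGroup.eq_one_iff, mem_subgroupOf]
      have hval : ((eK.symm x : N) : G) = (x : G) := congrArg Subtype.val (eK.apply_symm_apply x)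
      rw [hval]

end CfsgLib.McLThree
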