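import Cfsg.Agent.Lib.McLThree.Words
import Cfsg.Agent.S2073

/-!
# From the pieces to the McLaughlin group and its automorphism group
-/

set_option autoImplicit false
set_option maxRecDepth 20000
set_option linter.style.haveILetI false

namespace CfsgLib.McLThree

open Subgroup

universe u

/-! ### Facts about the words, checked in the model -/

theorem coverRels_subset : ∀ k : Fin 4, ∀ w ∈ coverRels, w ∈ rels k := by
  intro k w hw
  fin_cases k <;> exact List.mem_append_left _ hw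

theorem isCoverRel_S : IsCoverRel (wordS ++ [0] ++ iw wordS ++ [7]) := by
  unfold IsCoverRel; decide +kernel

theorem isCoverRel_W : IsCoverRel (wordW ++ [0] ++ iw wordW ++ [7]) := by
  unfold IsCoverRel; decide +kernel

theorem isCoverRel_E : IsCoverRel (wordE ++ [0] ++ iw wordE ++ [0]) := by
  unfold IsCoverRel; decide +kernel

theorem isCoverRel_G : IsCoverRel ([7] ++ wordG ++ wordA ++ iw wordG) := by
  unfold IsCoverRel; decide +kernel

theorem fromRels_02 : fromRelsB (rels 0) (freeRed (commWord 0 2 [7])) = true := by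
  decide +kernel

theorem fromRels_13 : fromRelsB (rels 0) (freeRed (commWord 1 3 [0])) = true := by
  decide +kernel

theorem fromRels_01 : fromRelsB (rels 0) (freeRed (commWord 0 1 [])) = true := by
  decide +kernel

theorem fromRels_03 : fromRelsB (rels 0) (freeRed (commWord 0 3 [])) = true := by
  decide +kernel

theorem fromRels_12 : fromRelsB (rels 0) (freeRed (commWord 1 2 [])) = true := by
  decide +kernel

theorem fromRels_23 : fromRelsB (rels 0) (freeRed (commWord 2 3 [])) = true := by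
  decide +kernel

variable {G : Type u} [Group G]

theorem val_congr {L L' : Fin 7 → G} {w : List (Fin 14)}
    (h : ∀ k ∈ w, lval L k = lval L' k) : val L w = val L' w := by
  induction w with
  | nil => rfl
  | cons k w ih =>
    rw [val_cons_lval, val_cons_lval, h k List.mem_cons_self,
      ih fun l hl => h l (List.mem_cons_of_mem _ hl)]

theorem lval_zero (L : Fin 7 → G) : lval L 0 = L 0 := rfl

theorem lval_seven (L : Fin 7 → G) : lval L 7 = (L 0)⁻¹ := rfl

theorem lval_six (L : Fin 7 → G) : lval L 6 = L 6 := rfl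

/-- An element conjugating `z` to a power of `z` normalises `⟨z⟩`. -/
theorem mem_normalizer_zpowers [Finite G] {z g : G} (h : g * z * g⁻¹ ∈ zpowers z) :
    g ∈ normalizer (zpowers z : Set G) := by
  have hle : (zpowers z).map (MulAut.conj g).toMonoidHom ≤ zpowers z := by
    rw [MonoidHom.map_zpowers]
    exact zpowers_le.2 h
  have heq : (zpowers z).map (MulAut.conj g).toMonoidHom = zpowers z :=
    Subgroup.eq_of_le_of_card_ge hle
      (Nat.card_congr (Subgroup.equivMapOfInjective _ _ (MulAut.conj g).injective).toEquiv).le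
  refine mem_normalizer_iff.2 fun x => ⟨fun hx => hle (Subgroup.mem_map_of_mem _ hx), fun hx => ?_⟩
  rw [← heq] at hx
  obtain ⟨y, hy, hyx⟩ := Subgroup.mem_map.1 hx
  have : y = x := (MulAut.conj g).injective hyx
  rwa [this] at hy

/-- An element conjugating the generators into the closure normalises it. -/
theorem mem_normalizer_closure [Finite G] {S : Set G} {g : G}
    (h : ∀ s ∈ S, g * s * g⁻¹ ∈ closure S) : g ∈ normalizer (closure S : Set G) := by
  have hle : (closure S).map (MulAut.conj g).toMonoidHom ≤ closure S := by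
    rw [MonoidHom.map_closure, closure_le]
    rintro _ ⟨s, hs, rfl⟩
    exact h s hs
  have heq : (closure S).map (MulAut.conj g).toMonoidHom = closure S :=
    Subgroup.eq_of_le_of_card_ge hle
      (Nat.card_congr (Subgroup.equivMapOfInjective _ _ (MulAut.conj g).injective).toEquiv).le
  refine mem_normalizer_iff.2 fun x => ⟨fun hx => hle (Subgroup.mem_map_of_mem _ hx), fun hx => ?_⟩
  rw [← heq] at hx
  obtain ⟨y, hy, hyx⟩ := Subgroup.mem_map.1 hx
  have : y = x := (MulAut.conj g).injective hyx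
  rwa [this] at hy

/-- Four elements of `Q` with a non-degenerate commutator table generate it with the centre. -/
theorem closure_eq_of_comm [Finite G] {Q : Subgroup G} {z b₀ b₁ b₂ b₃ : G}
    (hcard : Nat.card Q = 3 ^ 5) (hz : orderOf z = 3) (hzQ : z ∈ Q) (h₀ : b₀ ∈ Q) (h₁ : b₁ ∈ Q)
    (h₂ : b₂ ∈ Q) (h₃ : b₃ ∈ Q) (z₀ : Commute z b₀) (z₁ : Commute z b₁) (z₂ : Commute z b₂)
    (z₃ : Commute z b₃) (c₀₁ : Commute b₀ b₁) (c₀₃ : Commute b₀ b₃) (c₁₂ : Commute b₁ b₂)
    (c₂₃ : Commute b₂ b₃) (c₀₂ : b₀ * b₂ = z * b₂ * b₀) (c₁₃ : b₁ * b₃ = z⁻¹ * b₃ * b₁) :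
    closure ({z, b₀, b₁, b₂, b₃} : Set G) = Q := by
  classical
  set U := closure ({z, b₀, b₁, b₂, b₃} : Set G) with hU
  have hUQ : U ≤ Q := by
    rw [hU, closure_le]
    rintro x hx
    simp only [Set.mem_insert_iff, Set.mem_singleton_iff] at hx
    rcases hx with rfl | rfl | rfl | rfl | rfl <;> assumption
  refine Subgroup.eq_of_le_of_card_ge hUQ ?_
  -- conjugation of a basis element by a power
  have hconj : ∀ {b x : G} {w : G}, Commute z b → b * x = w * x * b → Commute w z →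
      Commute w b → ∀ n : ℕ, b ^ n * x = w ^ n * x * b ^ n := by
    intro b x w _ h _ hwb n
    induction n with
    | zero => simp
    | succ n ih =>
      rw [pow_succ', mul_assoc, ih, pow_succ']
      calc b * (w ^ n * x * b ^ n) = (b * w ^ n) * x * b ^ n := by group
        _ = (w ^ n * b) * x * b ^ n := by rw [(hwb.symm.pow_right n).eq]
        _ = w ^ n * (b * x) * b ^ n := by group
        _ = w ^ n * (w * x * b) * b ^ n := by rw [h]
        _ = w * w ^ n * x * (b * b ^ n) := by rw [(Commute.self_pow w n).eq]; group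
  have hzi : Commute z⁻¹ z := (Commute.refl z).inv_left
  -- the coordinates
  let P : Fin 3 × Fin 3 × Fin 3 × Fin 3 × Fin 3 → U := fun v =>
    ⟨z ^ v.1.1 * b₀ ^ v.2.1.1 * b₁ ^ v.2.2.1.1 * b₂ ^ v.2.2.2.1.1 * b₃ ^ v.2.2.2.2.1, by
      refine mul_mem (mul_mem (mul_mem (mul_mem ?_ ?_) ?_) ?_) ?_ <;>
        exact pow_mem (subset_closure (by simp)) _⟩
  have key : ∀ {m n : ℕ}, m < 3 → n < 3 → z ^ m = z ^ n → m = n := fun hm hn h =>
    pow_injOn_Iio_orderOf (by rw [hz]; exact hm) (by rw [hz]; exact hn) h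
  have rd : ∀ v, ((P v : U) : G) * b₂ = z ^ v.2.1.1 * b₂ * (P v : U) ∧
      ((P v : U) : G) * b₃ = (z⁻¹) ^ v.2.2.1.1 * b₃ * (P v : U) := by
    rintro ⟨c, i, j, k, l⟩
    show z ^ c.1 * b₀ ^ i.1 * b₁ ^ j.1 * b₂ ^ k.1 * b₃ ^ l.1 * b₂ = _ ∧
      z ^ c.1 * b₀ ^ i.1 * b₁ ^ j.1 * b₂ ^ k.1 * b₃ ^ l.1 * b₃ = _
    constructor
    · have e₀ := hconj z₀ c₀₂ (Commute.refl z) z₀ i.1
      calc z ^ c.1 * b₀ ^ i.1 * b₁ ^ j.1 * b₂ ^ k.1 * b₃ ^ l.1 * b₂
          = z ^ c.1 * b₀ ^ i.1 * b₁ ^ j.1 * b₂ ^ k.1 * (b₃ ^ l.1 * b₂) := by group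
        _ = z ^ c.1 * b₀ ^ i.1 * b₁ ^ j.1 * b₂ ^ k.1 * (b₂ * b₃ ^ l.1) := by
            rw [(c₂₃.symm.pow_left _).eq]
        _ = z ^ c.1 * b₀ ^ i.1 * b₁ ^ j.1 * (b₂ ^ k.1 * b₂) * b₃ ^ l.1 := by group
        _ = z ^ c.1 * b₀ ^ i.1 * b₁ ^ j.1 * (b₂ * b₂ ^ k.1) * b₃ ^ l.1 := by
            rw [(Commute.pow_self b₂ k.1).eq]
        _ = z ^ c.1 * b₀ ^ i.1 * (b₁ ^ j.1 * b₂) * b₂ ^ k.1 * b₃ ^ l.1 := by group
        _ = z ^ c.1 * (b₀ ^ i.1 * b₂) * b₁ ^ j.1 * b₂ ^ k.1 * b₃ ^ l.1 := by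
            rw [(c₁₂.pow_left _).eq]; group
        _ = z ^ c.1 * (z ^ i.1 * b₂ * b₀ ^ i.1) * b₁ ^ j.1 * b₂ ^ k.1 * b₃ ^ l.1 := by rw [e₀]
        _ = (z ^ c.1 * (z ^ i.1 * b₂)) * b₀ ^ i.1 * b₁ ^ j.1 * b₂ ^ k.1 * b₃ ^ l.1 := by group
        _ = (z ^ i.1 * b₂ * z ^ c.1) * b₀ ^ i.1 * b₁ ^ j.1 * b₂ ^ k.1 * b₃ ^ l.1 := by
            rw [((Commute.pow_pow_self z c.1 i.1).mul_right (z₂.pow_left c.1)).eq]
        _ = z ^ i.1 * b₂ * (z ^ c.1 * b₀ ^ i.1 * b₁ ^ j.1 * b₂ ^ k.1 * b₃ ^ l.1) := by group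
    · have e₁ := hconj z₁ c₁₃ hzi (z₁.inv_left) j.1
      calc z ^ c.1 * b₀ ^ i.1 * b₁ ^ j.1 * b₂ ^ k.1 * b₃ ^ l.1 * b₃
          = z ^ c.1 * b₀ ^ i.1 * b₁ ^ j.1 * b₂ ^ k.1 * (b₃ ^ l.1 * b₃) := by group
        _ = z ^ c.1 * b₀ ^ i.1 * b₁ ^ j.1 * b₂ ^ k.1 * (b₃ * b₃ ^ l.1) := by
            rw [(Commute.pow_self b₃ l.1).eq]
        _ = z ^ c.1 * b₀ ^ i.1 * b₁ ^ j.1 * (b₂ ^ k.1 * b₃) * b₃ ^ l.1 := by group
        _ = z ^ c.1 * b₀ ^ i.1 * (b₁ ^ j.1 * b₃) * b₂ ^ k.1 * b₃ ^ l.1 := by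
            rw [(c₂₃.pow_left _).eq]; group
        _ = z ^ c.1 * b₀ ^ i.1 * ((z⁻¹) ^ j.1 * b₃ * b₁ ^ j.1) * b₂ ^ k.1 * b₃ ^ l.1 := by rw [e₁]
        _ = z ^ c.1 * (b₀ ^ i.1 * ((z⁻¹) ^ j.1 * b₃)) * b₁ ^ j.1 * b₂ ^ k.1 * b₃ ^ l.1 := by group
        _ = z ^ c.1 * (((z⁻¹) ^ j.1 * b₃) * b₀ ^ i.1) * b₁ ^ j.1 * b₂ ^ k.1 * b₃ ^ l.1 := by
            rw [((z₀.inv_left.symm.pow_pow i.1 j.1).mul_right (c₀₃.pow_left i.1)).eq]
        _ = (z ^ c.1 * ((z⁻¹) ^ j.1 * b₃)) * b₀ ^ i.1 * b₁ ^ j.1 * b₂ ^ k.1 * b₃ ^ l.1 := by group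
        _ = ((z⁻¹) ^ j.1 * b₃ * z ^ c.1) * b₀ ^ i.1 * b₁ ^ j.1 * b₂ ^ k.1 * b₃ ^ l.1 := by
            rw [(((Commute.refl z).inv_right.pow_pow c.1 j.1).mul_right (z₃.pow_left c.1)).eq]
        _ = (z⁻¹) ^ j.1 * b₃ * (z ^ c.1 * b₀ ^ i.1 * b₁ ^ j.1 * b₂ ^ k.1 * b₃ ^ l.1) := by group
  have hP : Function.Injective P := by
    rintro ⟨c, i, j, k, l⟩ ⟨c', i', j', k', l'⟩ h
    have hi : i = i' := by
      have h1 := (rd ⟨c, i, j, k, l⟩).1
      rw [h, (rd ⟨c', i', j', k', l'⟩).1] at h1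
      exact Fin.ext (key i.2 i'.2 (mul_right_cancel (mul_right_cancel h1)).symm)
    have hj : j = j' := by
      have h1 := (rd ⟨c, i, j, k, l⟩).2
      rw [h, (rd ⟨c', i', j', k', l'⟩).2] at h1
      have h2 := (mul_right_cancel (mul_right_cancel h1)).symm
      rw [inv_pow, inv_pow] at h2
      exact Fin.ext (key j.2 j'.2 (inv_injective h2))
    subst hi hj
    have h' : z ^ c.1 * b₀ ^ i.1 * b₁ ^ j.1 * b₂ ^ k.1 * b₃ ^ l.1 =
        z ^ c'.1 * b₀ ^ i.1 * b₁ ^ j.1 * b₂ ^ k'.1 * b₃ ^ l'.1 := congrArg Subtype.val h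
    -- conjugate `b₀` and `b₁`
    have d₀ : ∀ (c k l : ℕ), z ^ c * b₀ ^ i.1 * b₁ ^ j.1 * b₂ ^ k * b₃ ^ l * b₀ * z ^ k =
        b₀ * (z ^ c * b₀ ^ i.1 * b₁ ^ j.1 * b₂ ^ k * b₃ ^ l) := by
      intro c k l
      have e := hconj z₂ (show b₂ * b₀ = z⁻¹ * b₀ * b₂ by
        rw [mul_assoc, c₀₂]; group) hzi z₂.inv_left k
      calc z ^ c * b₀ ^ i.1 * b₁ ^ j.1 * b₂ ^ k * b₃ ^ l * b₀ * z ^ k
          = z ^ c * b₀ ^ i.1 * b₁ ^ j.1 * b₂ ^ k * (b₃ ^ l * b₀) * z ^ k := by group
        _ = z ^ c * b₀ ^ i.1 * b₁ ^ j.1 * (b₂ ^ k * b₀) * b₃ ^ l * z ^ k := by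
            rw [(c₀₃.symm.pow_left _).eq]; group
        _ = z ^ c * b₀ ^ i.1 * b₁ ^ j.1 * ((z⁻¹) ^ k * b₀ * b₂ ^ k) * (b₃ ^ l * z ^ k) := by
            rw [e]; group
        _ = z ^ c * b₀ ^ i.1 * b₁ ^ j.1 * ((z⁻¹) ^ k * b₀ * (b₂ ^ k * z ^ k)) * b₃ ^ l := by
            rw [(z₃.symm.pow_pow l k).eq]; group
        _ = z ^ c * b₀ ^ i.1 * b₁ ^ j.1 * ((z⁻¹) ^ k * (b₀ * z ^ k) * b₂ ^ k) * b₃ ^ l := by
            rw [(z₂.symm.pow_pow k k).eq]; group
        _ = z ^ c * b₀ ^ i.1 * (b₁ ^ j.1 * b₀) * b₂ ^ k * b₃ ^ l := by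
            rw [(z₀.symm.pow_right k).eq]; group
        _ = z ^ c * (b₀ ^ i.1 * b₀) * b₁ ^ j.1 * b₂ ^ k * b₃ ^ l := by
            rw [(c₀₁.symm.pow_left _).eq]; group
        _ = z ^ c * b₀ * b₀ ^ i.1 * b₁ ^ j.1 * b₂ ^ k * b₃ ^ l := by
            rw [(Commute.pow_self b₀ i.1).eq]; group
        _ = _ := by rw [(z₀.pow_left c).eq]; group
    have d₁ : ∀ (c k l : ℕ), z ^ c * b₀ ^ i.1 * b₁ ^ j.1 * b₂ ^ k * b₃ ^ l * b₁ * (z⁻¹) ^ l =
        b₁ * (z ^ c * b₀ ^ i.1 * b₁ ^ j.1 * b₂ ^ k * b₃ ^ l) := by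
      intro c k l
      have e := hconj z₃ (show b₃ * b₁ = z * b₁ * b₃ by
        rw [mul_assoc, c₁₃]; group) (Commute.refl z) z₃ l
      calc z ^ c * b₀ ^ i.1 * b₁ ^ j.1 * b₂ ^ k * b₃ ^ l * b₁ * (z⁻¹) ^ l
          = z ^ c * b₀ ^ i.1 * b₁ ^ j.1 * b₂ ^ k * (b₃ ^ l * b₁) * (z⁻¹) ^ l := by group
        _ = z ^ c * b₀ ^ i.1 * b₁ ^ j.1 * b₂ ^ k * (z ^ l * b₁) * (b₃ ^ l * (z⁻¹) ^ l) := by
            rw [e]; group
        _ = z ^ c * b₀ ^ i.1 * b₁ ^ j.1 * b₂ ^ k * (z ^ l * (b₁ * (z⁻¹) ^ l)) * b₃ ^ l := by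
            rw [(z₃.inv_left.symm.pow_pow l l).eq]; group
        _ = z ^ c * b₀ ^ i.1 * b₁ ^ j.1 * (b₂ ^ k * b₁) * b₃ ^ l := by
            rw [(z₁.inv_left.symm.pow_right l).eq]; group
        _ = z ^ c * b₀ ^ i.1 * (b₁ ^ j.1 * b₁) * b₂ ^ k * b₃ ^ l := by
            rw [(c₁₂.symm.pow_left _).eq]; group
        _ = z ^ c * (b₀ ^ i.1 * b₁) * b₁ ^ j.1 * b₂ ^ k * b₃ ^ l := by
            rw [(Commute.pow_self b₁ j.1).eq]; group
        _ = z ^ c * b₁ * b₀ ^ i.1 * b₁ ^ j.1 * b₂ ^ k * b₃ ^ l := by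
            rw [(c₀₁.pow_left _).eq]; group
        _ = _ := by rw [(z₁.pow_left c).eq]; group
    have hk : k = k' := by
      have h1 := d₀ c k l
      rw [h', ← d₀ c' k' l'] at h1
      exact Fin.ext (key k.2 k'.2 (mul_left_cancel h1))
    have hl : l = l' := by
      have h1 := d₁ c k l
      rw [h', ← d₁ c' k' l'] at h1
      have h2 := mul_left_cancel h1
      rw [inv_pow, inv_pow] at h2
      exact Fin.ext (key l.2 l'.2 (inv_injective h2))
    subst hk hl
    have hc := mul_right_cancel (mul_right_cancel (mul_right_cancel (mul_right_cancel h')))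
    rw [Fin.ext (key c.2 c'.2 hc)]
  calc Nat.card Q = Nat.card (Fin 3 × Fin 3 × Fin 3 × Fin 3 × Fin 3) := by simp [hcard]
    _ ≤ Nat.card U := Nat.card_le_card_of_injective P hP

/-! ### The subgroup generated by the letters -/

/-- The relators of the presented group. -/
def relSet : Set (FreeGroup (Fin 7)) := {r | ∃ w ∈ rels 0, r = val FreeGroup.of w}

/-- The presented group. -/
abbrev Pres : Type := PresentedGroup relSet

theorem lift_rel {H : Type*} [Group H] (L : Fin 7 → H) (hb : ∀ w ∈ rels 0, val L w = 1) :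
    ∀ r ∈ relSet, FreeGroup.lift L r = 1 := by
  rintro r ⟨w, hw, rfl⟩
  rw [map_val]
  have : (FreeGroup.lift L : FreeGroup (Fin 7) → H) ∘ FreeGroup.of = L := by ext x; simp
  rw [this]
  exact hb w hw

theorem of_rels : ∀ w ∈ rels 0, val (PresentedGroup.of (rels := relSet)) w = 1 := fun w hw => by
  have h : PresentedGroup.mk relSet (val FreeGroup.of w) = 1 :=
    PresentedGroup.one_of_mem ⟨w, hw, rfl⟩
  rwa [map_val] at h

/-- A nontrivial group generated by letters with the relators is the McLaughlin group. -/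
theorem iso_mcl (hB : StmtBound.{0}) (hM : StmtModel) {H : Type u} [Group H] (L : Fin 7 → H)
    (hb : ∀ w ∈ rels 0, val L w = 1) (hgen : closure (Set.range L) = ⊤) (hne : L 0 ≠ 1) :
    Nonempty (H ≃* Cfsg.Spor.McL) := by
  obtain ⟨M, hMb, hMgen, hMcard, hMs⟩ := hM
  haveI := hMs
  obtain ⟨h0, hle⟩ := (hB Pres _ (PresentedGroup.closure_range_of _)).1 of_rels
  haveI : Finite Pres := Nat.finite_of_card_ne_zero h0
  set θ : Pres →* Cfsg.Spor.McL := PresentedGroup.toGroup (lift_rel M hMb)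
  have hθ : Function.Surjective θ := by
    rw [← MonoidHom.range_eq_top, eq_top_iff, ← hMgen, closure_le]
    rintro _ ⟨i, rfl⟩
    exact ⟨_, PresentedGroup.toGroup.of (lift_rel M hMb)⟩
  have hbij : Function.Bijective θ := hθ.bijective_of_nat_card_le (by rw [hMcard]; exact hle)
  set e : Pres ≃* Cfsg.Spor.McL := MulEquiv.ofBijective θ hbij
  set π : Pres →* H := PresentedGroup.toGroup (lift_rel L hb)
  have hπ : Function.Surjective π := by
    rw [← MonoidHom.range_eq_top, eq_top_iff, ← hgen, closure_le]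
    rintro _ ⟨i, rfl⟩
    exact ⟨_, PresentedGroup.toGroup.of (lift_rel L hb)⟩
  haveI : IsSimpleGroup Pres := e.isSimpleGroup
  have hinj : Function.Injective π := by
    rw [← MonoidHom.ker_eq_bot_iff]
    refine (IsSimpleGroup.eq_bot_or_eq_top_of_normal _ π.normal_ker).resolve_right fun h => ?_
    obtain ⟨x, hx⟩ := hπ (L 0)
    exact hne (by rw [← hx]; exact (h ▸ Subgroup.mem_top x : x ∈ π.ker))
  exact ⟨(MulEquiv.ofBijective π ⟨hinj, hπ⟩).symm.trans e⟩

/-- The subgroup of the letters: isomorphic to the McLaughlin group, its normalizer contains the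
centraliser of `t`, its centraliser is trivial. -/
theorem core (hW : StmtCoverWords.{u}) (hG : StmtGlue.{u}) (hB : StmtBound.{u})
    (hB0' : StmtBound.{0}) (hM : StmtModel) [Finite G] (D : Loc G) (C : Cover G D) :
    ∃ G₀ : Subgroup G, Nonempty (G₀ ≃* Cfsg.Spor.McL) ∧ D.t ∈ G₀ ∧ D.z ∈ G₀ ∧
      centralizer ({D.t} : Set G) ≤ normalizer (G₀ : Set G) ∧ centralizer (G₀ : Set G) = ⊥ := by
  obtain ⟨k, q, hqQ, -, hrels⟩ := hG G D C
  set L : Fin 7 → G := Fin.snoc C.T q with hLdef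
  have hL0 : L 0 = D.z := by rw [← C.Tz]; exact Fin.snoc_castSucc (α := fun _ => G) q C.T 0
  have hL6 : L 6 = q := Fin.snoc_last (α := fun _ => G) q C.T
  have hlow : ∀ i : Fin 6, L i.castSucc = C.T i := fun i =>
    Fin.snoc_castSucc (α := fun _ => G) q C.T i
  have hcov : ∀ w ∈ coverRels, val L w = 1 := fun w hw => hrels w (coverRels_subset k w hw)
  have hwA : val L wordA = D.a := by
    rw [← C.Ta]
    refine val_congr ?_
    have hmem : ∀ k ∈ wordA, k ∈ ([1, 3, 0, 9, 2, 7, 10, 8] : List (Fin 14)) := by decide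
    intro k hk
    have := hmem k hk
    fin_cases this <;> simp [lval, hLdef, Fin.snoc]
  have hS : val L wordS * D.z * (val L wordS)⁻¹ = D.z := by
    have h := hW G L hcov _ isCoverRel_S
    rw [val_append, val_append, val_append, val_iw, val_singleton, val_singleton, lval_zero,
      lval_seven, hL0] at h
    exact mul_inv_eq_one.1 h
  have hWz : val L wordW * D.z * (val L wordW)⁻¹ = D.z := by
    have h := hW G L hcov _ isCoverRel_W
    rw [val_append, val_append, val_append, val_iw, val_singleton, val_singleton, lval_zero,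
      lval_seven, hL0] at h
    exact mul_inv_eq_one.1 h
  have hE : val L wordE * D.z * (val L wordE)⁻¹ = D.z⁻¹ := by
    have h := hW G L hcov _ isCoverRel_E
    rw [val_append, val_append, val_append, val_iw, val_singleton, lval_zero, hL0] at h
    exact eq_inv_of_mul_eq_one_left h
  have hGa : val L wordG * D.a * (val L wordG)⁻¹ = D.z := by
    have h := hW G L hcov _ isCoverRel_G
    rw [val_append, val_append, val_append, val_iw, val_singleton, lval_seven, hwA, hL0,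
      mul_assoc, mul_assoc, inv_mul_eq_one] at h
    rw [mul_assoc]
    exact h.symm
  -- `t` and `z` lie in the subgroup
  set G₀ := closure (Set.range L) with hG₀
  have hT : ∀ i, C.T i ∈ G₀ := fun i => subset_closure ⟨_, hlow i⟩
  have hz : D.z ∈ G₀ := C.Tz ▸ hT 0
  have ht : D.t ∈ G₀ := by
    rw [← C.quat 0 1 (by decide)]
    exact mul_mem (mul_mem (hT 0) (hT 1)) (mul_mem (hT 0) (hT 1))
  have hz1 : D.z ≠ 1 := fun h => by
    have := D.ord_z
    rw [h, orderOf_one] at this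
    omega
  have haz : D.a ∉ zpowers D.z := fun h => D.a_notQ (zpowers_le.2 D.zQ h)
  -- only the first candidate survives
  obtain rfl : k = 0 := by
    by_contra hk
    let L' : Fin 7 → G₀ := fun i => ⟨L i, subset_closure ⟨i, rfl⟩⟩
    have hsub : ∀ w, ((val L' w : G₀) : G) = val L w := fun w => map_val L' G₀.subtype w
    have hgen : closure (Set.range L') = ⊤ := by
      apply Subgroup.map_injective G₀.subtype_injective
      rw [MonoidHom.map_closure, ← MonoidHom.range_eq_map, Subgroup.range_subtype, ← Set.range_comp]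
      rfl
    have htop := (hB G₀ L' hgen).2 k hk (fun w hw => Subtype.ext (by
      rw [hsub, hrels w hw]; rfl))
    have hle : G₀ ≤ normalizer (zpowers D.z : Set G) := by
      intro g hg
      have hmem : (⟨g, hg⟩ : G₀) ∈ closure {x | ∃ w ∈ normWords, x = val L' w} :=
        htop ▸ Subgroup.mem_top _
      have h := Subgroup.mem_map_of_mem G₀.subtype hmem
      rw [MonoidHom.map_closure] at h
      refine (closure_le _).2 ?_ h
      rintro _ ⟨x, ⟨w, hw, rfl⟩, rfl⟩
      show ((val L' w : G₀) : G) ∈ _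
      rw [hsub]
      refine mem_normalizer_zpowers ?_
      simp only [normWords, List.mem_cons, List.not_mem_nil, or_false] at hw
      rcases hw with rfl | rfl | rfl | rfl | rfl | rfl
      · rw [val_singleton, lval_zero, hL0, mul_inv_cancel_right]; exact mem_zpowers _
      · rw [hwA, ← D.za.eq, mul_inv_cancel_right]; exact mem_zpowers _
      · rw [hS]; exact mem_zpowers _
      · rw [hWz]; exact mem_zpowers _
      · rw [hE]; exact inv_mem (mem_zpowers _)
      · rw [val_singleton, lval_six, hL6,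
          show q * D.z = D.z * q from (mem_centralizer_singleton_iff.1 (D.cQ hqQ)),
          mul_inv_cancel_right]
        exact mem_zpowers _
    have hG' : (val L wordG)⁻¹ ∈ normalizer (zpowers D.z : Set G) :=
      inv_mem (hle (mem_range L wordG))
    have h := (mem_normalizer_iff.1 hG' D.z).1 (mem_zpowers _)
    rw [← hGa, inv_inv] at h
    refine haz ?_
    have e : (val L wordG)⁻¹ * (val L wordG * D.a * (val L wordG)⁻¹) * val L wordG = D.a := by group
    rwa [e, hGa] at h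
  -- `Q` lies in the subgroup
  have hcomm : ∀ {i j : Fin 4} {c : List (Fin 14)}, fromRelsB (rels 0) (freeRed (commWord i j c)) = true →
      val L (wordB i) * val L (wordB j) = (val L c)⁻¹ * val L (wordB j) * val L (wordB i) := by
    intro i j c h
    have e := val_of_fromRels L hrels h
    simp only [commWord, val_append, val_iw] at e
    rw [mul_eq_one_iff_eq_inv] at e
    rw [← e]
    group
  have hqz : Commute D.z q := (mem_centralizer_singleton_iff.1 (D.cQ hqQ)).symm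
  have hnQ : ∀ {g : G}, g * D.z * g⁻¹ = D.z → ∀ x ∈ D.Q, g * x * g⁻¹ ∈ D.Q := fun {g} hg x hx =>
    (mem_normalizer_iff.1 (D.nQ (mem_normalizer_zpowers (by rw [hg]; exact mem_zpowers _))) x).1 hx
  have hB0 : val L (wordB 0) ∈ D.Q := by
    show val L [6] ∈ D.Q
    rw [val_singleton, lval_six, hL6]; exact hqQ
  have hB1 : val L (wordB 1) ∈ D.Q := by
    show val L (wordS ++ wordB 0 ++ iw wordS) ∈ D.Q
    rw [val_append, val_append, val_iw]; exact hnQ hS _ hB0
  have hB2 : val L (wordB 2) ∈ D.Q := by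
    show val L (wordW ++ wordB 0 ++ iw wordW) ∈ D.Q
    rw [val_append, val_append, val_iw]; exact hnQ hWz _ hB0
  have hB3 : val L (wordB 3) ∈ D.Q := by
    show val L (wordW ++ wordB 1 ++ iw wordW) ∈ D.Q
    rw [val_append, val_append, val_iw]; exact hnQ hWz _ hB1
  have hzc : ∀ x ∈ D.Q, Commute D.z x := fun x hx => (mem_centralizer_singleton_iff.1 (D.cQ hx)).symm
  have hQle : D.Q ≤ G₀ := by
    rw [← closure_eq_of_comm D.cardQ D.ord_z D.zQ hB0 hB1 hB2 hB3 (hzc _ hB0) (hzc _ hB1) (hzc _ hB2)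
      (hzc _ hB3)
      (by simpa [Commute, SemiconjBy, val_nil_lval] using hcomm fromRels_01)
      (by simpa [Commute, SemiconjBy, val_nil_lval] using hcomm fromRels_03)
      (by simpa [Commute, SemiconjBy, val_nil_lval] using hcomm fromRels_12)
      (by simpa [Commute, SemiconjBy, val_nil_lval] using hcomm fromRels_23)
      (by simpa [val_singleton, lval_seven, hL0] using hcomm fromRels_02)
      (by simpa [val_singleton, lval_zero, hL0] using hcomm fromRels_13), closure_le]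
    intro x hx
    simp only [Set.mem_insert_iff, Set.mem_singleton_iff] at hx
    rcases hx with rfl | rfl | rfl | rfl | rfl
    · exact hz
    all_goals exact mem_range L _
  -- the isomorphism
  let L' : Fin 7 → G₀ := fun i => ⟨L i, subset_closure ⟨i, rfl⟩⟩
  have hsub : ∀ w, ((val L' w : G₀) : G) = val L w := fun w => map_val L' G₀.subtype w
  have hgen : closure (Set.range L') = ⊤ := by
    apply Subgroup.map_injective G₀.subtype_injective
    rw [MonoidHom.map_closure, ← MonoidHom.range_eq_map, Subgroup.range_subtype, ← Set.range_comp]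
    rfl
  obtain ⟨e⟩ := iso_mcl hB0' hM L' (fun w hw => Subtype.ext (by rw [hsub, hrels w hw]; rfl)) hgen
    (fun h => hz1 (by rw [← hL0]; exact congrArg Subtype.val h))
  refine ⟨G₀, ⟨e⟩, ht, hz, ?_, ?_⟩
  · rw [C.gen_t, sup_le_iff]
    refine ⟨le_trans ((closure_le _).2 (by rintro _ ⟨i, rfl⟩; exact hT i)) le_normalizer, ?_⟩
    intro x hx
    refine mem_normalizer_closure ?_
    rintro _ ⟨i, rfl⟩
    refine Fin.lastCases ?_ (fun j => ?_) i
    · rw [show L (Fin.last 6) = q from hL6]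
      refine hQle (hnQ ?_ q hqQ)
      rw [mem_centralizer_singleton_iff.1 (Subgroup.mem_inf.1 hx).1, mul_inv_cancel_right]
    · rw [hlow]
      have hxT := C.norm_T (Subgroup.mem_inf.1 hx).2
      exact (closure_le _).2 (by rintro _ ⟨i, rfl⟩; exact hT i)
        ((mem_normalizer_iff.1 hxT (C.T j)).1 (subset_closure ⟨j, rfl⟩))
  · rw [eq_bot_iff]
    intro x hx
    have hxQ : x ∈ D.Q := D.centQ (mem_centralizer_iff.2 fun y hy =>
      mem_centralizer_iff.1 hx y (hQle hy))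
    have hxz : x ∈ zpowers D.z := D.centerQ x hxQ fun y hy =>
      (mem_centralizer_iff.1 hx y (hQle hy)).symm
    have hxG : x ∈ G₀ := zpowers_le.2 hz hxz
    obtain ⟨M, -, -, -, hMs⟩ := hM
    haveI := hMs
    haveI : IsSimpleGroup G₀ := e.isSimpleGroup
    have hc : center G₀ = ⊥ := by
      refine (IsSimpleGroup.eq_bot_or_eq_top_of_normal _ inferInstance).resolve_right fun htop => ?_
      have hmem : (⟨D.z, hz⟩ : G₀) ∈ center G₀ := htop ▸ Subgroup.mem_top _
      have h := congrArg Subtype.val (Subgroup.mem_center_iff.1 hmem ⟨val L wordG, mem_range L wordG⟩)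
      have h' : val L wordG * D.z = D.z * val L wordG := h
      refine haz ?_
      have ha : D.a = D.z := by
        have e2 : D.a = (val L wordG)⁻¹ * D.z * val L wordG := by rw [← hGa]; group
        rw [e2, mul_assoc, ← h', inv_mul_cancel_left]
      rw [ha]; exact mem_zpowers _
    have hmem : (⟨x, hxG⟩ : G₀) ∈ center G₀ := Subgroup.mem_center_iff.2 fun y =>
      Subtype.ext (mem_centralizer_iff.1 hx y.1 y.2)
    rw [hc, Subgroup.mem_bot] at hmem
    exact congrArg Subtype.val hmem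

end CfsgLib.McLThree
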