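import Cfsg.Agent.Lib.McLThree.Defs

/-!
# The McLaughlin group from three-local data: the relators

Letters `0, …, 5` lift the three-cycles `(0 1 k + 2)`, letter `6` is an element `q` of `Q`.
With `q₁ = q`, `q₂ = s q s⁻¹`, `q₃ = w q w⁻¹`, `q₄ = w q₂ w⁻¹` the relators after those of the cover
fix the commutators of the `qᵢ` and the conjugation of `a`, `s`, `w`, `e` on them. Candidate `0` is the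
true one; in the others the group collapses onto the normalizer of `z`.
-/

set_option autoImplicit false

namespace CfsgLib.McLThree

universe u

/-- `(4 5)(6 7)` -/
def wordS : List (Fin 14) := [2, 4, 3, 5, 2, 4]

/-- `(4 6)(5 7)` -/
def wordW : List (Fin 14) := [2, 3, 4, 5, 2, 3]

/-- `(1 2)(6 7)` -/
def wordE : List (Fin 14) := [4, 0, 5, 11]

/-- `(0 3)(1 4)(2 5)(6 7)` -/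
def wordG : List (Fin 14) := [0, 2, 3, 4, 0, 5, 1, 4]

/-- The central involution. -/
def wordT : List (Fin 14) := [0, 1, 0, 1]

/-- The relators of the double cover. -/
def coverRels : List (List (Fin 14)) := [
  [0, 0, 0],
  [1, 1, 1],
  [2, 2, 2],
  [3, 3, 3],
  [4, 4, 4],
  [5, 5, 5],
  [2, 0, 2, 8, 7, 8],
  [3, 0, 3, 8, 7, 8],
  [4, 0, 4, 8, 7, 8],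
  [5, 0, 5, 8, 7, 8],
  [1, 0, 1, 0, 8, 7, 8, 7],
  [1, 2, 1, 2, 8, 7, 8, 7],
  [1, 3, 1, 3, 8, 7, 8, 7],
  [1, 4, 1, 4, 8, 7, 8, 7],
  [1, 5, 1, 5, 8, 7, 8, 7],
  [2, 0, 2, 0, 8, 7, 8, 7],
  [2, 1, 2, 7, 8, 7],
  [2, 3, 2, 3, 8, 7, 8, 7],
  [2, 4, 2, 4, 8, 7, 8, 7],
  [2, 5, 2, 5, 8, 7, 8, 7],
  [3, 0, 3, 0, 8, 7, 8, 7],
  [3, 1, 3, 7, 8, 7],
  [3, 2, 3, 2, 8, 7, 8, 7],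
  [3, 4, 3, 4, 8, 7, 8, 7],
  [3, 5, 3, 5, 8, 7, 8, 7],
  [4, 0, 4, 0, 8, 7, 8, 7],
  [4, 1, 4, 7, 8, 7],
  [4, 2, 4, 2, 8, 7, 8, 7],
  [4, 3, 4, 3, 8, 7, 8, 7],
  [4, 5, 4, 5, 8, 7, 8, 7],
  [5, 0, 5, 0, 8, 7, 8, 7],
  [5, 1, 5, 7, 8, 7],
  [5, 2, 5, 2, 8, 7, 8, 7],
  [5, 3, 5, 3, 8, 7, 8, 7],
  [5, 4, 5, 4, 8, 7, 8, 7],
  [0, 1, 0, 1, 7, 8, 7, 8],
  [1, 0, 1, 0, 8, 7, 8, 7],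
  [2, 0, 1, 0, 1, 9, 8, 7, 8, 7],
  [3, 0, 1, 0, 1, 10, 8, 7, 8, 7],
  [4, 0, 1, 0, 1, 11, 8, 7, 8, 7],
  [5, 0, 1, 0, 1, 12, 8, 7, 8, 7],
  [0, 1, 0, 1, 0, 1, 0, 1]]

/-- The relators involving `q`, candidate 0. -/
def qRels0 : List (List (Fin 14)) := [
  [6, 6, 6],
  [0, 6, 7, 13],
  [1, 3, 0, 9, 0, 2, 7, 10, 8, 6, 1, 3, 0, 9, 7, 2, 7, 10, 8, 13],
  [0, 1, 0, 1, 6, 8, 7, 8, 7, 6],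
  [0, 2, 3, 4, 0, 5, 1, 4, 6, 11, 8, 12, 7, 11, 10, 9, 7, 6],
  [6, 2, 4, 3, 5, 2, 4, 6, 11, 9, 12, 10, 11, 9, 13, 2, 4, 3, 5, 2, 4, 13, 11, 9, 12, 10, 11, 9],
  [6, 2, 3, 4, 5, 2, 3, 6, 10, 9, 12, 11, 10, 9, 13, 2, 3, 4, 5, 2, 3, 13, 10, 9, 12, 11, 10, 9, 7],
  [6, 2, 3, 4, 5, 2, 3, 2, 4, 3, 5, 2, 4, 6, 11, 9, 12, 10, 11, 9, 10, 9, 12, 11, 10, 9, 13, 2, 3, 4, 5, 2, 3, 2, 4, 3, 5, 2, 4, 13, 11, 9, 12, 10, 11, 9, 10, 9, 12, 11, 10, 9],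
  [4, 3, 5, 2, 4, 6, 11, 9, 12, 10, 11, 3, 4, 5, 2, 3, 6, 10, 9, 12, 11, 10, 4, 3, 5, 2, 4, 13, 11, 9, 12, 10, 11, 3, 4, 5, 2, 3, 13, 10, 9, 12, 11, 10],
  [2, 4, 3, 5, 2, 4, 6, 11, 9, 12, 10, 11, 3, 4, 5, 2, 3, 2, 4, 3, 5, 2, 4, 6, 11, 9, 12, 10, 11, 9, 10, 9, 12, 11, 10, 4, 3, 5, 2, 4, 13, 11, 9, 12, 10, 11, 3, 4, 5, 2, 3, 2, 4, 3, 5, 2, 4, 13, 11, 9, 12, 10, 11, 9, 10, 9, 12, 11, 10, 9, 0],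
  [6, 2, 4, 3, 5, 2, 4, 6, 11, 9, 12, 10, 11, 9, 13, 2, 4, 3, 5, 2, 4, 13, 11, 9, 12, 10, 11, 9],
  [1, 3, 0, 9, 0, 2, 7, 10, 8, 6, 1, 3, 0, 9, 7, 2, 7, 10, 8, 13],
  [1, 3, 0, 9, 0, 2, 7, 10, 8, 2, 4, 3, 5, 2, 4, 6, 11, 9, 12, 10, 11, 9, 1, 3, 0, 9, 7, 2, 7, 10, 8, 2, 4, 3, 5, 2, 4, 13, 11, 9, 12, 10, 11, 9],
  [1, 3, 0, 9, 0, 2, 7, 10, 8, 2, 3, 4, 5, 2, 3, 6, 10, 9, 12, 11, 10, 9, 1, 3, 0, 9, 7, 2, 7, 10, 8, 2, 3, 4, 5, 2, 3, 13, 10, 9, 12, 11, 10, 4, 3, 5, 2, 4, 6, 11, 9, 12, 10, 11, 9, 13, 7],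
  [1, 3, 0, 9, 0, 2, 7, 10, 8, 2, 3, 4, 5, 2, 3, 2, 4, 3, 5, 2, 4, 6, 11, 9, 12, 10, 11, 9, 10, 9, 12, 11, 10, 9, 1, 3, 0, 9, 7, 2, 7, 10, 8, 2, 3, 4, 5, 2, 3, 2, 4, 3, 5, 2, 4, 13, 11, 9, 12, 10, 11, 9, 10, 9, 12, 11, 10, 4, 3, 5, 2, 4, 13, 11, 9, 12, 10, 11, 9, 13, 0],
  [2, 4, 3, 5, 2, 4, 2, 4, 3, 5, 2, 4, 6, 11, 9, 12, 10, 11, 9, 11, 9, 12, 10, 11, 9, 6],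
  [4, 3, 5, 2, 4, 2, 3, 4, 5, 2, 3, 6, 10, 9, 12, 11, 10, 9, 11, 9, 12, 10, 11, 3, 4, 5, 2, 3, 2, 4, 3, 5, 2, 4, 6, 11, 9, 12, 10, 11, 9, 10, 9, 12, 11, 10],
  [4, 3, 5, 2, 4, 2, 3, 4, 5, 2, 3, 2, 4, 3, 5, 2, 4, 6, 11, 9, 12, 10, 11, 9, 10, 9, 12, 11, 10, 9, 11, 9, 12, 10, 11, 3, 4, 5, 2, 3, 13, 10, 9, 12, 11, 10],
  [2, 3, 4, 5, 2, 3, 2, 3, 4, 5, 2, 3, 6, 10, 9, 12, 11, 10, 9, 10, 9, 12, 11, 10, 9, 6],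
  [3, 4, 5, 2, 3, 2, 3, 4, 5, 2, 3, 2, 4, 3, 5, 2, 4, 6, 11, 9, 12, 10, 11, 9, 10, 9, 12, 11, 10, 9, 10, 9, 12, 11, 10, 4, 3, 5, 2, 4, 6, 11, 9, 12, 10, 11],
  [4, 0, 5, 11, 6, 4, 12, 7, 11, 2, 4, 3, 5, 2, 4, 6, 11, 9, 12, 10, 11, 9, 13],
  [4, 0, 5, 11, 2, 4, 3, 5, 2, 4, 6, 11, 9, 12, 10, 11, 9, 4, 12, 7, 11, 2, 4, 3, 5, 2, 4, 6, 11, 9, 12, 10, 11, 9, 6],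
  [4, 0, 5, 11, 2, 3, 4, 5, 2, 3, 6, 10, 9, 12, 11, 10, 9, 4, 12, 7, 11, 2, 3, 4, 5, 2, 3, 2, 4, 3, 5, 2, 4, 13, 11, 9, 12, 10, 11, 9, 13, 10, 9, 12, 11, 10, 9],
  [4, 0, 5, 11, 2, 3, 4, 5, 2, 3, 2, 4, 3, 5, 2, 4, 6, 11, 9, 12, 10, 11, 9, 10, 9, 12, 11, 10, 9, 4, 12, 7, 11, 2, 3, 4, 5, 2, 3, 2, 4, 3, 5, 2, 4, 6, 11, 9, 12, 10, 11, 9, 13, 10, 9, 12, 11, 10, 9]]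

/-- The relators involving `q`, candidate 1. -/
def qRels1 : List (List (Fin 14)) := [
  [6, 6, 6],
  [0, 6, 7, 13],
  [1, 3, 0, 9, 0, 2, 7, 10, 8, 6, 1, 3, 0, 9, 7, 2, 7, 10, 8, 13],
  [0, 1, 0, 1, 6, 8, 7, 8, 7, 6],
  [0, 2, 3, 4, 0, 5, 1, 4, 6, 11, 8, 12, 7, 11, 10, 9, 7, 6],
  [6, 2, 4, 3, 5, 2, 4, 6, 11, 9, 12, 10, 11, 9, 13, 2, 4, 3, 5, 2, 4, 13, 11, 9, 12, 10, 11, 9],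
  [6, 2, 3, 4, 5, 2, 3, 6, 10, 9, 12, 11, 10, 9, 13, 2, 3, 4, 5, 2, 3, 13, 10, 9, 12, 11, 10, 9, 0],
  [6, 2, 3, 4, 5, 2, 3, 2, 4, 3, 5, 2, 4, 6, 11, 9, 12, 10, 11, 9, 10, 9, 12, 11, 10, 9, 13, 2, 3, 4, 5, 2, 3, 2, 4, 3, 5, 2, 4, 13, 11, 9, 12, 10, 11, 9, 10, 9, 12, 11, 10, 9],
  [4, 3, 5, 2, 4, 6, 11, 9, 12, 10, 11, 3, 4, 5, 2, 3, 6, 10, 9, 12, 11, 10, 4, 3, 5, 2, 4, 13, 11, 9, 12, 10, 11, 3, 4, 5, 2, 3, 13, 10, 9, 12, 11, 10],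
  [2, 4, 3, 5, 2, 4, 6, 11, 9, 12, 10, 11, 3, 4, 5, 2, 3, 2, 4, 3, 5, 2, 4, 6, 11, 9, 12, 10, 11, 9, 10, 9, 12, 11, 10, 4, 3, 5, 2, 4, 13, 11, 9, 12, 10, 11, 3, 4, 5, 2, 3, 2, 4, 3, 5, 2, 4, 13, 11, 9, 12, 10, 11, 9, 10, 9, 12, 11, 10, 9, 7],
  [6, 2, 4, 3, 5, 2, 4, 6, 11, 9, 12, 10, 11, 9, 13, 2, 4, 3, 5, 2, 4, 13, 11, 9, 12, 10, 11, 9],
  [1, 3, 0, 9, 0, 2, 7, 10, 8, 6, 1, 3, 0, 9, 7, 2, 7, 10, 8, 13],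
  [1, 3, 0, 9, 0, 2, 7, 10, 8, 2, 4, 3, 5, 2, 4, 6, 11, 9, 12, 10, 11, 9, 1, 3, 0, 9, 7, 2, 7, 10, 8, 2, 4, 3, 5, 2, 4, 13, 11, 9, 12, 10, 11, 9],
  [1, 3, 0, 9, 0, 2, 7, 10, 8, 2, 3, 4, 5, 2, 3, 6, 10, 9, 12, 11, 10, 9, 1, 3, 0, 9, 7, 2, 7, 10, 8, 2, 3, 4, 5, 2, 3, 13, 10, 9, 12, 11, 10, 4, 3, 5, 2, 4, 6, 11, 9, 12, 10, 11, 9, 13, 0],
  [1, 3, 0, 9, 0, 2, 7, 10, 8, 2, 3, 4, 5, 2, 3, 2, 4, 3, 5, 2, 4, 6, 11, 9, 12, 10, 11, 9, 10, 9, 12, 11, 10, 9, 1, 3, 0, 9, 7, 2, 7, 10, 8, 2, 3, 4, 5, 2, 3, 2, 4, 3, 5, 2, 4, 13, 11, 9, 12, 10, 11, 9, 10, 9, 12, 11, 10, 4, 3, 5, 2, 4, 13, 11, 9, 12, 10, 11, 9, 13, 7],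
  [2, 4, 3, 5, 2, 4, 2, 4, 3, 5, 2, 4, 6, 11, 9, 12, 10, 11, 9, 11, 9, 12, 10, 11, 9, 6],
  [4, 3, 5, 2, 4, 2, 3, 4, 5, 2, 3, 6, 10, 9, 12, 11, 10, 9, 11, 9, 12, 10, 11, 3, 4, 5, 2, 3, 2, 4, 3, 5, 2, 4, 6, 11, 9, 12, 10, 11, 9, 10, 9, 12, 11, 10],
  [4, 3, 5, 2, 4, 2, 3, 4, 5, 2, 3, 2, 4, 3, 5, 2, 4, 6, 11, 9, 12, 10, 11, 9, 10, 9, 12, 11, 10, 9, 11, 9, 12, 10, 11, 3, 4, 5, 2, 3, 13, 10, 9, 12, 11, 10],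
  [2, 3, 4, 5, 2, 3, 2, 3, 4, 5, 2, 3, 6, 10, 9, 12, 11, 10, 9, 10, 9, 12, 11, 10, 9, 6],
  [3, 4, 5, 2, 3, 2, 3, 4, 5, 2, 3, 2, 4, 3, 5, 2, 4, 6, 11, 9, 12, 10, 11, 9, 10, 9, 12, 11, 10, 9, 10, 9, 12, 11, 10, 4, 3, 5, 2, 4, 6, 11, 9, 12, 10, 11],
  [4, 0, 5, 11, 6, 4, 12, 7, 11, 2, 4, 3, 5, 2, 4, 6, 11, 9, 12, 10, 11, 9, 13],
  [4, 0, 5, 11, 2, 4, 3, 5, 2, 4, 6, 11, 9, 12, 10, 11, 9, 4, 12, 7, 11, 2, 4, 3, 5, 2, 4, 6, 11, 9, 12, 10, 11, 9, 6],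
  [4, 0, 5, 11, 2, 3, 4, 5, 2, 3, 6, 10, 9, 12, 11, 10, 9, 4, 12, 7, 11, 2, 3, 4, 5, 2, 3, 2, 4, 3, 5, 2, 4, 13, 11, 9, 12, 10, 11, 9, 13, 10, 9, 12, 11, 10, 9],
  [4, 0, 5, 11, 2, 3, 4, 5, 2, 3, 2, 4, 3, 5, 2, 4, 6, 11, 9, 12, 10, 11, 9, 10, 9, 12, 11, 10, 9, 4, 12, 7, 11, 2, 3, 4, 5, 2, 3, 2, 4, 3, 5, 2, 4, 6, 11, 9, 12, 10, 11, 9, 13, 10, 9, 12, 11, 10, 9]]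

/-- The relators involving `q`, candidate 2. -/
def qRels2 : List (List (Fin 14)) := [
  [6, 6, 6],
  [0, 6, 7, 13],
  [1, 3, 0, 9, 0, 2, 7, 10, 8, 6, 1, 3, 0, 9, 7, 2, 7, 10, 8, 13],
  [0, 1, 0, 1, 6, 8, 7, 8, 7, 6],
  [0, 2, 3, 4, 0, 5, 1, 4, 6, 11, 8, 12, 7, 11, 10, 9, 7, 6],
  [6, 2, 4, 3, 5, 2, 4, 6, 11, 9, 12, 10, 11, 9, 13, 2, 4, 3, 5, 2, 4, 13, 11, 9, 12, 10, 11, 9],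
  [6, 2, 3, 4, 5, 2, 3, 6, 10, 9, 12, 11, 10, 9, 13, 2, 3, 4, 5, 2, 3, 13, 10, 9, 12, 11, 10, 9],
  [6, 2, 3, 4, 5, 2, 3, 2, 4, 3, 5, 2, 4, 6, 11, 9, 12, 10, 11, 9, 10, 9, 12, 11, 10, 9, 13, 2, 3, 4, 5, 2, 3, 2, 4, 3, 5, 2, 4, 13, 11, 9, 12, 10, 11, 9, 10, 9, 12, 11, 10, 9, 7],
  [2, 4, 3, 5, 2, 4, 6, 11, 9, 12, 10, 11, 3, 4, 5, 2, 3, 6, 10, 9, 12, 11, 10, 4, 3, 5, 2, 4, 13, 11, 9, 12, 10, 11, 3, 4, 5, 2, 3, 13, 10, 9, 12, 11, 10, 9, 7],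
  [4, 3, 5, 2, 4, 6, 11, 9, 12, 10, 11, 3, 4, 5, 2, 3, 2, 4, 3, 5, 2, 4, 6, 11, 9, 12, 10, 11, 9, 10, 9, 12, 11, 10, 4, 3, 5, 2, 4, 13, 11, 9, 12, 10, 11, 3, 4, 5, 2, 3, 2, 4, 3, 5, 2, 4, 13, 11, 9, 12, 10, 11, 9, 10, 9, 12, 11, 10],
  [6, 2, 4, 3, 5, 2, 4, 6, 11, 9, 12, 10, 11, 9, 13, 2, 4, 3, 5, 2, 4, 13, 11, 9, 12, 10, 11, 9],
  [1, 3, 0, 9, 0, 2, 7, 10, 8, 6, 1, 3, 0, 9, 7, 2, 7, 10, 8, 13],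
  [1, 3, 0, 9, 0, 2, 7, 10, 8, 2, 4, 3, 5, 2, 4, 6, 11, 9, 12, 10, 11, 9, 1, 3, 0, 9, 7, 2, 7, 10, 8, 2, 4, 3, 5, 2, 4, 13, 11, 9, 12, 10, 11, 9],
  [1, 3, 0, 9, 0, 2, 7, 10, 8, 2, 3, 4, 5, 2, 3, 6, 10, 9, 12, 11, 10, 9, 1, 3, 0, 9, 7, 2, 7, 10, 8, 2, 3, 4, 5, 2, 3, 13, 10, 9, 12, 11, 10, 4, 3, 5, 2, 4, 6, 11, 9, 12, 10, 11, 9, 13, 0],
  [1, 3, 0, 9, 0, 2, 7, 10, 8, 2, 3, 4, 5, 2, 3, 2, 4, 3, 5, 2, 4, 6, 11, 9, 12, 10, 11, 9, 10, 9, 12, 11, 10, 9, 1, 3, 0, 9, 7, 2, 7, 10, 8, 2, 3, 4, 5, 2, 3, 2, 4, 3, 5, 2, 4, 13, 11, 9, 12, 10, 11, 9, 10, 9, 12, 11, 10, 4, 3, 5, 2, 4, 13, 11, 9, 12, 10, 11, 9, 13, 7],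
  [2, 4, 3, 5, 2, 4, 2, 4, 3, 5, 2, 4, 6, 11, 9, 12, 10, 11, 9, 11, 9, 12, 10, 11, 9, 6],
  [4, 3, 5, 2, 4, 2, 3, 4, 5, 2, 3, 6, 10, 9, 12, 11, 10, 9, 11, 9, 12, 10, 11, 3, 4, 5, 2, 3, 2, 4, 3, 5, 2, 4, 6, 11, 9, 12, 10, 11, 9, 10, 9, 12, 11, 10],
  [4, 3, 5, 2, 4, 2, 3, 4, 5, 2, 3, 2, 4, 3, 5, 2, 4, 6, 11, 9, 12, 10, 11, 9, 10, 9, 12, 11, 10, 9, 11, 9, 12, 10, 11, 3, 4, 5, 2, 3, 13, 10, 9, 12, 11, 10],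
  [2, 3, 4, 5, 2, 3, 2, 3, 4, 5, 2, 3, 6, 10, 9, 12, 11, 10, 9, 10, 9, 12, 11, 10, 9, 6],
  [3, 4, 5, 2, 3, 2, 3, 4, 5, 2, 3, 2, 4, 3, 5, 2, 4, 6, 11, 9, 12, 10, 11, 9, 10, 9, 12, 11, 10, 9, 10, 9, 12, 11, 10, 4, 3, 5, 2, 4, 6, 11, 9, 12, 10, 11],
  [4, 0, 5, 11, 6, 4, 12, 7, 11, 2, 4, 3, 5, 2, 4, 6, 11, 9, 12, 10, 11, 9, 6],
  [4, 0, 5, 11, 2, 4, 3, 5, 2, 4, 6, 11, 9, 12, 10, 11, 9, 4, 12, 7, 11, 2, 4, 3, 5, 2, 4, 13, 11, 9, 12, 10, 11, 9, 6],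
  [4, 0, 5, 11, 2, 3, 4, 5, 2, 3, 6, 10, 9, 12, 11, 10, 9, 4, 12, 7, 11, 2, 3, 4, 5, 2, 3, 2, 4, 3, 5, 2, 4, 6, 11, 9, 12, 10, 11, 9, 13, 10, 9, 12, 11, 10, 9],
  [4, 0, 5, 11, 2, 3, 4, 5, 2, 3, 2, 4, 3, 5, 2, 4, 6, 11, 9, 12, 10, 11, 9, 10, 9, 12, 11, 10, 9, 4, 12, 7, 11, 2, 3, 4, 5, 2, 3, 2, 4, 3, 5, 2, 4, 6, 11, 9, 12, 10, 11, 9, 6, 10, 9, 12, 11, 10, 9]]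

/-- The relators involving `q`, candidate 3. -/
def qRels3 : List (List (Fin 14)) := [
  [6, 6, 6],
  [0, 6, 7, 13],
  [1, 3, 0, 9, 0, 2, 7, 10, 8, 6, 1, 3, 0, 9, 7, 2, 7, 10, 8, 13],
  [0, 1, 0, 1, 6, 8, 7, 8, 7, 6],
  [0, 2, 3, 4, 0, 5, 1, 4, 6, 11, 8, 12, 7, 11, 10, 9, 7, 6],
  [6, 2, 4, 3, 5, 2, 4, 6, 11, 9, 12, 10, 11, 9, 13, 2, 4, 3, 5, 2, 4, 13, 11, 9, 12, 10, 11, 9],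
  [6, 2, 3, 4, 5, 2, 3, 6, 10, 9, 12, 11, 10, 9, 13, 2, 3, 4, 5, 2, 3, 13, 10, 9, 12, 11, 10, 9],
  [6, 2, 3, 4, 5, 2, 3, 2, 4, 3, 5, 2, 4, 6, 11, 9, 12, 10, 11, 9, 10, 9, 12, 11, 10, 9, 13, 2, 3, 4, 5, 2, 3, 2, 4, 3, 5, 2, 4, 13, 11, 9, 12, 10, 11, 9, 10, 9, 12, 11, 10, 9, 0],
  [2, 4, 3, 5, 2, 4, 6, 11, 9, 12, 10, 11, 3, 4, 5, 2, 3, 6, 10, 9, 12, 11, 10, 4, 3, 5, 2, 4, 13, 11, 9, 12, 10, 11, 3, 4, 5, 2, 3, 13, 10, 9, 12, 11, 10, 9, 0],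
  [4, 3, 5, 2, 4, 6, 11, 9, 12, 10, 11, 3, 4, 5, 2, 3, 2, 4, 3, 5, 2, 4, 6, 11, 9, 12, 10, 11, 9, 10, 9, 12, 11, 10, 4, 3, 5, 2, 4, 13, 11, 9, 12, 10, 11, 3, 4, 5, 2, 3, 2, 4, 3, 5, 2, 4, 13, 11, 9, 12, 10, 11, 9, 10, 9, 12, 11, 10],
  [6, 2, 4, 3, 5, 2, 4, 6, 11, 9, 12, 10, 11, 9, 13, 2, 4, 3, 5, 2, 4, 13, 11, 9, 12, 10, 11, 9],
  [1, 3, 0, 9, 0, 2, 7, 10, 8, 6, 1, 3, 0, 9, 7, 2, 7, 10, 8, 13],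
  [1, 3, 0, 9, 0, 2, 7, 10, 8, 2, 4, 3, 5, 2, 4, 6, 11, 9, 12, 10, 11, 9, 1, 3, 0, 9, 7, 2, 7, 10, 8, 2, 4, 3, 5, 2, 4, 13, 11, 9, 12, 10, 11, 9],
  [1, 3, 0, 9, 0, 2, 7, 10, 8, 2, 3, 4, 5, 2, 3, 6, 10, 9, 12, 11, 10, 9, 1, 3, 0, 9, 7, 2, 7, 10, 8, 2, 3, 4, 5, 2, 3, 13, 10, 9, 12, 11, 10, 4, 3, 5, 2, 4, 6, 11, 9, 12, 10, 11, 9, 13, 7],
  [1, 3, 0, 9, 0, 2, 7, 10, 8, 2, 3, 4, 5, 2, 3, 2, 4, 3, 5, 2, 4, 6, 11, 9, 12, 10, 11, 9, 10, 9, 12, 11, 10, 9, 1, 3, 0, 9, 7, 2, 7, 10, 8, 2, 3, 4, 5, 2, 3, 2, 4, 3, 5, 2, 4, 13, 11, 9, 12, 10, 11, 9, 10, 9, 12, 11, 10, 4, 3, 5, 2, 4, 13, 11, 9, 12, 10, 11, 9, 13, 0],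
  [2, 4, 3, 5, 2, 4, 2, 4, 3, 5, 2, 4, 6, 11, 9, 12, 10, 11, 9, 11, 9, 12, 10, 11, 9, 6],
  [4, 3, 5, 2, 4, 2, 3, 4, 5, 2, 3, 6, 10, 9, 12, 11, 10, 9, 11, 9, 12, 10, 11, 3, 4, 5, 2, 3, 2, 4, 3, 5, 2, 4, 6, 11, 9, 12, 10, 11, 9, 10, 9, 12, 11, 10],
  [4, 3, 5, 2, 4, 2, 3, 4, 5, 2, 3, 2, 4, 3, 5, 2, 4, 6, 11, 9, 12, 10, 11, 9, 10, 9, 12, 11, 10, 9, 11, 9, 12, 10, 11, 3, 4, 5, 2, 3, 13, 10, 9, 12, 11, 10],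
  [2, 3, 4, 5, 2, 3, 2, 3, 4, 5, 2, 3, 6, 10, 9, 12, 11, 10, 9, 10, 9, 12, 11, 10, 9, 6],
  [3, 4, 5, 2, 3, 2, 3, 4, 5, 2, 3, 2, 4, 3, 5, 2, 4, 6, 11, 9, 12, 10, 11, 9, 10, 9, 12, 11, 10, 9, 10, 9, 12, 11, 10, 4, 3, 5, 2, 4, 6, 11, 9, 12, 10, 11],
  [4, 0, 5, 11, 6, 4, 12, 7, 11, 2, 4, 3, 5, 2, 4, 6, 11, 9, 12, 10, 11, 9, 6],
  [4, 0, 5, 11, 2, 4, 3, 5, 2, 4, 6, 11, 9, 12, 10, 11, 9, 4, 12, 7, 11, 2, 4, 3, 5, 2, 4, 13, 11, 9, 12, 10, 11, 9, 6],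
  [4, 0, 5, 11, 2, 3, 4, 5, 2, 3, 6, 10, 9, 12, 11, 10, 9, 4, 12, 7, 11, 2, 3, 4, 5, 2, 3, 2, 4, 3, 5, 2, 4, 6, 11, 9, 12, 10, 11, 9, 13, 10, 9, 12, 11, 10, 9],
  [4, 0, 5, 11, 2, 3, 4, 5, 2, 3, 2, 4, 3, 5, 2, 4, 6, 11, 9, 12, 10, 11, 9, 10, 9, 12, 11, 10, 9, 4, 12, 7, 11, 2, 3, 4, 5, 2, 3, 2, 4, 3, 5, 2, 4, 6, 11, 9, 12, 10, 11, 9, 6, 10, 9, 12, 11, 10, 9]]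

/-- The relators of a candidate. -/
def rels : Fin 4 → List (List (Fin 14))
  | 0 => coverRels ++ qRels0
  | 1 => coverRels ++ qRels1
  | 2 => coverRels ++ qRels2
  | 3 => coverRels ++ qRels3

/-- Generators of the normalizer of `z`. -/
def normWords : List (List (Fin 14)) := [[0], wordA, wordS, wordW, wordE, [6]]

/-- Piece P4: some candidate holds. -/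
def StmtGlue : Prop := ∀ (G : Type u) [Group G] [Finite G] (D : Loc G) (C : Cover G D),
  ∃ (k : Fin 4) (q : G), q ∈ D.Q ∧ q ∉ Subgroup.zpowers D.z ∧
    ∀ w ∈ rels k, val (Fin.snoc C.T q) w = 1

/-- Piece P5: the enumerations. -/
def StmtBound : Prop := ∀ (H : Type u) [Group H] (L : Fin 7 → H),
  Subgroup.closure (Set.range L) = ⊤ →
  ((∀ w ∈ rels 0, val L w = 1) → Nat.card H ≠ 0 ∧ Nat.card H ≤ 898128000) ∧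
  (∀ k : Fin 4, k ≠ 0 → (∀ w ∈ rels k, val L w = 1) →
    Subgroup.closure {x | ∃ w ∈ normWords, x = val L w} = ⊤)

/-- Piece P7: the letters in the McLaughlin group. -/
def StmtModel : Prop := ∃ L : Fin 7 → Cfsg.Spor.McL,
  (∀ w ∈ rels 0, val L w = 1) ∧ Subgroup.closure (Set.range L) = ⊤ ∧
    Nat.card Cfsg.Spor.McL = 898128000 ∧ IsSimpleGroup Cfsg.Spor.McL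

end CfsgLib.McLThree
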