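import Cfsg.Agent.Lib.McLThree.BoundHC3Data

/-!
Checking slots of the certificate.
-/

namespace CfsgLib.McLThree.HC3

open CfsgLib.PresCert

theorem slots_0 : cert.okRange 0 81 = true := by decide +kernel


end CfsgLib.McLThree.HC3
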