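import Cfsg.Agent.Lib.McLThree.BoundK1Data
import Cfsg.Agent.Lib.McLThree.BoundK1Sub
import Cfsg.Agent.Lib.DCE.Stabs

/-!
Kernel checks of the double coset enumeration for candidate 1.
-/

namespace CfsgLib.McLThree.K1

open CfsgLib.PresCert CfsgLib.DCE

theorem pair_ok : okPair P = true := by decide +kernel

theorem words_ok : P.okWords P.g P.words = true := by decide +kernel

theorem levels_ok : P.okLevels [] ls = true := by decide +kernel

theorem setup_ok : S.okSetup = true := by decide +kernel

theorem facts_ok : S.okRange facts 0 facts.length = true := by decide +kernel

theorem lives_ok : lives.all (S.okLive facts) = true := by decide +kernel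

theorem cover_ok : S.okCover facts lives dead = true := by decide +kernel

theorem v0_tabs : okTabs P V0ws V0tab = true := by decide +kernel

theorem v0_words : (PermData.mk P.n V0ws.length V0tab V0ex).okWords V0ws.length V0ex = true := by decide +kernel

theorem v0_levels : (PermData.mk P.n V0ws.length V0tab V0ex).okLevels [] V0ls = true := by decide +kernel

theorem v0_pairs : okPairs V0ws (S.edge 0).src = true := by decide +kernel

theorem e0_levels : P.okLevels [] [E0L0] = true := by decide +kernel

theorem e0_fix : (V0ws.all fun w => (w.all fun x => Nat.blt x P.g) && Nat.beq (P.app w E0L0.base) E0L0.base) = true := by decide +kernel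

end CfsgLib.McLThree.K1
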