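import Cfsg.Agent.Lib.McLThree.BoundCollapseBase
import Cfsg.Agent.Lib.McLThree.BoundHC1Cert
import Cfsg.Agent.Lib.McLThree.BoundK1Checks
import Cfsg.Agent.Lib.McLThree.BoundHC2Cert
import Cfsg.Agent.Lib.McLThree.BoundK2Checks
import Cfsg.Agent.Lib.McLThree.BoundHC3Cert
import Cfsg.Agent.Lib.McLThree.BoundK3Checks

/-!
# The three candidates that collapse
-/

set_option autoImplicit false
set_option maxRecDepth 100000

namespace CfsgLib.McLThree

open CfsgLib.PresCert CfsgLib.DCE

universe u

theorem num_inv (L : List (List (Fin 14))) {X : Type u} [Group X] {F : Fin 7 → X}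
    (h : ∀ w ∈ L, val F w = 1) :
    ∀ r ∈ L.map (List.map num) ++ L.map (fun w => subst.ivw' (w.map num)), wv F r = 1 := by
  intro r hr
  rw [List.mem_append, List.mem_map, List.mem_map] at hr
  rcases hr with ⟨w, hw, rfl⟩ | ⟨w, hw, rfl⟩
  · rw [wv_num]; exact h w hw
  · rw [ivw'_eq, wv_ivw, wv_num, h w hw, inv_one]

theorem collapse1 {X : Type u} [Group X] {L : Fin 7 → X}
    (gen : Subgroup.closure (Set.range L) = ⊤) (hL : ∀ w ∈ rels 1, val L w = 1) :
    Subgroup.closure {x | ∃ w ∈ normWords, x = val L w} = ⊤ :=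
  collapse_gen (Q := qRelD1) (hints := qHints1) (R := relH1) (S := K1.S) (fs := K1.facts)
    (ls := K1.lives) (dead := K1.dead) (lv0 := K1.ls) (E := K1.E0L0) (V := K1.V0ws)
    (Vtab := K1.V0tab) (Vex := K1.V0ex) (Vls := K1.V0ls)
    gen (fun w hw => hL w (by simp [rels, hw]))
    ((show qRels1.map (List.map num) ++ qRels1.map (fun w => subst.ivw' (w.map num)) = qRelD1 by
      decide +kernel) ▸ num_inv qRels1 fun w hw => hL w (by simp [rels, hw]))
    (grp6_bound HC1.valid rfl (by decide +kernel) rfl (by decide +kernel) (by decide +kernel)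
      (by decide +kernel))
    rfl K1.pair_ok (by decide +kernel) K1.words_ok K1.levels_ok (by decide +kernel)
    (by decide +kernel) (by decide +kernel) (by decide +kernel) rfl rfl (by decide +kernel)
    (by decide +kernel) (by decide +kernel) K1.setup_ok K1.facts_ok K1.lives_ok K1.cover_ok
    (by decide +kernel) K1.v0_pairs (by decide +kernel) K1.e0_levels K1.e0_fix K1.v0_tabs
    K1.v0_words K1.v0_levels (by decide +kernel)

theorem collapse2 {X : Type u} [Group X] {L : Fin 7 → X}
    (gen : Subgroup.closure (Set.range L) = ⊤) (hL : ∀ w ∈ rels 2, val L w = 1) :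
    Subgroup.closure {x | ∃ w ∈ normWords, x = val L w} = ⊤ :=
  collapse_gen (Q := qRelD2) (hints := qHints2) (R := relH2) (S := K2.S) (fs := K2.facts)
    (ls := K2.lives) (dead := K2.dead) (lv0 := K2.ls) (E := K2.E0L0) (V := K2.V0ws)
    (Vtab := K2.V0tab) (Vex := K2.V0ex) (Vls := K2.V0ls)
    gen (fun w hw => hL w (by simp [rels, hw]))
    ((show qRels2.map (List.map num) ++ qRels2.map (fun w => subst.ivw' (w.map num)) = qRelD2 by
      decide +kernel) ▸ num_inv qRels2 fun w hw => hL w (by simp [rels, hw]))
    (grp6_bound HC2.valid rfl (by decide +kernel) rfl (by decide +kernel) (by decide +kernel)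
      (by decide +kernel))
    rfl K2.pair_ok (by decide +kernel) K2.words_ok K2.levels_ok (by decide +kernel)
    (by decide +kernel) (by decide +kernel) (by decide +kernel) rfl rfl (by decide +kernel)
    (by decide +kernel) (by decide +kernel) K2.setup_ok K2.facts_ok K2.lives_ok K2.cover_ok
    (by decide +kernel) K2.v0_pairs (by decide +kernel) K2.e0_levels K2.e0_fix K2.v0_tabs
    K2.v0_words K2.v0_levels (by decide +kernel)

theorem collapse3 {X : Type u} [Group X] {L : Fin 7 → X}
    (gen : Subgroup.closure (Set.range L) = ⊤) (hL : ∀ w ∈ rels 3, val L w = 1) :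
    Subgroup.closure {x | ∃ w ∈ normWords, x = val L w} = ⊤ :=
  collapse_gen (Q := qRelD3) (hints := qHints3) (R := relH3) (S := K3.S) (fs := K3.facts)
    (ls := K3.lives) (dead := K3.dead) (lv0 := K3.ls) (E := K3.E0L0) (V := K3.V0ws)
    (Vtab := K3.V0tab) (Vex := K3.V0ex) (Vls := K3.V0ls)
    gen (fun w hw => hL w (by simp [rels, hw]))
    ((show qRels3.map (List.map num) ++ qRels3.map (fun w => subst.ivw' (w.map num)) = qRelD3 by
      decide +kernel) ▸ num_inv qRels3 fun w hw => hL w (by simp [rels, hw]))
    (grp6_bound HC3.valid rfl (by decide +kernel) rfl (by decide +kernel) (by decide +kernel)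
      (by decide +kernel))
    rfl K3.pair_ok (by decide +kernel) K3.words_ok K3.levels_ok (by decide +kernel)
    (by decide +kernel) (by decide +kernel) (by decide +kernel) rfl rfl (by decide +kernel)
    (by decide +kernel) (by decide +kernel) K3.setup_ok K3.facts_ok K3.lives_ok K3.cover_ok
    (by decide +kernel) K3.v0_pairs (by decide +kernel) K3.e0_levels K3.e0_fix K3.v0_tabs
    K3.v0_words K3.v0_levels (by decide +kernel)

/-- The candidates other than the first collapse onto the normalizer of `z`. -/
theorem collapse {X : Type u} [Group X] {L : Fin 7 → X}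
    (gen : Subgroup.closure (Set.range L) = ⊤) (k : Fin 4) (hk : k ≠ 0)
    (h : ∀ w ∈ rels k, val L w = 1) :
    Subgroup.closure {x | ∃ w ∈ normWords, x = val L w} = ⊤ := by
  fin_cases k
  · exact absurd rfl hk
  · exact collapse1 gen h
  · exact collapse2 gen h
  · exact collapse3 gen h

end CfsgLib.McLThree
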