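import Cfsg.Agent.Lib.McLThree.BoundZero
import Cfsg.Agent.Lib.McLThree.BoundCollapse

/-!
# The enumerations

Piece P5: the first candidate has at most `898128000` elements, the others collapse.
-/

set_option autoImplicit false

namespace CfsgLib.McLThree

universe u

/-- The piece: the enumerations. -/
theorem bound : StmtBound.{u} := fun _ _ _ gen =>
  ⟨fun h => bound_zero gen h, fun k hk h => collapse gen k hk h⟩

end CfsgLib.McLThree
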