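import Cfsg.Agent.Lib.McLThree.BoundCPerm

/-!
Checks of the tables of the double cover.
-/

namespace CfsgLib.McLThree.CP

open CfsgLib.PresCert CfsgLib.DCE

theorem pair_ok : okPair P = true := by decide +kernel

theorem words_ok : P.okWords P.g P.words = true := by decide +kernel

theorem levels_ok : P.okLevels [] ls = true := by decide +kernel


end CfsgLib.McLThree.CP
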