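import Cfsg.Agent.Lib.McLThree.BoundWords
import Cfsg.Agent.Lib.McLThree.BoundKCCert
import Cfsg.Agent.Lib.McLThree.BoundHCCert
import Cfsg.Agent.Lib.DCE.Subst

/-!
The group presented on `z, a, s, w, e, q` by the relators of the normalizer of `z` has order at
most 58320.
-/

set_option autoImplicit false
set_option maxRecDepth 100000

namespace CfsgLib.McLThree

open CfsgLib.PresCert CfsgLib.DCE

/-- The group on `z, a, s, w, e`. -/
abbrev GK : Type := Grp 5 relK

/-- The group on `z, a, s, w, e, q`. -/
abbrev GH : Type := Grp 6 relH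

private theorem rels_kc : (KC.cert.rels.all fun r =>
    (r.all fun x => Nat.blt x 10) && relK.contains r) = true := by decide +kernel

theorem gk_bound : Finite GK ∧ Nat.card GK ≤ 720 := by
  let a : GK := Grp.gen 1
  have ha : a ^ 3 = 1 := by
    have := Grp.wv_rel (m := 5) (rels := relK) (w := [2, 2, 2]) (by decide +kernel)
    simpa [wv, lv, pow_succ, a, mul_assoc] using this
  let M : CfsgLib.PresCert.Model KC.cert GK :=
    { gen := lv Grp.gen
      gen_inv := by
        intro x hx
        have : x < 10 := hx
        refine ⟨?_, ?_⟩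
        · interval_cases x <;> decide
        · rw [show KC.cert.iv x = Nat.xor x 1 by interval_cases x <;> decide, lv_xor]
      rels_eq := by
        intro r hr
        have h := List.all_eq_true.1 rels_kc r hr
        simp only [Bool.and_eq_true, List.all_eq_true, Nat.blt_eq, List.contains_iff_mem] at h
        exact ⟨h.1, Grp.wv_rel h.2⟩
      sub := Subgroup.zpowers a
      subs_mem := by
        intro r hr
        simp only [KC.cert, List.mem_cons, List.not_mem_nil, or_false] at hr
        subst hr
        simp [lv, a]
      closure_gen := by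
        refine top_le_iff.1 ((Grp.closure_gen (m := 5) (rels := relK)).symm.trans_le ?_)
        refine Subgroup.closure_mono ?_
        rintro _ ⟨k, rfl⟩
        refine ⟨2 * k, show 2 * (k : Nat) < 10 by omega, ?_⟩
        rw [lv, dif_pos (show 2 * (k : Nat) / 2 < 5 by omega), if_pos (by omega)]
        exact congrArg Grp.gen (Fin.ext (by simp)) }
  obtain ⟨h, hf⟩ := Cert.index_le M KC.valid
  have hord : orderOf a ≤ 3 := orderOf_le_of_pow_eq_one (by norm_num) ha
  have hfo : IsOfFinOrder a := isOfFinOrder_iff_pow_eq_one.2 ⟨3, by norm_num, ha⟩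
  have hc : Nat.card (Subgroup.zpowers a) ≤ 3 := (Nat.card_zpowers a).trans_le hord
  have hne : Nat.card (Subgroup.zpowers a) ≠ 0 := by
    rw [Nat.card_zpowers]; exact hfo.orderOf_pos.ne'
  have e : Nat.card M.sub * M.sub.index = Nat.card GK := Subgroup.card_mul_index _
  refine ⟨Nat.finite_of_card_ne_zero (e ▸ Nat.mul_ne_zero hne hf.index_ne_zero), ?_⟩
  rw [← e]
  exact (Nat.mul_le_mul hc h).trans (by decide +kernel : 3 * KC.cert.n ≤ 720)

private theorem sub_kh : (relK.all fun w =>
    relH.contains (subst [[0], [2], [4], [6], [8]] w)) = true := by decide +kernel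

/-- the first five letters -/
noncomputable def psiK : GK →* GH :=
  Grp.lift (fun k : Fin 5 => wv Grp.gen (([[0], [2], [4], [6], [8]] : List (List Nat)).getD k []))
    (subst_rels rfl sub_kh)

private theorem rels_hc : (HC.cert.rels.all fun r =>
    (r.all fun x => Nat.blt x 12) && relH.contains r) = true := by decide +kernel

theorem gh_bound : Finite GH ∧ Nat.card GH ≤ 58320 := by
  obtain ⟨hK, hKc⟩ := gk_bound
  let M : CfsgLib.PresCert.Model HC.cert GH :=
    { gen := lv Grp.gen
      gen_inv := by
        intro x hx
        have : x < 12 := hx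
        refine ⟨?_, ?_⟩
        · interval_cases x <;> decide
        · rw [show HC.cert.iv x = Nat.xor x 1 by interval_cases x <;> decide, lv_xor]
      rels_eq := by
        intro r hr
        have h := List.all_eq_true.1 rels_hc r hr
        simp only [Bool.and_eq_true, List.all_eq_true, Nat.blt_eq, List.contains_iff_mem] at h
        exact ⟨h.1, Grp.wv_rel h.2⟩
      sub := psiK.range
      subs_mem := by
        intro r hr
        simp only [HC.cert, List.mem_cons, List.not_mem_nil, or_false] at hr
        rcases hr with rfl | rfl | rfl | rfl | rfl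
        · exact ⟨Grp.gen 0, by simp [psiK, wv, lv]⟩
        · exact ⟨Grp.gen 1, by simp [psiK, wv, lv]⟩
        · exact ⟨Grp.gen 2, by simp [psiK, wv, lv]⟩
        · exact ⟨Grp.gen 3, by simp [psiK, wv, lv]⟩
        · exact ⟨Grp.gen 4, by simp [psiK, wv, lv]⟩
      closure_gen := by
        refine top_le_iff.1 ((Grp.closure_gen (m := 6) (rels := relH)).symm.trans_le ?_)
        refine Subgroup.closure_mono ?_
        rintro _ ⟨k, rfl⟩
        refine ⟨2 * k, show 2 * (k : Nat) < 12 by omega, ?_⟩
        rw [lv, dif_pos (show 2 * (k : Nat) / 2 < 6 by omega), if_pos (by omega)]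
        exact congrArg Grp.gen (Fin.ext (by simp)) }
  obtain ⟨h, hf⟩ := Cert.index_le M HC.valid
  have hfr : Finite psiK.range := Finite.of_surjective _ psiK.rangeRestrict_surjective
  have hr : Nat.card psiK.range ≤ 720 :=
    (Nat.card_le_card_of_surjective _ psiK.rangeRestrict_surjective).trans hKc
  have hne : Nat.card psiK.range ≠ 0 := Nat.card_pos.ne'
  have e : Nat.card M.sub * M.sub.index = Nat.card GH := Subgroup.card_mul_index _
  refine ⟨Nat.finite_of_card_ne_zero (e ▸ Nat.mul_ne_zero hne hf.index_ne_zero), ?_⟩
  rw [← e]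
  exact (Nat.mul_le_mul hr h).trans (by decide +kernel : 720 * HC.cert.n ≤ 58320)

end CfsgLib.McLThree
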