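import Cfsg.Agent.Lib.McLThree.BoundWords

/-!
Relators of the candidates that collapse (generated data).
-/

namespace CfsgLib.McLThree

/-- relators with `q` of candidate 1 and their inverses -/
def qRelD1 : List (List Nat) :=
  [[12, 12, 12],
  [0, 12, 1, 13],
  [2, 6, 0, 5, 0, 4, 1, 7, 3, 12, 2, 6, 0, 5, 1, 4, 1, 7, 3, 13],
  [0, 2, 0, 2, 12, 3, 1, 3, 1, 12],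
  [0, 4, 6, 8, 0, 10, 2, 8, 12, 9, 3, 11, 1, 9, 7, 5, 1, 12],
  [12, 4, 8, 6, 10, 4, 8, 12, 9, 5, 11, 7, 9, 5, 13, 4, 8, 6, 10, 4, 8, 13, 9, 5, 11, 7, 9, 5],
  [12, 4, 6, 8, 10, 4, 6, 12, 7, 5, 11, 9, 7, 5, 13, 4, 6, 8, 10, 4, 6, 13, 7, 5, 11, 9, 7, 5, 0],
  [12, 4, 6, 8, 10, 4, 6, 4, 8, 6, 10, 4, 8, 12, 9, 5, 11, 7, 9, 5, 7, 5, 11, 9, 7, 5, 13, 4, 6, 8, 10, 4, 6, 4, 8, 6, 10, 4, 8, 13, 9, 5, 11, 7, 9, 5, 7, 5, 11, 9, 7, 5],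
  [8, 6, 10, 4, 8, 12, 9, 5, 11, 7, 9, 6, 8, 10, 4, 6, 12, 7, 5, 11, 9, 7, 8, 6, 10, 4, 8, 13, 9, 5, 11, 7, 9, 6, 8, 10, 4, 6, 13, 7, 5, 11, 9, 7],
  [4, 8, 6, 10, 4, 8, 12, 9, 5, 11, 7, 9, 6, 8, 10, 4, 6, 4, 8, 6, 10, 4, 8, 12, 9, 5, 11, 7, 9, 5, 7, 5, 11, 9, 7, 8, 6, 10, 4, 8, 13, 9, 5, 11, 7, 9, 6, 8, 10, 4, 6, 4, 8, 6, 10, 4, 8, 13, 9, 5, 11, 7, 9, 5, 7, 5, 11, 9, 7, 5, 1],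
  [12, 4, 8, 6, 10, 4, 8, 12, 9, 5, 11, 7, 9, 5, 13, 4, 8, 6, 10, 4, 8, 13, 9, 5, 11, 7, 9, 5],
  [2, 6, 0, 5, 0, 4, 1, 7, 3, 12, 2, 6, 0, 5, 1, 4, 1, 7, 3, 13],
  [2, 6, 0, 5, 0, 4, 1, 7, 3, 4, 8, 6, 10, 4, 8, 12, 9, 5, 11, 7, 9, 5, 2, 6, 0, 5, 1, 4, 1, 7, 3, 4, 8, 6, 10, 4, 8, 13, 9, 5, 11, 7, 9, 5],
  [2, 6, 0, 5, 0, 4, 1, 7, 3, 4, 6, 8, 10, 4, 6, 12, 7, 5, 11, 9, 7, 5, 2, 6, 0, 5, 1, 4, 1, 7, 3, 4, 6, 8, 10, 4, 6, 13, 7, 5, 11, 9, 7, 8, 6, 10, 4, 8, 12, 9, 5, 11, 7, 9, 5, 13, 0],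
  [2, 6, 0, 5, 0, 4, 1, 7, 3, 4, 6, 8, 10, 4, 6, 4, 8, 6, 10, 4, 8, 12, 9, 5, 11, 7, 9, 5, 7, 5, 11, 9, 7, 5, 2, 6, 0, 5, 1, 4, 1, 7, 3, 4, 6, 8, 10, 4, 6, 4, 8, 6, 10, 4, 8, 13, 9, 5, 11, 7, 9, 5, 7, 5, 11, 9, 7, 8, 6, 10, 4, 8, 13, 9, 5, 11, 7, 9, 5, 13, 1],
  [4, 8, 6, 10, 4, 8, 4, 8, 6, 10, 4, 8, 12, 9, 5, 11, 7, 9, 5, 9, 5, 11, 7, 9, 5, 12],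
  [8, 6, 10, 4, 8, 4, 6, 8, 10, 4, 6, 12, 7, 5, 11, 9, 7, 5, 9, 5, 11, 7, 9, 6, 8, 10, 4, 6, 4, 8, 6, 10, 4, 8, 12, 9, 5, 11, 7, 9, 5, 7, 5, 11, 9, 7],
  [8, 6, 10, 4, 8, 4, 6, 8, 10, 4, 6, 4, 8, 6, 10, 4, 8, 12, 9, 5, 11, 7, 9, 5, 7, 5, 11, 9, 7, 5, 9, 5, 11, 7, 9, 6, 8, 10, 4, 6, 13, 7, 5, 11, 9, 7],
  [4, 6, 8, 10, 4, 6, 4, 6, 8, 10, 4, 6, 12, 7, 5, 11, 9, 7, 5, 7, 5, 11, 9, 7, 5, 12],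
  [6, 8, 10, 4, 6, 4, 6, 8, 10, 4, 6, 4, 8, 6, 10, 4, 8, 12, 9, 5, 11, 7, 9, 5, 7, 5, 11, 9, 7, 5, 7, 5, 11, 9, 7, 8, 6, 10, 4, 8, 12, 9, 5, 11, 7, 9],
  [8, 0, 10, 9, 12, 8, 11, 1, 9, 4, 8, 6, 10, 4, 8, 12, 9, 5, 11, 7, 9, 5, 13],
  [8, 0, 10, 9, 4, 8, 6, 10, 4, 8, 12, 9, 5, 11, 7, 9, 5, 8, 11, 1, 9, 4, 8, 6, 10, 4, 8, 12, 9, 5, 11, 7, 9, 5, 12],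
  [8, 0, 10, 9, 4, 6, 8, 10, 4, 6, 12, 7, 5, 11, 9, 7, 5, 8, 11, 1, 9, 4, 6, 8, 10, 4, 6, 4, 8, 6, 10, 4, 8, 13, 9, 5, 11, 7, 9, 5, 13, 7, 5, 11, 9, 7, 5],
  [8, 0, 10, 9, 4, 6, 8, 10, 4, 6, 4, 8, 6, 10, 4, 8, 12, 9, 5, 11, 7, 9, 5, 7, 5, 11, 9, 7, 5, 8, 11, 1, 9, 4, 6, 8, 10, 4, 6, 4, 8, 6, 10, 4, 8, 12, 9, 5, 11, 7, 9, 5, 13, 7, 5, 11, 9, 7, 5],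
  [13, 13, 13],
  [12, 0, 13, 1],
  [12, 2, 6, 0, 5, 0, 4, 1, 7, 3, 13, 2, 6, 0, 5, 1, 4, 1, 7, 3],
  [13, 0, 2, 0, 2, 13, 3, 1, 3, 1],
  [13, 0, 4, 6, 8, 0, 10, 2, 8, 13, 9, 3, 11, 1, 9, 7, 5, 1],
  [4, 8, 6, 10, 4, 8, 12, 9, 5, 11, 7, 9, 5, 12, 4, 8, 6, 10, 4, 8, 13, 9, 5, 11, 7, 9, 5, 13],
  [1, 4, 6, 8, 10, 4, 6, 12, 7, 5, 11, 9, 7, 5, 12, 4, 6, 8, 10, 4, 6, 13, 7, 5, 11, 9, 7, 5, 13],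
  [4, 6, 8, 10, 4, 6, 4, 8, 6, 10, 4, 8, 12, 9, 5, 11, 7, 9, 5, 7, 5, 11, 9, 7, 5, 12, 4, 6, 8, 10, 4, 6, 4, 8, 6, 10, 4, 8, 13, 9, 5, 11, 7, 9, 5, 7, 5, 11, 9, 7, 5, 13],
  [6, 8, 10, 4, 6, 12, 7, 5, 11, 9, 7, 8, 6, 10, 4, 8, 12, 9, 5, 11, 7, 9, 6, 8, 10, 4, 6, 13, 7, 5, 11, 9, 7, 8, 6, 10, 4, 8, 13, 9, 5, 11, 7, 9],
  [0, 4, 6, 8, 10, 4, 6, 4, 8, 6, 10, 4, 8, 12, 9, 5, 11, 7, 9, 5, 7, 5, 11, 9, 7, 8, 6, 10, 4, 8, 12, 9, 5, 11, 7, 9, 6, 8, 10, 4, 6, 4, 8, 6, 10, 4, 8, 13, 9, 5, 11, 7, 9, 5, 7, 5, 11, 9, 7, 8, 6, 10, 4, 8, 13, 9, 5, 11, 7, 9, 5],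
  [4, 8, 6, 10, 4, 8, 12, 9, 5, 11, 7, 9, 5, 12, 4, 8, 6, 10, 4, 8, 13, 9, 5, 11, 7, 9, 5, 13],
  [12, 2, 6, 0, 5, 0, 4, 1, 7, 3, 13, 2, 6, 0, 5, 1, 4, 1, 7, 3],
  [4, 8, 6, 10, 4, 8, 12, 9, 5, 11, 7, 9, 5, 2, 6, 0, 5, 0, 4, 1, 7, 3, 4, 8, 6, 10, 4, 8, 13, 9, 5, 11, 7, 9, 5, 2, 6, 0, 5, 1, 4, 1, 7, 3],
  [1, 12, 4, 8, 6, 10, 4, 8, 13, 9, 5, 11, 7, 9, 6, 8, 10, 4, 6, 12, 7, 5, 11, 9, 7, 5, 2, 6, 0, 5, 0, 4, 1, 7, 3, 4, 6, 8, 10, 4, 6, 13, 7, 5, 11, 9, 7, 5, 2, 6, 0, 5, 1, 4, 1, 7, 3],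
  [0, 12, 4, 8, 6, 10, 4, 8, 12, 9, 5, 11, 7, 9, 6, 8, 10, 4, 6, 4, 8, 6, 10, 4, 8, 12, 9, 5, 11, 7, 9, 5, 7, 5, 11, 9, 7, 5, 2, 6, 0, 5, 0, 4, 1, 7, 3, 4, 6, 8, 10, 4, 6, 4, 8, 6, 10, 4, 8, 13, 9, 5, 11, 7, 9, 5, 7, 5, 11, 9, 7, 5, 2, 6, 0, 5, 1, 4, 1, 7, 3],
  [13, 4, 8, 6, 10, 4, 8, 4, 8, 6, 10, 4, 8, 13, 9, 5, 11, 7, 9, 5, 9, 5, 11, 7, 9, 5],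
  [6, 8, 10, 4, 6, 4, 8, 6, 10, 4, 8, 13, 9, 5, 11, 7, 9, 5, 7, 5, 11, 9, 7, 8, 6, 10, 4, 8, 4, 6, 8, 10, 4, 6, 13, 7, 5, 11, 9, 7, 5, 9, 5, 11, 7, 9],
  [6, 8, 10, 4, 6, 12, 7, 5, 11, 9, 7, 8, 6, 10, 4, 8, 4, 6, 8, 10, 4, 6, 4, 8, 6, 10, 4, 8, 13, 9, 5, 11, 7, 9, 5, 7, 5, 11, 9, 7, 5, 9, 5, 11, 7, 9],
  [13, 4, 6, 8, 10, 4, 6, 4, 6, 8, 10, 4, 6, 13, 7, 5, 11, 9, 7, 5, 7, 5, 11, 9, 7, 5],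
  [8, 6, 10, 4, 8, 13, 9, 5, 11, 7, 9, 6, 8, 10, 4, 6, 4, 6, 8, 10, 4, 6, 4, 8, 6, 10, 4, 8, 13, 9, 5, 11, 7, 9, 5, 7, 5, 11, 9, 7, 5, 7, 5, 11, 9, 7],
  [12, 4, 8, 6, 10, 4, 8, 13, 9, 5, 11, 7, 9, 5, 8, 0, 10, 9, 13, 8, 11, 1, 9],
  [13, 4, 8, 6, 10, 4, 8, 13, 9, 5, 11, 7, 9, 5, 8, 0, 10, 9, 4, 8, 6, 10, 4, 8, 13, 9, 5, 11, 7, 9, 5, 8, 11, 1, 9],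
  [4, 6, 8, 10, 4, 6, 12, 4, 8, 6, 10, 4, 8, 12, 9, 5, 11, 7, 9, 5, 7, 5, 11, 9, 7, 5, 8, 0, 10, 9, 4, 6, 8, 10, 4, 6, 13, 7, 5, 11, 9, 7, 5, 8, 11, 1, 9],
  [4, 6, 8, 10, 4, 6, 12, 4, 8, 6, 10, 4, 8, 13, 9, 5, 11, 7, 9, 5, 7, 5, 11, 9, 7, 5, 8, 0, 10, 9, 4, 6, 8, 10, 4, 6, 4, 8, 6, 10, 4, 8, 13, 9, 5, 11, 7, 9, 5, 7, 5, 11, 9, 7, 5, 8, 11, 1, 9]]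

/-- relators of the normalizer of `z` in candidate 1 -/
def relH1 : List (List Nat) :=
  [[2, 2, 2],
  [0, 0, 0],
  [8, 5, 9, 5],
  [8, 4, 8, 5],
  [8, 2, 9, 3],
  [5, 7, 7, 5],
  [5, 6, 6, 5],
  [5, 5, 5, 5],
  [4, 2, 5, 2],
  [4, 0, 5, 1],
  [2, 0, 3, 1],
  [6, 8, 4, 6, 9],
  [4, 8, 6, 9, 7],
  [4, 7, 9, 6, 9],
  [4, 7, 8, 7, 9],
  [4, 6, 9, 7, 9],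
  [2, 9, 2, 8, 2],
  [0, 2, 0, 3, 0],
  [3, 9, 0, 8, 2, 0],
  [3, 8, 0, 9, 2, 0],
  [3, 6, 0, 7, 2, 1],
  [3, 5, 0, 4, 2, 1],
  [6, 2, 8, 5, 2, 7, 9],
  [6, 2, 8, 4, 2, 6, 9],
  [4, 7, 3, 8, 2, 7, 9],
  [4, 7, 2, 9, 3, 6, 9],
  [4, 7, 2, 8, 3, 7, 9],
  [4, 6, 3, 9, 2, 7, 9],
  [4, 6, 3, 8, 2, 6, 9],
  [6, 3, 9, 0, 8, 2, 7, 0],
  [6, 3, 8, 0, 9, 2, 7, 0],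
  [2, 4, 6, 2, 6, 3, 7, 2, 7, 3, 7],
  [10, 10, 10],
  [0, 10, 1, 11],
  [2, 10, 3, 11],
  [10, 4, 10, 5, 11, 4, 11, 5],
  [10, 6, 10, 7, 11, 6, 11, 7, 0],
  [10, 6, 4, 10, 5, 7, 11, 6, 4, 11, 5, 7],
  [4, 10, 5, 6, 10, 7, 4, 11, 5, 6, 11, 7],
  [4, 10, 5, 6, 4, 10, 5, 7, 4, 11, 5, 6, 4, 11, 5, 7, 1],
  [10, 4, 10, 5, 11, 4, 11, 5],
  [2, 10, 3, 11],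
  [2, 4, 10, 5, 3, 4, 11, 5],
  [2, 6, 10, 7, 3, 6, 11, 7, 4, 10, 5, 11, 0],
  [2, 6, 4, 10, 5, 7, 3, 6, 4, 11, 5, 7, 4, 11, 5, 11, 1],
  [4, 4, 10, 5, 5, 10],
  [4, 6, 10, 7, 5, 6, 4, 10, 5, 7],
  [4, 6, 4, 10, 5, 7, 5, 6, 11, 7],
  [6, 6, 10, 7, 7, 10],
  [6, 6, 4, 10, 5, 7, 7, 4, 10, 5],
  [8, 10, 9, 4, 10, 5, 11],
  [8, 4, 10, 5, 9, 4, 10, 5, 10],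
  [8, 6, 10, 7, 9, 6, 4, 11, 5, 11, 7],
  [8, 6, 4, 10, 5, 7, 9, 6, 4, 10, 5, 11, 7]]

/-- the conjugates that occur -/
def qHints1 : List (Nat × Nat) := [(0, 0), (1, 0), (2, 0), (4, 11), (5, 0), (6, 0), (7, 0), (8, 1), (9, 0), (12, 0), (13, 0), (14, 0), (15, 0), (16, 1), (17, 1), (18, 0), (19, 1), (20, 0), (21, 0), (22, 0), (23, 0)]

/-- relators with `q` of candidate 2 and their inverses -/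
def qRelD2 : List (List Nat) :=
  [[12, 12, 12],
  [0, 12, 1, 13],
  [2, 6, 0, 5, 0, 4, 1, 7, 3, 12, 2, 6, 0, 5, 1, 4, 1, 7, 3, 13],
  [0, 2, 0, 2, 12, 3, 1, 3, 1, 12],
  [0, 4, 6, 8, 0, 10, 2, 8, 12, 9, 3, 11, 1, 9, 7, 5, 1, 12],
  [12, 4, 8, 6, 10, 4, 8, 12, 9, 5, 11, 7, 9, 5, 13, 4, 8, 6, 10, 4, 8, 13, 9, 5, 11, 7, 9, 5],
  [12, 4, 6, 8, 10, 4, 6, 12, 7, 5, 11, 9, 7, 5, 13, 4, 6, 8, 10, 4, 6, 13, 7, 5, 11, 9, 7, 5],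
  [12, 4, 6, 8, 10, 4, 6, 4, 8, 6, 10, 4, 8, 12, 9, 5, 11, 7, 9, 5, 7, 5, 11, 9, 7, 5, 13, 4, 6, 8, 10, 4, 6, 4, 8, 6, 10, 4, 8, 13, 9, 5, 11, 7, 9, 5, 7, 5, 11, 9, 7, 5, 1],
  [4, 8, 6, 10, 4, 8, 12, 9, 5, 11, 7, 9, 6, 8, 10, 4, 6, 12, 7, 5, 11, 9, 7, 8, 6, 10, 4, 8, 13, 9, 5, 11, 7, 9, 6, 8, 10, 4, 6, 13, 7, 5, 11, 9, 7, 5, 1],
  [8, 6, 10, 4, 8, 12, 9, 5, 11, 7, 9, 6, 8, 10, 4, 6, 4, 8, 6, 10, 4, 8, 12, 9, 5, 11, 7, 9, 5, 7, 5, 11, 9, 7, 8, 6, 10, 4, 8, 13, 9, 5, 11, 7, 9, 6, 8, 10, 4, 6, 4, 8, 6, 10, 4, 8, 13, 9, 5, 11, 7, 9, 5, 7, 5, 11, 9, 7],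
  [12, 4, 8, 6, 10, 4, 8, 12, 9, 5, 11, 7, 9, 5, 13, 4, 8, 6, 10, 4, 8, 13, 9, 5, 11, 7, 9, 5],
  [2, 6, 0, 5, 0, 4, 1, 7, 3, 12, 2, 6, 0, 5, 1, 4, 1, 7, 3, 13],
  [2, 6, 0, 5, 0, 4, 1, 7, 3, 4, 8, 6, 10, 4, 8, 12, 9, 5, 11, 7, 9, 5, 2, 6, 0, 5, 1, 4, 1, 7, 3, 4, 8, 6, 10, 4, 8, 13, 9, 5, 11, 7, 9, 5],
  [2, 6, 0, 5, 0, 4, 1, 7, 3, 4, 6, 8, 10, 4, 6, 12, 7, 5, 11, 9, 7, 5, 2, 6, 0, 5, 1, 4, 1, 7, 3, 4, 6, 8, 10, 4, 6, 13, 7, 5, 11, 9, 7, 8, 6, 10, 4, 8, 12, 9, 5, 11, 7, 9, 5, 13, 0],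
  [2, 6, 0, 5, 0, 4, 1, 7, 3, 4, 6, 8, 10, 4, 6, 4, 8, 6, 10, 4, 8, 12, 9, 5, 11, 7, 9, 5, 7, 5, 11, 9, 7, 5, 2, 6, 0, 5, 1, 4, 1, 7, 3, 4, 6, 8, 10, 4, 6, 4, 8, 6, 10, 4, 8, 13, 9, 5, 11, 7, 9, 5, 7, 5, 11, 9, 7, 8, 6, 10, 4, 8, 13, 9, 5, 11, 7, 9, 5, 13, 1],
  [4, 8, 6, 10, 4, 8, 4, 8, 6, 10, 4, 8, 12, 9, 5, 11, 7, 9, 5, 9, 5, 11, 7, 9, 5, 12],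
  [8, 6, 10, 4, 8, 4, 6, 8, 10, 4, 6, 12, 7, 5, 11, 9, 7, 5, 9, 5, 11, 7, 9, 6, 8, 10, 4, 6, 4, 8, 6, 10, 4, 8, 12, 9, 5, 11, 7, 9, 5, 7, 5, 11, 9, 7],
  [8, 6, 10, 4, 8, 4, 6, 8, 10, 4, 6, 4, 8, 6, 10, 4, 8, 12, 9, 5, 11, 7, 9, 5, 7, 5, 11, 9, 7, 5, 9, 5, 11, 7, 9, 6, 8, 10, 4, 6, 13, 7, 5, 11, 9, 7],
  [4, 6, 8, 10, 4, 6, 4, 6, 8, 10, 4, 6, 12, 7, 5, 11, 9, 7, 5, 7, 5, 11, 9, 7, 5, 12],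
  [6, 8, 10, 4, 6, 4, 6, 8, 10, 4, 6, 4, 8, 6, 10, 4, 8, 12, 9, 5, 11, 7, 9, 5, 7, 5, 11, 9, 7, 5, 7, 5, 11, 9, 7, 8, 6, 10, 4, 8, 12, 9, 5, 11, 7, 9],
  [8, 0, 10, 9, 12, 8, 11, 1, 9, 4, 8, 6, 10, 4, 8, 12, 9, 5, 11, 7, 9, 5, 12],
  [8, 0, 10, 9, 4, 8, 6, 10, 4, 8, 12, 9, 5, 11, 7, 9, 5, 8, 11, 1, 9, 4, 8, 6, 10, 4, 8, 13, 9, 5, 11, 7, 9, 5, 12],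
  [8, 0, 10, 9, 4, 6, 8, 10, 4, 6, 12, 7, 5, 11, 9, 7, 5, 8, 11, 1, 9, 4, 6, 8, 10, 4, 6, 4, 8, 6, 10, 4, 8, 12, 9, 5, 11, 7, 9, 5, 13, 7, 5, 11, 9, 7, 5],
  [8, 0, 10, 9, 4, 6, 8, 10, 4, 6, 4, 8, 6, 10, 4, 8, 12, 9, 5, 11, 7, 9, 5, 7, 5, 11, 9, 7, 5, 8, 11, 1, 9, 4, 6, 8, 10, 4, 6, 4, 8, 6, 10, 4, 8, 12, 9, 5, 11, 7, 9, 5, 12, 7, 5, 11, 9, 7, 5],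
  [13, 13, 13],
  [12, 0, 13, 1],
  [12, 2, 6, 0, 5, 0, 4, 1, 7, 3, 13, 2, 6, 0, 5, 1, 4, 1, 7, 3],
  [13, 0, 2, 0, 2, 13, 3, 1, 3, 1],
  [13, 0, 4, 6, 8, 0, 10, 2, 8, 13, 9, 3, 11, 1, 9, 7, 5, 1],
  [4, 8, 6, 10, 4, 8, 12, 9, 5, 11, 7, 9, 5, 12, 4, 8, 6, 10, 4, 8, 13, 9, 5, 11, 7, 9, 5, 13],
  [4, 6, 8, 10, 4, 6, 12, 7, 5, 11, 9, 7, 5, 12, 4, 6, 8, 10, 4, 6, 13, 7, 5, 11, 9, 7, 5, 13],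
  [0, 4, 6, 8, 10, 4, 6, 4, 8, 6, 10, 4, 8, 12, 9, 5, 11, 7, 9, 5, 7, 5, 11, 9, 7, 5, 12, 4, 6, 8, 10, 4, 6, 4, 8, 6, 10, 4, 8, 13, 9, 5, 11, 7, 9, 5, 7, 5, 11, 9, 7, 5, 13],
  [0, 4, 6, 8, 10, 4, 6, 12, 7, 5, 11, 9, 7, 8, 6, 10, 4, 8, 12, 9, 5, 11, 7, 9, 6, 8, 10, 4, 6, 13, 7, 5, 11, 9, 7, 8, 6, 10, 4, 8, 13, 9, 5, 11, 7, 9, 5],
  [6, 8, 10, 4, 6, 4, 8, 6, 10, 4, 8, 12, 9, 5, 11, 7, 9, 5, 7, 5, 11, 9, 7, 8, 6, 10, 4, 8, 12, 9, 5, 11, 7, 9, 6, 8, 10, 4, 6, 4, 8, 6, 10, 4, 8, 13, 9, 5, 11, 7, 9, 5, 7, 5, 11, 9, 7, 8, 6, 10, 4, 8, 13, 9, 5, 11, 7, 9],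
  [4, 8, 6, 10, 4, 8, 12, 9, 5, 11, 7, 9, 5, 12, 4, 8, 6, 10, 4, 8, 13, 9, 5, 11, 7, 9, 5, 13],
  [12, 2, 6, 0, 5, 0, 4, 1, 7, 3, 13, 2, 6, 0, 5, 1, 4, 1, 7, 3],
  [4, 8, 6, 10, 4, 8, 12, 9, 5, 11, 7, 9, 5, 2, 6, 0, 5, 0, 4, 1, 7, 3, 4, 8, 6, 10, 4, 8, 13, 9, 5, 11, 7, 9, 5, 2, 6, 0, 5, 1, 4, 1, 7, 3],
  [1, 12, 4, 8, 6, 10, 4, 8, 13, 9, 5, 11, 7, 9, 6, 8, 10, 4, 6, 12, 7, 5, 11, 9, 7, 5, 2, 6, 0, 5, 0, 4, 1, 7, 3, 4, 6, 8, 10, 4, 6, 13, 7, 5, 11, 9, 7, 5, 2, 6, 0, 5, 1, 4, 1, 7, 3],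
  [0, 12, 4, 8, 6, 10, 4, 8, 12, 9, 5, 11, 7, 9, 6, 8, 10, 4, 6, 4, 8, 6, 10, 4, 8, 12, 9, 5, 11, 7, 9, 5, 7, 5, 11, 9, 7, 5, 2, 6, 0, 5, 0, 4, 1, 7, 3, 4, 6, 8, 10, 4, 6, 4, 8, 6, 10, 4, 8, 13, 9, 5, 11, 7, 9, 5, 7, 5, 11, 9, 7, 5, 2, 6, 0, 5, 1, 4, 1, 7, 3],
  [13, 4, 8, 6, 10, 4, 8, 4, 8, 6, 10, 4, 8, 13, 9, 5, 11, 7, 9, 5, 9, 5, 11, 7, 9, 5],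
  [6, 8, 10, 4, 6, 4, 8, 6, 10, 4, 8, 13, 9, 5, 11, 7, 9, 5, 7, 5, 11, 9, 7, 8, 6, 10, 4, 8, 4, 6, 8, 10, 4, 6, 13, 7, 5, 11, 9, 7, 5, 9, 5, 11, 7, 9],
  [6, 8, 10, 4, 6, 12, 7, 5, 11, 9, 7, 8, 6, 10, 4, 8, 4, 6, 8, 10, 4, 6, 4, 8, 6, 10, 4, 8, 13, 9, 5, 11, 7, 9, 5, 7, 5, 11, 9, 7, 5, 9, 5, 11, 7, 9],
  [13, 4, 6, 8, 10, 4, 6, 4, 6, 8, 10, 4, 6, 13, 7, 5, 11, 9, 7, 5, 7, 5, 11, 9, 7, 5],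
  [8, 6, 10, 4, 8, 13, 9, 5, 11, 7, 9, 6, 8, 10, 4, 6, 4, 6, 8, 10, 4, 6, 4, 8, 6, 10, 4, 8, 13, 9, 5, 11, 7, 9, 5, 7, 5, 11, 9, 7, 5, 7, 5, 11, 9, 7],
  [13, 4, 8, 6, 10, 4, 8, 13, 9, 5, 11, 7, 9, 5, 8, 0, 10, 9, 13, 8, 11, 1, 9],
  [13, 4, 8, 6, 10, 4, 8, 12, 9, 5, 11, 7, 9, 5, 8, 0, 10, 9, 4, 8, 6, 10, 4, 8, 13, 9, 5, 11, 7, 9, 5, 8, 11, 1, 9],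
  [4, 6, 8, 10, 4, 6, 12, 4, 8, 6, 10, 4, 8, 13, 9, 5, 11, 7, 9, 5, 7, 5, 11, 9, 7, 5, 8, 0, 10, 9, 4, 6, 8, 10, 4, 6, 13, 7, 5, 11, 9, 7, 5, 8, 11, 1, 9],
  [4, 6, 8, 10, 4, 6, 13, 4, 8, 6, 10, 4, 8, 13, 9, 5, 11, 7, 9, 5, 7, 5, 11, 9, 7, 5, 8, 0, 10, 9, 4, 6, 8, 10, 4, 6, 4, 8, 6, 10, 4, 8, 13, 9, 5, 11, 7, 9, 5, 7, 5, 11, 9, 7, 5, 8, 11, 1, 9]]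

/-- relators of the normalizer of `z` in candidate 2 -/
def relH2 : List (List Nat) :=
  [[2, 2, 2],
  [0, 0, 0],
  [8, 5, 9, 5],
  [8, 4, 8, 5],
  [8, 2, 9, 3],
  [5, 7, 7, 5],
  [5, 6, 6, 5],
  [5, 5, 5, 5],
  [4, 2, 5, 2],
  [4, 0, 5, 1],
  [2, 0, 3, 1],
  [6, 8, 4, 6, 9],
  [4, 8, 6, 9, 7],
  [4, 7, 9, 6, 9],
  [4, 7, 8, 7, 9],
  [4, 6, 9, 7, 9],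
  [2, 9, 2, 8, 2],
  [0, 2, 0, 3, 0],
  [3, 9, 0, 8, 2, 0],
  [3, 8, 0, 9, 2, 0],
  [3, 6, 0, 7, 2, 1],
  [3, 5, 0, 4, 2, 1],
  [6, 2, 8, 5, 2, 7, 9],
  [6, 2, 8, 4, 2, 6, 9],
  [4, 7, 3, 8, 2, 7, 9],
  [4, 7, 2, 9, 3, 6, 9],
  [4, 7, 2, 8, 3, 7, 9],
  [4, 6, 3, 9, 2, 7, 9],
  [4, 6, 3, 8, 2, 6, 9],
  [6, 3, 9, 0, 8, 2, 7, 0],
  [6, 3, 8, 0, 9, 2, 7, 0],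
  [2, 4, 6, 2, 6, 3, 7, 2, 7, 3, 7],
  [10, 10, 10],
  [0, 10, 1, 11],
  [2, 10, 3, 11],
  [10, 4, 10, 5, 11, 4, 11, 5],
  [10, 6, 10, 7, 11, 6, 11, 7],
  [10, 6, 4, 10, 5, 7, 11, 6, 4, 11, 5, 7, 1],
  [4, 10, 5, 6, 10, 7, 4, 11, 5, 6, 11, 7, 1],
  [4, 10, 5, 6, 4, 10, 5, 7, 4, 11, 5, 6, 4, 11, 5, 7],
  [10, 4, 10, 5, 11, 4, 11, 5],
  [2, 10, 3, 11],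
  [2, 4, 10, 5, 3, 4, 11, 5],
  [2, 6, 10, 7, 3, 6, 11, 7, 4, 10, 5, 11, 0],
  [2, 6, 4, 10, 5, 7, 3, 6, 4, 11, 5, 7, 4, 11, 5, 11, 1],
  [4, 4, 10, 5, 5, 10],
  [4, 6, 10, 7, 5, 6, 4, 10, 5, 7],
  [4, 6, 4, 10, 5, 7, 5, 6, 11, 7],
  [6, 6, 10, 7, 7, 10],
  [6, 6, 4, 10, 5, 7, 7, 4, 10, 5],
  [8, 10, 9, 4, 10, 5, 10],
  [8, 4, 10, 5, 9, 4, 11, 5, 10],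
  [8, 6, 10, 7, 9, 6, 4, 10, 5, 11, 7],
  [8, 6, 4, 10, 5, 7, 9, 6, 4, 10, 5, 10, 7]]

/-- the conjugates that occur -/
def qHints2 : List (Nat × Nat) := [(0, 0), (1, 0), (2, 0), (4, 11), (5, 0), (6, 0), (7, 0), (8, 0), (9, 1), (12, 0), (13, 0), (14, 0), (15, 0), (16, 1), (17, 1), (18, 0), (19, 1), (20, 0), (21, 0), (22, 0), (23, 0)]

/-- relators with `q` of candidate 3 and their inverses -/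
def qRelD3 : List (List Nat) :=
  [[12, 12, 12],
  [0, 12, 1, 13],
  [2, 6, 0, 5, 0, 4, 1, 7, 3, 12, 2, 6, 0, 5, 1, 4, 1, 7, 3, 13],
  [0, 2, 0, 2, 12, 3, 1, 3, 1, 12],
  [0, 4, 6, 8, 0, 10, 2, 8, 12, 9, 3, 11, 1, 9, 7, 5, 1, 12],
  [12, 4, 8, 6, 10, 4, 8, 12, 9, 5, 11, 7, 9, 5, 13, 4, 8, 6, 10, 4, 8, 13, 9, 5, 11, 7, 9, 5],
  [12, 4, 6, 8, 10, 4, 6, 12, 7, 5, 11, 9, 7, 5, 13, 4, 6, 8, 10, 4, 6, 13, 7, 5, 11, 9, 7, 5],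
  [12, 4, 6, 8, 10, 4, 6, 4, 8, 6, 10, 4, 8, 12, 9, 5, 11, 7, 9, 5, 7, 5, 11, 9, 7, 5, 13, 4, 6, 8, 10, 4, 6, 4, 8, 6, 10, 4, 8, 13, 9, 5, 11, 7, 9, 5, 7, 5, 11, 9, 7, 5, 0],
  [4, 8, 6, 10, 4, 8, 12, 9, 5, 11, 7, 9, 6, 8, 10, 4, 6, 12, 7, 5, 11, 9, 7, 8, 6, 10, 4, 8, 13, 9, 5, 11, 7, 9, 6, 8, 10, 4, 6, 13, 7, 5, 11, 9, 7, 5, 0],
  [8, 6, 10, 4, 8, 12, 9, 5, 11, 7, 9, 6, 8, 10, 4, 6, 4, 8, 6, 10, 4, 8, 12, 9, 5, 11, 7, 9, 5, 7, 5, 11, 9, 7, 8, 6, 10, 4, 8, 13, 9, 5, 11, 7, 9, 6, 8, 10, 4, 6, 4, 8, 6, 10, 4, 8, 13, 9, 5, 11, 7, 9, 5, 7, 5, 11, 9, 7],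
  [12, 4, 8, 6, 10, 4, 8, 12, 9, 5, 11, 7, 9, 5, 13, 4, 8, 6, 10, 4, 8, 13, 9, 5, 11, 7, 9, 5],
  [2, 6, 0, 5, 0, 4, 1, 7, 3, 12, 2, 6, 0, 5, 1, 4, 1, 7, 3, 13],
  [2, 6, 0, 5, 0, 4, 1, 7, 3, 4, 8, 6, 10, 4, 8, 12, 9, 5, 11, 7, 9, 5, 2, 6, 0, 5, 1, 4, 1, 7, 3, 4, 8, 6, 10, 4, 8, 13, 9, 5, 11, 7, 9, 5],
  [2, 6, 0, 5, 0, 4, 1, 7, 3, 4, 6, 8, 10, 4, 6, 12, 7, 5, 11, 9, 7, 5, 2, 6, 0, 5, 1, 4, 1, 7, 3, 4, 6, 8, 10, 4, 6, 13, 7, 5, 11, 9, 7, 8, 6, 10, 4, 8, 12, 9, 5, 11, 7, 9, 5, 13, 1],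
  [2, 6, 0, 5, 0, 4, 1, 7, 3, 4, 6, 8, 10, 4, 6, 4, 8, 6, 10, 4, 8, 12, 9, 5, 11, 7, 9, 5, 7, 5, 11, 9, 7, 5, 2, 6, 0, 5, 1, 4, 1, 7, 3, 4, 6, 8, 10, 4, 6, 4, 8, 6, 10, 4, 8, 13, 9, 5, 11, 7, 9, 5, 7, 5, 11, 9, 7, 8, 6, 10, 4, 8, 13, 9, 5, 11, 7, 9, 5, 13, 0],
  [4, 8, 6, 10, 4, 8, 4, 8, 6, 10, 4, 8, 12, 9, 5, 11, 7, 9, 5, 9, 5, 11, 7, 9, 5, 12],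
  [8, 6, 10, 4, 8, 4, 6, 8, 10, 4, 6, 12, 7, 5, 11, 9, 7, 5, 9, 5, 11, 7, 9, 6, 8, 10, 4, 6, 4, 8, 6, 10, 4, 8, 12, 9, 5, 11, 7, 9, 5, 7, 5, 11, 9, 7],
  [8, 6, 10, 4, 8, 4, 6, 8, 10, 4, 6, 4, 8, 6, 10, 4, 8, 12, 9, 5, 11, 7, 9, 5, 7, 5, 11, 9, 7, 5, 9, 5, 11, 7, 9, 6, 8, 10, 4, 6, 13, 7, 5, 11, 9, 7],
  [4, 6, 8, 10, 4, 6, 4, 6, 8, 10, 4, 6, 12, 7, 5, 11, 9, 7, 5, 7, 5, 11, 9, 7, 5, 12],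
  [6, 8, 10, 4, 6, 4, 6, 8, 10, 4, 6, 4, 8, 6, 10, 4, 8, 12, 9, 5, 11, 7, 9, 5, 7, 5, 11, 9, 7, 5, 7, 5, 11, 9, 7, 8, 6, 10, 4, 8, 12, 9, 5, 11, 7, 9],
  [8, 0, 10, 9, 12, 8, 11, 1, 9, 4, 8, 6, 10, 4, 8, 12, 9, 5, 11, 7, 9, 5, 12],
  [8, 0, 10, 9, 4, 8, 6, 10, 4, 8, 12, 9, 5, 11, 7, 9, 5, 8, 11, 1, 9, 4, 8, 6, 10, 4, 8, 13, 9, 5, 11, 7, 9, 5, 12],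
  [8, 0, 10, 9, 4, 6, 8, 10, 4, 6, 12, 7, 5, 11, 9, 7, 5, 8, 11, 1, 9, 4, 6, 8, 10, 4, 6, 4, 8, 6, 10, 4, 8, 12, 9, 5, 11, 7, 9, 5, 13, 7, 5, 11, 9, 7, 5],
  [8, 0, 10, 9, 4, 6, 8, 10, 4, 6, 4, 8, 6, 10, 4, 8, 12, 9, 5, 11, 7, 9, 5, 7, 5, 11, 9, 7, 5, 8, 11, 1, 9, 4, 6, 8, 10, 4, 6, 4, 8, 6, 10, 4, 8, 12, 9, 5, 11, 7, 9, 5, 12, 7, 5, 11, 9, 7, 5],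
  [13, 13, 13],
  [12, 0, 13, 1],
  [12, 2, 6, 0, 5, 0, 4, 1, 7, 3, 13, 2, 6, 0, 5, 1, 4, 1, 7, 3],
  [13, 0, 2, 0, 2, 13, 3, 1, 3, 1],
  [13, 0, 4, 6, 8, 0, 10, 2, 8, 13, 9, 3, 11, 1, 9, 7, 5, 1],
  [4, 8, 6, 10, 4, 8, 12, 9, 5, 11, 7, 9, 5, 12, 4, 8, 6, 10, 4, 8, 13, 9, 5, 11, 7, 9, 5, 13],
  [4, 6, 8, 10, 4, 6, 12, 7, 5, 11, 9, 7, 5, 12, 4, 6, 8, 10, 4, 6, 13, 7, 5, 11, 9, 7, 5, 13],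
  [1, 4, 6, 8, 10, 4, 6, 4, 8, 6, 10, 4, 8, 12, 9, 5, 11, 7, 9, 5, 7, 5, 11, 9, 7, 5, 12, 4, 6, 8, 10, 4, 6, 4, 8, 6, 10, 4, 8, 13, 9, 5, 11, 7, 9, 5, 7, 5, 11, 9, 7, 5, 13],
  [1, 4, 6, 8, 10, 4, 6, 12, 7, 5, 11, 9, 7, 8, 6, 10, 4, 8, 12, 9, 5, 11, 7, 9, 6, 8, 10, 4, 6, 13, 7, 5, 11, 9, 7, 8, 6, 10, 4, 8, 13, 9, 5, 11, 7, 9, 5],
  [6, 8, 10, 4, 6, 4, 8, 6, 10, 4, 8, 12, 9, 5, 11, 7, 9, 5, 7, 5, 11, 9, 7, 8, 6, 10, 4, 8, 12, 9, 5, 11, 7, 9, 6, 8, 10, 4, 6, 4, 8, 6, 10, 4, 8, 13, 9, 5, 11, 7, 9, 5, 7, 5, 11, 9, 7, 8, 6, 10, 4, 8, 13, 9, 5, 11, 7, 9],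
  [4, 8, 6, 10, 4, 8, 12, 9, 5, 11, 7, 9, 5, 12, 4, 8, 6, 10, 4, 8, 13, 9, 5, 11, 7, 9, 5, 13],
  [12, 2, 6, 0, 5, 0, 4, 1, 7, 3, 13, 2, 6, 0, 5, 1, 4, 1, 7, 3],
  [4, 8, 6, 10, 4, 8, 12, 9, 5, 11, 7, 9, 5, 2, 6, 0, 5, 0, 4, 1, 7, 3, 4, 8, 6, 10, 4, 8, 13, 9, 5, 11, 7, 9, 5, 2, 6, 0, 5, 1, 4, 1, 7, 3],
  [0, 12, 4, 8, 6, 10, 4, 8, 13, 9, 5, 11, 7, 9, 6, 8, 10, 4, 6, 12, 7, 5, 11, 9, 7, 5, 2, 6, 0, 5, 0, 4, 1, 7, 3, 4, 6, 8, 10, 4, 6, 13, 7, 5, 11, 9, 7, 5, 2, 6, 0, 5, 1, 4, 1, 7, 3],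
  [1, 12, 4, 8, 6, 10, 4, 8, 12, 9, 5, 11, 7, 9, 6, 8, 10, 4, 6, 4, 8, 6, 10, 4, 8, 12, 9, 5, 11, 7, 9, 5, 7, 5, 11, 9, 7, 5, 2, 6, 0, 5, 0, 4, 1, 7, 3, 4, 6, 8, 10, 4, 6, 4, 8, 6, 10, 4, 8, 13, 9, 5, 11, 7, 9, 5, 7, 5, 11, 9, 7, 5, 2, 6, 0, 5, 1, 4, 1, 7, 3],
  [13, 4, 8, 6, 10, 4, 8, 4, 8, 6, 10, 4, 8, 13, 9, 5, 11, 7, 9, 5, 9, 5, 11, 7, 9, 5],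
  [6, 8, 10, 4, 6, 4, 8, 6, 10, 4, 8, 13, 9, 5, 11, 7, 9, 5, 7, 5, 11, 9, 7, 8, 6, 10, 4, 8, 4, 6, 8, 10, 4, 6, 13, 7, 5, 11, 9, 7, 5, 9, 5, 11, 7, 9],
  [6, 8, 10, 4, 6, 12, 7, 5, 11, 9, 7, 8, 6, 10, 4, 8, 4, 6, 8, 10, 4, 6, 4, 8, 6, 10, 4, 8, 13, 9, 5, 11, 7, 9, 5, 7, 5, 11, 9, 7, 5, 9, 5, 11, 7, 9],
  [13, 4, 6, 8, 10, 4, 6, 4, 6, 8, 10, 4, 6, 13, 7, 5, 11, 9, 7, 5, 7, 5, 11, 9, 7, 5],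
  [8, 6, 10, 4, 8, 13, 9, 5, 11, 7, 9, 6, 8, 10, 4, 6, 4, 6, 8, 10, 4, 6, 4, 8, 6, 10, 4, 8, 13, 9, 5, 11, 7, 9, 5, 7, 5, 11, 9, 7, 5, 7, 5, 11, 9, 7],
  [13, 4, 8, 6, 10, 4, 8, 13, 9, 5, 11, 7, 9, 5, 8, 0, 10, 9, 13, 8, 11, 1, 9],
  [13, 4, 8, 6, 10, 4, 8, 12, 9, 5, 11, 7, 9, 5, 8, 0, 10, 9, 4, 8, 6, 10, 4, 8, 13, 9, 5, 11, 7, 9, 5, 8, 11, 1, 9],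
  [4, 6, 8, 10, 4, 6, 12, 4, 8, 6, 10, 4, 8, 13, 9, 5, 11, 7, 9, 5, 7, 5, 11, 9, 7, 5, 8, 0, 10, 9, 4, 6, 8, 10, 4, 6, 13, 7, 5, 11, 9, 7, 5, 8, 11, 1, 9],
  [4, 6, 8, 10, 4, 6, 13, 4, 8, 6, 10, 4, 8, 13, 9, 5, 11, 7, 9, 5, 7, 5, 11, 9, 7, 5, 8, 0, 10, 9, 4, 6, 8, 10, 4, 6, 4, 8, 6, 10, 4, 8, 13, 9, 5, 11, 7, 9, 5, 7, 5, 11, 9, 7, 5, 8, 11, 1, 9]]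

/-- relators of the normalizer of `z` in candidate 3 -/
def relH3 : List (List Nat) :=
  [[2, 2, 2],
  [0, 0, 0],
  [8, 5, 9, 5],
  [8, 4, 8, 5],
  [8, 2, 9, 3],
  [5, 7, 7, 5],
  [5, 6, 6, 5],
  [5, 5, 5, 5],
  [4, 2, 5, 2],
  [4, 0, 5, 1],
  [2, 0, 3, 1],
  [6, 8, 4, 6, 9],
  [4, 8, 6, 9, 7],
  [4, 7, 9, 6, 9],
  [4, 7, 8, 7, 9],
  [4, 6, 9, 7, 9],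
  [2, 9, 2, 8, 2],
  [0, 2, 0, 3, 0],
  [3, 9, 0, 8, 2, 0],
  [3, 8, 0, 9, 2, 0],
  [3, 6, 0, 7, 2, 1],
  [3, 5, 0, 4, 2, 1],
  [6, 2, 8, 5, 2, 7, 9],
  [6, 2, 8, 4, 2, 6, 9],
  [4, 7, 3, 8, 2, 7, 9],
  [4, 7, 2, 9, 3, 6, 9],
  [4, 7, 2, 8, 3, 7, 9],
  [4, 6, 3, 9, 2, 7, 9],
  [4, 6, 3, 8, 2, 6, 9],
  [6, 3, 9, 0, 8, 2, 7, 0],
  [6, 3, 8, 0, 9, 2, 7, 0],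
  [2, 4, 6, 2, 6, 3, 7, 2, 7, 3, 7],
  [10, 10, 10],
  [0, 10, 1, 11],
  [2, 10, 3, 11],
  [10, 4, 10, 5, 11, 4, 11, 5],
  [10, 6, 10, 7, 11, 6, 11, 7],
  [10, 6, 4, 10, 5, 7, 11, 6, 4, 11, 5, 7, 0],
  [4, 10, 5, 6, 10, 7, 4, 11, 5, 6, 11, 7, 0],
  [4, 10, 5, 6, 4, 10, 5, 7, 4, 11, 5, 6, 4, 11, 5, 7],
  [10, 4, 10, 5, 11, 4, 11, 5],
  [2, 10, 3, 11],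
  [2, 4, 10, 5, 3, 4, 11, 5],
  [2, 6, 10, 7, 3, 6, 11, 7, 4, 10, 5, 11, 1],
  [2, 6, 4, 10, 5, 7, 3, 6, 4, 11, 5, 7, 4, 11, 5, 11, 0],
  [4, 4, 10, 5, 5, 10],
  [4, 6, 10, 7, 5, 6, 4, 10, 5, 7],
  [4, 6, 4, 10, 5, 7, 5, 6, 11, 7],
  [6, 6, 10, 7, 7, 10],
  [6, 6, 4, 10, 5, 7, 7, 4, 10, 5],
  [8, 10, 9, 4, 10, 5, 10],
  [8, 4, 10, 5, 9, 4, 11, 5, 10],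
  [8, 6, 10, 7, 9, 6, 4, 10, 5, 11, 7],
  [8, 6, 4, 10, 5, 7, 9, 6, 4, 10, 5, 10, 7]]

/-- the conjugates that occur -/
def qHints3 : List (Nat × Nat) := [(0, 0), (1, 0), (2, 0), (4, 11), (5, 0), (6, 0), (7, 0), (8, 0), (9, 1), (12, 0), (13, 0), (14, 0), (15, 0), (16, 1), (17, 1), (18, 0), (19, 1), (20, 0), (21, 0), (22, 0), (23, 0)]

end CfsgLib.McLThree
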