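import Cfsg.Agent.Lib.McLThree.BoundSyntax
import Cfsg.Agent.Lib.McLThree.BoundOrders
import Cfsg.Agent.Lib.McLThree.BoundWordsK
import Cfsg.Agent.Lib.DCE.Count
import Cfsg.Agent.Lib.DCE.Stabs

/-!
# Collapse of a candidate: a single double coset

If the enumeration over the normalizer of `z` with edge element `g` leaves only the trivial double
coset, then the group is the image of the normalizer.
-/

set_option autoImplicit false
set_option maxRecDepth 100000

namespace CfsgLib.McLThree

open CfsgLib.PresCert CfsgLib.DCE

universe u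

/-- a word trivial by the relators of the cover, or a conjugate of one of the listed relators -/
noncomputable def okWordK (Q : List (List Nat)) (hints : List (Nat × Nat)) (w : List Nat) : Bool :=
  let u := fred w
  okC u || hints.any fun h =>
    decide (h.1 < Q.length) &&
      fred (conjW.getD h.2 [] ++ (Q.getD h.1 [] ++ subst.ivw' (conjW.getD h.2 []))) == u

/-- a word in `z, a, s, w, e, q, g` trivial by the relators -/
noncomputable def okRelK (Q : List (List Nat)) (hints : List (Nat × Nat)) (w : List Nat) : Bool :=
  okWordK Q hints (subst genW w)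

section

variable {X : Type u} [Group X] {L : Fin 7 → X}

theorem cover_one' (hC : ∀ w ∈ coverRels, val L w = 1) {u : List Nat} (h : okC u = true) :
    wv L u = 1 := by
  simp only [okC, Bool.and_eq_true, List.all_eq_true, Nat.blt_eq, Nat.beq_eq] at h
  obtain ⟨hlt, hfix⟩ := h
  have hrel : ∀ r ∈ coverD, wv (fun k : Fin 6 => L k.castSucc) r = 1 := by
    intro r hr
    rw [wv_castSucc L _ (coverD_lt r hr)]
    rw [← coverD_eq] at hr
    obtain ⟨w, hw, rfl⟩ := List.mem_map.1 hr
    rw [wv_num]
    exact hC w hw
  have h1 : permsC.val u = 1 := c_faithful _ fun i hi => by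
    refine Fin.ext ?_
    rw [← permsC.app_eq u hlt i]
    exact hfix _ hi
  have h2 := congrArg (Grp.lift (fun k : Fin 6 => L k.castSucc) hrel) h1
  rw [Perms.val, map_wv, map_one] at h2
  simp only [permsC, Perms.ofGrp, Grp.lift_gen] at h2
  rwa [wv_castSucc L _ hlt] at h2

theorem okWordK_one {Q : List (List Nat)} {hints : List (Nat × Nat)}
    (hC : ∀ w ∈ coverRels, val L w = 1) (hQ : ∀ r ∈ Q, wv L r = 1) {w : List Nat}
    (h : okWordK Q hints w = true) : wv L w = 1 := by
  rw [← wv_fred]
  simp only [okWordK, Bool.or_eq_true, List.any_eq_true, Bool.and_eq_true, decide_eq_true_eq,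
    beq_iff_eq] at h
  rcases h with h | ⟨⟨a, b⟩, -, hlt, h⟩
  · exact cover_one' hC h
  · rw [← h, wv_fred, wv_append, wv_append, ivw'_eq, wv_ivw, hQ (Q.getD a []) (by
      rw [List.getD_eq_getElem?_getD, List.getElem?_eq_getElem hlt]
      exact List.getElem_mem hlt)]
    simp

theorem okRelK_one {Q : List (List Nat)} {hints : List (Nat × Nat)}
    (hC : ∀ w ∈ coverRels, val L w = 1) (hQ : ∀ r ∈ Q, wv L r = 1) {w : List Nat}
    (h : okRelK Q hints w = true) : wv (locGen L) w = 1 := by
  rw [show locGen L = fun k : Fin 7 => wv L (genW.getD k []) from rfl,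
    wv_subst L genW_length w]
  exact okWordK_one hC hQ h

end

private theorem sub_wit (R : List (List Nat))
    (h : (relK.all fun w => R.contains (subst [[0], [2], [4], [6], [8]] w)) = true) :
    ∃ f : GK →* Grp 6 R, ∀ k : Fin 5, f (Grp.gen k) = Grp.gen k.castSucc := by
  refine ⟨Grp.lift (fun k : Fin 5 =>
    wv Grp.gen (([[0], [2], [4], [6], [8]] : List (List Nat)).getD k [])) (subst_rels rfl h), ?_⟩
  intro k
  fin_cases k <;> simp [wv, lv]

/-- a certificate over `z, a, s, w, e` bounds the group on six letters -/
theorem grp6_bound {R : List (List Nat)} {C : Cert} {js : List Cert.Just} (hv : C.Valid js)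
    (hg : C.g = 12) (hiv : allBelow 12 (fun x => Nat.beq (C.iv x) (Nat.xor x 1)) = true)
    (hs : C.subs = [[0], [2], [4], [6], [8]]) (hn : C.n ≤ 81)
    (hr : (C.rels.all fun r => (r.all fun x => Nat.blt x 12) && R.contains r) = true)
    (hk : (relK.all fun w => R.contains (subst [[0], [2], [4], [6], [8]] w)) = true) :
    Finite (Grp 6 R) ∧ Nat.card (Grp 6 R) ≤ 58320 := by
  obtain ⟨hK, hKc⟩ := gk_bound
  obtain ⟨f, hf'⟩ := sub_wit R hk
  let M : CfsgLib.PresCert.Model C (Grp 6 R) :=
    { gen := lv Grp.gen
      gen_inv := by
        intro x hx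
        rw [hg] at hx
        have e : C.iv x = Nat.xor x 1 := Nat.eq_of_beq_eq_true (allBelow_spec hiv x hx)
        refine ⟨?_, by rw [e, lv_xor]⟩
        rw [e, hg]
        interval_cases x <;> decide
      rels_eq := by
        intro r h
        have h' := List.all_eq_true.1 hr r h
        simp only [Bool.and_eq_true, List.all_eq_true, Nat.blt_eq, List.contains_iff_mem] at h'
        exact ⟨hg ▸ h'.1, Grp.wv_rel h'.2⟩
      sub := f.range
      subs_mem := by
        intro r h
        simp only [hs, List.mem_cons, List.not_mem_nil, or_false] at h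
        rcases h with rfl | rfl | rfl | rfl | rfl
        · exact ⟨Grp.gen 0, by rw [hf']; simp [lv]⟩
        · exact ⟨Grp.gen 1, by rw [hf']; simp [lv]⟩
        · exact ⟨Grp.gen 2, by rw [hf']; simp [lv]⟩
        · exact ⟨Grp.gen 3, by rw [hf']; simp [lv]⟩
        · exact ⟨Grp.gen 4, by rw [hf']; simp [lv]⟩
      closure_gen := by
        refine top_le_iff.1 ((Grp.closure_gen (m := 6) (rels := R)).symm.trans_le ?_)
        refine Subgroup.closure_mono ?_
        rintro _ ⟨k, rfl⟩
        refine ⟨2 * k, hg ▸ (show 2 * (k : Nat) < 12 by omega), ?_⟩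
        rw [lv, dif_pos (show 2 * (k : Nat) / 2 < 6 by omega), if_pos (by omega)]
        exact congrArg Grp.gen (Fin.ext (by simp)) }
  obtain ⟨h, hf⟩ := Cert.index_le M hv
  have hfr : Finite f.range := Finite.of_surjective _ f.rangeRestrict_surjective
  have hr' : Nat.card f.range ≤ 720 :=
    (Nat.card_le_card_of_surjective _ f.rangeRestrict_surjective).trans hKc
  have hne : Nat.card f.range ≠ 0 := Nat.card_pos.ne'
  have e : Nat.card M.sub * M.sub.index = Nat.card (Grp 6 R) := Subgroup.card_mul_index _
  refine ⟨Nat.finite_of_card_ne_zero (e ▸ Nat.mul_ne_zero hne hf.index_ne_zero), ?_⟩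
  rw [← e]
  exact Nat.mul_le_mul hr' (h.trans hn)

theorem genW_norm : normWords.map (List.map num) = genW.take 6 := by decide +kernel

/-- A single double coset: the group is the image of the normalizer. -/
theorem collapse_gen {X : Type u} [Group X] {L : Fin 7 → X}
    (gen : Subgroup.closure (Set.range L) = ⊤)
    (hC : ∀ w ∈ coverRels, val L w = 1) {Q : List (List Nat)} {hints : List (Nat × Nat)}
    (hQ : ∀ r ∈ Q, wv L r = 1) {R : List (List Nat)} {S : Setup} {fs : List Fact}
    {ls : List Live} {dead : List Nat} {lv0 : List Level} {E : Level} {V : List (List Nat)}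
    {Vtab : BTree} {Vex : List (List Nat)} {Vls : List Level}
    (hb : Finite (Grp 6 R) ∧ Nat.card (Grp 6 R) ≤ 58320)
    (hg : S.P.g = 2 * 6) (hp : okPair S.P = true) (hRp : okRels S.P R = true)
    (hw : S.P.okWords S.P.g S.P.words = true) (hlv : S.P.okLevels [] lv0 = true)
    (hlen : (lv0.map Level.len).prod = 58320) (hbase : lv0.map Level.base = S.base)
    (hR : (R.all fun w => (w.all fun x => Nat.blt x 12) && okRelK Q hints w) = true)
    (hS : (S.rels.all fun w => (w.all fun x => Nat.blt x 13) && okRelK Q hints w) = true)
    (hedges : S.edges.length = 1) (hlets : S.lets = [(0, [])])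
    (hlinv : (allBelow 12 (fun x => Nat.beq (S.linv.getD x 0) (Nat.xor x 1)) &&
      Nat.beq (S.linv.getD 12 0) 12 && okRelK Q hints [12, 12]) = true)
    (hcomm : (allBelow (S.edge 0).src.length fun k =>
      ((S.edge 0).src.getD k []).all (fun x => Nat.blt x 12) &&
        ((S.edge 0).img.getD k []).all (fun x => Nat.blt x 12) &&
        okRelK Q hints ((S.edge 0).src.getD k [] ++
          (12 :: (subst.ivw' ((S.edge 0).img.getD k []) ++ [13])))) = true)
    (htop : ((List.range 6).all fun k =>
      okWordK Q hints (subst genW (topW.getD k []) ++ [2 * k + 1])) = true)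
    (hsetup : S.okSetup = true) (hfacts : S.okRange fs 0 fs.length = true)
    (hlives : ls.all (S.okLive fs) = true) (hcover : S.okCover fs ls dead = true)
    (hzero : (ls.all fun L => Nat.beq L.i 0) = true)
    (hVp : okPairs V (S.edge 0).src = true) (hE : E.base = (S.edge 0).pt)
    (hEl : S.P.okLevels [] [E] = true)
    (hEfix : (V.all fun w => (w.all fun x => Nat.blt x S.P.g) &&
      Nat.beq (S.P.app w E.base) E.base) = true)
    (hVt : okTabs S.P V Vtab = true)
    (hVw : (PermData.mk S.P.n V.length Vtab Vex).okWords V.length Vex = true)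
    (hVl : (PermData.mk S.P.n V.length Vtab Vex).okLevels [] Vls = true)
    (hVn : 58320 ≤ E.len * (Vls.map Level.len).prod) :
    Subgroup.closure {x | ∃ w ∈ normWords, x = val L w} = ⊤ := by
  obtain ⟨hfin, hc⟩ := hb
  let M : Perms S.P (Grp 6 R) := Perms.ofGrp (m := 6) hg hp hRp
  have hfa := M.faithful hw lv0 hlv (by rw [hlen]; exact hc)
  rw [hlen, hbase] at hfa
  have hinj : Function.Injective M.π :=
    (injective_iff_map_eq_one _).2 fun h hh => hfa.1 h fun i _ => by simp [Perms.act, hh]
  have hRall : ∀ w ∈ R, (∀ x ∈ w, x < 12) ∧ wv (locGen L) w = 1 := fun w hwR => by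
    have h := List.all_eq_true.1 hR w hwR
    simp only [Bool.and_eq_true, List.all_eq_true, Nat.blt_eq] at h
    exact ⟨h.1, okRelK_one hC hQ h.2⟩
  let ψ : Grp 6 R →* X := Grp.lift (fun k : Fin 6 => locGen L k.castSucc) fun w hwR => by
    rw [wv_castSucc (locGen L) w (hRall w hwR).1]
    exact (hRall w hwR).2
  have hval : ∀ w : List Nat, (∀ x ∈ w, x < 12) → ψ (M.val w) = wv (locGen L) w := by
    intro w hw'
    rw [Perms.val, map_wv]
    simp only [ψ, M, Perms.ofGrp, Grp.lift_gen]
    exact wv_castSucc (locGen L) w hw'
  simp only [Bool.and_eq_true, Nat.beq_eq] at hlinv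
  obtain ⟨⟨hl1, hl2⟩, hgg⟩ := hlinv
  have hg2 : lv (locGen L) 12 * lv (locGen L) 12 = 1 := by
    simpa [wv] using okRelK_one hC hQ hgg
  have hlet : S.letE 12 = (0, []) := by simp [Setup.letE, hg, hlets]
  let N : DCE.Model S (Grp 6 R) X :=
    { M := M
      inj := hfa.1
      f := ψ
      T := fun _ => locGen L 6
      comm := by
        intro e he k hk
        rw [hedges] at he
        obtain rfl : e = 0 := by omega
        have h := allBelow_spec hcomm k hk
        simp only [Bool.and_eq_true, List.all_eq_true, Nat.blt_eq] at h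
        obtain ⟨⟨h1, h2⟩, h3⟩ := h
        have e := okRelK_one hC hQ h3
        rw [hval _ h1, hval _ h2]
        rw [wv_append, wv_cons, wv_append, ivw'_eq, wv_ivw,
          show wv (locGen L) [13] = (locGen L 6)⁻¹ by simp [wv, lv],
          show lv (locGen L) 12 = locGen L 6 by simp [lv]] at e
        generalize wv (locGen L) ((S.edge 0).src.getD k []) = a at e ⊢
        generalize wv (locGen L) ((S.edge 0).img.getD k []) = b at e ⊢
        generalize locGen L 6 = g at e ⊢
        calc a * g = a * (g * (b⁻¹ * g⁻¹)) * (g * b) := by group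
          _ = g * b := by rw [e, one_mul]
      gen' := fun x => lv (locGen L) x
      gen'_lt := by
        intro x hx
        rw [hg] at hx
        rw [hval [x] (by simpa using hx)]
        simp [wv]
      gen'_let := by
        intro x hx hx2
        rw [hg] at hx hx2
        rw [hlets] at hx2
        simp only [List.length_cons, List.length_nil] at hx2
        obtain rfl : x = 12 := by omega
        simp [hlet, Perms.val, wv, lv]
      gen'_inv := by
        intro x hx
        rw [hg, hlets] at hx
        simp only [List.length_cons, List.length_nil] at hx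
        by_cases h12 : x = 12
        · subst h12
          rw [hl2]
          exact eq_inv_of_mul_eq_one_left hg2
        · rw [show S.linv.getD x 0 = Nat.xor x 1 from
            Nat.eq_of_beq_eq_true (allBelow_spec hl1 x (by omega))]
          exact lv_xor _ x
      rels_eq := by
        intro r hr
        have h := List.all_eq_true.1 hS r hr
        simp only [Bool.and_eq_true] at h
        exact okRelK_one hC hQ h.2
      gen_top := Grp.closure_gen
      top := by
        rw [← top_le_iff, ← gen, Subgroup.closure_le]
        rintro _ ⟨k, rfl⟩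
        have hmem : ∀ j : Fin 7, locGen L j ∈ Subgroup.closure (Set.range ψ ∪
            {q | ∃ e < S.edges.length, locGen L 6 = q}) := by
          intro j
          refine Subgroup.subset_closure ?_
          rcases Fin.eq_castSucc_or_eq_last j with ⟨i, rfl⟩ | rfl
          · exact Or.inl ⟨Grp.gen i, by simp [ψ]⟩
          · exact Or.inr ⟨0, by rw [hedges]; exact Nat.one_pos, rfl⟩
        have hwv : ∀ w : List Nat, wv (locGen L) w ∈ Subgroup.closure (Set.range ψ ∪
            {q | ∃ e < S.edges.length, locGen L 6 = q}) := by
          intro w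
          refine list_prod_mem fun y hy => ?_
          obtain ⟨x, -, rfl⟩ := List.mem_map.1 hy
          unfold lv
          split_ifs
          · exact hmem _
          · exact inv_mem (hmem _)
          · exact one_mem _
        rcases Fin.eq_castSucc_or_eq_last k with ⟨i, rfl⟩ | rfl
        · have h := List.all_eq_true.1 htop i (List.mem_range.2 i.2)
          have e := okWordK_one hC hQ h
          rw [wv_append, ← wv_subst L genW_length,
            show wv L [2 * (i : Nat) + 1] = (L i.castSucc)⁻¹ by
              simp [wv, lv, Nat.add_mod, show (2 * (i : Nat) + 1) / 2 = i by omega,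
                show (i : Nat) < 7 by omega, Fin.castSucc, Fin.castAdd, Fin.castLE],
            mul_inv_eq_one] at e
          rw [SetLike.mem_coe, ← e]
          exact hwv _
        · have : locGen L 5 = L (Fin.last 6) := by
            simp only [locGen]
            rw [show genW.getD ((5 : Fin 7) : Nat) [] = [12] by decide +kernel]
            simp [wv, lv]
          rw [SetLike.mem_coe, ← this]
          exact hmem 5 }
  have hV : EdgeStab N := by
    refine EdgeStab.of_levels (N := N) (fun _ => E) (fun _ => V)
      (fun e he => ?_) (fun e he => ?_) fun e he => ?_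
    all_goals rw [hedges] at he; obtain rfl : e = 0 := by omega
    · exact hE
    · exact hVp
    · exact M.stab_eq hfa.2 hw hinj Grp.closure_gen E hEl hEfix
        (M.sub_card hVt hVw Vls hVl) hVn
  have hall : ∀ n < fs.length, S.okFact fs n = true := fun n hn =>
    okRange_get hfacts n (Nat.zero_le _) (by omega)
  have hfs := facts_sound N hsetup fs hall
  have hu := cover_univ N hsetup hfs hV (fun L' hL' => List.all_eq_true.1 hlives L' hL') hcover
  rw [eq_top_iff]
  intro x _
  obtain ⟨L', hL', a, b, rfl⟩ := hu x
  have h0 := Nat.eq_of_beq_eq_true (List.all_eq_true.1 hzero L' hL')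
  rw [h0, Model.g, mul_one, ← map_mul]
  have hh : a * b ∈ Subgroup.closure (Set.range (Grp.gen (m := 6) (rels := R))) := by
    rw [Grp.closure_gen]; trivial
  generalize a * b = c at hh
  show ψ c ∈ _
  induction hh using Subgroup.closure_induction with
  | mem y hy =>
    obtain ⟨i, rfl⟩ := hy
    refine Subgroup.subset_closure ?_
    have hi : (i : Nat) < normWords.length := i.2
    refine ⟨normWords[(i : Nat)], List.getElem_mem hi, ?_⟩
    rw [← wv_num]
    simp only [ψ, Grp.lift_gen, locGen]
    congr 1
    have h := congrArg (fun l => l.getD (i : Nat) []) genW_norm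
    simpa [List.getD_eq_getElem?_getD, hi, List.getElem?_take, i.2] using h.symm
  | one => rw [map_one]; exact one_mem _
  | mul y z _ _ hy hz => rw [map_mul]; exact mul_mem hy hz
  | inv y _ hy => rw [map_inv]; exact inv_mem hy

end CfsgLib.McLThree
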