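import Cfsg.Agent.Lib.McLThree.BoundHData
import Cfsg.Agent.Lib.McLThree.BoundHSub
import Cfsg.Agent.Lib.DCE.Stabs

/-!
Kernel checks of the double coset enumeration over the normalizer of `z`.
-/

namespace CfsgLib.McLThree.H

open CfsgLib.PresCert CfsgLib.DCE

theorem pair_ok : okPair P = true := by decide +kernel

theorem words_ok : P.okWords P.g P.words = true := by decide +kernel

theorem levels_ok : P.okLevels [] ls = true := by decide +kernel

theorem setup_ok : S.okSetup = true := by decide +kernel

theorem facts_ok : S.okRange facts 0 facts.length = true := by decide +kernel

theorem lives_ok : lives.all (S.okLive facts) = true := by decide +kernel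

theorem cover_ok : S.okCover facts lives dead = true := by decide +kernel

theorem v0_tabs : okTabs P V0ws V0tab = true := by decide +kernel

theorem v0_words : (PermData.mk P.n V0ws.length V0tab V0ex).okWords V0ws.length V0ex = true := by decide +kernel

theorem v0_levels : (PermData.mk P.n V0ws.length V0tab V0ex).okLevels [] V0ls = true := by decide +kernel

theorem s0_tabs : okTabs P S0ws S0tab = true := by decide +kernel

theorem s0_words : (PermData.mk P.n S0ws.length S0tab S0ex).okWords S0ws.length S0ex = true := by decide +kernel

theorem s0_levels : (PermData.mk P.n S0ws.length S0tab S0ex).okLevels [] S0ls = true := by decide +kernel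

theorem s0_pairs : okPairs S0ws (live0.stabs.map fun f => (Setup.fget facts f).p) = true := by decide +kernel

theorem s1_tabs : okTabs P S1ws S1tab = true := by decide +kernel

theorem s1_words : (PermData.mk P.n S1ws.length S1tab S1ex).okWords S1ws.length S1ex = true := by decide +kernel

theorem s1_levels : (PermData.mk P.n S1ws.length S1tab S1ex).okLevels [] S1ls = true := by decide +kernel

theorem s1_pairs : okPairs S1ws (live1.stabs.map fun f => (Setup.fget facts f).p) = true := by decide +kernel

theorem s2_tabs : okTabs P S2ws S2tab = true := by decide +kernel

theorem s2_words : (PermData.mk P.n S2ws.length S2tab S2ex).okWords S2ws.length S2ex = true := by decide +kernel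

theorem s2_levels : (PermData.mk P.n S2ws.length S2tab S2ex).okLevels [] S2ls = true := by decide +kernel

theorem s2_pairs : okPairs S2ws (live2.stabs.map fun f => (Setup.fget facts f).p) = true := by decide +kernel

theorem s3_tabs : okTabs P S3ws S3tab = true := by decide +kernel

theorem s3_words : (PermData.mk P.n S3ws.length S3tab S3ex).okWords S3ws.length S3ex = true := by decide +kernel

theorem s3_levels : (PermData.mk P.n S3ws.length S3tab S3ex).okLevels [] S3ls = true := by decide +kernel

theorem s3_pairs : okPairs S3ws (live3.stabs.map fun f => (Setup.fget facts f).p) = true := by decide +kernel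

theorem s4_tabs : okTabs P S4ws S4tab = true := by decide +kernel

theorem s4_words : (PermData.mk P.n S4ws.length S4tab S4ex).okWords S4ws.length S4ex = true := by decide +kernel

theorem s4_levels : (PermData.mk P.n S4ws.length S4tab S4ex).okLevels [] S4ls = true := by decide +kernel

theorem s4_pairs : okPairs S4ws (live4.stabs.map fun f => (Setup.fget facts f).p) = true := by decide +kernel

theorem v0_pairs : okPairs V0ws (S.edge 0).src = true := by decide +kernel

theorem e0_levels : P.okLevels [] [E0L0] = true := by decide +kernel

theorem e0_fix : (V0ws.all fun w => (w.all fun x => Nat.blt x P.g) && Nat.beq (P.app w E0L0.base) E0L0.base) = true := by decide +kernel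


end CfsgLib.McLThree.H
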