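import Cfsg.Agent.Lib.McLThree.BoundHPerm

/-!
Double coset enumeration (generated data).
-/

namespace CfsgLib.McLThree.H

open CfsgLib.PresCert CfsgLib.DCE

/-- the base -/
def base : List Nat := [90, 0, 1]

/-- the edge elements -/
def edges : List Edge :=
  [⟨0, [[0],
  [2],
  [10],
  [8],
  [4],
  [4, 4]], [[2],
  [0],
  [11],
  [4],
  [8],
  [4, 4]]⟩]

/-- the setup -/
noncomputable def S : Setup where
  P := P
  base := base
  edges := edges
  lets := [(0, [])]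
  linv := [1, 0, 3, 2, 5, 4, 7, 6, 9, 8, 11, 10, 12]
  rels := [[7, 12, 6, 6, 12, 7],
  [9, 12, 3, 12, 8, 1],
  [4, 12, 7, 12, 5, 12, 7, 12, 9],
  [4, 6, 12, 6, 12, 6, 3, 6, 12, 6, 3, 7, 12, 7, 12, 1],
  [4, 6, 12, 6, 12, 7, 3, 6, 12, 7, 3, 7, 12, 7, 12, 1],
  [6, 12, 6, 2, 6, 12, 6, 9, 12, 6, 12, 2, 7, 12, 7, 2],
  [6, 12, 6, 2, 6, 12, 7, 8, 12, 6, 12, 2, 7, 12, 7, 2],
  [6, 12, 6, 2, 8, 12, 7, 12, 7, 12, 7, 2, 7, 12, 7, 2],
  [6, 12, 6, 2, 12, 6, 12, 6, 12, 6, 9, 2, 7, 12, 7, 2],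
  [6, 12, 6, 2, 12, 6, 12, 9, 6, 12, 7, 2, 7, 12, 7, 2],
  [6, 12, 6, 2, 12, 7, 12, 7, 12, 6, 9, 2, 7, 12, 7, 2],
  [6, 12, 6, 3, 6, 12, 6, 8, 12, 6, 12, 3, 7, 12, 7, 3],
  [6, 12, 6, 3, 6, 12, 6, 9, 12, 7, 12, 3, 7, 12, 7, 3],
  [6, 12, 6, 3, 6, 12, 7, 9, 12, 6, 12, 3, 7, 12, 7, 3],
  [6, 12, 6, 3, 6, 12, 7, 12, 7, 12, 9, 3, 7, 12, 7, 3],
  [6, 12, 6, 3, 8, 6, 12, 6, 12, 7, 12, 3, 7, 12, 7, 3],
  [6, 12, 6, 3, 12, 6, 12, 9, 7, 12, 7, 3, 7, 12, 7, 3],
  [6, 12, 6, 3, 12, 7, 12, 9, 6, 12, 7, 3, 7, 12, 7, 3],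
  [6, 2, 12, 6, 12, 6, 2, 6, 2, 12, 5, 12, 6, 12, 7, 3, 7, 12, 3, 7, 12, 1],
  [12, 6, 3, 12, 6, 2, 6, 12, 6, 12, 8, 12, 7, 12, 7, 2, 7, 12, 3, 7, 12, 9],
  [6, 3, 8, 12, 6, 3, 12, 6, 2, 6, 12, 6, 12, 3, 12, 6, 12, 7, 12, 2, 7, 2, 7, 12, 2, 7, 12, 0],
  [0, 7, 12, 3, 12, 6],
  [8, 12, 7, 12, 4, 12, 7, 12, 5],
  [1, 12, 6, 12, 6, 3, 6, 12, 7, 3, 7, 12, 7, 12, 7, 5],
  [1, 12, 6, 12, 6, 3, 6, 12, 6, 3, 6, 12, 7, 12, 7, 5],
  [0, 6, 12, 6, 12, 6, 2, 6, 12, 6, 2, 7, 12, 7, 12, 5],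
  [3, 6, 12, 6, 8, 12, 7, 12, 3, 6, 12, 7, 3, 7, 12, 7],
  [2, 6, 12, 6, 2, 12, 7, 12, 8, 6, 12, 7, 2, 7, 12, 7],
  [4, 12, 6, 12, 7, 12, 4, 12, 6, 12, 7, 12],
  [12, 6, 12, 6, 12, 5, 12, 7, 12, 7, 12, 5],
  [0, 12, 6, 3, 12, 6, 3, 6, 12, 7, 12, 1, 7, 12, 7, 12, 2, 7, 2, 7, 12, 5],
  [0, 12, 6, 2, 12, 6, 2, 6, 12, 6, 12, 5, 12, 3, 7, 3, 7, 12, 7, 12, 3, 7],
  [0, 12, 6, 2, 12, 6, 2, 6, 2, 12, 6, 12, 6, 12, 8, 12, 7, 12, 3, 7, 3, 7, 12, 2, 7, 12, 3, 7],
  [12, 12]]
  defs := [(0, 0, []),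
    (1, 0, [7]),
    (1, 0, [6, 3, 6]),
    (3, 0, [11, 7]),
    (1, 0, []),
    (3, 0, [7]),
    (2, 0, []),
    (1, 0, [6, 10, 6]),
    (4, 0, [2, 8, 10, 6]),
    (4, 0, [6, 3, 6]),
    (4, 0, [2, 7]),
    (3, 0, []),
    (4, 0, [2, 11, 7]),
    (4, 0, []),
    (4, 0, [3, 11, 7]),
    (4, 0, [3, 10, 7]),
    (4, 0, [4, 11, 7])]

/-- facts -/
def facts0 : List Fact :=
  [⟨0, 0, 0, 0, [0], [0], [], .base⟩,
   ⟨0, 0, 0, 0, [2], [2], [], .base⟩,
   ⟨0, 0, 0, 0, [4], [4], [], .base⟩,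
   ⟨0, 0, 0, 0, [6], [6], [], .base⟩,
   ⟨0, 0, 0, 0, [8], [8], [], .base⟩,
   ⟨0, 0, 0, 0, [10], [10], [], .base⟩,
   ⟨1, 0, 1, 0, [], [], [], .defEdge⟩,
   ⟨0, 1, 1, 0, [9], [5], [], .loop 0 [4, 8] 33 0 1 false [.stab 2 true, .edge 6 [3]] [.edge 6 [4, 3]] []⟩,
   ⟨0, 1, 1, 0, [5], [9], [], .loop 0 [8] 33 0 1 false [.stab 4 true, .edge 6 []] [.edge 6 [3]] []⟩,
   ⟨0, 1, 1, 0, [10], [11], [], .loop 0 [10] 33 0 1 false [.stab 5 true, .edge 6 []] [.edge 6 [2]] []⟩,
   ⟨0, 1, 1, 0, [1], [3], [], .loop 0 [2] 33 0 1 false [.stab 1 true, .edge 6 []] [.edge 6 [1]] []⟩,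
   ⟨0, 1, 1, 0, [3], [1], [], .loop 0 [0] 33 0 1 false [.stab 0 true, .edge 6 []] [.edge 6 [0]] []⟩,
   ⟨1, 1, 2, 0, [], [], [7], .defEdge⟩,
   ⟨0, 2, 2, 0, [2], [2], [], .loop 1 [1, 6] 33 0 1 false [.stab 10 true, .edge 12 [5]] [.edge 12 [0, 0, 5]] []⟩,
   ⟨0, 2, 2, 0, [9], [8], [], .loop 1 [3, 4, 7] 33 0 1 false [.stab 11 true, .edge 12 [4, 5]] [.stab 8 false, .stab 11 false, .edge 12 []] []⟩,
   ⟨0, 2, 2, 0, [4, 9], [4], [], .loop 1 [8, 6] 33 0 1 false [.stab 7 true, .edge 12 []] [.edge 12 [3, 4]] []⟩,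
   ⟨1, 2, 2, 0, [0, 7, 3], [2, 6, 2, 8, 7], [6, 3, 6], .loop 0 [4, 6, 2, 10, 6, 2, 6, 8] 4 0 8 false [.lett 4, .lett 6, .stab 3 false, .stab 1 false, .stab 2 false, .stab 5 false, .stab 3 false, .edge 6 [1, 3], .lett 6, .edge 12 [0, 4], .lett 7, .lett 3, .lett 6, .stab 14 false, .stab 13 false, .stab 13 false] [.lett 0, .stab 2 false, .stab 5 false, .stab 5 false, .stab 1 false, .stab 3 false, .stab 1 false, .stab 3 false, .edge 6 [0, 3, 4, 1, 2, 4], .lett 6, .stab 11 false, .stab 8 false, .stab 7 false, .stab 9 false, .edge 12 [0, 3, 4], .lett 6, .lett 2, .lett 6] [5]⟩,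
   ⟨1, 1, 3, 0, [], [], [6, 3, 6], .defEdge⟩,
   ⟨0, 3, 3, 0, [2], [2], [], .loop 1 [1, 6, 3, 6] 33 0 1 false [.stab 10 true, .edge 17 []] [.edge 17 [0, 0]] []⟩,
   ⟨0, 3, 3, 0, [4, 9], [4, 9], [], .loop 1 [1, 6, 2, 6, 10, 8, 11] 33 0 1 false [.stab 8 true, .edge 17 [2, 2, 4, 3, 0]] [.stab 7 false, .edge 17 [0, 2, 4, 2, 4, 5]] []⟩,
   ⟨1, 2, 3, 0, [6, 3, 7], [6, 3, 9], [7], .loop 0 [1, 2, 4, 8, 11, 6, 3, 8, 7] 6 2 8 false [.lett 6, .lett 2, .lett 6, .edge 6 [1, 2, 3, 0, 2, 3, 5], .lett 7, .lett 8, .stab 8 false, .stab 11 false, .stab 7 false, .stab 9 false, .edge 12 [0, 0], .lett 6, .stab 13 false] [.stab 2 false, .stab 4 false, .stab 5 false, .stab 1 false, .stab 3 false, .stab 1 false, .stab 3 false, .edge 6 [0, 3, 4], .lett 7, .lett 3, .lett 6, .stab 11 false, .edge 17 [3, 4], .lett 6, .lett 3] [5]⟩,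
   ⟨0, 3, 3, 0, [2, 6, 2, 6, 8], [2, 6, 3, 6, 9], [], .loop 0 [3, 11, 6, 10, 8, 11] 20 13 10 false [.lett 3, .stab 5 false, .stab 1 false, .stab 3 false, .edge 6 [2, 3, 4, 1, 2, 4], .lett 6, .stab 7 false, .stab 9 false, .stab 9 false, .edge 12 [0, 3], .lett 7, .stab 13 false, .stab 13 false, .edge 20 [4, 5], .lett 2, .lett 7, .lett 2, .lett 7] [.stab 5 false, .stab 1 false, .stab 3 false, .edge 6 [2, 2, 3, 2, 5], .lett 7, .stab 7 false, .stab 9 false, .stab 9 false, .edge 12 [3, 5], .lett 7, .lett 3, .lett 7, .stab 14 false, .edge 16 [3, 4], .lett 2, .lett 7, .edge 16 [1, 1, 5], .lett 9, .lett 2, .lett 7, .lett 1, .stab 13 false, .edge 16 [1, 5], .lett 6, .lett 3, .stab 13 false, .stab 13 false, .edge 20 [3, 0]] []⟩,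
   ⟨1, 3, 4, 0, [], [], [11, 7], .defEdge⟩,
   ⟨1, 4, 4, 0, [8, 10, 6, 2, 11, 7, 2], [1, 2, 4, 10, 8, 7, 2], [2, 10, 7], .loop 1 [6, 3, 10, 8, 10, 6, 3, 11] 23 5 8 false [.lett 3, .lett 6, .stab 11 false, .stab 9 false, .stab 7 false, .edge 17 [0, 1, 3, 2, 2, 3], .lett 7, .lett 3, .lett 7, .stab 21 false, .edge 22 [0, 1, 1, 5, 2, 3], .lett 7] [.lett 7, .stab 9 false, .stab 8 false, .stab 11 false, .stab 9 false, .edge 17 [0, 1, 2, 2, 3, 2], .lett 7, .stab 21 false, .stab 18 false, .stab 19 false, .stab 21 false, .stab 18 false, .edge 22 [0, 1, 3, 5, 2], .lett 0, .lett 4, .lett 6] [0, 0, 4]⟩,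
   ⟨1, 4, 4, 0, [8, 6, 10, 6, 2, 10, 5], [1, 4, 10, 8, 6, 2], [10, 7], .loop 1 [1, 6, 2, 11, 6, 2, 10, 8, 6] 17 13 7 false [.stab 7 false, .stab 9 false, .stab 8 false, .stab 11 false, .edge 17 [1, 3, 0, 2, 3, 2], .lett 7, .lett 3, .lett 6, .stab 19 false, .stab 21 false, .edge 22 [5, 2, 4, 1], .lett 6, .lett 3] [.lett 6, .lett 2, .lett 6, .stab 11 false, .stab 9 false, .stab 9 false, .edge 17 [1, 3, 2], .lett 7, .lett 8, .stab 21 false, .stab 19 false, .stab 18 false, .edge 22 [1, 3, 2, 2], .lett 6] [1, 4, 3, 0]⟩,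
   ⟨1, 4, 4, 0, [1, 3, 6, 3, 6, 2, 11, 9], [1, 3, 4, 6, 3], [3, 8, 11, 7], .loop 1 [2, 6, 2, 6, 2, 10, 9, 10] 27 11 10 false [.lett 7, .lett 2, .lett 7, .stab 9 false, .stab 9 false, .stab 8 false, .stab 11 false, .edge 17 [0, 1, 2, 3], .lett 7, .lett 2, .lett 6, .stab 18 false, .stab 21 false, .stab 18 false, .edge 22 [4, 1, 2, 3, 0, 4], .lett 6, .lett 2] [.stab 11 false, .stab 7 false, .edge 17 [1, 2, 4, 2, 4], .lett 7, .lett 9, .stab 19 false, .stab 19 false, .stab 19 false, .edge 22 [0, 0, 5], .lett 6] [0, 1, 3, 5]⟩,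
   ⟨1, 4, 4, 0, [0, 3, 4, 8, 10, 6, 2, 8, 6], [0, 4, 10, 6, 3, 6, 8], [3, 6, 3, 6], .loop 1 [0, 2, 4, 6, 2, 10, 6, 2, 10] 26 7 7 false [.stab 11 false, .stab 7 false, .stab 9 false, .stab 9 false, .stab 7 false, .edge 17 [5, 2, 4, 1], .lett 3, .lett 6, .stab 19 false, .stab 19 false, .stab 18 false, .edge 22 [3, 0, 4], .lett 7, .lett 3, .lett 7] [.lett 6, .stab 9 false, .stab 8 false, .stab 11 false, .edge 17 [0, 4, 1, 2, 4, 5], .lett 9, .lett 7, .stab 21 false, .stab 21 false, .stab 21 false, .edge 22 [1, 3, 2, 2, 3], .lett 7, .lett 2, .lett 6] [4, 3]⟩,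
   ⟨1, 4, 4, 0, [0, 3, 6, 3, 6, 10, 9], [1, 2, 4, 7, 3], [2, 8, 11, 7], .loop 1 [6, 2, 10, 8, 6, 3, 11, 7] 15 14 10 false [.lett 7, .lett 3, .lett 6, .stab 11 false, .stab 7 false, .stab 9 false, .stab 9 false, .stab 7 false, .edge 17 [1, 4, 3, 2], .lett 6, .lett 3, .lett 8, .lett 6, .stab 21 false, .stab 21 false, .edge 22 [0, 4, 1, 2, 4, 5], .lett 6] [.stab 7 false, .stab 9 false, .stab 8 false, .stab 11 false, .edge 17 [0, 1, 2, 4], .lett 6, .lett 2, .stab 18 false, .stab 18 false, .edge 22 [0, 3, 4, 1], .lett 6] [0, 4, 3]⟩,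
   ⟨1, 4, 4, 0, [0, 4, 6, 2, 6, 3, 11, 4], [0, 2, 6, 2, 6, 3, 11, 9, 10], [6, 2, 11, 6, 3, 6], .loop 1 [10, 6, 3, 6, 2, 8, 10, 7] 18 10 10 false [.lett 5, .stab 7 false, .stab 8 false, .stab 11 false, .stab 9 false, .stab 7 false, .edge 17 [0, 1, 5, 2, 3, 2], .lett 6, .stab 19 false, .stab 19 false, .stab 19 false, .stab 18 false, .edge 22 [4, 3, 0], .lett 7, .lett 3, .lett 7, .edge 26 [3, 4], .lett 3, .lett 7] [.stab 7 false, .stab 8 false, .stab 11 false, .stab 9 false, .stab 7 false, .edge 17 [0, 1, 4, 3, 2], .lett 3, .lett 7, .lett 3, .lett 7, .stab 18 false, .stab 21 false, .stab 21 false, .edge 22 [0, 3, 2, 4, 1, 2], .lett 7, .edge 27 [0, 4], .lett 3, .lett 7, .lett 0] [0, 3, 2, 3, 5]⟩,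
   ⟨1, 4, 4, 0, [1, 2, 4, 11, 6, 3, 6, 3, 9], [1, 10, 4, 6, 3, 6], [3, 7], .loop 1 [3, 6, 2, 10, 6, 2, 11, 8] 9 3 6 false [.lett 2, .stab 9 false, .stab 8 false, .stab 11 false, .stab 9 false, .edge 17 [1, 3, 0, 4, 2], .lett 6, .stab 18 false, .stab 19 false, .edge 22 [0, 0, 5], .lett 9, .lett 6] [.lett 7, .stab 11 false, .stab 7 false, .stab 9 false, .stab 9 false, .stab 7 false, .edge 17 [3, 0, 2, 4, 1, 5], .lett 7, .lett 3, .lett 6, .stab 18 false, .stab 21 false, .stab 21 false, .stab 19 false, .edge 22 [5, 2, 4, 1], .lett 6, .lett 3, .lett 6] [3, 4]⟩,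
   ⟨0, 4, 4, 0, [3, 10, 6, 3, 6, 8, 10, 9], [0, 3, 10, 6, 10, 5], [], .loop 3 [3, 8, 10, 7, 2, 11] 22 4 8 false [.lett 4, .stab 21 false, .stab 21 false, .stab 18 false, .stab 19 false, .edge 22 [0, 0, 4, 1, 2, 5], .lett 7, .edge 25 [0, 5], .lett 5, .lett 8, .edge 29 [3, 0, 5], .lett 7] [.stab 21 false, .stab 21 false, .stab 18 false, .stab 19 false, .edge 22 [0, 0, 4, 1, 2, 4]] []⟩,
   ⟨1, 2, 4, 0, [11, 6, 3, 6, 10, 7, 11], [10, 6, 2, 11, 6, 2, 7, 3], [11, 7], .loop 1 [6, 3, 10, 6, 11, 5, 11] 12 6 4 false [.lett 6, .lett 9, .stab 7 false, .stab 9 false, .stab 9 false, .edge 12 [1, 5, 2], .lett 7, .stab 14 false, .stab 14 false] [.stab 7 false, .stab 8 false, .stab 9 false, .edge 17 [3, 0, 5, 2], .lett 7, .lett 2, .lett 7, .stab 18 false, .stab 18 false, .stab 21 false, .edge 22 [2, 2, 4, 1, 3, 0], .lett 7, .lett 2, .lett 6, .stab 30 false, .edge 28 [3, 4], .lett 6, .lett 2] [0]⟩,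
   ⟨1, 4, 4, 0, [1, 2, 6, 11, 4, 6, 3], [6, 11, 4, 11, 7, 2], [11, 7], .loop 2 [1, 3, 4, 10, 6, 8, 11, 8] 5 2 6 false [.lett 6, .lett 2, .lett 6, .stab 14 false, .stab 13 false, .stab 13 false, .edge 31 [5, 2, 3, 0], .lett 6, .lett 9, .stab 30 false, .stab 30 false, .stab 30 false, .stab 30 false] [.stab 13 false, .stab 15 false, .stab 14 false, .edge 31 [3, 0, 2, 2, 3], .lett 7, .lett 3, .lett 6, .stab 30 false, .stab 30 false, .edge 27 [3, 0, 2, 4], .lett 6, .lett 3, .stab 30 false, .edge 27 [0, 4, 2], .lett 7] [0, 3, 2, 2, 4]⟩,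
   ⟨1, 4, 4, 0, [4, 6, 3, 6, 11, 7, 11], [1, 2, 6, 3, 6, 2, 11, 9], [6, 3, 10, 6], .loop 1 [0, 11, 6, 3, 10, 6, 3, 7] 16 6 7 false [.stab 11 false, .stab 7 false, .edge 17 [0, 1, 2, 3, 5, 2], .lett 9, .lett 7, .stab 21 false, .stab 21 false, .stab 21 false, .edge 22 [0, 1, 2, 2, 4, 2], .lett 7, .lett 3, .lett 7, .stab 30 false] [.lett 7, .stab 8 false, .stab 9 false, .stab 9 false, .stab 7 false, .edge 17 [0, 1, 2, 4, 3], .lett 2, .lett 7, .edge 22 [0, 3, 5], .lett 7, .lett 2, .lett 6] [4, 1, 2, 2, 3, 0]⟩,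
   ⟨1, 2, 4, 0, [3, 6, 2, 10, 4, 7, 10], [2, 6, 3, 11, 4, 7, 10], [11, 6, 3, 6], .loop 2 [0, 2, 8, 11, 4, 6, 2, 7] 7 3 2 false [.lett 2, .lett 8, .stab 14 false, .stab 13 false, .stab 13 false] [.lett 7, .stab 14 false, .stab 13 false, .stab 13 false, .edge 31 [0, 0, 4, 1, 5], .lett 7, .lett 3, .lett 6, .stab 30 false, .stab 30 false, .edge 24 [0, 3], .lett 6, .lett 3, .lett 6, .stab 30 false, .edge 33 [1, 2, 2, 3, 2, 5], .lett 6, .stab 30 false, .stab 30 false, .stab 30 false, .stab 30 false, .edge 29 [0, 1, 3, 2, 4, 5], .lett 6] [3, 0, 4, 1]⟩,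
   ⟨1, 2, 4, 0, [11, 6, 3, 10, 7, 3], [6, 11, 6, 2, 7, 3], [11, 6, 2, 6], .loop 2 [3, 6, 2, 6, 3, 10, 6, 8] 24 3 0 false [.stab 14 false, .stab 14 false, .stab 14 false] [.lett 7, .stab 14 false, .stab 13 false, .edge 16 [2, 2, 4, 1, 2, 5], .lett 0, .lett 4, .lett 6, .stab 15 false, .stab 13 false, .stab 15 false, .stab 14 false, .edge 31 [3, 0, 2, 4, 1, 5], .lett 6, .edge 29 [1, 1, 3, 0, 2, 2], .lett 7, .lett 2, .lett 7, .stab 30 false, .stab 30 false, .stab 30 false, .edge 26 [0, 2, 4, 1, 2, 4], .lett 7, .lett 2, .lett 7] [1, 2, 2, 4, 2]⟩,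
   ⟨1, 4, 4, 0, [1, 8, 11, 6, 2, 7, 3, 11], [1, 4, 11, 4, 7, 3], [3, 8, 10, 6], .loop 2 [8, 6, 2, 11, 6, 10, 8] 13 2 11 false [.lett 6, .lett 3, .lett 6, .stab 15 false, .stab 14 false, .stab 14 false, .edge 35 [3, 4, 2, 5], .lett 7, .lett 9, .stab 30 false, .stab 30 false, .stab 30 false, .edge 33 [1, 4, 3, 0, 2, 3], .lett 6, .stab 30 false, .stab 30 false, .edge 33 [0, 1, 1, 2, 2], .lett 3, .lett 7, .stab 30 false, .stab 30 false, .stab 30 false, .stab 30 false] [.stab 15 false, .stab 14 false, .edge 35 [0, 4, 2, 5], .lett 7, .lett 2, .lett 6] [0, 2, 4, 1, 2, 5]⟩,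
   ⟨1, 1, 5, 0, [], [], [], .defEdge⟩,
   ⟨2, 5, 0, 0, [6, 2, 6, 2, 10], [3, 11, 6, 3, 6], [], .loop 0 [0, 3, 11, 6, 3, 6, 8, 11, 5] 21 5 6 false [.lett 6, .lett 0, .lett 7, .stab 5 false, .stab 1 false, .stab 3 false, .stab 1 false, .stab 3 false, .edge 6 [2, 4, 3, 2], .lett 3, .edge 37 [1, 3, 2, 4, 2]] [] []⟩,
   ⟨1, 3, 6, 0, [], [], [7], .defEdge⟩]

/-- facts -/
def facts1 : List Fact :=
  [⟨2, 6, 2, 0, [6, 2, 6, 3], [0, 2, 4, 6], [], .loop 0 [1, 6, 3, 10, 6, 3, 6, 8] 11 1 9 false [.stab 3 false, .stab 5 false, .stab 1 false, .stab 3 false, .stab 1 false, .stab 3 false, .edge 6 [3, 0, 5], .lett 6, .lett 3, .lett 6, .stab 8 false, .stab 11 false, .edge 17 [5], .lett 6, .lett 8, .edge 39 [3], .lett 6] [.lett 7, .lett 2, .lett 6, .stab 1 false, .stab 2 false, .stab 5 false, .stab 3 false, .stab 1 false, .stab 3 false, .edge 6 [1, 3, 0, 2], .lett 6, .lett 2, .stab 8 false, .stab 11 false, .stab 9 false, .edge 12 [0, 1, 5]] []⟩,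
   ⟨1, 2, 7, 0, [], [], [], .defEdge⟩,
   ⟨2, 7, 1, 0, [2, 4, 8, 10], [0, 10, 6, 9], [], .loop 0 [1, 10, 6, 10, 8, 7] 24 14 15 false [.lett 7, .lett 5, .lett 1, .stab 5 false, .stab 5 false, .stab 3 false, .edge 6 [2, 2, 4, 3], .lett 6, .stab 9 false, .stab 9 false, .edge 12 [3], .lett 6, .lett 3, .lett 6, .stab 14 false, .edge 16 [4, 3], .lett 6, .lett 3, .lett 6, .edge 41 [1, 5], .lett 7] [.stab 3 false, .stab 5 false, .stab 3 false, .edge 6 [2, 2, 3, 4]] []⟩,
   ⟨1, 1, 8, 0, [], [], [6, 10, 6], .defEdge⟩,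
   ⟨1, 4, 9, 0, [], [], [2, 8, 10, 6], .defEdge⟩,
   ⟨1, 4, 9, 0, [1, 2, 6, 2, 11, 4, 6, 2, 7, 10], [0, 3, 6, 3, 6, 8, 11, 8, 7], [10, 6, 3, 6], .loop 2 [2, 6, 2, 6, 3, 11, 8, 6, 2] 2 6 4 false [.lett 7, .stab 14 false, .stab 15 false, .edge 34 [0, 4, 1, 2, 4, 3], .lett 9, .lett 4, .stab 30 false, .stab 30 false, .stab 30 false] [.stab 14 false, .stab 13 false, .edge 35 [4, 1, 2, 4, 2], .lett 4, .edge 44 [1, 2, 2, 3, 0, 2], .lett 6] [0, 1, 1, 3, 2, 2]⟩,
   ⟨2, 9, 2, 0, [2, 6, 2, 11, 6, 3, 11, 9], [2, 4, 6, 2, 11, 7, 3], [], .loop 2 [8, 6, 3, 11, 6, 3, 8, 7, 10] 0 5 6 false [.lett 7, .lett 7, .stab 14 false, .stab 13 false, .stab 13 false, .edge 35 [0, 1, 3, 4, 2], .lett 6, .lett 6, .edge 44 [4, 2, 4]] [] []⟩,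
   ⟨1, 3, 3, 0, [6, 3, 6, 2, 11, 5, 10], [2, 10, 8, 6, 11, 6, 10], [11, 6, 2, 6], .loop 2 [1, 2, 6, 3, 9, 10] 3 1 11 false [.lett 6, .stab 15 false, .stab 13 false, .stab 15 false, .edge 34 [0, 2, 2, 4, 3], .lett 6, .stab 30 false, .stab 30 false, .stab 30 false, .stab 30 false, .edge 45 [1, 4, 2, 2, 3], .coin 46, .lett 6, .lett 3, .lett 6, .edge 20 [2, 3, 4, 1], .lett 6, .lett 3, .lett 7, .stab 21 false] [.lett 5, .lett 0, .stab 13 false, .stab 13 false, .edge 20 [0, 3, 2, 4, 1, 5], .lett 6] [3, 0, 2, 4, 1, 5]⟩,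
   ⟨2, 8, 1, 0, [6, 8, 10, 4, 6, 11, 8], [6, 10, 4, 6, 10, 8], [], .loop 1 [0, 4, 11, 6, 11, 8, 11] 25 1 3 false [.lett 6, .stab 8 false, .stab 7 false, .edge 43 [2, 2, 4, 2, 5], .lett 6] [.lett 1, .lett 4, .stab 8 false, .stab 9 false, .edge 12 [3, 0, 4, 2, 5], .lett 6, .stab 13 false, .stab 15 false, .edge 31 [], .lett 6, .lett 3, .lett 7, .stab 30 false, .stab 30 false, .edge 45 [0, 0, 1, 4, 5], .coin 46, .lett 7, .lett 3, .lett 7, .edge 41 [2, 3, 4, 1, 2], .coin 42] []⟩,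
   ⟨1, 2, 2, 0, [4, 11], [6, 8, 11, 8, 6], [6, 10, 6], .loop 2 [1, 6, 8, 11, 6, 10, 4] 8 13 0 false [.stab 15 false, .stab 14 false, .stab 14 false] [.lett 6, .lett 3, .lett 8, .lett 7, .stab 14 false, .stab 14 false, .stab 14 false, .edge 34 [3, 0, 2, 2, 4], .lett 7, .stab 30 false, .stab 30 false, .edge 26 [1, 2, 2, 3, 0], .lett 7, .edge 26 [3, 4, 1, 2], .lett 3, .lett 7, .stab 30 false, .edge 44 [0, 2, 3, 4, 2], .coin 46, .lett 7, .lett 3, .lett 6] [0, 5, 2, 4]⟩,
   ⟨1, 3, 3, 0, [2, 11, 4, 6, 2, 6], [0, 8, 11, 6, 3, 6, 3, 10], [6, 10, 6], .loop 2 [0, 2, 4, 6, 2, 10, 5, 10] 31 11 6 false [.lett 5, .stab 13 false, .stab 13 false, .edge 20 [0, 2, 4, 1, 2, 5], .lett 3, .lett 7, .lett 3, .lett 7, .stab 18 false, .stab 21 false, .stab 21 false, .stab 19 false] [.stab 13 false, .stab 13 false, .edge 20 [0, 2, 4, 1, 2, 4, 5], .lett 7, .stab 21 false, .stab 19 false, .stab 18 false, .stab 19 false, .edge 47 [2, 2, 4], .lett 7, .lett 3,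 .lett 7, .stab 18 false, .stab 21 false, .stab 18 false, .edge 22 [3, 4, 1, 2], .lett 3, .lett 7, .stab 30 false, .stab 30 false, .edge 45 [2, 3, 0, 5], .coin 46, .lett 1, .lett 6, .lett 2, .stab 13 false, .edge 20 [4, 1, 3, 0, 2, 3, 4], .lett 6] [0, 1, 1, 2, 2, 3]⟩,
   ⟨1, 4, 10, 0, [], [], [6, 3, 6], .defEdge⟩,
   ⟨2, 10, 4, 0, [6, 3, 10, 4, 6, 3, 11, 8], [6, 3, 11, 6, 3, 6, 2], [], .loop 2 [2, 6, 3, 6, 3, 11, 8, 7, 3] 10 2 11 false [.lett 6, .lett 2, .stab 15 false, .stab 14 false, .edge 35 [0, 2, 2, 3, 2, 5], .lett 7, .stab 30 false, .stab 30 false, .stab 30 false, .edge 29 [0, 1, 4, 2], .lett 7, .stab 30 false, .stab 30 false, .stab 30 false, .edge 51 [5, 2, 3], .lett 6, .lett 9, .lett 2, .lett 7] [.stab 13 false, .stab 15 false, .edge 35 [1, 2, 3, 0, 2, 3, 5], .lett 7, .lett 3, .lett 6, .stab 30 false, .stab 30 false, .edge 29 [0, 0, 1, 5, 2, 4]] []⟩,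
   ⟨1, 4, 11, 0, [], [], [2, 7], .defEdge⟩,
   ⟨2, 11, 4, 0, [0, 8, 11, 6, 2, 6, 2], [1, 2, 8, 11, 6, 2, 9], [], .loop 2 [1, 8, 10, 6, 3, 11, 5] 32 21 24 false [.lett 7, .stab 15 false, .stab 14 false, .stab 14 false, .edge 35 [3, 0, 2, 2, 3], .lett 2, .lett 7, .stab 30 false, .stab 30 false, .stab 30 false, .edge 45 [0, 0, 1, 4, 2, 5], .coin 46, .lett 3, .lett 7, .lett 0, .stab 13 false, .stab 13 false, .edge 16 [4, 1, 3, 0, 2, 4], .lett 6, .lett 2, .stab 15 false, .stab 14 false, .stab 14 false, .edge 34 [3, 4, 1, 2, 4, 3], .lett 6, .lett 2, .lett 6, .lett 2, .stab 30 false, .edge 45 [0, 2, 2], .coin 46, .lett 6, .stab 13 false, .stab 13 false, .edge 34 [4, 1, 5, 2], .lett 6, .edge 27 [0, 1, 2, 4, 5], .lett 8, .edge 53 [4, 2, 5], .lett 7] [.lett 2, .lett 6, .lett 2, .stab 14 false, .stab 14 false, .edge 34 [4, 1, 2, 2, 3]] []⟩,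
   ⟨1, 3, 12, 0, [], [], [], .defEdge⟩,
   ⟨2, 12, 1, 0, [1, 10], [2, 10, 6, 3, 6], [], .loop 1 [2, 10, 6, 3, 6, 11] 1 0 6 false [.lett 9, .stab 11 false, .stab 9 false, .stab 9 false, .edge 17 [5, 2, 3], .lett 3, .edge 55 [1, 2, 4, 5], .lett 8, .lett 1] [] []⟩,
   ⟨1, 4, 13, 0, [], [], [2, 11, 7], .defEdge⟩,
   ⟨2, 13, 4, 0, [0, 11, 6, 2, 6, 3, 10, 6, 10], [1, 2, 11, 8, 11, 7, 2], [], .loop 2 [10, 6, 2, 6, 3, 10, 7] 14 11 14 false [.lett 3, .lett 7, .stab 13 false, .stab 15 false, .stab 14 false, .stab 14 false, .edge 35 [4, 1, 3, 0, 2, 4], .lett 7, .lett 3, .lett 6, .edge 33 [0, 2, 4, 1, 5], .lett 6, .lett 3, .lett 6, .stab 30 false, .stab 30 false, .stab 30 false, .stab 30 false, .edge 32 [0, 1, 1, 5], .lett 7, .edge 57 [2, 4, 2, 5], .lett 7] [.lett 8, .stab 15 false, .stab 13 false, .edge 34 [2, 4, 1, 2, 4]] []⟩,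
   ⟨1, 4, 14, 0, [], [], [], .defEdge⟩,
   ⟨2, 14, 3, 0, [4, 9], [4, 8, 11, 7], [], .loop 1 [0, 2, 4, 10, 6, 2, 11, 6, 2] 30 18 19 false [.lett 2, .lett 7, .stab 7 false, .stab 9 false, .edge 17 [1, 1, 2, 3, 0, 5], .lett 5, .lett 0, .edge 55 [1, 1, 5, 2], .coin 56, .lett 6, .lett 3, .stab 11 false, .edge 12 [1, 3, 2, 3], .lett 6, .lett 3, .lett 6, .stab 14 false, .stab 15 false, .edge 35 [0, 4], .lett 7, .stab 30 false, .stab 30 false, .edge 24 [2, 3, 4, 1], .lett 1, .lett 7, .stab 30 false, .edge 59 [4, 1], .lett 7] [.lett 6, .lett 3, .stab 8 false, .stab 11 false, .stab 9 false, .edge 17 [1, 2, 3, 2, 3, 5]] []⟩,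
   ⟨1, 4, 15, 0, [], [], [3, 11, 7], .defEdge⟩,
   ⟨2, 15, 4, 0, [6, 8, 10, 9], [0, 3, 11, 8, 11, 6, 10, 4], [], .loop 4 [3, 10, 4, 10, 6] 28 1 12 false [.stab 30 false, .stab 30 false, .stab 30 false, .stab 30 false, .edge 32 [0, 1, 5, 2, 4, 2], .lett 6, .stab 30 false, .stab 30 false, .edge 33 [0, 2, 3, 2], .lett 7, .stab 30 false, .edge 28 [1, 3, 5, 2], .lett 4, .stab 30 false, .stab 30 false, .stab 30 false, .edge 28 [3, 0, 2, 2, 4], .lett 6, .stab 30 false, .stab 30 false, .stab 30 false, .edge 57 [0, 0, 5, 2, 4, 1], .coin 58, .lett 7, .stab 30 false, .stab 30 false, .stab 30 false, .edge 61 [1, 2, 2, 4, 2], .lett 4] [] []⟩,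
   ⟨1, 4, 16, 0, [], [], [3, 10, 7], .defEdge⟩,
   ⟨2, 16, 2, 0, [1, 2, 11, 6, 3, 7, 11], [1, 3, 11, 6, 2], [], .loop 2 [10, 4, 6, 10, 6, 2, 8] 19 4 21 false [.lett 6, .lett 2, .lett 6, .stab 13 false, .edge 35 [3, 2, 2, 4], .lett 6, .stab 30 false, .stab 30 false, .stab 30 false, .edge 45 [1, 3, 0, 2, 4, 2], .coin 46, .lett 8, .stab 14 false, .stab 13 false, .stab 15 false, .edge 34 [2, 2, 4, 2, 5], .lett 7, .edge 44 [0, 1, 4, 5, 2], .coin 46, .lett 7, .lett 2, .lett 7, .stab 15 false, .stab 14 false, .stab 14 false, .edge 49 [3, 0, 4, 1, 2, 4, 3], .lett 3, .lett 7, .stab 13 false, .stab 13 false, .edge 31 [3, 0, 2, 3, 5], .lett 9, .stab 30 false, .stab 30 false, .edge 63 [2, 3, 0, 2, 2], .lett 6, .lett 3] [.stab 14 false, .stab 15 false, .edge 49 [1, 2, 3, 2, 2]] []⟩,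
   ⟨1, 4, 17, 0, [], [], [4, 11, 7], .defEdge⟩,
   ⟨2, 17, 4, 0, [3, 6, 11, 6, 9, 10], [6, 10, 4, 10, 6, 2], [], .loop 4 [0, 3, 11, 6, 3, 8, 6, 3] 29 4 10 false [.stab 30 false, .stab 30 false, .edge 63 [0, 1, 4, 3, 2], .coin 64, .lett 5, .stab 13 false, .edge 31 [3, 4, 1, 2, 4], .lett 7, .stab 30 false, .stab 30 false, .stab 30 false, .stab 30 false, .edge 23 [2, 4, 3, 0, 2, 3], .lett 7, .stab 30 false, .stab 30 false, .stab 30 false, .edge 36 [3, 0, 2, 4, 1, 2], .lett 5, .edge 65 [0, 4, 1, 3, 2], .lett 6] [.lett 7, .stab 30 false, .stab 30 false, .stab 30 false, .stab 30 false, .edge 23 [3, 0, 2, 2]] []⟩]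

/-- facts -/
def facts : List Fact := facts0 ++ facts1

noncomputable def cls0_0 : BTree := (.node (.node (.node (.node (.leaf 0xe40078015000000078002401500000008c004800900000007400240050000000c80020011000000044001c0110000000c4002000d000000040001c00d0000000c0002000900000003c001c00900000009c005001500000003800180150000000880048005000000034001800500000005800300150000000240010011000000070001400d000000020001000d00000006c004001500000001c00100090000000840028015000000030000c01500000002c000c00d000000048001c0150000000180008015000000014000800d000000028001001500000000c000401500000001000080050000000080004005000000004000000d000000000000001b) (.leaf 0x0)) (.node (.leaf 0x0) (.leaf 0x0))) (.node (.node (.leaf 0x158011400900000012c00f8005000000150011001100000013c011800900000014000ec00500000012400e0015000000154012801500000011800e0009000000134010800900000014800c000d00000012000e001100000010c00c800500000011000d400500000010400b801100000016000bc0090000000fc00b800900000016400f000d000000144008c00500000011c00e000d0000000e8008800500000010000b800d0000000f8007401500000013801080150000000e000700150000000d000800110000000d800a4005)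 (.leaf 0x0)) (.node (.leaf 0x0) (.leaf 0x0)))) (.node (.node (.node (.leaf 0x13000f80150000000cc008000d00000015c013000900000012800640050000000ec00880090000000b4006001500000011400e00050000000ac00600050000000b800680090000000a400580110000000a0005800d00000009800500110000000b00060011000000094005000900000014c00c00150000000f4004c01500000010800b801500000009000480150000000d40098011000000068004000d0000000dc00a400d00000006000380110000000640040009000000054003001100000005c0038009000000050003000d0000000a8005801500000008000280110000000f0002c00d00000007c002800d0000000bc006801500000004c0030005) (.leaf 0x0)) (.node (.leaf 0x0) (.leaf 0x0))) (.node (.node (.leaf 0x0) (.leaf 0x0)) (.node (.leaf 0x0) (.leaf 0x0)))))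

/-- a living orbit -/
noncomputable def live0 : Live := ⟨0, [0, 1, 2, 3, 4, 5], [cls0_0]⟩

noncomputable def cls1_0 : BTree := (.node (.node (.node (.node (.leaf 0x9800780250000000400024025000000044002402d000000058004c0210000000e4009402d00000014c00dc0210000000a000d40210000000ac00cc01d000000078003402d0000000f0003002d000000050005002500000001c0018025000000020001802d00000005c004c02d00000002c001001d00000007c001401d00000006000ac01d00000000c00000af00000003000100210000000800014021000000084001402d000000038001002d000000018001801d0000000e8005c02100000008c002802d000000008000004700000003400100250000000100004025000000014000402d00000003c000c02100000000400000330000000000000097) (.leaf 0x0)) (.node (.leaf 0x0) (.leaf 0x0))) (.node (.node (.leaf 0x110011002100000016400f002500000015000f802d0000000fc00ec02d000000144010801d00000015801140210000000a800d402d00000013000d002d00000015400e802d00000010000fc02d0000000c400c002100000013800c4021000000120014c02d00000016000f40210000000b400cc02d00000013400c802d000000118008c02d00000015c016401d000000128008802d000000140013c02500000010c007c02d00000009c007802d00000014801080250000000cc00700250000000f8008401d0000000e00094021)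 (.leaf 0x0)) (.node (.leaf 0x0) (.leaf 0x0)))) (.node (.node (.node (.leaf 0x940078021000000104007c01d000000114006402d00000011c014c021000000090007801d000000108007c021000000124006002d00000013c013c01d0000000d800a402d0000000dc00a002d000000048005001d0000000b8005401d00000004c00500210000000bc00540210000000c0005402d000000054005002d00000012c012c0210000000c800c002d00000006400ac021000000068009801d000000024003801d0000000d0003c01d00000006c004402100000007000440250000000d4003c0210000000280038021000000074004402d0000000ec004002d0000000a400d40250000000b000cc02500000008800280210000000f4002c021) (.leaf 0x0)) (.node (.leaf 0x0) (.leaf 0x0))) (.node (.node (.leaf 0x0) (.leaf 0x0)) (.node (.leaf 0x0) (.leaf 0x0)))))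

/-- a living orbit -/
noncomputable def live1 : Live := ⟨1, [7, 8, 9, 10, 11], [cls1_0]⟩

noncomputable def cls2_0 : BTree := (.node (.node (.node (.node (.leaf 0xb000ec039000000018000008f0000000e4004c039000000078004803900000005c001c0390000001380020039000000044005003d000000104005403d0000000cc00dc0390000000c8006c03d00000009400d4039000000014000008b000000074004803500000002c001803500000002400100390000000d0001403900000007c00ac03900000001000000c700000007000a4039000000068004403d0000000e0010003d000000058001c03500000003000180390000000c4006c039000000020001003500000000c00000430000000640044039000000008000007f000000054000803500000001c0004035000000004000005300000000000000a7) (.leaf 0x0)) (.node (.leaf 0x0) (.leaf 0x0))) (.node (.node (.leaf 0x1300118039000000158010c039000000164015003d00000011401100390000000a8010803900000012c00e80350000000f000c0039000000154013803d00000011c015403d000000120011c03900000010c00f003900000010800c803500000008c00b803900000014800bc0390000000fc00f40390000000f8013403d00000015c010c03d000000160008c0350000000ac010803d0000000b80088035000000134011803d0000000a401080350000001180154039000000048007803500000014000a003500000006c00a4035)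 (.leaf 0x0)) (.node (.leaf 0x0) (.leaf 0x0)))) (.node (.node (.node (.leaf 0xbc0088039000000124007c03900000009000b803d00000009c006403500000004c00780390000000b400ec03d00000014c00bc03d0000001500060035000000060001c03d00000013c002003d000000040005003900000010000540390000000a0006403900000009800d403d00000011000f003d00000008800b80350000000f4013403900000003c0050035000000038003803d0000000ec003c03d00000003400380390000000e8003c039000000028001003d0000000d4001403d00000008000ac03d00000008400b40390000000c00028039000000144008003d000000128007c03d000000050007803d0000000dc01000390000000d80030035) (.leaf 0x0)) (.node (.leaf 0x0) (.leaf 0x0))) (.node (.node (.leaf 0x0) (.leaf 0x0)) (.node (.leaf 0x0) (.leaf 0x0)))))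

/-- a living orbit -/
noncomputable def live2 : Live := ⟨2, [13, 14, 15], [cls2_0]⟩

noncomputable def cls3_0 : BTree := (.node (.node (.node (.node (.leaf 0x94008804d00000001000000bf00000009c007004900000004000240490000000dc0160055000000148015405500000013800f4049000000070014405500000013c00840490000000d400e8055000000154015c0550000000e4006004d00000001c000405500000004800080550000000a00028055000000144002c05500000007400b404d00000000c00000cb0000000a800dc055000000120004404d0000000b8010004d000000050001c04900000001400000550000000a400dc04d000000020001004900000004c004c04900000006000a404d000000008000005b00000004400080490000000180004049000000004000009f00000000000000df) (.leaf 0x0)) (.node (.leaf 0x0) (.leaf 0x0))) (.node (.node (.leaf 0x14c00fc04900000006c014404d0000000d8016004900000012400440550000000bc01000550000000cc00e804900000010401340490000000fc013804d00000002800100550000000c400140550000000f400d405500000007c00c804900000008400c805500000010000d004900000015c013c0490000000f80138049000000098012004900000003c007805500000008c010804d0000000900088049000000114011804d000000088010804900000010c011c04d0000000340078049000000140002c04d00000005c00a4049)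 (.leaf 0x0)) (.node (.leaf 0x0) (.leaf 0x0)))) (.node (.node (.node (.leaf 0xc800e40550000000d000e804d0000000b000b804d00000013400c004d00000015000fc04d000000068014404900000006400a40550000000e00060049000000054001c04d000000128002004d00000007800b405500000008000c804d0000000f0003c055000000030003805500000013000340550000000ac00b804900000012c0020055000000058001c05500000002c003804d0000000ec003c04d000000110011c05500000011c0124055000000024001004d0000000c0001404d000000108011005500000016001140550000000e800600550000001640064055000000118007c04d000000038007804d0000000b400b8055000000158009404d) (.leaf 0x0)) (.node (.leaf 0x0) (.leaf 0x0))) (.node (.node (.leaf 0x0) (.leaf 0x0)) (.node (.leaf 0x0) (.leaf 0x0)))))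

/-- a living orbit -/
noncomputable def live3 : Live := ⟨3, [18, 19, 21], [cls3_0]⟩

noncomputable def cls4_0 : BTree := (.node (.node (.node (.node (.leaf 0xe8003c07900000015800ac07900000011c00ec0790000001540140079000000130007c07900000003800000930000001180120079000000034000008700000016400740790000000a4011c07900000003000000b70000000fc0130079000000068002807900000002c000006b000000064002007900000014c01000790000000a0015407900000009c0164079000000028000010700000004c0008079000000024000005f00000002000000e7000000124009807900000001c00000ff00000001800000f700000001400000cf000000010000006300000000c000008300000000800000d700000000400000770000000d8008007900000000000000ef) (.leaf 0x0)) (.node (.leaf 0x0) (.leaf 0x0))) (.node (.node (.leaf 0x5400100790000000a800a0079000000050000c07900000006c002c07900000005800140790000000940030079000000078005407900000015c00fc079000000044000007300000010c00d807900000015000f4079000000098015c0790000000cc00c40790000000b4015807900000014000e807900000007c006007900000012800f80790000000d000e407900000005c001807900000013400c00790000001600064079000000144005007900000008c01440790000000b0004c07900000012c00cc07900000010400c8079)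 (.leaf 0x0)) (.node (.leaf 0x0) (.leaf 0x0)))) (.node (.node (.node (.leaf 0x11401340790000000e0013807900000010800dc07900000007000340790000000d4010c0790000000f8010807900000008800940790000000c800a40790000000c0014c0790000000c401280790000000480000079000000100009c0790000000e400380790000000bc00b007900000008400900790000000ec005807900000012000040790000000ac00440790000000f400b8079000000074004807900000011000e00790000000f001600790000000800068079000000060001c0790000000b800f00790000000dc0150079000000040000006f00000003c00000b300000013c00b407900000013800a807900000014800d007900000009000d4079) (.leaf 0x0)) (.node (.leaf 0x0) (.leaf 0x0))) (.node (.node (.leaf 0x0) (.leaf 0x0)) (.node (.leaf 0x0) (.leaf 0x0)))))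

/-- a living orbit -/
noncomputable def live4 : Live := ⟨4, [30], [cls4_0]⟩

/-- the living orbits -/
noncomputable def lives : List Live := [live0, live1, live2, live3, live4]

/-- facts removing the other orbits -/
def dead : List Nat := [38, 40, 42, 48, 46, 52, 54, 56, 58, 60, 62, 64, 66]


end CfsgLib.McLThree.H
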