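import Cfsg.Agent.Lib.McLThree.BoundK1Perm

/-!
Double coset enumeration (generated data).
-/

namespace CfsgLib.McLThree.K1

open CfsgLib.PresCert CfsgLib.DCE

/-- the base -/
def base : List Nat := [90, 1, 2, 3]

/-- the edge elements -/
def edges : List Edge :=
  [⟨0, [[0],
  [2],
  [10],
  [8],
  [4],
  [4, 4]], [[2],
  [0],
  [11],
  [4],
  [8],
  [4, 4]]⟩]

/-- the setup -/
noncomputable def S : Setup where
  P := P
  base := base
  edges := edges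
  lets := [(0, [])]
  linv := [1, 0, 3, 2, 5, 4, 7, 6, 9, 8, 11, 10, 12]
  rels := [[8, 12, 6, 12, 3, 12, 7, 12, 9, 2],
  [4, 6, 12, 6, 12, 7, 3, 6, 12, 7, 3, 7, 12, 7, 12, 1],
  [6, 12, 6, 2, 6, 12, 7, 8, 12, 6, 12, 2, 7, 12, 7, 2],
  [6, 12, 6, 2, 12, 6, 12, 9, 6, 12, 7, 2, 7, 12, 7, 2],
  [6, 12, 6, 3, 6, 12, 6, 9, 12, 7, 12, 3, 7, 12, 7, 3],
  [6, 12, 6, 3, 8, 6, 12, 6, 12, 7, 12, 3, 7, 12, 7, 3],
  [6, 12, 6, 8, 12, 6, 12, 2, 6, 12, 7, 2, 7, 12, 7, 2],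
  [6, 2, 12, 6, 12, 6, 2, 6, 2, 12, 5, 12, 6, 12, 7, 3, 7, 12, 3, 7, 12, 1],
  [6, 3, 8, 12, 6, 3, 12, 6, 2, 6, 12, 6, 12, 3, 12, 6, 12, 7, 12, 2, 7, 2, 7, 12, 2, 7, 12, 0],
  [1, 12, 6, 12, 6, 3, 6, 12, 7, 3, 7, 12, 7, 12, 7, 5],
  [3, 6, 12, 6, 3, 12, 7, 12, 8, 7, 12, 7, 3, 7, 12, 7],
  [3, 6, 12, 6, 8, 12, 7, 12, 3, 6, 12, 7, 3, 7, 12, 7],
  [2, 6, 12, 6, 2, 12, 7, 12, 8, 6, 12, 7, 2, 7, 12, 7],
  [2, 6, 12, 6, 2, 6, 12, 6, 9, 12, 6, 12, 2, 7, 12, 7],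
  [2, 12, 6, 2, 12, 6, 12, 6, 3, 7, 12, 0, 12, 7, 12, 7, 3, 7, 12, 9, 3, 7],
  [12, 12]]
  defs := [(0, 0, []),
    (1, 0, [7]),
    (1, 0, [6, 3, 6]),
    (3, 0, [11, 7])]

/-- facts -/
def facts0 : List Fact :=
  [⟨0, 0, 0, 0, [0], [0], [], .base⟩,
   ⟨0, 0, 0, 0, [2], [2], [], .base⟩,
   ⟨0, 0, 0, 0, [4], [4], [], .base⟩,
   ⟨0, 0, 0, 0, [6], [6], [], .base⟩,
   ⟨0, 0, 0, 0, [8], [8], [], .base⟩,
   ⟨0, 0, 0, 0, [10], [10], [], .base⟩,
   ⟨1, 0, 1, 0, [], [], [], .defEdge⟩,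
   ⟨0, 1, 1, 0, [9], [5], [], .loop 0 [4] 15 0 1 false [.stab 2 true, .edge 6 []] [.edge 6 [4]] []⟩,
   ⟨0, 1, 1, 0, [5], [9], [], .loop 0 [8] 15 0 1 false [.stab 4 true, .edge 6 []] [.edge 6 [3]] []⟩,
   ⟨0, 1, 1, 0, [10], [11], [], .loop 0 [10] 15 0 1 false [.stab 5 true, .edge 6 []] [.edge 6 [2]] []⟩,
   ⟨0, 1, 1, 0, [1], [3], [], .loop 0 [2] 15 0 1 false [.stab 1 true, .edge 6 []] [.edge 6 [1]] []⟩,
   ⟨0, 1, 1, 0, [3], [1], [], .loop 0 [0] 15 0 1 false [.stab 0 true, .edge 6 []] [.edge 6 [0]] []⟩,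
   ⟨1, 1, 2, 0, [], [], [7], .defEdge⟩,
   ⟨0, 2, 2, 0, [2], [2], [], .loop 1 [1, 7] 15 0 1 false [.stab 10 true, .edge 12 []] [.edge 12 [0, 0]] []⟩,
   ⟨0, 2, 2, 0, [9], [8], [], .loop 1 [3, 7] 15 0 1 false [.stab 11 true, .edge 12 []] [.stab 8 false, .stab 11 false, .edge 12 [4]] []⟩,
   ⟨0, 2, 2, 0, [4, 9], [4], [], .loop 1 [8, 6] 15 0 1 false [.stab 7 true, .edge 12 []] [.edge 12 [3, 4]] []⟩,
   ⟨1, 2, 2, 0, [0, 7, 3], [2, 6, 2, 8, 7], [6, 3, 6], .loop 0 [4, 6, 2, 10, 6, 2, 6, 8] 1 0 8 false [.lett 4, .lett 6, .stab 3 false, .stab 1 false, .stab 2 false, .stab 5 false, .stab 3 false, .edge 6 [1, 3], .lett 6, .edge 12 [0, 4], .lett 7, .lett 3, .lett 6, .stab 14 false, .stab 13 false, .stab 13 false] [.lett 0, .stab 2 false, .stab 5 false, .stab 5 false, .stab 1 false, .stab 3 false, .stab 1 false, .stab 3 false, .edge 6 [3, 4, 1, 2, 4], .lett 6, .stab 8 false, .stab 7 false, .stab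 9 false, .edge 12 [0, 3, 4], .lett 6, .lett 2, .lett 6] [5]⟩,
   ⟨1, 1, 3, 0, [], [], [6, 3, 6], .defEdge⟩,
   ⟨0, 3, 3, 0, [2], [2], [], .loop 1 [1, 6, 3, 7] 15 0 1 false [.stab 10 true, .edge 17 [5]] [.edge 17 [0, 0, 5]] []⟩,
   ⟨0, 3, 3, 0, [4, 9], [4, 9], [], .loop 1 [0, 6, 2, 6, 10, 8, 11] 15 0 1 false [.stab 8 true, .edge 17 [0, 2, 2, 4, 3]] [.stab 7 false, .edge 17 [4, 3, 0, 2, 3, 4]] []⟩,
   ⟨1, 2, 3, 0, [6, 3, 7], [6, 3, 9], [7], .loop 0 [1, 2, 4, 8, 11, 6, 3, 8, 7] 2 2 8 false [.lett 6, .lett 2, .lett 6, .edge 6 [1, 2, 3, 0, 2, 3, 5], .lett 7, .lett 8, .stab 8 false, .stab 11 false, .stab 7 false, .stab 9 false, .edge 12 [0, 0], .lett 6, .stab 13 false] [.stab 2 false, .stab 4 false, .stab 5 false, .stab 1 false, .stab 3 false, .stab 1 false, .stab 3 false, .edge 6 [0, 3, 4], .lett 7, .lett 3, .lett 6, .stab 11 false, .edge 17 [3, 4], .lett 6, .lett 3] [5]⟩,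
   ⟨0, 3, 3, 0, [2, 6, 2, 6, 8], [2, 6, 3, 6, 9], [], .loop 0 [0, 3, 11, 6, 10, 8, 11] 8 13 10 false [.lett 3, .stab 5 false, .stab 1 false, .stab 3 false, .edge 6 [0, 2, 3, 4, 1, 2, 4], .lett 6, .stab 11 false, .stab 7 false, .stab 9 false, .stab 9 false, .edge 12 [0, 3], .lett 7, .stab 13 false, .stab 13 false, .edge 20 [4, 5], .lett 2, .lett 7, .lett 2, .lett 7] [.stab 5 false, .stab 1 false, .stab 3 false, .edge 6 [0, 2, 2, 3, 2, 5], .lett 7, .stab 11 false, .stab 7 false, .stab 9 false, .stab 9 false, .edge 12 [3, 5], .lett 7, .lett 3, .lett 7, .stab 14 false, .edge 16 [3, 4], .lett 2, .lett 7, .edge 16 [1, 1, 5], .lett 9, .lett 2, .lett 7, .lett 1, .stab 13 false, .edge 16 [1, 5], .lett 6, .lett 3, .stab 13 false, .stab 13 false, .edge 20 [3, 0]] []⟩,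
   ⟨1, 3, 4, 0, [], [], [11, 7], .defEdge⟩,
   ⟨1, 4, 4, 0, [8, 6, 11, 6, 2, 11, 5], [1, 4, 10, 8, 7, 2], [10, 7], .loop 1 [4, 8, 10, 6, 3, 10, 6, 3] 9 5 8 false [.lett 3, .lett 6, .stab 11 false, .stab 9 false, .stab 7 false, .edge 17 [1, 3, 2, 2, 3], .lett 7, .lett 3, .lett 7, .stab 18 false, .stab 21 false, .edge 22 [1, 1, 5, 2, 3], .lett 7] [.lett 7, .stab 9 false, .stab 8 false, .stab 11 false, .stab 9 false, .edge 17 [0, 1, 2, 2, 3, 2], .lett 7, .stab 21 false, .stab 18 false, .stab 19 false, .stab 21 false, .stab 18 false, .edge 22 [1, 3, 5, 2], .lett 0, .lett 4, .lett 6] [0, 0, 4]⟩,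
   ⟨1, 4, 4, 0, [2, 11, 6, 3, 8, 11, 6], [2, 7, 2], [10, 6, 2, 6], .loop 1 [6, 3, 6, 3, 10, 6, 8, 11, 4] 13 13 9 false [.lett 7, .stab 9 false, .edge 17 [0, 4, 1, 2, 4, 3], .lett 7, .lett 2, .lett 6, .stab 21 false, .stab 21 false, .stab 18 false, .stab 18 false, .edge 22 [1, 1, 5, 2], .lett 6, .lett 2, .lett 6] [.lett 3, .stab 11 false, .stab 9 false, .stab 7 false, .stab 9 false, .edge 17 [0, 5, 2, 4, 1, 2], .lett 7, .stab 19 false, .stab 18 false, .edge 22 [0, 4], .lett 8, .lett 7] [0, 0, 5]⟩,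
   ⟨1, 4, 4, 0, [1, 3, 6, 3, 6, 11, 9], [1, 3, 4, 6, 3], [3, 8, 11, 7], .loop 1 [0, 2, 6, 2, 6, 2, 10, 9, 10] 12 11 10 false [.lett 7, .lett 2, .lett 7, .stab 9 false, .stab 9 false, .stab 8 false, .stab 11 false, .edge 17 [1, 2, 3], .lett 7, .lett 2, .lett 6, .stab 19 false, .stab 21 false, .stab 21 false, .edge 22 [4, 1, 2, 3, 0, 4], .lett 6, .lett 2] [.stab 11 false, .stab 7 false, .edge 17 [0, 0, 1, 2, 4, 2, 4], .lett 7, .lett 9, .stab 19 false, .stab 19 false, .stab 18 false, .stab 19 false, .edge 22 [0, 0, 5], .lett 6] [0, 1, 3, 5]⟩,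
   ⟨1, 4, 4, 0, [0, 4, 8, 10, 6, 2, 8, 6], [0, 3, 4, 10, 6, 3, 6, 8], [3, 6, 3, 6], .loop 1 [2, 4, 6, 2, 10, 6, 2, 10] 11 7 7 false [.stab 11 false, .stab 7 false, .stab 9 false, .stab 9 false, .stab 7 false, .edge 17 [0, 5, 2, 4, 1], .lett 3, .lett 6, .stab 19 false, .stab 19 false, .edge 22 [3, 0, 4], .lett 7, .lett 3, .lett 7] [.lett 6, .stab 9 false, .stab 8 false, .stab 11 false, .edge 17 [4, 1, 2, 4, 5], .lett 9, .lett 7, .stab 21 false, .stab 18 false, .stab 18 false, .edge 22 [1, 3, 0, 2, 2, 3], .lett 7, .lett 2, .lett 6] [4, 3]⟩,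
   ⟨1, 4, 4, 0, [0, 3, 6, 3, 6, 2, 10, 9], [1, 2, 4, 7, 3], [2, 8, 11, 7], .loop 1 [6, 2, 10, 8, 6, 3, 11, 7] 5 14 10 false [.lett 7, .lett 3, .lett 6, .stab 11 false, .stab 7 false, .stab 9 false, .stab 9 false, .stab 7 false, .edge 17 [1, 4, 3, 2], .lett 6, .lett 3, .lett 8, .lett 6, .stab 21 false, .stab 21 false, .edge 22 [0, 4, 1, 2, 4, 5], .lett 6] [.stab 7 false, .stab 9 false, .stab 8 false, .stab 11 false, .edge 17 [0, 0, 1, 2, 4], .lett 6, .lett 2, .stab 18 false, .edge 22 [0, 3, 4, 1], .lett 6] [0, 4, 3]⟩,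
   ⟨1, 4, 4, 0, [0, 4, 6, 2, 6, 3, 11, 4], [0, 11, 6, 3, 10, 6, 3, 6], [11, 6, 3, 10, 6], .loop 1 [0, 10, 6, 3, 6, 2, 8, 10, 7] 7 10 10 false [.lett 5, .stab 7 false, .stab 8 false, .stab 11 false, .stab 9 false, .stab 7 false, .edge 17 [1, 5, 2, 3, 2], .lett 6, .stab 19 false, .stab 19 false, .stab 19 false, .edge 22 [4, 3, 0], .lett 7, .lett 3, .lett 7, .edge 26 [3, 4], .lett 3, .lett 7] [.stab 7 false, .stab 8 false, .stab 11 false, .stab 9 false, .stab 7 false, .edge 17 [1, 4, 3, 2], .lett 3, .lett 7, .lett 3, .lett 7, .stab 21 false, .stab 19 false, .edge 22 [0, 3, 2, 4, 1, 2], .lett 7, .edge 27 [0, 4], .lett 3, .lett 7, .lett 0] [1, 3, 0, 4, 2, 3]⟩,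
   ⟨1, 4, 4, 0, [1, 2, 4, 11, 6, 3, 6, 3, 9], [1, 3, 10, 4, 6, 3, 6], [3, 7], .loop 1 [1, 3, 6, 2, 10, 6, 2, 11, 8] 3 3 6 false [.lett 2, .stab 9 false, .stab 8 false, .stab 11 false, .stab 9 false, .edge 17 [1, 3, 4, 2], .lett 6, .stab 19 false, .edge 22 [0, 0, 5], .lett 9, .lett 6] [.lett 7, .stab 11 false, .stab 7 false, .stab 9 false, .stab 9 false, .stab 7 false, .edge 17 [3, 2, 4, 1, 5], .lett 7, .lett 3, .lett 6, .stab 21 false, .stab 21 false, .stab 19 false, .edge 22 [0, 0, 5, 2, 4, 1], .lett 6, .lett 3, .lett 6] [3, 4]⟩,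
   ⟨1, 4, 4, 0, [1, 2, 4, 11, 4, 6, 2, 6], [0, 4, 10, 4, 6, 2, 7], [2, 6, 3, 6], .loop 3 [6, 10, 8, 6, 3, 11, 6, 2] 10 11 10 false [.lett 7, .lett 3, .lett 7, .stab 18 false, .stab 19 false, .stab 21 false, .stab 18 false, .edge 22 [1, 2, 2, 3], .lett 7, .lett 3, .lett 6, .edge 24 [0, 4, 5], .lett 6, .lett 3] [.stab 18 false, .stab 21 false, .stab 21 false, .stab 18 false, .edge 22 [2, 2, 4, 3], .lett 6, .lett 9, .edge 23 [], .lett 6] [1, 4, 3]⟩,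
   ⟨1, 4, 4, 0, [0, 2, 10, 6, 2, 10, 6, 2, 7], [3, 6, 2, 6, 3, 10, 4, 9], [3, 11, 6, 3, 10, 6], .loop 3 [6, 2, 10, 6, 2, 7, 3, 11] 4 2 11 false [.lett 6, .lett 3, .lett 6, .stab 19 false, .stab 18 false, .stab 19 false, .edge 22 [0, 1, 4, 2], .lett 6, .lett 9, .edge 27 [3, 0], .lett 7, .edge 30 [0, 0], .lett 3, .lett 7] [.stab 21 false, .stab 18 false, .edge 22 [1, 4, 3, 0], .lett 7, .lett 2, .lett 6] [1, 1, 2, 3, 0, 2, 3]⟩,
   ⟨1, 2, 4, 0, [0, 2, 10, 6, 2, 6, 3], [1, 3, 10, 6, 3, 6, 2], [11, 6, 3, 6], .loop 1 [0, 3, 10, 4, 6, 3, 6, 10] 3 7 6 false [.lett 9, .lett 6, .stab 8 false, .stab 11 false, .stab 8 false, .stab 7 false, .stab 9 false, .edge 12 [2, 4, 1], .lett 7, .lett 2, .lett 7] [.stab 9 false, .stab 9 false, .stab 8 false, .stab 11 false, .edge 17 [0, 2], .lett 7, .stab 18 false, .stab 18 false, .edge 22 [], .lett 3, .lett 7, .edge 29 [], .lett 7, .lett 3, .lett 6] [3,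 0]⟩,
   ⟨2, 4, 2, 0, [11, 6, 3, 11, 6, 2, 7, 11], [6, 2, 11, 6, 2, 11, 5, 11], [], .loop 2 [3, 10, 4, 6, 3, 10, 8, 7] 0 9 10 false [.lett 2, .lett 8, .stab 13 false, .stab 15 false, .stab 14 false, .edge 32 [0, 0, 5, 2, 4, 1, 2], .lett 6, .edge 25 [0, 1, 2, 3, 2, 3], .lett 3, .edge 29 [1, 2, 4, 5, 2], .lett 7, .edge 29 [0, 1, 3, 2, 2], .lett 9] [] []⟩,
   ⟨1, 2, 2, 0, [8, 11, 4, 7, 2], [0, 3, 8, 11, 6, 3, 6, 9], [11, 7], .loop 4 [3, 11, 6, 3, 10, 6] 15 0 0 false [.coin 33, .stab 14 false, .stab 13 false, .stab 13 false] [.edge 31 [], .coin 33] [1, 4, 2, 2, 3]⟩,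
   ⟨0, 2, 2, 0, [2, 6, 3, 11, 6, 3, 11, 8, 7], [1, 10, 4, 6, 10, 8], [], .loop 4 [11, 6, 3, 10, 6] 15 0 1 false [.coin 33, .stab 14 false, .stab 14 false, .stab 13 false, .edge 34 [3, 0, 4, 1, 2, 3]] [.edge 28 [], .coin 33] []⟩,
   ⟨2, 3, 2, 0, [4, 10, 4, 6, 11, 4], [0, 2, 11, 4, 6, 2, 6], [], .loop 2 [11, 6, 3, 6] 15 0 1 false [.stab 35 false, .stab 13 false, .stab 15 false, .stab 35 false, .edge 20 [2, 3, 4]] [.edge 32 [], .coin 33] []⟩,
   ⟨2, 2, 1, 0, [1, 6, 3, 8, 6, 3], [1, 2, 6, 2, 6, 3, 6, 11, 4], [], .loop 1 [11, 4, 6, 3, 6, 3, 10, 4] 6 5 16 false [.lett 6, .stab 7 false, .stab 8 false, .stab 11 false, .stab 9 false, .edge 17 [0, 1, 3, 2, 2, 4], .coin 36, .lett 2, .lett 6, .stab 13 false, .stab 13 false, .edge 20 [0, 3, 2, 2, 4, 1], .coin 36, .lett 7, .lett 2, .lett 7, .stab 35 false, .stab 13 false, .stab 15 false, .stab 35 false, .stab 13 false, .edge 20 [1, 2, 3, 0, 2,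 2], .coin 36, .lett 7, .lett 2, .lett 6, .stab 14 false, .stab 13 false, .stab 35 false, .stab 35 false, .stab 13 false, .edge 20 [1, 1, 2, 5], .coin 36, .lett 6, .lett 8, .stab 35 false, .stab 35 false, .stab 13 false, .stab 35 false, .stab 13 false, .edge 20 [4, 3, 2], .coin 36] [] []⟩,
   ⟨0, 1, 1, 0, [2, 6, 3, 8, 7, 3, 10], [11, 6, 3, 10, 4, 8], [], .loop 2 [11, 6, 3, 6] 15 0 1 false [.coin 37, .stab 11 false, .stab 9 false, .stab 9 false, .edge 12 [0, 0, 1, 4, 2, 5], .coin 37] [.edge 32 [], .coin 33, .coin 37] []⟩,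
   ⟨2, 1, 0, 0, [3, 4, 10, 6, 2, 10, 6, 2], [6, 3, 6, 10, 6, 3, 10], [], .loop 0 [0, 3, 10, 4, 6, 3, 10, 5] 14 15 22 false [.lett 7, .lett 3, .lett 7, .stab 3 false, .stab 1 false, .stab 3 false, .edge 6 [0, 1, 2, 4, 5, 2], .lett 9, .lett 3, .lett 7, .lett 2, .stab 8 false, .stab 9 false, .edge 12 [0, 4, 1, 5], .coin 37, .lett 6, .lett 2, .stab 7 false, .stab 9 false, .stab 38 false, .edge 12 [1, 3, 0, 2, 4, 2], .coin 37, .lett 6, .stab 8 false, .stab 11 false, .stab 7 false, .stab 9 false, .edge 12 [1, 1, 3, 0, 2, 3], .coin 37, .lett 6, .lett 3, .lett 7, .stab 38 false, .stab 38 false, .stab 9 false, .edge 12 [0, 0, 4, 1, 2, 4, 5], .coin 37, .lett 0, .stab 38 false, .stab 11 false, .stab 11 false, .stab 9 false, .edge 12 [1, 3, 4], .coin 37, .lett 7, .stab 11 false, .stab 8 false, .stab 38 false, .stab 9 false, .edge 12 [2, 4, 1, 2, 4, 5], .coin 37] [] []⟩]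

/-- facts -/
def facts1 : List Fact :=
  [⟨0, 0, 0, 0, [11, 4, 6, 2, 11, 6, 3, 7], [3, 8, 10, 6, 2, 6, 11, 4], [], .loop 1 [6, 3, 6] 15 0 1 false [.coin 39, .stab 3 false, .stab 5 false, .stab 1 false, .stab 1 false, .stab 3 false, .stab 1 false, .stab 3 false, .edge 6 [2, 3, 2, 3, 5], .coin 39] [.edge 17 [], .coin 36, .coin 37, .coin 39] []⟩]

/-- facts -/
def facts : List Fact := facts0 ++ facts1

noncomputable def cls0_0 : BTree := (.node (.node (.node (.node (.node (.leaf 0xec00280090000000e400240110000000e0002400d00000002c01580a10000000bc007001500000005800c400900000015c00200090000000d0001c01100000007400ec01500000003c00080a100000005c00c401100000016400480050000000a001200a10000000c800180050000000b00070009000000050000c0a10000000e800240150000000fc001400d0000000cc00180a10000000c00010015000000048000c011000000044000c00d000000040000c0090000000ac00e80a10000000380008015000000034000800d00000004c000c0150000000300008005000000010000401500000000c0004005000000004000000d000000000000001b)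 (.leaf 0x0)) (.node (.leaf 0x0) (.leaf 0x0))) (.node (.node (.leaf 0x0) (.leaf 0x0)) (.node (.leaf 0x0) (.leaf 0x0)))) (.node (.node (.node (.leaf 0x84011001100000013c0114009000000080011000900000000800000a100000006800ec00500000006400c40a100000015001340050000000a800e8015000000110012c0150000001400114011000000104012c005000000088011001500000009000fc0090000000a400e801100000005400c400500000009400fc01100000009c012001500000002401580110000000c400100a1000000128015401100000007c011000500000001c01580090000001580130015000000108012c00d0000000b8007001100000013000a0011) (.leaf 0x0)) (.node (.leaf 0x0) (.leaf 0x0))) (.node (.node (.leaf 0x0) (.leaf 0x0)) (.node (.leaf 0x0) (.leaf 0x0))))) (.node (.node (.node (.node (.leaf 0x20015800d0000000b4007000d000000118006800500000013800800050000000180158005000000028015801500000013400ac00900000012c015401500000012000cc00d0000000d4001c0a10000000f000280a10000000d8005800d00000006000c401500000014c00840a100000001400040a100000011c006801100000010c012c011000000098012000d0000000f8002c0a1000000154012401500000007000ec01100000010000400050000000dc005801500000006c00ec009000000144015c0a100000012400cc015000000148008400900000016001040090000000f4002c00d000000114012c0a100000008c01100a100000007800ec0a1)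 (.leaf 0x0)) (.node (.leaf 0x0) (.leaf 0x0))) (.node (.node (.leaf 0x0) (.leaf 0x0)) (.node (.leaf 0x0) (.leaf 0x0)))) (.node (.node (.node (.leaf 0x0) (.leaf 0x0)) (.node (.leaf 0x0) (.leaf 0x0))) (.node (.node (.leaf 0x0) (.leaf 0x0)) (.node (.leaf 0x0) (.leaf 0x0))))))

/-- a living orbit -/
noncomputable def live0 : Live := ⟨0, [0, 1, 2, 3, 4, 5, 40], [cls0_0]⟩

/-- the living orbits -/
noncomputable def lives : List Live := [live0]

/-- facts removing the other orbits -/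
def dead : List Nat := [39, 37, 36, 33]


end CfsgLib.McLThree.K1
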