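import Cfsg.Agent.Lib.McLThree.BoundK2Perm

/-!
Double coset enumeration (generated data).
-/

namespace CfsgLib.McLThree.K2

open CfsgLib.PresCert CfsgLib.DCE

/-- the base -/
def base : List Nat := [90, 1, 2, 3]

/-- the edge elements -/
def edges : List Edge :=
  [⟨0, [[0],
  [2],
  [10],
  [8],
  [4],
  [4, 4]], [[2],
  [0],
  [11],
  [4],
  [8],
  [4, 4]]⟩]

/-- the setup -/
noncomputable def S : Setup where
  P := P
  base := base
  edges := edges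
  lets := [(0, [])]
  linv := [1, 0, 3, 2, 5, 4, 7, 6, 9, 8, 11, 10, 12]
  rels := [[12, 4, 12, 9],
  [4, 6, 12, 6, 12, 6, 2, 7, 12, 6, 2, 7, 12, 7, 12, 0],
  [6, 12, 6, 2, 6, 12, 7, 9, 12, 7, 12, 2, 7, 12, 7, 2],
  [12, 6, 12, 6, 9, 7, 12, 7, 12, 5],
  [1, 12, 6, 12, 6, 3, 6, 12, 6, 3, 6, 12, 7, 12, 7, 5],
  [3, 6, 12, 6, 3, 12, 6, 12, 7, 12, 6, 9, 3, 7, 12, 7],
  [3, 6, 12, 6, 3, 6, 12, 6, 9, 12, 7, 12, 3, 7, 12, 7],
  [3, 6, 12, 6, 3, 8, 6, 12, 7, 12, 6, 12, 3, 7, 12, 7],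
  [2, 6, 12, 6, 2, 8, 6, 12, 6, 12, 6, 12, 2, 7, 12, 7],
  [2, 6, 12, 6, 2, 6, 12, 7, 2, 12, 6, 12, 9, 7, 12, 7],
  [6, 12, 6, 12, 6, 12, 6, 12, 7, 12, 7, 12],
  [1, 12, 6, 2, 12, 6, 2, 6, 12, 6, 12, 6, 12, 2, 7, 12, 3, 7, 3, 7, 12, 5],
  [12, 12]]
  defs := [(0, 0, []),
    (1, 0, [7]),
    (1, 0, []),
    (2, 0, [7]),
    (4, 0, [11, 7])]

/-- facts -/
def facts0 : List Fact :=
  [⟨0, 0, 0, 0, [0], [0], [], .base⟩,
   ⟨0, 0, 0, 0, [2], [2], [], .base⟩,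
   ⟨0, 0, 0, 0, [4], [4], [], .base⟩,
   ⟨0, 0, 0, 0, [6], [6], [], .base⟩,
   ⟨0, 0, 0, 0, [8], [8], [], .base⟩,
   ⟨0, 0, 0, 0, [10], [10], [], .base⟩,
   ⟨1, 0, 1, 0, [], [], [], .defEdge⟩,
   ⟨0, 1, 1, 0, [10], [11], [], .loop 0 [10, 4] 12 0 1 false [.stab 5 true, .edge 6 [4]] [.edge 6 [2, 4]] []⟩,
   ⟨0, 1, 1, 0, [5], [9], [], .loop 0 [8] 12 0 1 false [.stab 4 true, .edge 6 []] [.edge 6 [3]] []⟩,
   ⟨0, 1, 1, 0, [9], [5], [], .loop 0 [5] 12 0 1 false [.stab 2 true, .edge 6 [5]] [.edge 6 [4, 5]] []⟩,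
   ⟨0, 1, 1, 0, [3], [1], [], .loop 0 [0] 12 0 1 false [.stab 0 true, .edge 6 []] [.edge 6 [0]] []⟩,
   ⟨0, 1, 1, 0, [1], [3], [], .loop 0 [2] 12 0 1 false [.stab 1 true, .edge 6 []] [.edge 6 [1]] []⟩,
   ⟨1, 1, 2, 0, [], [], [7], .defEdge⟩,
   ⟨0, 2, 2, 0, [4, 9], [4], [], .loop 1 [8, 6] 12 0 1 false [.stab 9 true, .edge 12 []] [.edge 12 [3, 4]] []⟩,
   ⟨0, 2, 2, 0, [9], [8], [], .loop 1 [4, 6] 12 0 1 false [.stab 8 true, .edge 12 []] [.edge 12 [4]] []⟩,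
   ⟨0, 2, 2, 0, [2], [2], [], .loop 1 [1, 7] 12 0 1 false [.stab 11 true, .edge 12 []] [.edge 12 [0, 0]] []⟩,
   ⟨1, 1, 3, 0, [], [], [], .defEdge⟩,
   ⟨2, 3, 0, 0, [6, 3, 10, 4, 6, 2], [3, 4, 6, 2, 10, 6], [], .loop 0 [3, 4, 6, 2, 10, 6, 3, 8] 0 1 4 false [.lett 4, .stab 1 false, .stab 3 false, .stab 1 false, .stab 2 false, .stab 5 false, .stab 3 false, .edge 6 [3, 4, 1], .lett 9, .edge 16 [0, 0, 4]] [] []⟩,
   ⟨1, 2, 4, 0, [], [], [7], .defEdge⟩,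
   ⟨0, 4, 4, 0, [4], [5], [], .loop 2 [2, 7] 12 0 1 false [.stab 15 true, .edge 18 []] [.stab 13 false, .stab 15 false, .edge 18 [3, 5]] []⟩,
   ⟨0, 4, 4, 0, [4, 9], [9], [], .loop 2 [8, 6] 12 0 1 false [.stab 14 true, .edge 18 []] [.edge 18 [3, 4]] []⟩,
   ⟨1, 4, 1, 0, [0, 2, 6, 3, 9], [0, 2, 6, 3, 6, 8], [6, 3, 6], .loop 0 [0, 6, 3, 6, 3, 11, 6, 2, 9] 6 7 11 false [.lett 6, .lett 9, .stab 5 false, .stab 1 false, .stab 3 false, .stab 5 false, .stab 1 false, .stab 3 false, .edge 6 [0, 1, 3, 2, 3, 2], .lett 7, .stab 10 false, .stab 9 false, .stab 8 false, .stab 7 false, .edge 12 [3, 0, 5], .lett 3, .lett 7, .edge 18 [4], .lett 7, .lett 3, .lett 6, .stab 19 false] [.stab 3 false, .stab 1 false, .stab 3 false, .stab 5 false, .stab 1 false, .stab 3 false, .edge 6 [0, 1, 3], .lett 7, .lett 2, .lett 7] [3, 4]⟩,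
   ⟨1, 1, 4, 0, [6, 2, 6, 9], [3, 4, 7], [6, 3, 6], .loop 0 [0, 8, 11, 6, 3, 11, 8, 7] 9 2 4 false [.stab 2 false, .stab 5 false, .stab 3 false, .stab 1 false, .stab 3 false, .edge 6 [4, 5, 2, 4], .lett 6, .lett 2, .lett 6, .stab 9 false, .stab 7 false, .stab 7 false] [.lett 7, .lett 3, .lett 6, .stab 2 false, .stab 3 false, .stab 5 false, .stab 1 false, .stab 1 false, .stab 3 false, .edge 6 [2, 4, 5, 2, 4], .lett 6, .lett 8, .stab 9 false, .stab 8 false, .stab 7 false, .edge 12 [], .lett 7, .edge 18 [], .lett 3, .lett 6] [3, 5]⟩,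
   ⟨0, 4, 4, 0, [3, 4, 6, 3, 7, 3], [3, 6, 2, 6, 2], [], .loop 0 [0, 6, 2, 11, 6, 11, 9, 10] 8 1 8 false [.lett 6, .stab 2 false, .stab 5 false, .stab 5 false, .stab 3 false, .edge 6 [1, 1, 5, 2, 3, 0], .lett 6, .lett 2, .lett 8, .lett 6, .stab 10 false, .stab 10 false, .stab 7 false, .stab 7 false, .edge 22 [3, 0], .lett 6] [.lett 3, .lett 6, .stab 4 false, .stab 2 false, .stab 5 false, .stab 1 false, .stab 3 false, .stab 1 false, .stab 3 false, .edge 6 [2, 4, 1, 5], .lett 6, .lett 3, .stab 7 false, .edge 12 [1, 4, 3, 0], .lett 7, .stab 15 false, .edge 18 [0, 3, 5]] []⟩,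
   ⟨1, 4, 5, 0, [], [], [11, 7], .defEdge⟩,
   ⟨1, 5, 5, 0, [3, 6, 2, 8, 10, 4, 6, 2, 11], [2, 4, 11, 6, 8], [2, 4, 8, 10, 6], .loop 1 [3, 6, 2, 6, 2, 10, 6] 5 0 7 false [.lett 3, .lett 6, .stab 8 false, .stab 7 false, .edge 22 [1, 2, 3, 0, 2, 3], .lett 6, .lett 3, .stab 20 false, .stab 19 false, .stab 23 false, .edge 24 [0, 4, 3, 2], .lett 6] [.lett 6, .stab 8 false, .stab 10 false, .edge 22 [4, 1, 2, 2], .lett 6, .lett 2, .lett 8, .lett 7, .stab 19 false, .stab 19 false, .stab 19 false, .edge 24 [0, 3, 2, 4, 3], .lett 6] [5]⟩,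
   ⟨1, 5, 5, 0, [0, 2, 6, 3, 8, 11, 8, 6, 2], [4, 6, 3, 10, 6, 3, 10, 8], [11, 6, 3, 11, 7], .loop 1 [11, 4, 6, 3, 11, 7, 3, 11] 4 1 6 false [.stab 8 false, .stab 7 false, .edge 22 [0, 4, 1, 2, 2, 4], .lett 6, .stab 20 false, .stab 23 false, .stab 23 false, .edge 24 [4, 1, 3, 2], .lett 6, .lett 3, .lett 6] [.lett 0, .lett 4, .lett 6, .stab 10 false, .stab 10 false, .stab 7 false, .stab 7 false, .edge 22 [0, 0, 1, 1, 2, 2], .lett 6, .stab 23 false, .stab 19 false, .stab 23 false, .stab 19 false, .stab 19 false, .edge 24 [1, 2, 3, 5, 2, 3], .lett 7, .lett 2, .lett 7] [0, 2, 4, 3, 2]⟩,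
   ⟨1, 5, 5, 0, [0, 3, 6, 3, 11, 7, 3], [2, 4, 6, 2, 10, 8, 6], [3, 4, 6, 3, 10, 6], .loop 1 [10, 6, 3, 6, 2, 6, 11, 6] 1 0 8 false [.lett 4, .lett 6, .stab 7 false, .stab 7 false, .stab 8 false, .stab 10 false, .edge 22 [1, 2, 4, 5], .lett 6, .stab 23 false, .stab 23 false, .stab 19 false, .stab 23 false, .stab 19 false, .edge 24 [1, 3, 0, 4, 2, 5], .lett 6, .lett 2, .lett 7] [.lett 1, .stab 8 false, .stab 9 false, .stab 7 false, .edge 22 [2, 4, 1, 3, 0, 2], .lett 6, .stab 19 false, .stab 23 false, .stab 23 false, .edge 24 [0, 4, 1, 3, 2], .lett 6, .lett 3, .lett 7] [3, 2]⟩,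
   ⟨1, 5, 5, 0, [0, 10, 8, 7, 3, 11], [0, 2, 6, 10, 6, 2, 8, 7, 3], [6, 2, 10, 6, 3, 7], .loop 1 [2, 10, 6, 2, 11, 6, 3, 11, 9] 10 6 7 false [.lett 6, .stab 8 false, .stab 10 false, .stab 7 false, .stab 8 false, .edge 22 [0, 1, 4, 2, 4, 3], .lett 7, .stab 23 false, .stab 20 false, .edge 24 [0, 3, 4, 1, 2, 2, 4], .lett 7, .edge 25 [0, 3, 4], .lett 6] [.stab 10 false, .stab 7 false, .stab 8 false, .stab 7 false, .stab 7 false, .edge 22 [1, 2, 4, 3, 0], .lett 7, .stab 23 false, .stab 19 false, .stab 23 false, .edge 24 [1, 2, 3, 0, 5, 2], .lett 7] [0, 1, 2, 4, 2, 2]⟩,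
   ⟨1, 5, 5, 0, [2, 10, 4, 6, 2, 11, 8, 7, 3], [3, 10, 8, 11, 6], [3, 4, 10, 6], .loop 4 [1, 2, 6, 3, 10, 4, 7] 11 6 4 false [.lett 2, .lett 6, .stab 20 false, .stab 19 false, .stab 23 false, .edge 24 [2, 4, 2, 3, 0], .lett 6] [.lett 7, .stab 19 false, .stab 23 false, .edge 21 [0, 0, 4, 1, 2, 4, 5], .lett 3, .lett 7, .stab 7 false, .stab 9 false, .stab 7 false, .stab 7 false, .edge 22 [1, 1, 3, 0, 2, 3], .lett 0, .lett 4, .stab 23 false, .edge 21 [1, 1, 5, 2], .lett 6, .lett 2, .lett 6, .lett 2, .stab 10 false, .stab 9 false, .stab 7 false, .stab 7 false, .edge 22 [1, 2, 2], .lett 6, .lett 3, .stab 23 false, .stab 19 false, .stab 23 false, .stab 23 false, .edge 24 [2, 3, 0, 5, 2, 3], .lett 7] [3, 4]⟩,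
   ⟨0, 5, 5, 0, [0, 3, 10, 6, 2, 10, 6, 3, 10], [3, 4, 8, 11, 6, 2, 11, 4, 8], [], .loop 1 [3, 4, 6, 2, 6, 2, 11, 8] 2 8 9 false [.stab 10 false, .stab 10 false, .edge 22 [4, 1, 2, 2, 3], .lett 7, .stab 23 false, .stab 19 false, .stab 20 false, .stab 23 false, .stab 19 false, .edge 24 [2, 4, 1, 2, 2], .lett 2, .lett 7, .edge 25 [0, 4], .lett 7, .lett 2, .lett 6] [.lett 8, .lett 6, .stab 7 false, .stab 9 false, .stab 7 false, .stab 7 false, .edge 22 [1, 3, 4, 2, 2], .lett 7, .lett 3, .lett 7, .stab 19 false, .stab 19 false, .edge 24 [3, 0, 2, 2]] []⟩,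
   ⟨0, 5, 5, 0, [2, 6, 3, 6, 2], [2, 4, 8, 11, 6, 3, 10, 4, 9], [], .loop 4 [1, 2, 4, 10, 6, 2, 6, 8, 10] 3 0 8 false [.stab 23 false, .stab 23 false, .stab 20 false, .edge 24 [1, 1, 3, 0, 5, 2, 3], .lett 6, .edge 29 [0, 0, 4], .lett 6, .lett 9, .lett 7, .stab 30 false, .stab 30 false, .stab 30 false, .stab 30 false, .edge 25 [0, 3, 2, 3, 5], .lett 7] [.lett 4, .stab 23 false, .stab 23 false, .stab 20 false, .edge 24 [0, 0, 2, 4, 1, 2]] []⟩,
   ⟨0, 5, 5, 0, [2, 6, 2, 11, 5, 11], [6, 10, 6, 2, 10, 6, 9], [], .loop 5 [3, 4, 6, 3, 10, 6] 12 0 1 false [.stab 30 false, .stab 31 false, .stab 31 false, .stab 30 false, .stab 30 false, .stab 30 false, .edge 29 [2, 5]] [.edge 27 []] []⟩,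
   ⟨0, 5, 5, 0, [11, 6, 3, 11, 6], [1, 2, 6, 8, 11, 6], [], .loop 5 [3, 4, 6, 3, 10, 6] 12 0 1 false [.stab 30 false, .stab 32 false, .stab 31 false, .stab 32 false, .edge 29 [3, 0, 2, 3, 5]] [.edge 27 []] []⟩,
   ⟨0, 5, 5, 0, [1, 11, 6, 10, 8], [3, 11, 4, 10, 6, 3, 10, 9], [], .loop 5 [11, 6, 3, 11, 7] 12 0 1 false [.stab 33 false, .stab 33 false, .stab 30 false, .stab 30 false, .stab 30 false, .edge 29 [0, 0, 1, 2, 4, 2]] [.edge 26 []] []⟩,
   ⟨2, 5, 4, 0, [2, 8, 6, 3, 10, 7, 3, 10], [1, 8, 11, 6, 3, 11, 4, 6], [], .loop 4 [3, 6, 2, 11, 8, 6, 10, 7] 7 1 16 false [.lett 6, .stab 23 false, .stab 19 false, .stab 23 false, .stab 19 false, .edge 24 [3, 0, 4, 1], .lett 6, .lett 3, .lett 8, .lett 6, .stab 33 false, .stab 30 false, .edge 29 [1, 3, 0, 2, 4, 3], .lett 7, .stab 33 false, .stab 34 false, .stab 30 false, .stab 30 false, .edge 29 [0, 3, 4, 1, 2, 4], .lett 6, .stab 33 false, .stab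 33 false, .stab 30 false, .stab 30 false, .edge 29 [0, 2, 2, 3, 4, 1], .lett 3, .lett 7, .stab 30 false, .stab 30 false, .edge 29 [3, 0, 2, 4, 3], .lett 7, .lett 3] [] []⟩,
   ⟨1, 4, 4, 0, [1, 3, 4, 6, 2, 6, 10], [2, 11, 8, 6, 2, 10, 6, 3, 7], [2, 11, 7], .loop 5 [3, 4, 6, 3, 10, 6] 12 0 0 false [.coin 35, .stab 19 false] [.edge 27 [], .coin 35] [1, 2, 3, 2, 4]⟩,
   ⟨0, 4, 4, 0, [0, 2, 8, 10, 6, 10, 4, 10], [0, 2, 8, 11, 6, 9], [], .loop 5 [6, 2, 10, 6, 3, 7] 12 0 1 false [.coin 35, .stab 23 false, .stab 19 false, .stab 23 false, .edge 24 [0, 3, 4, 1, 2, 4], .coin 35] [.edge 28 [], .coin 35] []⟩,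
   ⟨2, 4, 1, 0, [3, 6, 11, 4], [1, 11, 6, 2, 9, 11], [], .loop 4 [6, 3, 6] 12 0 1 false [.stab 37 false, .stab 23 false, .stab 19 false, .stab 37 false, .edge 24 [0, 0, 4, 1], .coin 35] [.edge 21 []] []⟩,
   ⟨0, 1, 1, 0, [0, 8, 10, 6, 3, 11, 4, 10], [0, 6, 2, 6, 3, 6, 10, 7, 3], [], .loop 4 [2, 11, 7] 12 0 1 false [.coin 38, .stab 9 false, .stab 7 false, .stab 7 false, .stab 8 false, .edge 22 [3, 0, 2, 2, 3], .coin 38] [.edge 36 [], .coin 38] []⟩]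

/-- facts -/
def facts1 : List Fact :=
  [⟨2, 1, 0, 0, [3, 6, 3, 11, 7, 3, 10], [1, 3, 6, 3, 6, 10, 9, 11], [], .loop 1 [6, 3, 6] 12 0 1 true [.stab 39 false, .stab 39 false, .stab 7 false, .stab 8 false, .stab 39 false, .edge 16 [4, 1, 2, 4, 3], .coin 17] [.edge 22 [], .coin 38] []⟩,
   ⟨0, 0, 0, 0, [4, 6, 10, 6, 11, 5, 11], [2, 6, 2, 10, 5, 11], [], .loop 1 [6, 3, 6] 12 0 1 false [.coin 40, .stab 3 false, .stab 4 false, .stab 5 false, .stab 3 false, .edge 6 [1, 4, 5, 2], .coin 40] [.edge 22 [], .coin 38, .coin 40] []⟩,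
   ⟨2, 2, 0, 0, [3, 11, 4, 10, 6, 3, 6], [0, 3, 6, 3, 8, 6], [], .loop 1 [7] 12 0 1 true [.coin 40, .stab 1 false, .stab 2 false, .stab 5 false, .stab 3 false, .edge 6 [1, 2, 3, 2, 2], .coin 40] [.edge 12 []] []⟩]

/-- facts -/
def facts : List Fact := facts0 ++ facts1

noncomputable def cls0_0 : BTree := (.node (.node (.node (.node (.node (.leaf 0x3c000c0a5000000044003c00900000000800000a500000007c0024005000000040003c0050000000e8002000d00000009c009c005000000074001c011000000070001c00d00000006c001c0090000000cc004c0150000000bc0048005000000068001801500000006400180050000000b40030015000000058001000d00000001400040a5000000084001400d00000001c007400d00000005c0010015000000034000c0110000000180074009000000030000c009000000078001c01500000002c0008015000000028000800d000000038000c0150000000240008005000000010000401500000000c0004005000000004000000d000000000000001b) (.leaf 0x0)) (.node (.leaf 0x0) (.leaf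 0x0))) (.node (.node (.leaf 0x0) (.leaf 0x0)) (.node (.leaf 0x0) (.leaf 0x0)))) (.node (.node (.node (.leaf 0xc800480a5000000138016401500000012c016400500000015001540050000000f400f40050000000ec00ec00500000014000e800900000014400e4005000000134016400d00000010000a80a500000011400500a500000010400cc00500000016000c800d00000010c00c0005000000148015000d00000012000b800900000011c00b00a500000011800b001500000014c00b40050000000fc00a8015000000154015400900000015800a00050000001300164009000000108009800500000016401200110000000e0005c0a5) (.leaf 0x0)) (.node (.leaf 0x0) (.leaf 0x0))) (.node (.node (.leaf 0x0) (.leaf 0x0)) (.node (.leaf 0x0) (.leaf 0x0))))) (.node (.node (.node (.node (.leaf 0x12800b80a50000000e4006000d0000000a0009c00d00000013c00e8005000000094006c00d0000000d8005c0050000000dc005c0090000000d40058015000000090006c0090000000d0005800d00000015c0130009000000088007c0050000000ac00400a5000000110005001500000009800780050000000b8009000d00000012400b80150000000c400480150000000f000ec0090000000c000480090000000a800400150000000a4004000500000008c006c0050000000f800f400900000005000340050000000b0003000d000000020007401100000006000100a5000000080002c00d000000054009400900000004c00280110000000480028009)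 (.leaf 0x0)) (.node (.leaf 0x0) (.leaf 0x0))) (.node (.node (.leaf 0x0) (.leaf 0x0)) (.node (.leaf 0x0) (.leaf 0x0)))) (.node (.node (.node (.leaf 0x0) (.leaf 0x0)) (.node (.leaf 0x0) (.leaf 0x0))) (.node (.node (.leaf 0x0) (.leaf 0x0)) (.node (.leaf 0x0) (.leaf 0x0))))))

/-- a living orbit -/
noncomputable def live0 : Live := ⟨0, [0, 1, 2, 3, 4, 5, 41], [cls0_0]⟩

/-- the living orbits -/
noncomputable def lives : List Live := [live0]

/-- facts removing the other orbits -/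
def dead : List Nat := [40, 42, 17, 38, 35]


end CfsgLib.McLThree.K2
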