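import Cfsg.Agent.Lib.McLThree.BoundK3Perm

/-!
Double coset enumeration (generated data).
-/

namespace CfsgLib.McLThree.K3

open CfsgLib.PresCert CfsgLib.DCE

/-- the base -/
def base : List Nat := [90, 1, 2, 3]

/-- the edge elements -/
def edges : List Edge :=
  [⟨0, [[0],
  [2],
  [10],
  [8],
  [4],
  [4, 4]], [[2],
  [0],
  [11],
  [4],
  [8],
  [4, 4]]⟩]

/-- the setup -/
noncomputable def S : Setup where
  P := P
  base := base
  edges := edges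
  lets := [(0, [])]
  linv := [1, 0, 3, 2, 5, 4, 7, 6, 9, 8, 11, 10, 12]
  rels := [[6, 12, 6, 3, 6, 12, 6, 9, 12, 7, 12, 3, 7, 12, 7, 3],
  [6, 12, 6, 3, 12, 7, 12, 7, 12, 7, 9, 3, 7, 12, 7, 3],
  [6, 2, 8, 12, 6, 2, 6, 12, 7, 12, 1, 12, 7, 2, 7, 12, 7, 12, 3, 7, 12, 3],
  [4, 4, 12, 8, 12, 4],
  [1, 7, 12, 2, 12, 6],
  [12, 6, 6, 12, 5, 5],
  [8, 12, 6, 3, 12, 9, 12, 3, 6, 12],
  [3, 6, 12, 6, 3, 6, 12, 7, 8, 12, 7, 12, 3, 7, 12, 7],
  [2, 6, 12, 6, 2, 6, 12, 6, 2, 12, 7, 12, 9, 7, 12, 7],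
  [3, 6, 12, 6, 3, 6, 12, 6, 3, 12, 6, 12, 9, 7, 12, 7],
  [12, 12],
  []]
  defs := [(0, 0, []),
    (1, 0, [7]),
    (1, 0, []),
    (2, 0, [7]),
    (1, 0, [6, 10, 6]),
    (2, 0, [11, 7]),
    (4, 0, [11, 7])]

/-- facts -/
def facts0 : List Fact :=
  [⟨0, 0, 0, 0, [0], [0], [], .base⟩,
   ⟨0, 0, 0, 0, [2], [2], [], .base⟩,
   ⟨0, 0, 0, 0, [4], [4], [], .base⟩,
   ⟨0, 0, 0, 0, [6], [6], [], .base⟩,
   ⟨0, 0, 0, 0, [8], [8], [], .base⟩,
   ⟨0, 0, 0, 0, [10], [10], [], .base⟩,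
   ⟨1, 0, 1, 0, [], [], [], .defEdge⟩,
   ⟨0, 1, 1, 0, [10], [11], [], .loop 0 [10, 4] 10 0 1 false [.stab 5 true, .edge 6 [4]] [.edge 6 [2, 4]] []⟩,
   ⟨0, 1, 1, 0, [5], [9], [], .loop 0 [8] 10 0 1 false [.stab 4 true, .edge 6 []] [.edge 6 [3]] []⟩,
   ⟨0, 1, 1, 0, [9], [5], [], .loop 0 [5] 10 0 1 false [.stab 2 true, .edge 6 [5]] [.edge 6 [4, 5]] []⟩,
   ⟨0, 1, 1, 0, [3], [1], [], .loop 0 [0] 10 0 1 false [.stab 0 true, .edge 6 []] [.edge 6 [0]] []⟩,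
   ⟨0, 1, 1, 0, [1], [3], [], .loop 0 [2] 10 0 1 false [.stab 1 true, .edge 6 []] [.edge 6 [1]] []⟩,
   ⟨1, 1, 2, 0, [], [], [7], .defEdge⟩,
   ⟨0, 2, 2, 0, [4, 9], [4], [], .loop 1 [8, 6] 10 0 1 false [.stab 9 true, .edge 12 []] [.edge 12 [3, 4]] []⟩,
   ⟨0, 2, 2, 0, [9], [8], [], .loop 1 [4, 6] 10 0 1 false [.stab 8 true, .edge 12 []] [.edge 12 [4]] []⟩,
   ⟨0, 2, 2, 0, [2], [2], [], .loop 1 [1, 7] 10 0 1 false [.stab 11 true, .edge 12 []] [.edge 12 [0, 0]] []⟩,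
   ⟨1, 1, 3, 0, [], [], [], .defEdge⟩,
   ⟨2, 3, 0, 0, [6, 2, 10, 4, 8], [2, 4, 8, 10, 6], [], .loop 0 [10, 8, 6, 10, 6, 2, 8, 6] 5 3 6 false [.stab 4 false, .stab 2 false, .stab 5 false, .stab 1 false, .stab 3 false, .edge 6 [2, 3, 0, 2, 5], .lett 5, .lett 5, .edge 16 [3, 2, 4, 1, 3], .lett 6, .lett 6] [] []⟩,
   ⟨1, 2, 4, 0, [], [], [7], .defEdge⟩,
   ⟨0, 4, 4, 0, [4], [5], [], .loop 2 [2, 7] 10 0 1 false [.stab 15 true, .edge 18 []] [.stab 13 false, .stab 15 false, .edge 18 [3, 5]] []⟩,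
   ⟨0, 4, 4, 0, [4, 9], [9], [], .loop 2 [8, 6] 10 0 1 false [.stab 14 true, .edge 18 []] [.edge 18 [3, 4]] []⟩,
   ⟨1, 1, 4, 0, [4, 6, 3], [6, 3, 6, 9], [6, 3, 6], .loop 0 [6, 11, 4, 6, 10, 8] 1 8 5 false [.stab 3 false, .stab 5 false, .stab 5 false, .stab 3 false, .edge 6 [2, 3, 2, 4], .lett 7, .lett 9, .lett 3, .lett 7, .stab 9 false, .stab 7 false, .stab 7 false, .stab 8 false] [.lett 6, .stab 2 false, .stab 5 false, .stab 3 false, .edge 6 [4, 2, 2, 3, 0], .lett 6, .stab 7 false, .stab 8 false, .stab 10 false, .stab 7 false, .edge 12 [4, 3], .lett 2, .lett 7, .stab 15 false, .edge 18 [3, 5], .lett 7, .lett 2, .lett 6] [4, 3]⟩,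
   ⟨0, 4, 4, 0, [3, 6, 2, 6, 2, 9], [3, 6, 2, 6, 2, 9], [], .loop 0 [3, 8, 11, 6, 3, 11, 7, 11] 2 13 12 false [.lett 2, .lett 7, .stab 2 false, .stab 1 false, .stab 3 false, .stab 5 false, .stab 1 false, .stab 1 false, .stab 3 false, .edge 6 [0, 1, 3, 5], .lett 7, .stab 10 false, .edge 12 [0, 4], .lett 3, .lett 7, .edge 18 [4, 3], .lett 3, .lett 6, .lett 2, .lett 8] [.lett 6, .stab 4 false, .stab 5 false, .stab 1 false, .stab 3 false, .edge 6 [0, 1, 1, 3, 5, 2, 3], .lett 0, .edge 16 [1, 4, 2, 4, 5], .coin 17, .lett 6, .stab 3 false, .stab 5 false, .stab 3 false, .edge 6 [1, 4, 3, 0, 2], .lett 7, .lett 3, .lett 7, .stab 9 false, .stab 8 false, .stab 10 false, .stab 7 false, .edge 21 [0, 0]] []⟩,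
   ⟨1, 1, 5, 0, [], [], [6, 10, 6], .defEdge⟩,
   ⟨0, 5, 5, 0, [2], [2], [], .loop 1 [1, 6, 10, 6] 10 0 1 false [.stab 11 true, .edge 23 []] [.edge 23 [0, 0]] []⟩,
   ⟨1, 2, 6, 0, [], [], [11, 7], .defEdge⟩,
   ⟨1, 4, 7, 0, [], [], [11, 7], .defEdge⟩,
   ⟨1, 7, 7, 0, [3, 11, 4, 6, 3, 11, 8, 7, 2], [3, 11, 8, 10, 6], [3, 4, 11, 7], .loop 1 [0, 6, 2, 6, 3, 11, 4, 6] 9 1 8 false [.lett 6, .stab 8 false, .edge 21 [0, 1, 4, 2, 4], .lett 6, .lett 3, .lett 6, .stab 22 false, .edge 26 [3, 0, 2, 3], .lett 6, .lett 3] [.lett 2, .lett 6, .stab 8 false, .stab 10 false, .stab 7 false, .edge 21 [4, 1, 2], .lett 6, .lett 8, .stab 19 false, .stab 19 false, .edge 26 [3, 0, 4, 1, 2, 2, 4], .lett 7] [1, 4]⟩,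
   ⟨1, 7, 7, 0, [1, 6, 2, 10, 6, 2, 10, 7], [6, 3, 6, 2, 10, 7, 10], [6, 2, 6, 3, 11, 7], .loop 1 [0, 3, 6, 2, 6, 2, 10, 5] 7 10 8 false [.lett 7, .stab 10 false, .stab 9 false, .stab 7 false, .stab 8 false, .edge 21 [1, 2, 3, 0, 5, 2], .lett 3, .lett 7, .stab 19 false, .stab 19 false, .stab 19 false, .edge 26 [0, 1, 3, 4, 2, 5], .lett 7, .lett 3, .lett 6] [.stab 8 false, .stab 10 false, .edge 21 [0, 4, 1, 2, 2, 4], .lett 9, .lett 6, .stab 19 false, .stab 22 false, .stab 19 false, .stab 20 false, .edge 26 [4, 1, 3, 0, 2, 3, 4], .lett 7, .lett 2, .lett 7] [1, 2, 3, 0, 2, 5]⟩,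
   ⟨1, 7, 7, 0, [1, 11, 6, 3, 6, 3, 9, 10], [2, 4, 10, 6, 3, 6, 3, 8, 11], [6, 10, 6, 3, 7], .loop 1 [1, 6, 3, 6, 3, 10, 6, 2, 8] 0 7 6 false [.lett 9, .stab 10 false, .stab 9 false, .stab 7 false, .edge 21 [0, 1, 1, 3, 2], .lett 7, .stab 19 false, .stab 22 false, .stab 19 false, .edge 26 [2, 4, 1, 5, 2, 4], .lett 3, .lett 7] [.lett 7, .stab 8 false, .stab 10 false, .stab 7 false, .stab 8 false, .edge 21 [0, 1, 2, 2, 3], .lett 7, .lett 2, .lett 7, .stab 22 false, .stab 20 false, .stab 19 false, .stab 19 false, .edge 26 [0, 3, 2, 2, 4], .lett 7, .lett 2, .lett 6] [0, 5, 2]⟩,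
   ⟨0, 7, 7, 0, [1, 6, 2, 10, 6, 2, 10, 6], [1, 3, 8, 11, 4, 6, 3, 11, 8], [], .loop 7 [1, 3, 4, 11, 6, 3, 11, 4, 8] 3 3 6 false [.lett 8, .edge 27 [0, 0, 2, 4, 1], .lett 4, .lett 4, .lett 4, .edge 29 [1, 2, 4, 2, 4]] [] []⟩,
   ⟨0, 7, 7, 0, [0, 3, 11, 6, 3, 11, 7, 2, 10], [1], [], .loop 7 [6, 8, 10, 6, 2, 8, 11, 4] 4 1 6 false [.lett 7, .edge 29 [0, 2, 4, 5, 2, 4], .lett 2, .stab 30 false, .stab 30 false, .stab 30 false, .stab 30 false, .edge 27 [0, 2, 4, 2, 3], .lett 6, .lett 1] [] []⟩,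
   ⟨0, 7, 7, 0, [6, 3, 6, 3, 10, 8, 11, 6], [1, 2, 6, 3, 11, 8, 6, 10], [], .loop 7 [6, 2, 6, 3, 11, 7] 10 0 1 false [.stab 31 false, .stab 31 false, .stab 30 false, .stab 30 false, .stab 30 false, .stab 30 false, .edge 27 [0, 0, 1, 5, 2]] [.edge 28 []] []⟩,
   ⟨2, 7, 4, 0, [0, 2, 10, 4, 11, 6, 2, 10, 4], [1, 10, 4, 6, 10, 6, 9], [], .loop 4 [6, 3, 6, 3, 10, 7, 10] 6 7 2 true [.lett 3, .lett 6] [.stab 20 false, .stab 19 false, .stab 22 false, .stab 19 false, .edge 26 [0, 4, 1, 2, 2, 4], .lett 8, .stab 31 false, .stab 31 false, .stab 30 false, .stab 31 false, .stab 30 false, .edge 27 [3, 0, 2, 4], .lett 2, .lett 7, .stab 31 false, .stab 31 false, .stab 30 false, .stab 30 false, .stab 30 false, .edge 27 [0, 1, 2, 5], .lett 9, .stab 32 false, .stab 31 false, .stab 30 false, .stab 32 false, .stab 32 false, .edge 27 [1, 1, 2, 2, 3, 0]] []⟩,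
   ⟨0, 4, 4, 0, [6, 3, 6, 2, 10, 8, 6, 10], [4, 6, 3, 10, 6, 2, 7, 2], [], .loop 7 [6, 2, 6, 3, 11, 7] 10 0 1 false [.coin 33, .stab 20 false, .stab 22 false, .stab 19 false, .stab 19 false, .stab 19 false, .edge 26 [3, 4, 1, 2], .coin 33] [.edge 28 [], .coin 33] []⟩,
   ⟨2, 4, 1, 0, [6, 10, 8, 6, 2, 11, 6, 2], [3, 6, 2, 6, 2, 10, 6, 9], [], .loop 1 [0, 6, 2, 10, 4, 7, 3, 10] 8 9 16 false [.stab 9 false, .stab 7 false, .stab 7 false, .edge 21 [0, 1, 2, 4, 3, 2], .lett 7, .stab 19 false, .stab 22 false, .stab 19 false, .edge 26 [3, 0, 4, 1, 2, 2], .coin 33, .lett 9, .lett 7, .stab 22 false, .stab 20 false, .stab 34 false, .edge 26 [0, 2, 2, 4], .coin 33, .lett 7, .lett 2, .lett 6, .stab 20 false, .stab 22 false, .stab 20 false, .edge 26 [2, 4, 1, 3, 0, 2], .coin 33, .lett 6, .lett 2, .lett 6, .stab 34 false, .stab 34 false, .stab 19 false, .stab 22 false, .edge 26 [0, 3, 2, 5], .coin 33,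 .lett 6, .lett 2] [] []⟩,
   ⟨0, 1, 1, 0, [1, 3, 10, 6], [1, 8, 10, 6, 11, 9], [], .loop 4 [11, 7] 10 0 1 false [.coin 35, .stab 8 false, .stab 10 false, .stab 7 false, .stab 7 false, .edge 21 [1, 1, 3, 0, 5, 2], .coin 35] [.edge 26 [], .coin 33, .coin 35] []⟩,
   ⟨2, 5, 0, 0, [11, 4, 7, 3, 11], [0, 2, 4, 8, 10, 6, 2, 11, 8], [], .loop 1 [6, 10, 6] 10 0 1 true [.stab 36 false, .stab 8 false, .stab 10 false, .stab 36 false, .edge 16 [0, 2, 4, 1], .coin 17] [.edge 23 []] []⟩,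
   ⟨0, 0, 0, 0, [0, 2, 11, 6, 3, 11, 7, 3, 10], [2, 10, 6, 2, 7, 3, 11], [], .loop 5 [2] 11 0 0 false [.stab 24 true, .coin 37] [.coin 37] []⟩,
   ⟨2, 1, 0, 0, [0, 3, 10, 6, 3, 11, 4, 11], [0, 4, 10, 6, 3, 8, 11, 7, 3], [], .loop 1 [6, 3, 6] 10 0 1 true [.stab 36 false, .stab 10 false, .stab 7 false, .stab 7 false, .stab 36 false, .edge 16 [0, 1, 1, 2], .coin 17] [.edge 21 [], .coin 35] []⟩]

/-- facts -/
def facts1 : List Fact :=
  [⟨2, 2, 0, 0, [2, 4, 11, 6, 3, 6, 10], [6, 2, 11, 6, 2, 10, 4, 10], [], .loop 1 [7] 10 0 1 true [.coin 39, .stab 2 false, .stab 38 false, .stab 38 false, .stab 3 false, .edge 6 [1, 3, 0, 2, 4], .coin 39] [.edge 12 []] []⟩,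
   ⟨2, 6, 0, 0, [10, 6, 2, 6, 3, 10, 6, 9], [6, 2, 11, 6, 2, 11, 5, 11], [], .loop 2 [11, 7] 10 0 1 true [.coin 40, .stab 4 false, .stab 38 false, .stab 38 false, .stab 3 false, .edge 6 [1, 2, 2, 4, 3, 0], .coin 39] [.edge 25 []] []⟩]

/-- facts -/
def facts : List Fact := facts0 ++ facts1

noncomputable def cls0_0 : BTree := (.node (.node (.node (.node (.node (.leaf 0xe400240150000000e000240110000000dc002400d0000000d800240050000000cc00f800d00000006800e400900000015c00200090000000c0001c0110000000bc001c00d00000006c00e400d0000000c8001c09900000010c00d40150000000b4001801500000005c00bc01500000015000300150000000ac001000d00000010000140110000000fc001400d0000000f800140090000000b00010015000000048000c011000000044000c00d000000040000c0090000000c4001c0150000000380008015000000034000800d00000004c000c0150000000300008005000000010000401500000000c0004005000000004000000d000000000000001b) (.leaf 0x0)) (.node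 (.leaf 0x0) (.leaf 0x0))) (.node (.node (.leaf 0x0) (.leaf 0x0)) (.node (.leaf 0x0) (.leaf 0x0)))) (.node (.node (.node (.leaf 0x20014c00d00000008c016401500000002c014c09900000009c012c01100000012801380110000001040014099000000008000009900000006400e400500000007c00fc009000000148010400900000010800d400d00000006000bc099000000024014c0110000001180110015000000028014c0150000000f00028099000000114012001500000005400bc00d00000008400fc011000000090013400900000008000fc00d00000005800bc01100000008801640090000000a4015c00900000007800fc0050000000a0015c005) (.leaf 0x0)) (.node (.leaf 0x0) (.leaf 0x0))) (.node (.node (.leaf 0x0) (.leaf 0x0)) (.node (.leaf 0x0) (.leaf 0x0))))) (.node (.node (.node (.node (.leaf 0x1c014c00900000003c000809900000013c00cc0110000000a8015c00d00000015800ac00900000014c0144009000000018014c005000000134005801500000013000580110000000d000f801100000005000bc005000000160005400d00000007000e4015000000124013800900000007400e4099000000154004c0090000000140004099000000098012c0090000000d400f809900000011c00480090000000b800180990000001200048011000000164006c00500000012c006809900000014400c401100000014000cc01500000011000d409900000013800cc00d0000000f4002c00d00000009401340990000000ec00280110000000e80028009)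 (.leaf 0x0)) (.node (.leaf 0x0) (.leaf 0x0))) (.node (.node (.leaf 0x0) (.leaf 0x0)) (.node (.leaf 0x0) (.leaf 0x0)))) (.node (.node (.node (.leaf 0x0) (.leaf 0x0)) (.node (.leaf 0x0) (.leaf 0x0))) (.node (.node (.leaf 0x0) (.leaf 0x0)) (.node (.leaf 0x0) (.leaf 0x0))))))

/-- a living orbit -/
noncomputable def live0 : Live := ⟨0, [0, 1, 2, 3, 4, 5, 38], [cls0_0]⟩

/-- the living orbits -/
noncomputable def lives : List Live := [live0]

/-- facts removing the other orbits -/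
def dead : List Nat := [39, 40, 17, 35, 37, 41, 33]


end CfsgLib.McLThree.K3
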