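import Cfsg.Agent.Lib.DCE.Grp

/-!
Relators and substitutions for the bound on the order (generated data).
-/

namespace CfsgLib.McLThree

/-- relators of the cover: letters `2 * i` and `2 * i + 1` are `T i` and its inverse -/
def coverD : List (List Nat) :=
  [[0, 0, 0],
  [2, 2, 2],
  [4, 4, 4],
  [6, 6, 6],
  [8, 8, 8],
  [10, 10, 10],
  [4, 0, 4, 3, 1, 3],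
  [6, 0, 6, 3, 1, 3],
  [8, 0, 8, 3, 1, 3],
  [10, 0, 10, 3, 1, 3],
  [2, 0, 2, 0, 3, 1, 3, 1],
  [2, 4, 2, 4, 3, 1, 3, 1],
  [2, 6, 2, 6, 3, 1, 3, 1],
  [2, 8, 2, 8, 3, 1, 3, 1],
  [2, 10, 2, 10, 3, 1, 3, 1],
  [4, 0, 4, 0, 3, 1, 3, 1],
  [4, 2, 4, 1, 3, 1],
  [4, 6, 4, 6, 3, 1, 3, 1],
  [4, 8, 4, 8, 3, 1, 3, 1],
  [4, 10, 4, 10, 3, 1, 3, 1],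
  [6, 0, 6, 0, 3, 1, 3, 1],
  [6, 2, 6, 1, 3, 1],
  [6, 4, 6, 4, 3, 1, 3, 1],
  [6, 8, 6, 8, 3, 1, 3, 1],
  [6, 10, 6, 10, 3, 1, 3, 1],
  [8, 0, 8, 0, 3, 1, 3, 1],
  [8, 2, 8, 1, 3, 1],
  [8, 4, 8, 4, 3, 1, 3, 1],
  [8, 6, 8, 6, 3, 1, 3, 1],
  [8, 10, 8, 10, 3, 1, 3, 1],
  [10, 0, 10, 0, 3, 1, 3, 1],
  [10, 2, 10, 1, 3, 1],
  [10, 4, 10, 4, 3, 1, 3, 1],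
  [10, 6, 10, 6, 3, 1, 3, 1],
  [10, 8, 10, 8, 3, 1, 3, 1],
  [0, 2, 0, 2, 1, 3, 1, 3],
  [2, 0, 2, 0, 3, 1, 3, 1],
  [4, 0, 2, 0, 2, 5, 3, 1, 3, 1],
  [6, 0, 2, 0, 2, 7, 3, 1, 3, 1],
  [8, 0, 2, 0, 2, 9, 3, 1, 3, 1],
  [10, 0, 2, 0, 2, 11, 3, 1, 3, 1],
  [0, 2, 0, 2, 0, 2, 0, 2]]

/-- the relators with `q` and their inverses; `12` and `13` are `q` and its inverse -/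
def qRelD : List (List Nat) :=
  [[12, 12, 12],
  [0, 12, 1, 13],
  [2, 6, 0, 5, 0, 4, 1, 7, 3, 12, 2, 6, 0, 5, 1, 4, 1, 7, 3, 13],
  [0, 2, 0, 2, 12, 3, 1, 3, 1, 12],
  [0, 4, 6, 8, 0, 10, 2, 8, 12, 9, 3, 11, 1, 9, 7, 5, 1, 12],
  [12, 4, 8, 6, 10, 4, 8, 12, 9, 5, 11, 7, 9, 5, 13, 4, 8, 6, 10, 4, 8, 13, 9, 5, 11, 7, 9, 5],
  [12, 4, 6, 8, 10, 4, 6, 12, 7, 5, 11, 9, 7, 5, 13, 4, 6, 8, 10, 4, 6, 13, 7, 5, 11, 9, 7, 5, 1],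
  [12, 4, 6, 8, 10, 4, 6, 4, 8, 6, 10, 4, 8, 12, 9, 5, 11, 7, 9, 5, 7, 5, 11, 9, 7, 5, 13, 4, 6, 8, 10, 4, 6, 4, 8, 6, 10, 4, 8, 13, 9, 5, 11, 7, 9, 5, 7, 5, 11, 9, 7, 5],
  [8, 6, 10, 4, 8, 12, 9, 5, 11, 7, 9, 6, 8, 10, 4, 6, 12, 7, 5, 11, 9, 7, 8, 6, 10, 4, 8, 13, 9, 5, 11, 7, 9, 6, 8, 10, 4, 6, 13, 7, 5, 11, 9, 7],
  [4, 8, 6, 10, 4, 8, 12, 9, 5, 11, 7, 9, 6, 8, 10, 4, 6, 4, 8, 6, 10, 4, 8, 12, 9, 5, 11, 7, 9, 5, 7, 5, 11, 9, 7, 8, 6, 10, 4, 8, 13, 9, 5, 11, 7, 9, 6, 8, 10, 4, 6, 4, 8, 6, 10, 4, 8, 13, 9, 5, 11, 7, 9, 5, 7, 5, 11, 9, 7, 5, 0],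
  [12, 4, 8, 6, 10, 4, 8, 12, 9, 5, 11, 7, 9, 5, 13, 4, 8, 6, 10, 4, 8, 13, 9, 5, 11, 7, 9, 5],
  [2, 6, 0, 5, 0, 4, 1, 7, 3, 12, 2, 6, 0, 5, 1, 4, 1, 7, 3, 13],
  [2, 6, 0, 5, 0, 4, 1, 7, 3, 4, 8, 6, 10, 4, 8, 12, 9, 5, 11, 7, 9, 5, 2, 6, 0, 5, 1, 4, 1, 7, 3, 4, 8, 6, 10, 4, 8, 13, 9, 5, 11, 7, 9, 5],
  [2, 6, 0, 5, 0, 4, 1, 7, 3, 4, 6, 8, 10, 4, 6, 12, 7, 5, 11, 9, 7, 5, 2, 6, 0, 5, 1, 4, 1, 7, 3, 4, 6, 8, 10, 4, 6, 13, 7, 5, 11, 9, 7, 8, 6, 10, 4, 8, 12, 9, 5, 11, 7, 9, 5, 13, 1],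
  [2, 6, 0, 5, 0, 4, 1, 7, 3, 4, 6, 8, 10, 4, 6, 4, 8, 6, 10, 4, 8, 12, 9, 5, 11, 7, 9, 5, 7, 5, 11, 9, 7, 5, 2, 6, 0, 5, 1, 4, 1, 7, 3, 4, 6, 8, 10, 4, 6, 4, 8, 6, 10, 4, 8, 13, 9, 5, 11, 7, 9, 5, 7, 5, 11, 9, 7, 8, 6, 10, 4, 8, 13, 9, 5, 11, 7, 9, 5, 13, 0],
  [4, 8, 6, 10, 4, 8, 4, 8, 6, 10, 4, 8, 12, 9, 5, 11, 7, 9, 5, 9, 5, 11, 7, 9, 5, 12],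
  [8, 6, 10, 4, 8, 4, 6, 8, 10, 4, 6, 12, 7, 5, 11, 9, 7, 5, 9, 5, 11, 7, 9, 6, 8, 10, 4, 6, 4, 8, 6, 10, 4, 8, 12, 9, 5, 11, 7, 9, 5, 7, 5, 11, 9, 7],
  [8, 6, 10, 4, 8, 4, 6, 8, 10, 4, 6, 4, 8, 6, 10, 4, 8, 12, 9, 5, 11, 7, 9, 5, 7, 5, 11, 9, 7, 5, 9, 5, 11, 7, 9, 6, 8, 10, 4, 6, 13, 7, 5, 11, 9, 7],
  [4, 6, 8, 10, 4, 6, 4, 6, 8, 10, 4, 6, 12, 7, 5, 11, 9, 7, 5, 7, 5, 11, 9, 7, 5, 12],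
  [6, 8, 10, 4, 6, 4, 6, 8, 10, 4, 6, 4, 8, 6, 10, 4, 8, 12, 9, 5, 11, 7, 9, 5, 7, 5, 11, 9, 7, 5, 7, 5, 11, 9, 7, 8, 6, 10, 4, 8, 12, 9, 5, 11, 7, 9],
  [8, 0, 10, 9, 12, 8, 11, 1, 9, 4, 8, 6, 10, 4, 8, 12, 9, 5, 11, 7, 9, 5, 13],
  [8, 0, 10, 9, 4, 8, 6, 10, 4, 8, 12, 9, 5, 11, 7, 9, 5, 8, 11, 1, 9, 4, 8, 6, 10, 4, 8, 12, 9, 5, 11, 7, 9, 5, 12],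
  [8, 0, 10, 9, 4, 6, 8, 10, 4, 6, 12, 7, 5, 11, 9, 7, 5, 8, 11, 1, 9, 4, 6, 8, 10, 4, 6, 4, 8, 6, 10, 4, 8, 13, 9, 5, 11, 7, 9, 5, 13, 7, 5, 11, 9, 7, 5],
  [8, 0, 10, 9, 4, 6, 8, 10, 4, 6, 4, 8, 6, 10, 4, 8, 12, 9, 5, 11, 7, 9, 5, 7, 5, 11, 9, 7, 5, 8, 11, 1, 9, 4, 6, 8, 10, 4, 6, 4, 8, 6, 10, 4, 8, 12, 9, 5, 11, 7, 9, 5, 13, 7, 5, 11, 9, 7, 5],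
  [13, 13, 13],
  [12, 0, 13, 1],
  [12, 2, 6, 0, 5, 0, 4, 1, 7, 3, 13, 2, 6, 0, 5, 1, 4, 1, 7, 3],
  [13, 0, 2, 0, 2, 13, 3, 1, 3, 1],
  [13, 0, 4, 6, 8, 0, 10, 2, 8, 13, 9, 3, 11, 1, 9, 7, 5, 1],
  [4, 8, 6, 10, 4, 8, 12, 9, 5, 11, 7, 9, 5, 12, 4, 8, 6, 10, 4, 8, 13, 9, 5, 11, 7, 9, 5, 13],
  [0, 4, 6, 8, 10, 4, 6, 12, 7, 5, 11, 9, 7, 5, 12, 4, 6, 8, 10, 4, 6, 13, 7, 5, 11, 9, 7, 5, 13],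
  [4, 6, 8, 10, 4, 6, 4, 8, 6, 10, 4, 8, 12, 9, 5, 11, 7, 9, 5, 7, 5, 11, 9, 7, 5, 12, 4, 6, 8, 10, 4, 6, 4, 8, 6, 10, 4, 8, 13, 9, 5, 11, 7, 9, 5, 7, 5, 11, 9, 7, 5, 13],
  [6, 8, 10, 4, 6, 12, 7, 5, 11, 9, 7, 8, 6, 10, 4, 8, 12, 9, 5, 11, 7, 9, 6, 8, 10, 4, 6, 13, 7, 5, 11, 9, 7, 8, 6, 10, 4, 8, 13, 9, 5, 11, 7, 9],
  [1, 4, 6, 8, 10, 4, 6, 4, 8, 6, 10, 4, 8, 12, 9, 5, 11, 7, 9, 5, 7, 5, 11, 9, 7, 8, 6, 10, 4, 8, 12, 9, 5, 11, 7, 9, 6, 8, 10, 4, 6, 4, 8, 6, 10, 4, 8, 13, 9, 5, 11, 7, 9, 5, 7, 5, 11, 9, 7, 8, 6, 10, 4, 8, 13, 9, 5, 11, 7, 9, 5],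
  [4, 8, 6, 10, 4, 8, 12, 9, 5, 11, 7, 9, 5, 12, 4, 8, 6, 10, 4, 8, 13, 9, 5, 11, 7, 9, 5, 13],
  [12, 2, 6, 0, 5, 0, 4, 1, 7, 3, 13, 2, 6, 0, 5, 1, 4, 1, 7, 3],
  [4, 8, 6, 10, 4, 8, 12, 9, 5, 11, 7, 9, 5, 2, 6, 0, 5, 0, 4, 1, 7, 3, 4, 8, 6, 10, 4, 8, 13, 9, 5, 11, 7, 9, 5, 2, 6, 0, 5, 1, 4, 1, 7, 3],
  [0, 12, 4, 8, 6, 10, 4, 8, 13, 9, 5, 11, 7, 9, 6, 8, 10, 4, 6, 12, 7, 5, 11, 9, 7, 5, 2, 6, 0, 5, 0, 4, 1, 7, 3, 4, 6, 8, 10, 4, 6, 13, 7, 5, 11, 9, 7, 5, 2, 6, 0, 5, 1, 4, 1, 7, 3],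
  [1, 12, 4, 8, 6, 10, 4, 8, 12, 9, 5, 11, 7, 9, 6, 8, 10, 4, 6, 4, 8, 6, 10, 4, 8, 12, 9, 5, 11, 7, 9, 5, 7, 5, 11, 9, 7, 5, 2, 6, 0, 5, 0, 4, 1, 7, 3, 4, 6, 8, 10, 4, 6, 4, 8, 6, 10, 4, 8, 13, 9, 5, 11, 7, 9, 5, 7, 5, 11, 9, 7, 5, 2, 6, 0, 5, 1, 4, 1, 7, 3],
  [13, 4, 8, 6, 10, 4, 8, 4, 8, 6, 10, 4, 8, 13, 9, 5, 11, 7, 9, 5, 9, 5, 11, 7, 9, 5],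
  [6, 8, 10, 4, 6, 4, 8, 6, 10, 4, 8, 13, 9, 5, 11, 7, 9, 5, 7, 5, 11, 9, 7, 8, 6, 10, 4, 8, 4, 6, 8, 10, 4, 6, 13, 7, 5, 11, 9, 7, 5, 9, 5, 11, 7, 9],
  [6, 8, 10, 4, 6, 12, 7, 5, 11, 9, 7, 8, 6, 10, 4, 8, 4, 6, 8, 10, 4, 6, 4, 8, 6, 10, 4, 8, 13, 9, 5, 11, 7, 9, 5, 7, 5, 11, 9, 7, 5, 9, 5, 11, 7, 9],
  [13, 4, 6, 8, 10, 4, 6, 4, 6, 8, 10, 4, 6, 13, 7, 5, 11, 9, 7, 5, 7, 5, 11, 9, 7, 5],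
  [8, 6, 10, 4, 8, 13, 9, 5, 11, 7, 9, 6, 8, 10, 4, 6, 4, 6, 8, 10, 4, 6, 4, 8, 6, 10, 4, 8, 13, 9, 5, 11, 7, 9, 5, 7, 5, 11, 9, 7, 5, 7, 5, 11, 9, 7],
  [12, 4, 8, 6, 10, 4, 8, 13, 9, 5, 11, 7, 9, 5, 8, 0, 10, 9, 13, 8, 11, 1, 9],
  [13, 4, 8, 6, 10, 4, 8, 13, 9, 5, 11, 7, 9, 5, 8, 0, 10, 9, 4, 8, 6, 10, 4, 8, 13, 9, 5, 11, 7, 9, 5, 8, 11, 1, 9],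
  [4, 6, 8, 10, 4, 6, 12, 4, 8, 6, 10, 4, 8, 12, 9, 5, 11, 7, 9, 5, 7, 5, 11, 9, 7, 5, 8, 0, 10, 9, 4, 6, 8, 10, 4, 6, 13, 7, 5, 11, 9, 7, 5, 8, 11, 1, 9],
  [4, 6, 8, 10, 4, 6, 12, 4, 8, 6, 10, 4, 8, 13, 9, 5, 11, 7, 9, 5, 7, 5, 11, 9, 7, 5, 8, 0, 10, 9, 4, 6, 8, 10, 4, 6, 4, 8, 6, 10, 4, 8, 13, 9, 5, 11, 7, 9, 5, 7, 5, 11, 9, 7, 5, 8, 11, 1, 9]]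

/-- conjugating words -/
def conjW : List (List Nat) :=
  [[],
  [4],
  [5],
  [4, 6],
  [7, 5],
  [4, 8, 6, 10, 4, 8],
  [4, 6, 8, 10, 4, 6],
  [9, 5, 11, 7, 9, 5],
  [7, 5, 11, 9, 7, 5],
  [4, 8, 6, 10, 4, 8, 4, 6, 8, 10, 4, 6],
  [7, 5, 11, 9, 7, 5, 9, 5, 11, 7, 9, 5],
  [12],
  [13],
  [0, 4, 6, 8, 0, 10, 2, 8],
  [9, 3, 11, 1, 9, 7, 5, 1],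
  [12, 0, 4, 6, 8, 0, 10, 2, 8],
  [13, 9, 3, 11, 1, 9, 7, 5, 1],
  [0, 4, 6, 8, 0, 10, 2, 8, 12],
  [9, 3, 11, 1, 9, 7, 5, 1, 13]]

/-- the words of `z, a, s, w, e, q, g` in the letters `T i` and `q` -/
def genW : List (List Nat) :=
  [[0],
  [2, 6, 0, 5, 0, 4, 1, 7, 3],
  [4, 8, 6, 10, 4, 8],
  [4, 6, 8, 10, 4, 6],
  [8, 0, 10, 9],
  [12],
  [0, 4, 6, 8, 0, 10, 2, 8]]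

/-- relators of the complement of `Q` in the normalizer of `z`, on `z, a, s, w, e` -/
def relK : List (List Nat) :=
  [[2, 2, 2],
  [0, 0, 0],
  [8, 5, 9, 5],
  [8, 4, 8, 5],
  [8, 2, 9, 3],
  [5, 7, 7, 5],
  [5, 6, 6, 5],
  [5, 5, 5, 5],
  [4, 2, 5, 2],
  [4, 0, 5, 1],
  [2, 0, 3, 1],
  [6, 8, 4, 6, 9],
  [4, 8, 6, 9, 7],
  [4, 7, 9, 6, 9],
  [4, 7, 8, 7, 9],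
  [4, 6, 9, 7, 9],
  [2, 9, 2, 8, 2],
  [0, 2, 0, 3, 0],
  [3, 9, 0, 8, 2, 0],
  [3, 8, 0, 9, 2, 0],
  [3, 6, 0, 7, 2, 1],
  [3, 5, 0, 4, 2, 1],
  [6, 2, 8, 5, 2, 7, 9],
  [6, 2, 8, 4, 2, 6, 9],
  [4, 7, 3, 8, 2, 7, 9],
  [4, 7, 2, 9, 3, 6, 9],
  [4, 7, 2, 8, 3, 7, 9],
  [4, 6, 3, 9, 2, 7, 9],
  [4, 6, 3, 8, 2, 6, 9],
  [6, 3, 9, 0, 8, 2, 7, 0],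
  [6, 3, 8, 0, 9, 2, 7, 0],
  [2, 4, 6, 2, 6, 3, 7, 2, 7, 3, 7]]

/-- relators of the normalizer of `z`, on `z, a, s, w, e, q` -/
def relH : List (List Nat) :=
  [[2, 2, 2],
  [0, 0, 0],
  [8, 5, 9, 5],
  [8, 4, 8, 5],
  [8, 2, 9, 3],
  [5, 7, 7, 5],
  [5, 6, 6, 5],
  [5, 5, 5, 5],
  [4, 2, 5, 2],
  [4, 0, 5, 1],
  [2, 0, 3, 1],
  [6, 8, 4, 6, 9],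
  [4, 8, 6, 9, 7],
  [4, 7, 9, 6, 9],
  [4, 7, 8, 7, 9],
  [4, 6, 9, 7, 9],
  [2, 9, 2, 8, 2],
  [0, 2, 0, 3, 0],
  [3, 9, 0, 8, 2, 0],
  [3, 8, 0, 9, 2, 0],
  [3, 6, 0, 7, 2, 1],
  [3, 5, 0, 4, 2, 1],
  [6, 2, 8, 5, 2, 7, 9],
  [6, 2, 8, 4, 2, 6, 9],
  [4, 7, 3, 8, 2, 7, 9],
  [4, 7, 2, 9, 3, 6, 9],
  [4, 7, 2, 8, 3, 7, 9],
  [4, 6, 3, 9, 2, 7, 9],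
  [4, 6, 3, 8, 2, 6, 9],
  [6, 3, 9, 0, 8, 2, 7, 0],
  [6, 3, 8, 0, 9, 2, 7, 0],
  [2, 4, 6, 2, 6, 3, 7, 2, 7, 3, 7],
  [10, 10, 10],
  [0, 10, 1, 11],
  [2, 10, 3, 11],
  [10, 4, 10, 5, 11, 4, 11, 5],
  [10, 6, 10, 7, 11, 6, 11, 7, 1],
  [10, 6, 4, 10, 5, 7, 11, 6, 4, 11, 5, 7],
  [4, 10, 5, 6, 10, 7, 4, 11, 5, 6, 11, 7],
  [4, 10, 5, 6, 4, 10, 5, 7, 4, 11, 5, 6, 4, 11, 5, 7, 0],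
  [10, 4, 10, 5, 11, 4, 11, 5],
  [2, 10, 3, 11],
  [2, 4, 10, 5, 3, 4, 11, 5],
  [2, 6, 10, 7, 3, 6, 11, 7, 4, 10, 5, 11, 1],
  [2, 6, 4, 10, 5, 7, 3, 6, 4, 11, 5, 7, 4, 11, 5, 11, 0],
  [4, 4, 10, 5, 5, 10],
  [4, 6, 10, 7, 5, 6, 4, 10, 5, 7],
  [4, 6, 4, 10, 5, 7, 5, 6, 11, 7],
  [6, 6, 10, 7, 7, 10],
  [6, 6, 4, 10, 5, 7, 7, 4, 10, 5],
  [8, 10, 9, 4, 10, 5, 11],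
  [8, 4, 10, 5, 9, 4, 10, 5, 10],
  [8, 6, 10, 7, 9, 6, 4, 11, 5, 11, 7],
  [8, 6, 4, 10, 5, 7, 9, 6, 4, 10, 5, 11, 7]]

/-- the letters `T i` in `z, a, s, w, e` and `g`, which is `12` -/
def topW : List (List Nat) :=
  [[0],
  [4, 6, 12, 6, 12, 7, 3, 12],
  [6, 8, 12, 6, 2, 6, 3, 12, 7],
  [6, 8, 12, 6, 3, 6, 3, 12, 6],
  [8, 12, 6, 2, 6, 3, 12],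
  [8, 12, 6, 3, 7, 3, 12]]

end CfsgLib.McLThree
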