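import Cfsg.Agent.Lib.McLThree.CoverCard
import Cfsg.Agent.Lib.McLThree.BoundWords
import Cfsg.Agent.Lib.McLThree.BoundCChecks
import Cfsg.Agent.Lib.DCE.Subst

/-!
Checking relations among words in the letters: those of the double cover are decided by the images
of three points, the others are compared with the relators as reduced words.
-/

set_option autoImplicit false
set_option maxRecDepth 100000

namespace CfsgLib.McLThree

open CfsgLib.PresCert CfsgLib.DCE

universe u

/-- The number of a letter. -/
def num (k : Fin 14) : Nat := if k.1 < 7 then 2 * k.1 else 2 * (k.1 - 7) + 1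

theorem coverD_eq : coverRels.map (List.map num) = coverD := by decide +kernel

theorem qRelD_eq : qRels0.map (List.map num) ++
    qRels0.map (fun w => subst.ivw' (w.map num)) = qRelD := by decide +kernel

section

variable {H : Type u} [Group H]

theorem wv_num (L : Fin 7 → H) (w : List (Fin 14)) : wv L (w.map num) = val L w := by
  unfold wv val
  rw [List.map_map]
  congr 1
  refine List.map_congr_left fun k _ => ?_
  simp only [Function.comp_apply, num, lv]
  by_cases h : k.1 < 7
  · simp [h]
  · have hk := k.2
    simp [h, Nat.add_mod, show (2 * (k.1 - 7) + 1) / 2 = k.1 - 7 by omega,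
      show k.1 - 7 < 7 by omega]

theorem wv_castSucc {m : ℕ} (f : Fin (m + 1) → H) : ∀ w : List Nat, (∀ x ∈ w, x < 2 * m) →
    wv (fun k : Fin m => f k.castSucc) w = wv f w := by
  intro w hw
  unfold wv
  congr 1
  refine List.map_congr_left fun x hx => ?_
  have := hw x hx
  simp [lv, show x / 2 < m by omega, show x / 2 < m + 1 by omega]

/-- one step of the free reduction -/
def pushW (x : Nat) : List Nat → List Nat
  | [] => [x]
  | y :: r => if y = x ^^^ 1 then r else x :: y :: r

/-- free reduction -/
def fred (w : List Nat) : List Nat := w.foldr pushW []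

theorem wv_pushW {m : ℕ} (f : Fin m → H) (x : Nat) (w : List Nat) :
    wv f (pushW x w) = lv f x * wv f w := by
  rcases w with _ | ⟨y, r⟩
  · simp [pushW, wv]
  · rw [pushW, wv_cons]
    split_ifs with h
    · rw [h, show lv f (x ^^^ 1) = (lv f x)⁻¹ from lv_xor f x, mul_inv_cancel_left]
    · rw [wv_cons, wv_cons]

theorem wv_fred {m : ℕ} (f : Fin m → H) : ∀ w : List Nat, wv f (fred w) = wv f w
  | [] => rfl
  | x :: w => by
    rw [fred, List.foldr_cons, wv_pushW, wv_cons]
    congr 1
    exact wv_fred f w

end

/-- The group presented by the relators of the cover. -/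
abbrev GC : Type := Grp 6 coverD

theorem coverD_lt : ∀ w ∈ coverD, ∀ x ∈ w, x < 12 := by decide +kernel

theorem gc_bound : Finite GC ∧ Nat.card GC ≤ 40320 := by
  let L : Fin 7 → GC := Fin.snoc Grp.gen 1
  have hcs : (fun i : Fin 6 => L i.castSucc) = Grp.gen := funext fun i => by simp [L]
  have hL : ∀ w ∈ coverRels, val L w = 1 := by
    intro w hw
    have hm : w.map num ∈ coverD := coverD_eq ▸ List.mem_map_of_mem hw
    rw [← wv_num, ← wv_castSucc L _ (coverD_lt _ hm), hcs]
    exact Grp.wv_rel hm
  obtain ⟨hfin, -, hc⟩ := cover_closure_card L hL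
  rw [hcs, Grp.closure_gen] at hfin hc
  rw [Subgroup.card_top] at hc
  exact ⟨Finite.of_equiv _ Subgroup.topEquiv.toEquiv, hc⟩

private theorem rels_c : okRels CP.P coverD = true := by decide +kernel

/-- its representation on the points of the model -/
noncomputable def permsC : Perms CP.P GC := Perms.ofGrp (m := 6) rfl CP.pair_ok rels_c

theorem c_faithful (h : GC) (hh : ∀ i : Fin CP.P.n, (i : Nat) ∈ CP.ls.map Level.base →
    permsC.act h i = i) : h = 1 := by
  obtain ⟨hfin, hc⟩ := gc_bound
  exact (permsC.faithful CP.words_ok CP.ls CP.levels_ok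
    (hc.trans (by decide +kernel : 40320 ≤ (CP.ls.map Level.len).prod))).1 h hh

/-- a word of the cover fixing three points -/
noncomputable def okC (u : List Nat) : Bool :=
  (u.all fun x => Nat.blt x 12) &&
    (CP.ls.map Level.base).all fun b => Nat.beq (CP.P.app u b) b

/-- a word reducing to a conjugate of a relator with `q` -/
noncomputable def okQ (u : List Nat) (h : Nat × Nat) : Bool :=
  let c := conjW.getD h.2 []
  decide (h.1 < qRelD.length) && fred (c ++ (qRelD.getD h.1 [] ++ subst.ivw' c)) == u

/-- the conjugates that occur -/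
def qHints : List (Nat × Nat) :=
  [(0, 12), (1, 0), (4, 11), (6, 0), (7, 0), (8, 1), (9, 0), (10, 0), (11, 0), (12, 0), (13, 0),
    (14, 0), (15, 0), (16, 1), (17, 1), (18, 0), (19, 1), (20, 0), (21, 0), (22, 0), (23, 0)]

/-- a word that is trivial by the relators -/
noncomputable def okWord (w : List Nat) : Bool :=
  let u := fred w
  okC u || qHints.any (okQ u)

/-- a word in `z, a, s, w, e, q, g` that is trivial by the relators -/
noncomputable def okRel (w : List Nat) : Bool := okWord (subst genW w)

theorem genW_length : genW.length = 7 := by decide +kernel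

section

variable {H : Type u} [Group H] (L : Fin 7 → H)

/-- the elements `z, a, s, w, e, q, g` -/
def locGen (k : Fin 7) : H := wv L (genW.getD k [])

variable {L} (hL : ∀ w ∈ rels 0, val L w = 1)
include hL

theorem cover_one {u : List Nat} (h : okC u = true) : wv L u = 1 := by
  simp only [okC, Bool.and_eq_true, List.all_eq_true, Nat.blt_eq, Nat.beq_eq] at h
  obtain ⟨hlt, hfix⟩ := h
  have hrel : ∀ r ∈ coverD, wv (fun k : Fin 6 => L k.castSucc) r = 1 := by
    intro r hr
    rw [wv_castSucc L _ (coverD_lt r hr)]
    rw [← coverD_eq] at hr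
    obtain ⟨w, hw, rfl⟩ := List.mem_map.1 hr
    rw [wv_num]
    exact hL w (by simp [rels, hw])
  have h1 : permsC.val u = 1 := c_faithful _ fun i hi => by
    refine Fin.ext ?_
    rw [← permsC.app_eq u hlt i]
    exact hfix _ hi
  have h2 := congrArg (Grp.lift (fun k : Fin 6 => L k.castSucc) hrel) h1
  rw [Perms.val, map_wv, map_one] at h2
  simp only [permsC, Perms.ofGrp, Grp.lift_gen] at h2
  rwa [wv_castSucc L _ hlt] at h2

theorem q_one {r : List Nat} (hr : r ∈ qRelD) : wv L r = 1 := by
  rw [← qRelD_eq, List.mem_append, List.mem_map, List.mem_map] at hr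
  rcases hr with ⟨w, hw, rfl⟩ | ⟨w, hw, rfl⟩
  · rw [wv_num]; exact hL w (by simp [rels, hw])
  · rw [ivw'_eq, wv_ivw, wv_num, hL w (by simp [rels, hw]), inv_one]

theorem okWord_one {w : List Nat} (h : okWord w = true) : wv L w = 1 := by
  rw [← wv_fred]
  simp only [okWord, Bool.or_eq_true, List.any_eq_true] at h
  rcases h with h | ⟨⟨a, b⟩, -, h⟩
  · exact cover_one hL h
  · simp only [okQ, Bool.and_eq_true, decide_eq_true_eq, beq_iff_eq] at h
    obtain ⟨hlt, h⟩ := h
    rw [← h, wv_fred, wv_append, wv_append, ivw'_eq, wv_ivw, q_one hL (r := qRelD.getD a []) (by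
      rw [List.getD_eq_getElem?_getD, List.getElem?_eq_getElem hlt]
      exact List.getElem_mem hlt)]
    simp

theorem okRel_one {w : List Nat} (h : okRel w = true) : wv (locGen L) w = 1 := by
  rw [show locGen L = fun k : Fin 7 => wv L (genW.getD k []) from rfl,
    wv_subst L genW_length w]
  exact okWord_one hL h

end

end CfsgLib.McLThree
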