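import Cfsg.Agent.Lib.McLThree.BoundSyntax
import Cfsg.Agent.Lib.McLThree.BoundOrders
import Cfsg.Agent.Lib.McLThree.BoundHChecks
import Cfsg.Agent.Lib.DCE.Count

/-!
# The first candidate defines a group of order at most that of the McLaughlin group

Double cosets over the normalizer of `z`, with `g` as the edge element: there are five, of sizes
`1, 90, 2430, 1215, 11664` cosets.
-/

set_option autoImplicit false
set_option maxRecDepth 100000

namespace CfsgLib.McLThree

open CfsgLib.PresCert CfsgLib.DCE

universe u

private theorem rels_p : okRels H.P relH = true := by decide +kernel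

/-- the representation of the normalizer on 360 points -/
noncomputable def permsH : Perms H.P GH := Perms.ofGrp (m := 6) rfl H.pair_ok rels_p

theorem h_faithful :
    (∀ h : GH, (∀ i : Fin H.P.n, (i : Nat) ∈ H.base → permsH.act h i = i) → h = 1) ∧
      Nat.card GH = 58320 := by
  obtain ⟨hfin, hc⟩ := gh_bound
  have hlen : (H.ls.map Level.len).prod = 58320 := by decide +kernel
  have hb : H.ls.map Level.base = H.base := by decide +kernel
  have := permsH.faithful H.words_ok H.ls H.levels_ok (by rw [hlen]; exact hc)
  rwa [hlen, hb] at this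

theorem h_injective : Function.Injective permsH.π := by
  refine (injective_iff_map_eq_one _).2 fun h hh => h_faithful.1 h fun i _ => ?_
  simp [Perms.act, hh]

theorem relH_ok : (relH.all fun w => (w.all fun x => Nat.blt x 12) && okRel w) = true := by
  decide +kernel

theorem setupRels_ok : (H.S.rels.all fun w => (w.all fun x => Nat.blt x 13) && okRel w) = true := by
  decide +kernel

theorem comm_ok : (allBelow (H.S.edge 0).src.length fun k =>
    ((H.S.edge 0).src.getD k []).all (fun x => Nat.blt x 12) &&
      ((H.S.edge 0).img.getD k []).all (fun x => Nat.blt x 12) &&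
      okRel ((H.S.edge 0).src.getD k [] ++
        (12 :: (subst.ivw' ((H.S.edge 0).img.getD k []) ++ [13])))) = true := by decide +kernel

theorem g_invol : okRel [12, 12] = true := by decide +kernel

theorem top_ok : ((List.range 6).all fun k =>
    okWord (subst genW (topW.getD k []) ++ [2 * k + 1]) &&
      (topW.getD k []).all (fun x => Nat.blt x 13)) = true := by decide +kernel

theorem edges_len : H.S.edges.length = 1 := by decide +kernel

section

variable {X : Type u} [Group X] {L : Fin 7 → X} (hL : ∀ w ∈ rels 0, val L w = 1)

/-- the normalizer maps into the group -/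
noncomputable def psiH : GH →* X :=
  Grp.lift (fun k : Fin 6 => locGen L k.castSucc) fun w hw => by
    have h := List.all_eq_true.1 relH_ok w hw
    simp only [Bool.and_eq_true, List.all_eq_true, Nat.blt_eq] at h
    rw [wv_castSucc (locGen L) w h.1]
    exact okRel_one hL h.2

theorem psiH_val (w : List Nat) (hw : ∀ x ∈ w, x < 12) :
    psiH hL (permsH.val w) = wv (locGen L) w := by
  rw [Perms.val, map_wv]
  simp only [psiH, permsH, Perms.ofGrp, Grp.lift_gen]
  exact wv_castSucc (locGen L) w hw

/-- the model of the enumeration -/
noncomputable def boundModel (gen : Subgroup.closure (Set.range L) = ⊤) : DCE.Model H.S GH X where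
  M := permsH
  inj := h_faithful.1
  f := psiH hL
  T _ := locGen L 6
  comm := by
    intro e he k hk
    rw [edges_len] at he
    obtain rfl : e = 0 := by omega
    have h := allBelow_spec comm_ok k hk
    simp only [Bool.and_eq_true, List.all_eq_true, Nat.blt_eq] at h
    obtain ⟨⟨h1, h2⟩, h3⟩ := h
    have e := okRel_one hL h3
    refine ((congrArg (· * locGen L 6) (psiH_val hL _ h1)).trans ?_).trans
      (congrArg (locGen L 6 * ·) (psiH_val hL _ h2).symm)
    rw [wv_append, wv_cons, wv_append, ivw'_eq, wv_ivw,
      show wv (locGen L) [13] = (locGen L 6)⁻¹ by simp [wv, lv],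
      show lv (locGen L) 12 = locGen L 6 by simp [lv]] at e
    generalize wv (locGen L) ((H.S.edge 0).src.getD k []) = a at e ⊢
    generalize wv (locGen L) ((H.S.edge 0).img.getD k []) = b at e ⊢
    generalize locGen L 6 = g at e ⊢
    calc a * g = a * (g * (b⁻¹ * g⁻¹)) * (g * b) := by group
      _ = g * b := by rw [e, one_mul]
  gen' x := lv (locGen L) x
  gen'_lt := by
    intro x hx
    have hx' : x < 12 := hx
    refine Eq.trans ?_ (psiH_val hL [x] (by simpa using hx')).symm
    simp [wv]
  gen'_let := by
    intro x hx hx2
    have h1 : 12 ≤ x := hx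
    have h2 : x < 13 := hx2
    obtain rfl : x = 12 := by omega
    have : (H.S.letE 12).2 = [] := by decide +kernel
    simp [this, Perms.val, wv, lv]
  gen'_inv := by
    intro x hx
    have hx' : x < 13 := hx
    have key : x = 12 ∨ H.S.linv.getD x 0 = x ^^^ 1 := by
      interval_cases x <;> first | exact Or.inl rfl | exact Or.inr (by decide)
    rcases key with rfl | e
    · have hg := okRel_one hL g_invol
      rw [show H.S.linv.getD 12 0 = 12 by decide]
      have : lv (locGen L) 12 * lv (locGen L) 12 = 1 := by simpa [wv] using hg
      exact eq_inv_of_mul_eq_one_left this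
    · rw [e]
      exact lv_xor _ x
  rels_eq := by
    intro r hr
    have h := List.all_eq_true.1 setupRels_ok r hr
    simp only [Bool.and_eq_true] at h
    exact okRel_one hL h.2
  gen_top := Grp.closure_gen
  top := by
    rw [← top_le_iff, ← gen, Subgroup.closure_le]
    rintro _ ⟨k, rfl⟩
    have hmem : ∀ j : Fin 7, locGen L j ∈ Subgroup.closure (Set.range (psiH hL) ∪
        {q | ∃ e < H.S.edges.length, locGen L 6 = q}) := by
      intro j
      refine Subgroup.subset_closure ?_
      rcases Fin.eq_castSucc_or_eq_last j with ⟨i, rfl⟩ | rfl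
      · exact Or.inl ⟨Grp.gen i, by simp [psiH]⟩
      · exact Or.inr ⟨0, by rw [edges_len]; exact Nat.one_pos, rfl⟩
    have hwv : ∀ w : List Nat, wv (locGen L) w ∈ Subgroup.closure (Set.range (psiH hL) ∪
        {q | ∃ e < H.S.edges.length, locGen L 6 = q}) := by
      intro w
      refine list_prod_mem fun y hy => ?_
      obtain ⟨x, -, rfl⟩ := List.mem_map.1 hy
      unfold lv
      split_ifs
      · exact hmem _
      · exact inv_mem (hmem _)
      · exact one_mem _
    rcases Fin.eq_castSucc_or_eq_last k with ⟨i, rfl⟩ | rfl
    · have h := List.all_eq_true.1 top_ok i (List.mem_range.2 i.2)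
      simp only [Bool.and_eq_true] at h
      have e := okWord_one hL h.1
      rw [wv_append, ← wv_subst L genW_length,
        show wv L [2 * (i : Nat) + 1] = (L i.castSucc)⁻¹ by
          simp [wv, lv, Nat.add_mod, show (2 * (i : Nat) + 1) / 2 = i by omega,
            show (i : Nat) < 7 by omega, Fin.castSucc, Fin.castAdd, Fin.castLE],
        mul_inv_eq_one] at e
      rw [SetLike.mem_coe, ← e]
      exact hwv _
    · have : locGen L 5 = L (Fin.last 6) := by
        simp only [locGen]
        rw [show genW.getD ((5 : Fin 7) : Nat) [] = [12] by decide +kernel]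
        simp [wv, lv]
      rw [SetLike.mem_coe, ← this]
      exact hmem 5

theorem bound_edgeStab (gen : Subgroup.closure (Set.range L) = ⊤) :
    EdgeStab (boundModel hL gen) := by
  obtain ⟨hfin, -⟩ := gh_bound
  refine EdgeStab.of_levels (N := boundModel hL gen) (fun _ => H.E0L0) (fun _ => H.V0ws)
    (fun e he => ?_) (fun e he => ?_) fun e he => ?_
  all_goals rw [edges_len] at he; obtain rfl : e = 0 := by omega
  · decide +kernel
  · exact H.v0_pairs
  · exact permsH.stab_eq h_faithful.2 H.words_ok h_injective Grp.closure_gen H.E0L0 H.e0_levels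
      H.e0_fix (v := 648)
      (le_trans (by decide +kernel : 648 ≤ (H.V0ls.map Level.len).prod)
        (permsH.sub_card H.v0_tabs H.v0_words H.V0ls H.v0_levels))
      (by decide +kernel)

theorem bound_index (gen : Subgroup.closure (Set.range L) = ⊤) :
    (psiH hL).range.index ≤ 15400 ∧ (psiH hL).range.index ≠ 0 := by
  obtain ⟨hfin, -⟩ := gh_bound
  have hc := h_faithful.2
  let N := boundModel hL gen
  have hall : ∀ n < H.facts.length, H.S.okFact H.facts n = true := fun n hn =>
    okRange_get H.facts_ok n (Nat.zero_le _) (by omega)
  have h := index_le N H.setup_ok hall (bound_edgeStab hL gen)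
    (fun L hL => List.all_eq_true.1 H.lives_ok L hL) H.cover_ok
    (fun L => [1, 90, 2430, 1215, 11664].getD (H.lives.findIdx fun L' => Nat.beq L'.i L.i) 0) (by
      intro L hL
      simp only [H.lives, List.mem_cons, List.not_mem_nil, or_false] at hL
      rcases hL with rfl | rfl | rfl | rfl | rfl
      · exact N.stab_index H.s0_pairs
          (le_trans (by decide +kernel : 58320 ≤ (H.S0ls.map Level.len).prod)
            (permsH.sub_card H.s0_tabs H.s0_words H.S0ls H.s0_levels))
          (by rw [hc]; decide +kernel)
      · exact N.stab_index H.s1_pairs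
          (le_trans (by decide +kernel : 648 ≤ (H.S1ls.map Level.len).prod)
            (permsH.sub_card H.s1_tabs H.s1_words H.S1ls H.s1_levels))
          (by rw [hc]; decide +kernel)
      · exact N.stab_index H.s2_pairs
          (le_trans (by decide +kernel : 24 ≤ (H.S2ls.map Level.len).prod)
            (permsH.sub_card H.s2_tabs H.s2_words H.S2ls H.s2_levels))
          (by rw [hc]; decide +kernel)
      · exact N.stab_index H.s3_pairs
          (le_trans (by decide +kernel : 48 ≤ (H.S3ls.map Level.len).prod)
            (permsH.sub_card H.s3_tabs H.s3_words H.S3ls H.s3_levels))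
          (by rw [hc]; decide +kernel)
      · exact N.stab_index H.s4_pairs
          (le_trans (by decide +kernel : 5 ≤ (H.S4ls.map Level.len).prod)
            (permsH.sub_card H.s4_tabs H.s4_words H.S4ls H.s4_levels))
          (by rw [hc]; decide +kernel))
  exact ⟨h.1.trans_eq (by decide +kernel), h.2⟩

end

/-- The first candidate: a group of order at most `898128000`. -/
theorem bound_zero {X : Type u} [Group X] {L : Fin 7 → X}
    (gen : Subgroup.closure (Set.range L) = ⊤) (hL : ∀ w ∈ rels 0, val L w = 1) :
    Nat.card X ≠ 0 ∧ Nat.card X ≤ 898128000 := by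
  obtain ⟨hi, hi0⟩ := bound_index hL gen
  obtain ⟨hfin, hc⟩ := gh_bound
  have : Finite (psiH hL).range := Finite.of_surjective _ (psiH hL).rangeRestrict_surjective
  have hr : Nat.card (psiH hL).range ≤ 58320 :=
    (Nat.card_le_card_of_surjective _ (psiH hL).rangeRestrict_surjective).trans hc
  have e := (psiH hL).range.card_mul_index
  refine ⟨?_, ?_⟩
  · rw [← e]; exact Nat.mul_ne_zero (Nat.card_pos (α := (psiH hL).range)).ne' hi0
  · rw [← e]
    calc Nat.card (psiH hL).range * (psiH hL).range.index ≤ 58320 * 15400 := Nat.mul_le_mul hr hi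
      _ = 898128000 := by norm_num

end CfsgLib.McLThree
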