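import Mathlib
import Cfsg.Prelude.Def_Spor_Conway
import Cfsg.Prelude.Def_CaseTheorems
import Cfsg.Prelude.Def_Transfer

/-!
# The McLaughlin group from three-local data: interface

`Hyp` is the common content of the hypotheses of S5523, S3367 and S2913, `Top` the structure of the
centraliser of `z`, `Loc` adds what the normalizer of `J` gives, and `Cover` is the double cover of
the alternating group of degree eight in the centraliser of `t`.
-/

set_option autoImplicit false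

namespace CfsgLib.McLThree

open Subgroup

universe u

/-- The hypotheses. -/
structure Hyp (G : Type u) [Group G] (Z J Q : Subgroup G) : Prop where
  cardZ : Nat.card Z = 3
  exQ : Cfsg.IsExtraspecial 3 Q
  cardQ : Nat.card Q = 3 ^ 5
  expQ : ∀ q ∈ Q, q ^ 3 = 1
  zQ : Z ≤ Q
  cQ : Q ≤ centralizer (Z : Set G)
  nQ : normalizer (Z : Set G) ≤ normalizer (Q : Set G)
  centQ : centralizer (Q : Set G) ≤ Q
  sl : ∃ L : Subgroup G, Q ≤ L ∧ L ≤ centralizer (Z : Set G) ∧
    normalizer (Z : Set G) ≤ normalizer (L : Set G) ∧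
    ∃ φ : L →* Matrix.SpecialLinearGroup (Fin 2) (ZMod 5),
      Function.Surjective φ ∧ φ.ker = Q.subgroupOf L
  commJ : IsMulCommutative J
  expJ : ∀ x ∈ J, x ^ 3 = 1
  cardJ : Nat.card J = 3 ^ 4
  six : ∃ M : Subgroup G, J ≤ M ∧ M ≤ normalizer (J : Set G) ∧
    normalizer (J : Set G) ≤ normalizer (M : Set G) ∧
    ∃ ψ : M →* alternatingGroup (Fin 6), Function.Surjective ψ ∧ ψ.ker = J.subgroupOf M
  syl : ∃ S : Sylow 3 G, J ≤ (S : Subgroup G) ∧ (S : Subgroup G) ≤ centralizer (Z : Set G)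

/-- The structure of the centraliser of `z` and of its intersection with that of `t`. -/
structure Top (G : Type u) [Group G] where
  z : G
  t : G
  a : G
  Q : Subgroup G
  ord_z : orderOf z = 3
  ord_t : orderOf t = 2
  ord_a : orderOf a = 3
  tz : Commute t z
  ta : Commute t a
  za : Commute z a
  a_notQ : a ∉ Q
  cardQ : Nat.card Q = 3 ^ 5
  expQ : ∀ q ∈ Q, q ^ 3 = 1
  zQ : z ∈ Q
  centerQ : ∀ q ∈ Q, (∀ x ∈ Q, Commute q x) → q ∈ zpowers z
  commQ : ∀ q ∈ Q, ∀ x ∈ Q, q * x * q⁻¹ * x⁻¹ ∈ zpowers z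
  cQ : Q ≤ centralizer ({z} : Set G)
  nQ : normalizer (zpowers z : Set G) ≤ normalizer (Q : Set G)
  centQ : centralizer (Q : Set G) ≤ Q
  tQ : ∀ q ∈ Q, t * q * t⁻¹ * q ∈ zpowers z
  gen_z : centralizer ({z} : Set G) = Q ⊔ (centralizer ({z} : Set G) ⊓ centralizer ({t} : Set G))
  syl : 729 ∣ Nat.card G ∧ ¬ 2187 ∣ Nat.card G
  φ : ↥(centralizer ({z} : Set G) ⊓ centralizer ({t} : Set G)) →* Equiv.Perm (Fin 5)
  χ : ↥(centralizer ({z} : Set G) ⊓ centralizer ({t} : Set G)) →* Multiplicative (ZMod 3)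
  φ_range : alternatingGroup (Fin 5) ≤ φ.range
  φ_ker : ∀ x, φ x = 1 ↔ (x : G) ∈ closure ({z, t} : Set G)
  φ_quat : ∀ x, φ x ∈ alternatingGroup (Fin 5) → φ x ≠ 1 → φ x * φ x = 1 →
    (x : G) * x * t ∈ zpowers z
  χ_z : ∀ x : ↥(centralizer ({z} : Set G) ⊓ centralizer ({t} : Set G)), (x : G) = z → χ x ≠ 1
  χ_a : ∀ x : ↥(centralizer ({z} : Set G) ⊓ centralizer ({t} : Set G)), (x : G) = a → χ x = 1
  /-- `J` meets `Q` in the fixed points of `a`. -/
  fix_a : Nat.card ↥(Q ⊓ centralizer ({a} : Set G)) = 27 ∧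
    IsMulCommutative ↥(Q ⊓ centralizer ({a} : Set G))

/-- The subgroup `J` of `Top`. -/
def Top.J {G : Type u} [Group G] (D : Top G) : Subgroup G :=
  (D.Q ⊓ centralizer ({D.a} : Set G)) ⊔ zpowers D.a

/-- The structure supplied by the normalizer of `J`. -/
structure Loc (G : Type u) [Group G] extends Top G where
  e : G
  g : G
  et : Commute e t
  ez : e * z * e⁻¹ = z⁻¹
  ea : e * a * e⁻¹ = a
  gt : Commute g t
  gz : g * z * g⁻¹ = a
  ga : g * a * g⁻¹ = z
  /-- `e` induces an odd permutation on the five letters -/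
  e_odd : ∃ π : Equiv.Perm (Fin 5), Equiv.Perm.sign π = -1 ∧
    ∀ x y : ↥(centralizer ({z} : Set G) ⊓ centralizer ({t} : Set G)),
      (y : G) = e * (x : G) * e⁻¹ → φ y = π * φ x * π⁻¹
  gJ : g ∈ normalizer (toTop.J : Set G)
  /-- `z` is not conjugate in the centraliser of `t` to a diagonal element of `⟨z, a⟩` -/
  fusion : ∀ h : G, Commute h t →
    h * z * h⁻¹ ≠ z * a ∧ h * z * h⁻¹ ≠ z * a⁻¹ ∧
      h * z * h⁻¹ ≠ z⁻¹ * a ∧ h * z * h⁻¹ ≠ z⁻¹ * a⁻¹
  /-- an element of order four of the two-point stabiliser in the alternating group of degree six,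
  inverted by `g` modulo `J` -/
  c_g : ∃ c : G, Commute c t ∧ c * z * c⁻¹ = z⁻¹ ∧ c * a * c⁻¹ = a⁻¹ ∧ c * c * t ∈ toTop.J ∧
    g * g ∈ toTop.J ∧ g * c * g⁻¹ * c ∈ toTop.J

/-- The value of a word: letters `0, …, 6` and their inverses `7, …, 13`. -/
def val {G : Type u} [Group G] (L : Fin 7 → G) (w : List (Fin 14)) : G :=
  (w.map fun k => if h : k.1 < 7 then L ⟨k.1, h⟩ else (L ⟨k.1 - 7, by omega⟩)⁻¹).prod

/-- `(3 4 5)` as a conjugate of `(0 1 2)`, in the letters `(0 1 k + 2)`. -/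
def wordA : List (Fin 14) := [1, 3, 0, 9, 0, 2, 7, 10, 8]

/-- The double cover of the alternating group of degree eight in the centraliser of `t`: the
letters lift the three-cycles `(0 1 k + 2)`. -/
structure Cover (G : Type u) [Group G] (D : Loc G) where
  T : Fin 6 → G
  cube : ∀ i, T i ^ 3 = 1
  quat : ∀ i j, i ≠ j → (T i * T j) * (T i * T j) = D.t
  comm : ∀ i, Commute (T i) D.t
  Tz : T 0 = D.z
  Ta : val (Fin.snoc T 1) wordA = D.a
  gen_t : centralizer ({D.t} : Set G) =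
    closure (Set.range T) ⊔ (centralizer ({D.z} : Set G) ⊓ centralizer ({D.t} : Set G))
  norm_T : centralizer ({D.t} : Set G) ≤ normalizer (closure (Set.range T) : Set G)

/-- The centralisers of the two diagonal lines of `⟨z, a⟩` normalise `J`. -/
def CentY {G : Type u} [Group G] (D : Loc G) : Prop :=
  centralizer ({D.z * D.a} : Set G) ≤ normalizer (D.J : Set G) ∧
    centralizer ({D.z * D.a⁻¹} : Set G) ≤ normalizer (D.J : Set G)

/-- Piece P1: the centraliser of `z`. -/
def StmtTop : Prop := ∀ (G : Type u) [Group G] [Finite G] (Z J Q : Subgroup G), Hyp G Z J Q →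
  ∃ D : Top G, zpowers D.z = Z ∧ D.Q = Q ∧ D.J = J

/-- Piece P2: the normalizer of `J`. -/
def StmtSix : Prop := ∀ (G : Type u) [Group G] [Finite G] (Z J Q : Subgroup G), Hyp G Z J Q →
  ∀ D : Top G, zpowers D.z = Z → D.Q = Q → D.J = J → ∃ E : Loc G, E.toTop = D

/-- Piece P3: the centraliser of `t`. -/
def StmtCentT : Prop := ∀ (G : Type u) [Group G] [Finite G] (D : Loc G), CentY D → Nonempty (Cover G D)

/-- Piece P3b: the centralisers of the diagonal lines, from the hypotheses of S5523. -/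
def StmtCentY : Prop := ∀ (G : Type u) [Group G] [Finite G] (Z J Q : Subgroup G), Hyp G Z J Q →
  ∀ D : Loc G, zpowers D.z = Z → D.Q = Q → D.J = J → CentY D

/-- Piece P6: a subgroup isomorphic to the McLaughlin group whose normalizer contains an
involution centraliser. -/
def StmtCensus : Prop := ∀ (G : Type u) [Group G] [Finite G] (G₀ : Subgroup G) (t : G),
  Nonempty (G₀ ≃* Cfsg.Spor.McL) → t ∈ G₀ → orderOf t = 2 →
  centralizer (G₀ : Set G) = ⊥ → centralizer ({t} : Set G) ≤ normalizer (G₀ : Set G) →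
  normalizer (G₀ : Set G) = ⊤

end CfsgLib.McLThree
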