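import Mathlib
import Cfsg.Agent.Lib.McLThree.Defs

/-!
The subgroup `J` seen from the centraliser of `t`: the fixed points of `t` are `⟨z, a⟩`, the
inverted elements form a group of order nine, and the elements normalising `⟨z, a⟩` inside that
centraliser permute the two lines.
-/

set_option autoImplicit false
set_option linter.style.haveILetI false

namespace CfsgLib.McLThree.CentT

open Subgroup

universe u

variable {G : Type u} [Group G] (D : Loc G)

theorem z_cube : D.z ^ 3 = 1 := by rw [← D.ord_z]; exact pow_orderOf_eq_one _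

theorem a_cube : D.a ^ 3 = 1 := by rw [← D.ord_a]; exact pow_orderOf_eq_one _

theorem t_sq : D.t * D.t = 1 := by
  rw [← pow_two, ← D.ord_t]; exact pow_orderOf_eq_one _

theorem t_inv : D.t⁻¹ = D.t := inv_eq_of_mul_eq_one_right (t_sq D)

theorem t_ne_one : D.t ≠ 1 := fun h => by simpa [h] using D.ord_t

theorem z_ne_one : D.z ≠ 1 := fun h => by simpa [h] using D.ord_z

theorem a_ne_one : D.a ≠ 1 := fun h => by simpa [h] using D.ord_a

theorem a_not_zpowers : D.a ∉ zpowers D.z := fun h =>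
  D.a_notQ ((zpowers_le.2 D.zQ) h)

theorem a_ne_z : D.a ≠ D.z ∧ D.a ≠ D.z⁻¹ :=
  ⟨fun h => a_not_zpowers D (h ▸ mem_zpowers _),
    fun h => a_not_zpowers D (h ▸ inv_mem (mem_zpowers _))⟩

theorem zpow_three_cases {x : G} (h3 : x ^ 3 = 1) (i : ℤ) : x ^ i = 1 ∨ x ^ i = x ∨ x ^ i = x⁻¹ := by
  have h : x ^ (3 : ℤ) = 1 := by exact_mod_cast h3
  have hmod : x ^ i = x ^ (i % 3) := by
    conv_lhs => rw [← Int.emod_add_mul_ediv i 3]
    rw [zpow_add, zpow_mul, h, one_zpow, mul_one]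
  rw [hmod]
  rcases (by omega : i % 3 = 0 ∨ i % 3 = 1 ∨ i % 3 = 2) with h' | h' | h' <;> rw [h']
  · exact Or.inl (zpow_zero _)
  · exact Or.inr (Or.inl (zpow_one _))
  · refine Or.inr (Or.inr (eq_inv_of_mul_eq_one_left ?_))
    rw [← zpow_add_one]
    exact h

/-- The part of `J` in `Q`. -/
abbrev R : Subgroup G := D.Q ⊓ centralizer ({D.a} : Set G)

theorem R_comm {x y : G} (hx : x ∈ R D) (hy : y ∈ R D) : Commute x y :=
  congrArg Subtype.val (D.fix_a.2.is_comm.comm (⟨x, hx⟩ : R D) ⟨y, hy⟩)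

theorem z_mem_R : D.z ∈ R D := ⟨D.zQ, mem_centralizer_singleton_iff.2 D.za⟩

theorem R_le_J : R D ≤ D.toTop.J := le_sup_left

theorem a_mem_J : D.a ∈ D.toTop.J :=
  (le_sup_right : zpowers D.a ≤ D.toTop.J) (mem_zpowers _)

theorem z_mem_J : D.z ∈ D.toTop.J := R_le_J D (z_mem_R D)

theorem R_comm_a {r : G} (hr : r ∈ R D) : Commute r D.a :=
  mem_centralizer_singleton_iff.1 hr.2

theorem mem_J {x : G} : x ∈ D.toTop.J ↔ ∃ r ∈ R D, ∃ i : ℤ, x = r * D.a ^ i := by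
  constructor
  · intro hx
    rw [Top.J, sup_eq_closure] at hx
    induction hx using closure_induction with
    | mem y hy =>
      rcases hy with hy | hy
      · exact ⟨y, hy, 0, by simp⟩
      · obtain ⟨i, rfl⟩ := hy
        exact ⟨1, one_mem _, i, by simp⟩
    | one => exact ⟨1, one_mem _, 0, by simp⟩
    | mul y w _ _ hy hw =>
      obtain ⟨r, hr, i, rfl⟩ := hy
      obtain ⟨s, hs, j, rfl⟩ := hw
      refine ⟨r * s, mul_mem hr hs, i + j, ?_⟩
      rw [zpow_add, mul_assoc r, ← mul_assoc (D.a ^ i), ← ((R_comm_a D hs).zpow_right i).eq]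
      simp only [mul_assoc]
    | inv y _ hy =>
      obtain ⟨r, hr, i, rfl⟩ := hy
      refine ⟨r⁻¹, inv_mem hr, -i, ?_⟩
      rw [mul_inv_rev, ← zpow_neg, ((R_comm_a D (inv_mem hr)).zpow_right (-i)).eq]
  · rintro ⟨r, hr, i, rfl⟩
    exact mul_mem (R_le_J D hr) (zpow_mem (a_mem_J D) i)

theorem J_comm {x y : G} (hx : x ∈ D.toTop.J) (hy : y ∈ D.toTop.J) : Commute x y := by
  obtain ⟨r, hr, i, rfl⟩ := (mem_J D).1 hx
  obtain ⟨s, hs, j, rfl⟩ := (mem_J D).1 hy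
  exact (Commute.mul_right (R_comm D hr hs) ((R_comm_a D hr).zpow_right j)).mul_left
    (Commute.mul_right ((R_comm_a D hs).zpow_right i).symm (Commute.zpow_zpow (Commute.refl _) i j))

theorem J_cube {x : G} (hx : x ∈ D.toTop.J) : x ^ 3 = 1 := by
  obtain ⟨r, hr, i, rfl⟩ := (mem_J D).1 hx
  rw [((R_comm_a D hr).zpow_right i).mul_pow, D.expQ r hr.1, one_mul, ← zpow_natCast, ← zpow_mul,
    mul_comm, zpow_mul, zpow_natCast, a_cube, one_zpow]

theorem t_conj_R {r : G} (hr : r ∈ R D) : ∃ n : ℤ, D.t * r * D.t⁻¹ = r⁻¹ * D.z ^ n := by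
  obtain ⟨n, hn⟩ := D.tQ r hr.1
  refine ⟨n, ?_⟩
  have hn' : D.t * r * D.t⁻¹ * r = D.z ^ n := hn.symm
  have hc : Commute (r⁻¹) (D.z ^ n) := (R_comm D (inv_mem hr) (z_mem_R D)).zpow_right n
  rw [hc.eq, ← hn']
  group

/-- The elements of `J` inverted by `t`. -/
def W : Subgroup G where
  carrier := {x | x ∈ D.toTop.J ∧ D.t * x * D.t⁻¹ = x⁻¹}
  one_mem' := ⟨one_mem _, by simp⟩
  mul_mem' := by
    rintro x y ⟨hx, hx'⟩ ⟨hy, hy'⟩
    refine ⟨mul_mem hx hy, ?_⟩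
    calc D.t * (x * y) * D.t⁻¹ = (D.t * x * D.t⁻¹) * (D.t * y * D.t⁻¹) := by group
      _ = (x * y)⁻¹ := by
        rw [hx', hy', mul_inv_rev, ((J_comm D hx hy).inv_left.inv_right).eq]
  inv_mem' := by
    rintro x ⟨hx, hx'⟩
    refine ⟨inv_mem hx, ?_⟩
    rw [← conj_inv, hx']

theorem mem_W {x : G} : x ∈ W D ↔ x ∈ D.toTop.J ∧ D.t * x * D.t⁻¹ = x⁻¹ := Iff.rfl

theorem W_le_R {x : G} (hx : x ∈ W D) : x ∈ R D := by
  obtain ⟨hJ, ht⟩ := hx
  obtain ⟨r, hr, i, rfl⟩ := (mem_J D).1 hJ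
  obtain ⟨n, hn⟩ := t_conj_R D hr
  have hta : D.t * D.a ^ i * D.t⁻¹ = D.a ^ i := by
    rw [((D.ta.zpow_right i)).eq, mul_inv_cancel_right]
  have hs : r⁻¹ * D.z ^ n ∈ R D := mul_mem (inv_mem hr) (zpow_mem (z_mem_R D) n)
  have e : r⁻¹ * D.z ^ n * D.a ^ i = (D.a ^ i)⁻¹ * r⁻¹ := by
    rw [← mul_inv_rev, ← ht, ← hn]; conv_lhs => arg 2; rw [← hta]
    group
  have e2 : D.a ^ i * D.a ^ i = D.z ^ (-n) := by
    have hc : Commute (r⁻¹ * D.z ^ n) (D.a ^ i) := (R_comm_a D hs).zpow_right i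
    calc D.a ^ i * D.a ^ i
        = (r⁻¹ * D.z ^ n)⁻¹ * (r⁻¹ * D.z ^ n * D.a ^ i) * D.a ^ i := by group
      _ = (D.z ^ n)⁻¹ * r * ((D.a ^ i)⁻¹ * r⁻¹) * D.a ^ i := by rw [e]; group
      _ = (D.z ^ n)⁻¹ * (r * (D.a ^ i)⁻¹ * r⁻¹) * D.a ^ i := by group
      _ = D.z ^ (-n) := by
        rw [((R_comm_a D hr).zpow_right i).inv_right.eq, mul_inv_cancel_right, inv_mul_cancel_right,
          zpow_neg]
  rcases zpow_three_cases (a_cube D) i with h | h | h <;> rw [h] at e2 ⊢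
  · simpa using hr
  · exfalso
    have : D.a⁻¹ = D.z ^ (-n) := by
      rw [← e2]; exact inv_eq_of_mul_eq_one_right (by rw [← mul_assoc, ← pow_two, ← pow_succ, a_cube])
    exact a_not_zpowers D (inv_mem_iff.1 (this ▸ zpow_mem (mem_zpowers _) _))
  · exfalso
    have : D.a = D.z ^ (-n) := by
      rw [← e2]
      calc D.a = D.a * (D.a ^ 3)⁻¹ := by rw [a_cube]; simp
        _ = D.a⁻¹ * D.a⁻¹ := by group
    exact a_not_zpowers D (this ▸ zpow_mem (mem_zpowers _) _)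

theorem card_W : Nat.card (W D) = 9 := by
  classical
  let f : W D × zpowers D.z → R D := fun p =>
    ⟨p.1.1 * p.2.1, mul_mem (W_le_R D p.1.2) ((zpowers_le.2 (z_mem_R D)) p.2.2)⟩
  have htz : ∀ x ∈ zpowers D.z, D.t * x * D.t⁻¹ = x := by
    rintro _ ⟨k, rfl⟩
    show D.t * D.z ^ k * D.t⁻¹ = D.z ^ k
    rw [(D.tz.zpow_right k).eq, mul_inv_cancel_right]
  have hf : Function.Bijective f := by
    refine ⟨fun p q h => ?_, fun r => ?_⟩
    · have e : p.1.1 * p.2.1 = q.1.1 * q.2.1 := congrArg Subtype.val h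
      have hd : q.1.1⁻¹ * p.1.1 = q.2.1 * p.2.1⁻¹ := by
        calc q.1.1⁻¹ * p.1.1 = q.1.1⁻¹ * (p.1.1 * p.2.1) * p.2.1⁻¹ := by group
          _ = _ := by rw [e]; group
      have hw : q.1.1⁻¹ * p.1.1 ∈ W D := mul_mem (inv_mem q.1.2) p.1.2
      have hz : q.2.1 * p.2.1⁻¹ ∈ zpowers D.z := mul_mem q.2.2 (inv_mem p.2.2)
      have h2 := hw.2
      rw [hd] at h2
      rw [htz _ hz] at h2
      have h3 : (q.2.1 * p.2.1⁻¹) ^ 3 = 1 := by
        rw [← hd]; exact J_cube D hw.1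
      have h1 : q.2.1 * p.2.1⁻¹ = 1 := by
        set u := q.2.1 * p.2.1⁻¹
        calc u = u ^ 3 * u⁻¹ * u⁻¹ := by group
          _ = u⁻¹ * u⁻¹ := by rw [h3, one_mul]
          _ = 1 := by nth_rewrite 2 [← h2]; rw [inv_mul_cancel]
      have hpz : p.2.1 = q.2.1 := (mul_inv_eq_one.1 h1).symm
      rw [hpz] at e
      exact Prod.ext (Subtype.ext (mul_right_cancel e)) (Subtype.ext hpz)
    · obtain ⟨n, hn⟩ := t_conj_R D r.2
      have hw : r.1 * D.z ^ n ∈ W D := by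
        refine ⟨R_le_J D (mul_mem r.2 (zpow_mem (z_mem_R D) n)), ?_⟩
        calc D.t * (r.1 * D.z ^ n) * D.t⁻¹
            = (D.t * r.1 * D.t⁻¹) * (D.t * D.z ^ n * D.t⁻¹) := by group
          _ = r.1⁻¹ * (D.z ^ n * D.z ^ n) := by
            rw [hn, htz _ (zpow_mem (mem_zpowers _) n), mul_assoc]
          _ = (r.1 * D.z ^ n)⁻¹ := by
            rw [mul_inv_rev, ← zpow_add, ← zpow_neg,
              ((R_comm D (inv_mem r.2) (z_mem_R D)).zpow_right (-n)).symm.eq]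
            congr 1
            have h : D.z ^ (3 * n) = 1 := by
              rw [zpow_mul]
              have : D.z ^ (3 : ℤ) = 1 := by exact_mod_cast z_cube D
              rw [this, one_zpow]
            calc D.z ^ (n + n) = D.z ^ (3 * n) * D.z ^ (-n) := by
                  rw [← zpow_add]; congr 1; ring
              _ = D.z ^ (-n) := by rw [h, one_mul]
      exact ⟨(⟨_, hw⟩, ⟨(D.z ^ n)⁻¹, inv_mem (zpow_mem (mem_zpowers _) n)⟩),
        Subtype.ext (mul_inv_cancel_right _ _)⟩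
  have h := Nat.card_eq_of_bijective f hf
  rw [Nat.card_prod, Nat.card_zpowers, D.ord_z, D.fix_a.1] at h
  omega

/-- The fixed points of `t` in `J`. -/
theorem exists_of_mem_J_commute {x : G} (hx : x ∈ D.toTop.J) (hc : Commute x D.t) :
    ∃ i j : ℤ, x = D.z ^ i * D.a ^ j := by
  obtain ⟨r, hr, j, rfl⟩ := (mem_J D).1 hx
  obtain ⟨n, hn⟩ := t_conj_R D hr
  refine ⟨2 * n, j, ?_⟩
  congr 1
  have ha : Commute (D.a ^ j) D.t := (D.ta.zpow_right j).symm
  have hcr : Commute r D.t := by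
    have := hc.mul_left ha.inv_left
    rwa [mul_inv_cancel_right] at this
  rw [← hcr.eq, mul_inv_cancel_right] at hn
  have h3 : r ^ 3 = 1 := D.expQ r hr.1
  have h2 : r * r = D.z ^ n := by nth_rewrite 2 [hn]; group
  calc r = r ^ 3 * r := by rw [h3, one_mul]
    _ = (r * r) * (r * r) := by simp only [pow_succ, pow_zero, one_mul, mul_assoc]
    _ = D.z ^ (2 * n) := by rw [h2, ← zpow_add]; ring_nf

theorem a_eq : D.a = D.g * D.z * D.g⁻¹ := D.gz.symm

/-- A conjugate of `z` in `⟨z, a⟩` under the centraliser of `t` lies on one of the two lines. -/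
theorem line_cases {h : G} (hh : Commute h D.t) {i j : ℤ}
    (e : h * D.z * h⁻¹ = D.z ^ i * D.a ^ j) :
    h * D.z * h⁻¹ = D.z ∨ h * D.z * h⁻¹ = D.z⁻¹ ∨ h * D.z * h⁻¹ = D.a ∨
      h * D.z * h⁻¹ = D.a⁻¹ := by
  obtain ⟨f1, f2, f3, f4⟩ := D.fusion h hh
  have hne : h * D.z * h⁻¹ ≠ 1 := fun h0 => z_ne_one D (conj_eq_one_iff.1 h0)
  rcases zpow_three_cases (z_cube D) i with h1 | h1 | h1 <;>
    rcases zpow_three_cases (a_cube D) j with h2 | h2 | h2 <;> rw [h1, h2] at e <;>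
      (try simp only [one_mul, mul_one] at e) <;>
      first
        | exact absurd e hne
        | exact absurd e f1
        | exact absurd e f2
        | exact absurd e f3
        | exact absurd e f4
        | exact Or.inl e
        | exact Or.inr (Or.inl e)
        | exact Or.inr (Or.inr (Or.inl e))
        | exact Or.inr (Or.inr (Or.inr e))

/-- An element of the centraliser of `t` normalising `J` permutes the two lines. -/
theorem lines {h : G} (hh : Commute h D.t) (hzJ : h * D.z * h⁻¹ ∈ D.toTop.J)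
    (haJ : h * D.a * h⁻¹ ∈ D.toTop.J) :
    ((h * D.z * h⁻¹ = D.z ∨ h * D.z * h⁻¹ = D.z⁻¹) ∧
      (h * D.a * h⁻¹ = D.a ∨ h * D.a * h⁻¹ = D.a⁻¹)) ∨
    ((h * D.z * h⁻¹ = D.a ∨ h * D.z * h⁻¹ = D.a⁻¹) ∧
      (h * D.a * h⁻¹ = D.z ∨ h * D.a * h⁻¹ = D.z⁻¹)) := by
  have step : ∀ k x : G, Commute k D.t → k * D.z * k⁻¹ = x → x ∈ D.toTop.J →
      x = D.z ∨ x = D.z⁻¹ ∨ x = D.a ∨ x = D.a⁻¹ := by
    intro k x hk e hx
    have hxt : Commute x D.t := by
      rw [← e]; exact (hk.mul_left D.tz.symm).mul_left hk.inv_left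
    obtain ⟨i, j, hij⟩ := exists_of_mem_J_commute D hx hxt
    have := line_cases D hk (e.trans hij)
    rwa [e] at this
  have hz := step h _ hh rfl hzJ
  have ha := step (h * D.g) (h * D.a * h⁻¹) (hh.mul_left D.gt)
    (by rw [a_eq D]; group) haJ
  have inj : ∀ x y : G, h * x * h⁻¹ = h * y * h⁻¹ → x = y := fun x y e =>
    mul_left_cancel (mul_right_cancel e)
  obtain ⟨n1, n2⟩ := a_ne_z D
  rcases hz with e | e | e | e <;> rcases ha with e' | e' | e' | e' <;>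
    first
      | exact Or.inl ⟨by first | exact Or.inl e | exact Or.inr e,
          by first | exact Or.inl e' | exact Or.inr e'⟩
      | exact Or.inr ⟨by first | exact Or.inl e | exact Or.inr e,
          by first | exact Or.inl e' | exact Or.inr e'⟩
      | exact absurd (inj _ _ (e'.trans e.symm)) n1
      | exact absurd (inj _ _ (e'.trans (by simp only [← conj_inv, e, inv_inv]))) n2

/-- The fourth power of such an element fixes both lines pointwise. -/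
theorem line_fix {h : G} (hh : Commute h D.t) (hzJ : h * D.z * h⁻¹ ∈ D.toTop.J)
    (haJ : h * D.a * h⁻¹ ∈ D.toTop.J) :
    h ^ 4 * D.z * (h ^ 4)⁻¹ = D.z ∧ h ^ 4 * D.a * (h ^ 4)⁻¹ = D.a := by
  have e : ∀ x : G, h ^ 4 * x * (h ^ 4)⁻¹ = h * (h * (h * (h * x * h⁻¹) * h⁻¹) * h⁻¹) * h⁻¹ :=
    fun x => by simp only [pow_succ, pow_zero, one_mul, mul_inv_rev, mul_assoc]
  rw [e, e]
  rcases lines D hh hzJ haJ with ⟨h1, h2⟩ | ⟨h1, h2⟩ <;> rcases h1 with h1 | h1 <;>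
    rcases h2 with h2 | h2 <;> simp only [h1, h2, ← conj_inv, inv_inv, and_self]

/-- The elements of the centraliser of `t` commuting with `z * a`. -/
theorem cent_diag (hcy : centralizer ({D.z * D.a} : Set G) ≤ normalizer (D.toTop.J : Set G))
    {h : G} (hh : Commute h D.t) (hc : Commute h (D.z * D.a)) :
    (h * D.z * h⁻¹ = D.z ∧ h * D.a * h⁻¹ = D.a) ∨
      (h * D.z * h⁻¹ = D.a ∧ h * D.a * h⁻¹ = D.z) := by
  have hJ : ∀ x ∈ D.toTop.J, h * x * h⁻¹ ∈ D.toTop.J := fun x hx =>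
    (mem_normalizer_iff.1 (hcy (mem_centralizer_singleton_iff.2 hc)) x).1 hx
  have hprod : (h * D.z * h⁻¹) * (h * D.a * h⁻¹) = D.z * D.a := by
    calc (h * D.z * h⁻¹) * (h * D.a * h⁻¹) = h * (D.z * D.a) * h⁻¹ := by group
      _ = D.z * D.a := by rw [hc.eq, mul_inv_cancel_right]
  obtain ⟨n1, n2⟩ := a_ne_z D
  rcases lines D hh (hJ _ (z_mem_J D)) (hJ _ (a_mem_J D)) with ⟨h1, h2⟩ | ⟨h1, h2⟩
  · rcases h1 with h1 | h1 <;> rw [h1] at hprod
    · exact Or.inl ⟨h1, mul_left_cancel hprod⟩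
    · exfalso
      rcases h2 with h2 | h2 <;> rw [h2] at hprod
      · refine z_ne_one D ?_
        have h' : D.z⁻¹ = D.z := mul_right_cancel hprod
        calc D.z = D.z ^ 3 * (D.z⁻¹ * D.z⁻¹) := by group
          _ = D.z⁻¹ * D.z := by rw [z_cube, one_mul]; nth_rewrite 2 [h']; rfl
          _ = 1 := inv_mul_cancel _
      · refine a_not_zpowers D ?_
        have h' : D.a * D.a = (D.z * D.z)⁻¹ := by
          calc D.a * D.a = D.z⁻¹ * (D.z * D.a) * D.a := by group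
            _ = D.z⁻¹ * (D.z⁻¹ * D.a⁻¹) * D.a := by rw [← hprod]
            _ = (D.z * D.z)⁻¹ := by group
        have h'' : D.a⁻¹ = (D.z * D.z)⁻¹ := by
          rw [← h']; exact inv_eq_of_mul_eq_one_right (by rw [← mul_assoc, ← pow_two, ← pow_succ, a_cube])
        rw [inv_injective h'']
        exact mul_mem (mem_zpowers _) (mem_zpowers _)
  · rcases h1 with h1 | h1 <;> rcases h2 with h2 | h2
    · exact Or.inr ⟨h1, h2⟩
    all_goals (exfalso; rw [h1, h2] at hprod)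
    · refine z_ne_one D ?_
      have h' : D.z⁻¹ = D.z := mul_left_cancel (hprod.trans D.za.eq)
      calc D.z = D.z ^ 3 * (D.z⁻¹ * D.z⁻¹) := by group
        _ = D.z⁻¹ * D.z := by rw [z_cube, one_mul]; nth_rewrite 2 [h']; rfl
        _ = 1 := inv_mul_cancel _
    · refine a_ne_one D ?_
      have h' : D.a⁻¹ = D.a := mul_right_cancel (hprod.trans D.za.eq)
      calc D.a = D.a ^ 3 * (D.a⁻¹ * D.a⁻¹) := by group
        _ = D.a⁻¹ * D.a := by rw [a_cube, one_mul]; nth_rewrite 2 [h']; rfl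
        _ = 1 := inv_mul_cancel _
    · refine a_not_zpowers D ?_
      have h' : (D.z * D.a) * (D.z * D.a) = 1 := by
        nth_rewrite 1 [← hprod]
        group
      have h'' : D.z * D.a = 1 := by
        have h3 : (D.z * D.a) ^ 3 = 1 := by
          rw [D.za.mul_pow, z_cube, a_cube, one_mul]
        rwa [pow_succ, pow_two, h', one_mul] at h3
      rw [show D.a = D.z⁻¹ from (inv_eq_of_mul_eq_one_right h'').symm]
      exact inv_mem (mem_zpowers _)

/-- Elements preserving both lines normalise `W`. -/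
theorem conj_mem_W {h : G} (hh : Commute h D.t) (hz : h * D.z * h⁻¹ = D.z ∨ h * D.z * h⁻¹ = D.z⁻¹)
    (ha : h * D.a * h⁻¹ = D.a ∨ h * D.a * h⁻¹ = D.a⁻¹) {x : G} (hx : x ∈ W D) :
    h * x * h⁻¹ ∈ W D := by
  have hR := W_le_R D hx
  have hn : h ∈ normalizer (zpowers D.z : Set G) := by
    rw [mem_normalizer_iff_map_conj_eq, MonoidHom.map_zpowers]
    have e : (MulAut.conj h : G →* G) D.z = h * D.z * h⁻¹ := rfl
    rw [e]
    rcases hz with e | e <;> rw [e]
    exact zpowers_inv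
  refine ⟨R_le_J D ⟨(mem_normalizer_iff.1 (D.nQ hn) x).1 hR.1, ?_⟩, ?_⟩
  · refine mem_centralizer_singleton_iff.2 ?_
    have hc : Commute (h * x * h⁻¹) (h * D.a * h⁻¹) :=
      (R_comm_a D hR).map (MulAut.conj h).toMonoidHom
    rcases ha with e | e <;> rw [e] at hc
    · exact hc.eq
    · exact (Commute.inv_right_iff.1 hc).eq
  · calc D.t * (h * x * h⁻¹) * D.t⁻¹ = (D.t * h) * x * (D.t * h)⁻¹ := by group
      _ = (h * D.t) * x * (h * D.t)⁻¹ := by rw [hh.eq]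
      _ = h * (D.t * x * D.t⁻¹) * h⁻¹ := by group
      _ = (h * x * h⁻¹)⁻¹ := by rw [hx.2, conj_inv]

theorem conj_g_mem_W {x : G} (hx : x ∈ W D) : D.g * x * D.g⁻¹ ∈ W D := by
  refine ⟨(mem_normalizer_iff.1 D.gJ x).1 hx.1, ?_⟩
  calc D.t * (D.g * x * D.g⁻¹) * D.t⁻¹ = (D.t * D.g) * x * (D.t * D.g)⁻¹ := by group
    _ = (D.g * D.t) * x * (D.g * D.t)⁻¹ := by rw [D.gt.eq]
    _ = D.g * (D.t * x * D.t⁻¹) * D.g⁻¹ := by group
    _ = (D.g * x * D.g⁻¹)⁻¹ := by rw [hx.2, conj_inv]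

/-- Elements of `J` fix `W`. -/
theorem conj_J_W {j x : G} (hj : j ∈ D.toTop.J) (hx : x ∈ W D) : j * x * j⁻¹ = x := by
  rw [(J_comm D hj hx.1).eq, mul_inv_cancel_right]

end CfsgLib.McLThree.CentT
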