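import Mathlib
import Cfsg.Agent.Lib.McLThree.CentTLocal
import Cfsg.Agent.Lib.SEightThree.SetupExists
import Cfsg.Agent.Lib.AEightThree.Basic

/-!
The centraliser of `t` modulo `t`, and the identification of the normalizer of the image of `⟨z⟩`
with a subgroup of `Sym 3 × Sym 5`.
-/

set_option autoImplicit false
set_option linter.style.haveILetI false

namespace CfsgLib.McLThree.CentT

open Subgroup Equiv

universe u

variable {G : Type u} [Group G] (D : Loc G)

/-- The centraliser of `t`. -/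
abbrev H : Subgroup G := centralizer ({D.t} : Set G)

theorem mem_H {x : G} : x ∈ H D ↔ Commute x D.t := mem_centralizer_singleton_iff

/-- `t` in its centraliser. -/
def tH : H D := ⟨D.t, (mem_H D).2 (Commute.refl _)⟩

/-- `z` in the centraliser of `t`. -/
def zH : H D := ⟨D.z, (mem_H D).2 D.tz.symm⟩

/-- `a` in the centraliser of `t`. -/
def aH : H D := ⟨D.a, (mem_H D).2 D.ta.symm⟩

/-- `g` in the centraliser of `t`. -/
def gH : H D := ⟨D.g, (mem_H D).2 D.gt⟩

theorem mem_zpowers_tH {x : H D} : x ∈ zpowers (tH D) ↔ (x : G) = 1 ∨ (x : G) = D.t := by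
  constructor
  · rintro ⟨k, rfl⟩
    have h2 : D.t ^ (2 : ℤ) = 1 := by rw [zpow_two]; exact t_sq D
    show D.t ^ k = 1 ∨ D.t ^ k = D.t
    rw [← Int.emod_add_mul_ediv k 2, zpow_add, zpow_mul, h2, one_zpow, mul_one]
    rcases Int.emod_two_eq_zero_or_one k with e | e <;> rw [e]
    · exact Or.inl (zpow_zero _)
    · exact Or.inr (zpow_one _)
  · rintro (h | h)
    · rw [show x = 1 from Subtype.ext h]; exact one_mem _
    · rw [show x = tH D from Subtype.ext h]; exact mem_zpowers _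

instance normal_zpowers_tH : (zpowers (tH D)).Normal :=
  ⟨fun n hn g => by
    have hc : g * n * g⁻¹ = n := by
      refine mul_inv_eq_iff_eq_mul.2 (Subtype.ext ?_)
      show (g : G) * (n : G) = (n : G) * (g : G)
      rcases (mem_zpowers_tH D).1 hn with h | h <;> rw [h]
      · simp
      · exact ((mem_H D).1 g.2).eq
    rwa [hc]⟩

/-- The centraliser of `t` modulo `t`. -/
abbrev X := H D ⧸ zpowers (tH D)

/-- The projection. -/
def pr : H D →* X D := QuotientGroup.mk' _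

theorem pr_surjective : Function.Surjective (pr D) := QuotientGroup.mk'_surjective _

theorem pr_eq_one {x : H D} : pr D x = 1 ↔ (x : G) = 1 ∨ (x : G) = D.t :=
  (QuotientGroup.eq_one_iff x).trans (mem_zpowers_tH D)

theorem pr_eq_pr {x y : H D} : pr D x = pr D y ↔ (y : G) = x ∨ (y : G) = x * D.t := by
  rw [← inv_mul_eq_one, ← map_inv, ← map_mul, pr_eq_one]
  push_cast
  rw [inv_mul_eq_one, inv_mul_eq_iff_eq_mul, eq_comm]

theorem pr_t : pr D (tH D) = 1 := (pr_eq_one D).2 (Or.inr rfl)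

theorem eq_of_three {x y : H D} (hx : (x : G) ^ 3 = 1) (hy : (y : G) ^ 3 = 1)
    (h : pr D x = pr D y) : (y : G) = x := by
  rcases (pr_eq_pr D).1 h with e | e
  · exact e
  · exfalso
    rw [e, ((mem_H D).1 x.2).mul_pow, hx, one_mul, pow_succ, pow_two, t_sq D, one_mul] at hy
    exact t_ne_one D hy

theorem exists_lift_three {p : X D} (hp : p ^ 3 = 1) :
    ∃ h : H D, pr D h = p ∧ (h : G) ^ 3 = 1 := by
  obtain ⟨h, rfl⟩ := pr_surjective D p
  rw [← map_pow, pr_eq_one] at hp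
  rcases hp with e | e
  · exact ⟨h, rfl, e⟩
  · refine ⟨h * tH D, by rw [map_mul, pr_t, mul_one], ?_⟩
    show ((h : G) * D.t) ^ 3 = 1
    rw [((mem_H D).1 h.2).mul_pow, show (h : G) ^ 3 = D.t from e, pow_succ D.t, pow_two, t_sq D,
      one_mul, t_sq D]

theorem sq_cases {h : H D} (hp : pr D h * pr D h = 1) :
    (h : G) * h = 1 ∨ (h : G) * h = D.t := by
  rw [← map_mul, pr_eq_one] at hp
  exact hp

/-- The intersection of the centralisers of `z` and `t`. -/
abbrev K : Subgroup G := centralizer ({D.z} : Set G) ⊓ centralizer ({D.t} : Set G)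

theorem mem_K {x : G} : x ∈ K D ↔ Commute x D.z ∧ Commute x D.t :=
  and_congr mem_centralizer_singleton_iff mem_centralizer_singleton_iff

/-- The normalizer of `⟨z⟩` in the centraliser of `t`. -/
def L : Subgroup G where
  carrier := {x | Commute x D.t ∧ (x * D.z * x⁻¹ = D.z ∨ x * D.z * x⁻¹ = D.z⁻¹)}
  one_mem' := ⟨Commute.one_left _, Or.inl (by simp)⟩
  mul_mem' := by
    rintro x y ⟨hx, hx'⟩ ⟨hy, hy'⟩
    refine ⟨hx.mul_left hy, ?_⟩
    rw [show x * y * D.z * (x * y)⁻¹ = x * (y * D.z * y⁻¹) * x⁻¹ by group]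
    rcases hy' with e | e <;> rw [e]
    · exact hx'
    · rw [← conj_inv]
      rcases hx' with e' | e' <;> rw [e']
      · exact Or.inr rfl
      · exact Or.inl (inv_inv _)
  inv_mem' := by
    rintro x ⟨hx, hx'⟩
    refine ⟨hx.inv_left, ?_⟩
    rw [inv_inv]
    rcases hx' with e | e
    · exact Or.inl (by nth_rewrite 1 [← e]; group)
    · refine Or.inr ?_
      have e' : x * D.z⁻¹ * x⁻¹ = D.z := by rw [← conj_inv, e, inv_inv]
      nth_rewrite 1 [← e']
      group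

theorem mem_L {x : G} :
    x ∈ L D ↔ Commute x D.t ∧ (x * D.z * x⁻¹ = D.z ∨ x * D.z * x⁻¹ = D.z⁻¹) := Iff.rfl

theorem L_le_H : L D ≤ H D := fun _ hx => (mem_H D).2 hx.1

theorem K_le_L : K D ≤ L D := fun x hx =>
  ⟨((mem_K D).1 hx).2, Or.inl (by rw [((mem_K D).1 hx).1.eq, mul_inv_cancel_right])⟩

/-- Extension of a homomorphism from a subgroup of index two. -/
theorem exists_extension {Γ : Type*} {M : Type*} [Group Γ] [Group M] (A B : Subgroup Γ) (e : Γ)
    (he : e ∉ A) (hidx : ∀ x ∈ B, x ∈ A ∨ x * e⁻¹ ∈ A) (hn : ∀ x ∈ A, e * x * e⁻¹ ∈ A)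
    (f : A →* M) (s : M) (hc : ∀ x : A, f ⟨e * x * e⁻¹, hn x x.2⟩ = s * f x * s⁻¹)
    (he2 : e * e ∈ A) (hs2 : f ⟨e * e, he2⟩ = s * s) :
    ∃ F : B →* M, (∀ x : B, ∀ hx : (x : Γ) ∈ A, F x = f ⟨x, hx⟩) ∧
      ∀ x : B, ∀ hx : (x : Γ) * e⁻¹ ∈ A, F x = f ⟨_, hx⟩ * s := by
  classical
  have excl : ∀ x : Γ, x ∈ A → x * e⁻¹ ∈ A → False := fun x h1 h2 =>
    he (by
      have := mul_mem (inv_mem h2) h1
      rwa [mul_inv_rev, inv_inv, inv_mul_cancel_right] at this)
  let Ff : B → M := fun x =>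
    if hx : (x : Γ) ∈ A then f ⟨x, hx⟩
    else f ⟨_, (hidx x x.2).resolve_left hx⟩ * s
  have h0 : ∀ x : B, ∀ hx : (x : Γ) ∈ A, Ff x = f ⟨x, hx⟩ := fun x hx => dif_pos hx
  have h1 : ∀ x : B, ∀ hx : (x : Γ) * e⁻¹ ∈ A, Ff x = f ⟨_, hx⟩ * s := fun x hx =>
    dif_neg fun h => excl _ h hx
  refine ⟨MonoidHom.mk' Ff fun x y => ?_, h0, h1⟩
  rcases hidx x x.2 with hx | hx <;> rcases hidx y y.2 with hy | hy
  · rw [h0 x hx, h0 y hy, h0 (x * y) (mul_mem hx hy), ← map_mul]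
    rfl
  · have h : ((x * y : B) : Γ) * e⁻¹ ∈ A := by
      rw [Subgroup.coe_mul, mul_assoc]; exact mul_mem hx hy
    rw [h0 x hx, h1 y hy, h1 (x * y) h, ← mul_assoc, ← map_mul]
    congr 2
    exact Subtype.ext (mul_assoc _ _ _)
  · have h : ((x * y : B) : Γ) * e⁻¹ ∈ A := by
      have := mul_mem hx (hn _ hy)
      rwa [show (x : Γ) * e⁻¹ * (e * (y : Γ) * e⁻¹) = (x : Γ) * (y : Γ) * e⁻¹ by group] at this
    rw [h1 x hx, h0 y hy, h1 (x * y) h]
    have e1 : (⟨_, h⟩ : A) = ⟨_, hx⟩ * ⟨_, hn _ hy⟩ := Subtype.ext (by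
      show (x : Γ) * (y : Γ) * e⁻¹ = (x : Γ) * e⁻¹ * (e * (y : Γ) * e⁻¹); group)
    rw [e1, map_mul, hc ⟨_, hy⟩]
    group
  · have h : ((x * y : B) : Γ) ∈ A := by
      have := mul_mem (mul_mem hx (hn _ hy)) he2
      rwa [show (x : Γ) * e⁻¹ * (e * ((y : Γ) * e⁻¹) * e⁻¹) * (e * e) = (x : Γ) * (y : Γ) by
        group] at this
    rw [h1 x hx, h1 y hy, h0 (x * y) h]
    have e1 : (⟨_, h⟩ : A) = ⟨_, hx⟩ * ⟨_, hn _ hy⟩ * ⟨_, he2⟩ := Subtype.ext (by
      show (x : Γ) * (y : Γ) = (x : Γ) * e⁻¹ * (e * ((y : Γ) * e⁻¹) * e⁻¹) * (e * e); group)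
    rw [e1, map_mul, map_mul, hc ⟨_, hy⟩, hs2]
    group

/-- The homomorphism of `ZMod 3` onto the three-cycles of degree three sending `η` to the
standard one. -/
def c3 (η : Multiplicative (ZMod 3)) : Multiplicative (ZMod 3) →* Perm (Fin 3) :=
  MonoidHom.mk'
    (fun x => (swap 0 1 * swap 1 2) ^ (Multiplicative.toAdd x * Multiplicative.toAdd η).val)
    (by revert η; decide +kernel)

theorem c3_facts : ∀ η : Multiplicative (ZMod 3), η ≠ 1 →
    c3 η η = swap 0 1 * swap 1 2 ∧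
    (∀ x, c3 η x = 1 → x = 1) ∧
    (∀ x, Perm.sign (c3 η x) = 1) ∧
    (∀ x, c3 η x⁻¹ = swap 0 1 * c3 η x * (swap 0 1)⁻¹) ∧
    ∀ p : Perm (Fin 3), Perm.sign p = 1 → ∃ x, c3 η x = p := by
  decide +kernel

theorem perm_five_even_involutions : ∀ r : Perm (Fin 5), Perm.sign r = 1 →
    ∃ u : Perm (Fin 5), Perm.sign u = 1 ∧ u * u = 1 ∧ (u * r) * (u * r) = 1 := by
  decide +kernel

theorem perm_five_center : ∀ q : Perm (Fin 5),
    q * (swap 0 1 * swap 1 2) = swap 0 1 * swap 1 2 * q →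
    q * (swap 2 3 * swap 3 4) = swap 2 3 * swap 3 4 * q → q = 1 := by
  decide +kernel

theorem mem_closure_zt {x : G} (hx : x ∈ closure ({D.z, D.t} : Set G)) :
    ∃ i : ℤ, x = D.z ^ i ∨ x = D.z ^ i * D.t := by
  induction hx using closure_induction with
  | mem y hy =>
    rcases hy with rfl | rfl
    · exact ⟨1, Or.inl (zpow_one _).symm⟩
    · exact ⟨0, Or.inr (by simp)⟩
  | one => exact ⟨0, Or.inl (zpow_zero _).symm⟩
  | mul y w _ _ hy hw =>
    obtain ⟨i, hi⟩ := hy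
    obtain ⟨j, hj⟩ := hw
    refine ⟨i + j, ?_⟩
    have hc : Commute D.t (D.z ^ j) := D.tz.zpow_right j
    rcases hi with rfl | rfl <;> rcases hj with rfl | rfl
    · exact Or.inl (zpow_add _ _ _).symm
    · exact Or.inr (by rw [zpow_add, mul_assoc])
    · exact Or.inr (by rw [zpow_add, mul_assoc, hc.eq, ← mul_assoc])
    · refine Or.inl ?_
      rw [zpow_add, mul_assoc, ← mul_assoc D.t, hc.eq, mul_assoc (D.z ^ j), t_sq D, mul_one]
  | inv y _ hy =>
    obtain ⟨i, hi⟩ := hy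
    refine ⟨-i, ?_⟩
    rcases hi with rfl | rfl
    · exact Or.inl (zpow_neg _ _).symm
    · refine Or.inr ?_
      rw [mul_inv_rev, t_inv D, ← zpow_neg, (D.tz.zpow_right (-i)).eq]

/-- `z` in `K`. -/
def zK' : K D := ⟨D.z, (mem_K D).2 ⟨Commute.refl _, D.tz.symm⟩⟩

/-- `a` in `K`. -/
def aK' : K D := ⟨D.a, (mem_K D).2 ⟨D.za.symm, D.ta.symm⟩⟩

theorem χ_t (h : D.t ∈ K D) : D.χ ⟨D.t, h⟩ = 1 := by
  have h2 : (⟨D.t, h⟩ : K D) ^ 2 = 1 := Subtype.ext (by rw [pow_two]; exact t_sq D)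
  have h' := congrArg D.χ h2
  rw [map_pow, map_one] at h'
  generalize D.χ ⟨D.t, h⟩ = y at h' ⊢
  revert y
  decide

theorem conjE_mem {x : G} (hx : x ∈ K D) : D.e * x * D.e⁻¹ ∈ K D := by
  obtain ⟨h1, h2⟩ := (mem_K D).1 hx
  refine (mem_K D).2 ⟨?_, (D.et.mul_left h2).mul_left D.et.inv_left⟩
  have hc : Commute (D.e * x * D.e⁻¹) (D.e * D.z⁻¹ * D.e⁻¹) :=
    h1.inv_right.map (MulAut.conj D.e).toMonoidHom
  rwa [← conj_inv, D.ez, inv_inv] at hc

/-- The hom to `Sym 3 × Sym 5` with the kernel `⟨t⟩`. -/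
theorem exists_param : ∃ F : L D →* Perm (Fin 3) × Perm (Fin 5),
    (∀ x : L D, F x = 1 ↔ ((x : G) = 1 ∨ (x : G) = D.t)) ∧
    (∀ x : L D, (x : G) = D.z → F x = SEightThree.zF) ∧
    (∀ x : L D, (x : G) = D.a → F x = SEightThree.dF) ∧
    (F.range = AEightThree.KK ∨
      (F.range = ⊤ ∧ ∃ x : K D, Perm.sign (D.φ x) = -1)) := by
  classical
  -- the character data
  obtain ⟨hπs, hπ⟩ := D.e_odd.choose_spec
  set π₀ := D.e_odd.choose
  set η := D.χ (zK' D) with hηdef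
  have hη : η ≠ 1 := D.χ_z _ rfl
  obtain ⟨cη, cinj, csign, cinv, csurj⟩ := c3_facts η hη
  let cE : K D →* K D :=
    { toFun := fun x => ⟨D.e * x * D.e⁻¹, conjE_mem D x.2⟩
      map_one' := Subtype.ext (by simp)
      map_mul' := fun x y => Subtype.ext (by
        show D.e * ((x : G) * (y : G)) * D.e⁻¹ = D.e * x * D.e⁻¹ * (D.e * y * D.e⁻¹); group) }
  have hπc : ∀ x : K D, D.φ (cE x) = π₀ * D.φ x * π₀⁻¹ := fun x => hπ x (cE x) rfl
  -- `χ` is inverted
  let χ' : K D →* Multiplicative (ZMod 3) := D.χ.comp cE * D.χ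
  have hker : ∀ x : K D, D.φ x = 1 → χ' x = 1 := by
    intro x hx
    obtain ⟨i, hi⟩ := mem_closure_zt D ((D.φ_ker x).1 hx)
    have hz1 : χ' (zK' D) = 1 := by
      have e : cE (zK' D) = (zK' D)⁻¹ := Subtype.ext D.ez
      show D.χ (cE (zK' D)) * D.χ (zK' D) = 1
      rw [e, map_inv, inv_mul_cancel]
    have htm : D.t ∈ K D := (mem_K D).2 ⟨D.tz, Commute.refl _⟩
    have ht1 : χ' ⟨D.t, htm⟩ = 1 := by
      have e : cE ⟨D.t, htm⟩ = ⟨D.t, htm⟩ := Subtype.ext (by
        show D.e * D.t * D.e⁻¹ = D.t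
        rw [D.et.eq, mul_inv_cancel_right])
      show D.χ (cE ⟨D.t, htm⟩) * D.χ ⟨D.t, htm⟩ = 1
      rw [e, χ_t D htm, mul_one]
    rcases hi with hi | hi
    · rw [show x = zK' D ^ i from Subtype.ext (by push_cast; exact hi), map_zpow, hz1, one_zpow]
    · rw [show x = zK' D ^ i * ⟨D.t, htm⟩ from Subtype.ext (by push_cast; exact hi), map_mul,
        map_zpow, hz1, ht1, one_zpow, one_mul]
  have hsq : ∀ x : K D, χ' x * χ' x = 1 → χ' x = 1 := fun x => by
    generalize χ' x = y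
    revert y
    decide
  have hφsurj : ∀ r : Perm (Fin 5), Perm.sign r = 1 → ∃ x : K D, D.φ x = r := fun r hr =>
    D.φ_range (Perm.mem_alternatingGroup.2 hr)
  have heven : ∀ x : K D, Perm.sign (D.φ x) = 1 → χ' x = 1 := by
    intro x hx
    obtain ⟨u, hu, huu, hur⟩ := perm_five_even_involutions _ hx
    obtain ⟨y, rfl⟩ := hφsurj u hu
    have h1 : χ' y = 1 := hsq y (by rw [← map_mul]; exact hker _ (by rw [map_mul, huu]))
    have h2 : χ' (y * x) = 1 := hsq _ (by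
      rw [← map_mul]; exact hker _ (by rw [map_mul, map_mul]; exact hur))
    rwa [map_mul, h1, one_mul] at h2
  have hinv : ∀ x : K D, D.χ (cE x) = (D.χ x)⁻¹ := fun x => eq_inv_of_mul_eq_one_left (by
    show χ' x = 1
    refine hsq x ?_
    rw [← map_mul]
    refine heven _ ?_
    rw [map_mul, map_mul, Int.units_mul_self])
  -- the square of `e`
  have he2K : D.e * D.e ∈ K D := by
    refine (mem_K D).2 ⟨?_, D.et.mul_left D.et⟩
    refine mul_inv_eq_iff_eq_mul.1 ?_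
    calc D.e * D.e * D.z * (D.e * D.e)⁻¹ = D.e * (D.e * D.z * D.e⁻¹) * D.e⁻¹ := by group
      _ = D.z := by rw [D.ez, ← conj_inv, D.ez, inv_inv]
  set ee : K D := ⟨D.e * D.e, he2K⟩
  have hee : cE ee = ee := Subtype.ext (by show D.e * (D.e * D.e) * D.e⁻¹ = D.e * D.e; group)
  have hχee : D.χ ee = 1 := by
    have h := hinv ee
    rw [hee] at h
    generalize D.χ ee = y at h ⊢
    revert y
    decide
  have hφee : D.φ ee = π₀ * π₀ := by
    have hconj : ∀ x : K D, Commute ((π₀ * π₀)⁻¹ * D.φ ee) (D.φ x) := by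
      intro x
      have e1 : cE (cE x) = ee * x * ee⁻¹ := Subtype.ext (by
        show D.e * (D.e * (x : G) * D.e⁻¹) * D.e⁻¹ = D.e * D.e * (x : G) * (D.e * D.e)⁻¹; group)
      have e2 := congrArg D.φ e1
      rw [map_mul, map_mul, map_inv, hπc, hπc] at e2
      refine mul_inv_eq_iff_eq_mul.1 ?_
      calc (π₀ * π₀)⁻¹ * D.φ ee * D.φ x * ((π₀ * π₀)⁻¹ * D.φ ee)⁻¹
          = (π₀ * π₀)⁻¹ * (D.φ ee * D.φ x * (D.φ ee)⁻¹) * (π₀ * π₀) := by
            simp only [mul_inv_rev, inv_inv, mul_assoc]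
        _ = D.φ x := by rw [← e2]; group
    obtain ⟨x1, h1⟩ := hφsurj (swap 0 1 * swap 1 2) (by decide)
    obtain ⟨x2, h2⟩ := hφsurj (swap 2 3 * swap 3 4) (by decide)
    exact (inv_mul_eq_one.1 (perm_five_center _ (h1 ▸ (hconj x1).eq) (h2 ▸ (hconj x2).eq))).symm
  -- normalise the image of `a`
  have ha3 : D.φ (aK' D) ^ 3 = 1 := by
    rw [← map_pow, show aK' D ^ 3 = 1 from Subtype.ext (a_cube D), map_one]
  have ha1 : D.φ (aK' D) ≠ 1 := fun h => by
    obtain ⟨i, hi⟩ := mem_closure_zt D ((D.φ_ker _).1 h)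
    rcases hi with hi | hi
    · exact a_not_zpowers D ⟨i, hi.symm⟩
    · refine t_ne_one D ?_
      have h3 := a_cube D
      have hi' : D.a = D.z ^ i * D.t := hi
      rw [hi', ((D.tz.zpow_right i).symm).mul_pow, ← zpow_natCast (D.z ^ i), ← zpow_mul,
        mul_comm i, zpow_mul, zpow_natCast, z_cube, one_zpow, one_mul, pow_succ, pow_two, t_sq D,
        one_mul] at h3
      exact h3
  obtain ⟨b, hb⟩ := isConj_iff.1 (SEightThree.SetupAux.isConj_delta ha3 ha1)
  let f : K D →* Perm (Fin 3) × Perm (Fin 5) :=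
    ((c3 η).comp D.χ).prod ((MulAut.conj b).toMonoidHom.comp D.φ)
  have hf : ∀ x, f x = (c3 η (D.χ x), b * D.φ x * b⁻¹) := fun x => rfl
  set s : Perm (Fin 3) × Perm (Fin 5) := (swap 0 1, b * π₀ * b⁻¹) with hsdef
  have heK : D.e ∉ K D := fun h => by
    have h' := ((mem_K D).1 h).1
    have he := D.ez
    rw [h'.eq, mul_inv_cancel_right] at he
    refine z_ne_one D ?_
    calc D.z = D.z ^ 3 * (D.z⁻¹ * D.z⁻¹) := by group
      _ = D.z⁻¹ * D.z := by rw [z_cube, one_mul]; nth_rewrite 2 [← he]; rfl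
      _ = 1 := inv_mul_cancel _
  have hidx : ∀ x ∈ L D, x ∈ K D ∨ x * D.e⁻¹ ∈ K D := by
    rintro x ⟨hxt, hx | hx⟩
    · exact Or.inl ((mem_K D).2 ⟨mul_inv_eq_iff_eq_mul.1 hx, hxt⟩)
    · refine Or.inr ((mem_K D).2 ⟨mul_inv_eq_iff_eq_mul.1 ?_, hxt.mul_left D.et.inv_left⟩)
      have he' : D.e⁻¹ * D.z * D.e = D.z⁻¹ := by
        have h1 : D.e * D.z⁻¹ * D.e⁻¹ = D.z := by rw [← conj_inv, D.ez, inv_inv]
        nth_rewrite 1 [← h1]
        group
      calc x * D.e⁻¹ * D.z * (x * D.e⁻¹)⁻¹ = x * (D.e⁻¹ * D.z * D.e) * x⁻¹ := by group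
        _ = D.z := by rw [he', ← conj_inv, hx, inv_inv]
  obtain ⟨F, hF0, hF1⟩ := exists_extension (K D) (L D) D.e heK hidx (fun x hx => conjE_mem D hx)
    f s (fun x => by
      show f (cE x) = _
      rw [hf, hf, hinv, hπc, cinv, hsdef]
      refine Prod.ext rfl ?_
      show b * (π₀ * D.φ x * π₀⁻¹) * b⁻¹ = b * π₀ * b⁻¹ * (b * D.φ x * b⁻¹) * (b * π₀ * b⁻¹)⁻¹
      group) he2K (by
      show f ee = _
      rw [hf, hχee, hφee, map_one, hsdef]
      refine Prod.ext ?_ ?_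
      · show (1 : Perm (Fin 3)) = swap 0 1 * swap 0 1
        rw [swap_mul_self]
      · show b * (π₀ * π₀) * b⁻¹ = b * π₀ * b⁻¹ * (b * π₀ * b⁻¹)
        group)
  have hsgn1 : ∀ x : L D, ∀ hx : (x : G) * D.e⁻¹ ∈ K D, Perm.sign (F x).1 = -1 := fun x hx => by
    rw [hF1 x hx, hf, hsdef, Prod.fst_mul, map_mul, csign, one_mul]
    exact (by decide : Perm.sign (swap (0 : Fin 3) 1) = -1)
  have hsign5 : ∀ q : Perm (Fin 5), Perm.sign (b * q * b⁻¹) = Perm.sign q := fun q => by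
    rw [map_mul, map_mul, map_inv, mul_comm (Perm.sign b) (Perm.sign q), mul_inv_cancel_right]
  have hfz : f (zK' D) = SEightThree.zF := by
    rw [hf, (D.φ_ker (zK' D)).2 (Subgroup.subset_closure (Or.inl rfl)), ← hηdef, cη, mul_one, mul_inv_cancel]
    rfl
  refine ⟨F, fun x => ⟨fun h => ?_, fun h => ?_⟩, fun x hx => ?_, fun x hx => ?_, ?_⟩
  · have hxK : (x : G) ∈ K D := (hidx x x.2).resolve_right fun hx => by
      have := hsgn1 x hx
      rw [h] at this
      simp at this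
    rw [hF0 x hxK, hf, Prod.ext_iff] at h
    have hφ1 : D.φ ⟨x, hxK⟩ = 1 := conj_eq_one_iff.1 h.2
    have hχ1 := cinj _ h.1
    obtain ⟨i, hi⟩ := mem_closure_zt D ((D.φ_ker _).1 hφ1)
    have hzi : ∀ h' : D.z ^ i ∈ K D, D.χ ⟨D.z ^ i, h'⟩ = 1 → D.z ^ i = 1 := by
      intro h' hh
      rcases zpow_three_cases (z_cube D) i with e | e | e
      · exact e
      · exact absurd hh (D.χ_z _ e)
      · exfalso
        have e' : (⟨D.z ^ i, h'⟩ : K D) = (zK' D)⁻¹ := Subtype.ext e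
        rw [e', map_inv, inv_eq_one] at hh
        exact hη hh
    rcases hi with hi | hi
    · have hi' : (x : G) = D.z ^ i := hi
      refine Or.inl (hi'.trans (hzi (hi' ▸ hxK) ?_))
      rw [← hχ1]; congr 1; exact Subtype.ext hi'.symm
    · have hi' : (x : G) = D.z ^ i * D.t := hi
      have htm : D.t ∈ K D := (mem_K D).2 ⟨D.tz, Commute.refl _⟩
      have hzm : D.z ^ i ∈ K D := zpow_mem (zK' D).2 i
      refine Or.inr ?_
      rw [hi', hzi hzm ?_, one_mul]
      rw [show (⟨x, hxK⟩ : K D) = ⟨_, hzm⟩ * ⟨D.t, htm⟩ from Subtype.ext hi', map_mul,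
        χ_t D htm, mul_one] at hχ1
      exact hχ1
  · rcases h with h | h
    · rw [show x = 1 from Subtype.ext h, map_one]
    · have htm : D.t ∈ K D := (mem_K D).2 ⟨D.tz, Commute.refl _⟩
      have e : (⟨(x : G), h ▸ htm⟩ : K D) = ⟨D.t, htm⟩ := Subtype.ext h
      rw [hF0 x (h ▸ htm), e, hf, χ_t D htm,
        (D.φ_ker ⟨D.t, htm⟩).2 (Subgroup.subset_closure (Or.inr rfl)), map_one, mul_one, mul_inv_cancel]
      rfl
  · rw [hF0 x (hx ▸ (zK' D).2), show (⟨(x : G), _⟩ : K D) = zK' D from Subtype.ext hx, hfz]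
  · rw [hF0 x (hx ▸ (aK' D).2), show (⟨(x : G), _⟩ : K D) = aK' D from Subtype.ext hx, hf,
      D.χ_a (aK' D) rfl, map_one, hb]
    rfl
  -- the range
  have hKmem : ∀ (c : Multiplicative (ZMod 3)) (r : Perm (Fin 5)),
      (∃ x : K D, D.φ x = b⁻¹ * r * b) → (c3 η c, r) ∈ F.range := by
    rintro c r ⟨x, hx⟩
    obtain ⟨j, hj⟩ : ∃ j : ℕ, η ^ j = c * (D.χ x)⁻¹ := by
      generalize c * (D.χ x)⁻¹ = w
      revert hη
      generalize η = e
      intro he
      refine ⟨(Multiplicative.toAdd w * Multiplicative.toAdd e).val, ?_⟩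
      revert he w e
      decide
    refine ⟨⟨_, K_le_L D (mul_mem (pow_mem (zK' D).2 j) x.2)⟩, ?_⟩
    refine (hF0 _ (mul_mem (pow_mem (zK' D).2 j) x.2)).trans ?_
    show f (zK' D ^ j * x) = _
    rw [hf, map_mul, map_pow, ← hηdef,
      hj, inv_mul_cancel_right, map_mul, map_pow,
      (D.φ_ker (zK' D)).2 (Subgroup.subset_closure (Or.inl rfl)), one_pow, one_mul, hx]
    refine Prod.ext rfl ?_
    show b * (b⁻¹ * r * b) * b⁻¹ = r
    group
  have hs : s ∈ F.range := by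
    refine ⟨⟨D.e, D.et, Or.inr D.ez⟩, ?_⟩
    rw [hF1 _ (by rw [mul_inv_cancel]; exact one_mem _)]
    rw [show (⟨_, _⟩ : K D) = 1 from Subtype.ext (mul_inv_cancel D.e), map_one, one_mul]
  have hcover : ∀ p : Perm (Fin 3) × Perm (Fin 5),
      (∀ q : Perm (Fin 5), (Perm.sign p.1 = 1 ∧ q = p.2) ∨
        (Perm.sign p.1 ≠ 1 ∧ q = (p * s⁻¹).2) → ∃ x : K D, D.φ x = b⁻¹ * q * b) →
      p ∈ F.range := by
    intro p hp
    by_cases h1 : Perm.sign p.1 = 1
    · obtain ⟨c, hc⟩ := csurj _ h1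
      have := hKmem c p.2 (hp _ (Or.inl ⟨h1, rfl⟩))
      rwa [hc] at this
    · have h2 : Perm.sign (p * s⁻¹).1 = 1 := by
        show Perm.sign (p.1 * (swap 0 1)⁻¹) = 1
        rw [map_mul, (Int.units_eq_one_or _).resolve_left h1]
        decide
      obtain ⟨c, hc⟩ := csurj _ h2
      have := hKmem c (p * s⁻¹).2 (hp _ (Or.inr ⟨h1, rfl⟩))
      rw [hc] at this
      have := mul_mem this hs
      rwa [inv_mul_cancel_right] at this
  have hsb : ∀ q : Perm (Fin 5), Perm.sign (b⁻¹ * q * b) = Perm.sign q := fun q => by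
    rw [map_mul, map_mul, map_inv, mul_comm _ (Perm.sign q), inv_mul_cancel_right]
  by_cases hodd : ∃ x : K D, Perm.sign (D.φ x) = -1
  · refine Or.inr ⟨eq_top_iff.2 fun p _ => hcover p fun q _ => ?_, hodd⟩
    rcases Int.units_eq_one_or (Perm.sign q) with h | h
    · exact hφsurj _ (by rw [hsb, h])
    · obtain ⟨y, hy⟩ := hodd
      obtain ⟨x, hx⟩ := hφsurj (b⁻¹ * q * b * (D.φ y)⁻¹) (by
        rw [map_mul, map_inv, hsb, h, hy]; decide)
      exact ⟨x * y, by rw [map_mul, hx, inv_mul_cancel_right]⟩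
  · push Not at hodd
    have hev : ∀ x : K D, Perm.sign (D.φ x) = 1 := fun x =>
      (Int.units_eq_one_or _).resolve_right (hodd x)
    refine Or.inl (le_antisymm ?_ fun p hp => hcover p fun q hq => hφsurj _ ?_)
    · rintro _ ⟨x, rfl⟩
      rw [AEightThree.mem_KK]
      rcases hidx x x.2 with hx | hx
      · rw [hF0 x hx, hf]
        show Perm.sign (c3 η _) * Perm.sign (b * D.φ _ * b⁻¹) = 1
        rw [csign, one_mul, hsign5, hev]
      · rw [hsgn1 x hx, hF1 x hx, Prod.snd_mul, hf, hsdef, map_mul, hsign5, hsign5, hev, hπs]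
        decide
    · rw [hsb]
      rw [AEightThree.mem_KK] at hp
      rcases hq with ⟨h1, rfl⟩ | ⟨h1, rfl⟩
      · rwa [h1, one_mul] at hp
      · have h1' := (Int.units_eq_one_or _).resolve_left h1
        show Perm.sign (p.2 * (b * π₀ * b⁻¹)⁻¹) = 1
        rw [map_mul, map_inv, hsign5, hπs]
        rw [h1'] at hp
        rw [show ((-1 : ℤˣ))⁻¹ = -1 from by decide, mul_comm]
        exact hp

/-- The parametrised normalizer of the image of `⟨z⟩` from a homomorphism with kernel `⟨t⟩`. -/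
theorem exists_psi {M : Type*} [Group M] (F : L D →* M) (hsurj : Function.Surjective F)
    (hker : ∀ x : L D, F x = 1 ↔ ((x : G) = 1 ∨ (x : G) = D.t)) :
    ∃ ψ : M →* X D, Function.Injective ψ ∧
      (∀ x : L D, ψ (F x) = pr D ⟨x, L_le_H D x.2⟩) ∧
      ψ.range = normalizer (zpowers (pr D (zH D)) : Set (X D)) := by
  let P : L D →* X D := (pr D).comp (Subgroup.inclusion (L_le_H D))
  have hP : F.ker ≤ P.ker := fun x hx => by
    rw [MonoidHom.mem_ker] at hx ⊢
    exact (pr_eq_one D).2 ((hker x).1 hx)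
  let ψ : M →* X D := F.liftOfSurjective hsurj ⟨P, hP⟩
  have hψ : ∀ x : L D, ψ (F x) = P x := fun x =>
    MonoidHom.liftOfRightInverse_comp_apply F _ _ ⟨P, hP⟩ x
  refine ⟨ψ, (injective_iff_map_eq_one ψ).2 fun m hm => ?_, hψ, ?_⟩
  · obtain ⟨x, rfl⟩ := hsurj m
    rw [hψ] at hm
    exact (hker x).2 ((pr_eq_one D).1 hm)
  have hz3 : pr D (zH D) ^ 3 = 1 := by
    rw [← map_pow, show zH D ^ 3 = 1 from Subtype.ext (z_cube D), map_one]
  ext p
  constructor
  · rintro ⟨m, rfl⟩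
    obtain ⟨x, rfl⟩ := hsurj m
    rw [hψ, mem_normalizer_iff_map_conj_eq, MonoidHom.map_zpowers]
    have e : (MulAut.conj (P x) : X D →* X D) (pr D (zH D)) =
        pr D (⟨x, L_le_H D x.2⟩ * zH D * (⟨x, L_le_H D x.2⟩)⁻¹) := by
      rw [map_mul, map_mul, map_inv]; rfl
    rw [e]
    rcases x.2.2 with h | h
    · rw [show (⟨x, L_le_H D x.2⟩ * zH D * (⟨x, L_le_H D x.2⟩)⁻¹ : H D) = zH D from
        Subtype.ext h]
    · rw [show (⟨x, L_le_H D x.2⟩ * zH D * (⟨x, L_le_H D x.2⟩)⁻¹ : H D) = (zH D)⁻¹ from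
        Subtype.ext h, map_inv, zpowers_inv]
  · intro hp
    obtain ⟨h, rfl⟩ := pr_surjective D p
    have hm : pr D (h * zH D * h⁻¹) ∈ zpowers (pr D (zH D)) := by
      rw [map_mul, map_mul, map_inv]
      exact (mem_normalizer_iff.1 hp _).1 (mem_zpowers _)
    have hh3 : ((h * zH D * h⁻¹ : H D) : G) ^ 3 = 1 := by
      show ((h : G) * D.z * (h : G)⁻¹) ^ 3 = 1
      rw [conj_pow, z_cube, mul_one, mul_inv_cancel]
    obtain ⟨k, hk⟩ := hm
    have hk' : pr D (zH D) ^ k = pr D (h * zH D * h⁻¹) := hk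
    have hL : (h : G) ∈ L D := by
      refine ⟨(mem_H D).1 h.2, ?_⟩
      rcases zpow_three_cases hz3 k with e | e | e <;> rw [e] at hk'
      · exfalso
        have h1 := eq_of_three D (x := 1) (by simp) hh3 (by rw [map_one]; exact hk')
        exact z_ne_one D (conj_eq_one_iff.1 h1)
      · exact Or.inl (eq_of_three D (x := zH D) (z_cube D) hh3 hk')
      · refine Or.inr (eq_of_three D (x := (zH D)⁻¹) ?_ hh3 (by rw [map_inv]; exact hk'))
        show (D.z⁻¹) ^ 3 = 1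
        rw [inv_pow, z_cube, inv_one]
    exact ⟨F ⟨h, hL⟩, hψ _⟩

/-- Twenty-seven does not divide the order of the centraliser of `t` modulo `t`, provided the
image of `⟨z⟩` has centraliser meeting that of `a` in a group without larger three-part. -/
theorem not_dvd [Finite G] {M : Type*} [Group M] (ψ : M →* X D) (hinj : Function.Injective ψ)
    (hrange : ψ.range = normalizer (zpowers (pr D (zH D)) : Set (X D))) (zm dm : M)
    (hzm : ψ zm = pr D (zH D)) (hdm : ψ dm = pr D (aH D))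
    (hsmall : ∀ m : M, m * zm = zm * m → m * dm = dm * m → m ^ 27 = 1 →
      m ∈ closure ({zm, dm} : Set M)) :
    ¬ 27 ∣ Nat.card (X D) := by
  intro h27
  haveI : Fact (Nat.Prime 3) := ⟨Nat.prime_three⟩
  set Z := pr D (zH D) with hZ
  set A := pr D (aH D) with hA
  set E : Subgroup (X D) := closure {Z, A} with hE
  have hc : Commute Z A := by
    show Z * A = A * Z
    rw [hZ, hA, ← map_mul, ← map_mul]; congr 1; exact Subtype.ext D.za.eq
  have hz3 : Z ^ 3 = 1 := by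
    rw [hZ, ← map_pow, show zH D ^ 3 = 1 from Subtype.ext (z_cube D), map_one]
  have ha3 : A ^ 3 = 1 := by
    rw [hA, ← map_pow, show aH D ^ 3 = 1 from Subtype.ext (a_cube D), map_one]
  -- `E` is the image of `Fin 3 × Fin 3`
  have hmem : ∀ x ∈ E, ∃ i j : ℤ, x = Z ^ i * A ^ j := by
    intro x hx
    induction hx using closure_induction with
    | mem y hy =>
      rcases hy with rfl | rfl
      · exact ⟨1, 0, by simp⟩
      · exact ⟨0, 1, by simp⟩
    | one => exact ⟨0, 0, by simp⟩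
    | mul y w _ _ hy hw =>
      obtain ⟨i, j, rfl⟩ := hy
      obtain ⟨k, l, rfl⟩ := hw
      refine ⟨i + k, j + l, ?_⟩
      rw [zpow_add, zpow_add, mul_assoc, ← mul_assoc (A ^ j), ← (hc.zpow_zpow k j).eq]
      simp only [mul_assoc]
    | inv y _ hy =>
      obtain ⟨i, j, rfl⟩ := hy
      exact ⟨-i, -j, by rw [mul_inv_rev, ← zpow_neg, ← zpow_neg, (hc.zpow_zpow (-i) (-j)).eq]⟩
  have hE3 : ∀ x ∈ E, x ^ 3 = 1 := by
    intro x hx
    obtain ⟨i, j, rfl⟩ := hmem x hx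
    rw [(hc.zpow_zpow i j).mul_pow, ← zpow_natCast (Z ^ i), ← zpow_mul, mul_comm i, zpow_mul,
      zpow_natCast, hz3, one_zpow, one_mul, ← zpow_natCast (A ^ j), ← zpow_mul, mul_comm j,
      zpow_mul, zpow_natCast, ha3, one_zpow]
  have hEp : IsPGroup 3 E := fun x => ⟨1, Subtype.ext (by push_cast; exact hE3 _ x.2)⟩
  have hZE : Z ∈ E := Subgroup.subset_closure (Or.inl rfl)
  have hAE : A ∈ E := Subgroup.subset_closure (Or.inr rfl)
  have hEle : Nat.card E ≤ 9 := by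
    classical
    have hsurj : Function.Surjective (fun p : Fin 3 × Fin 3 =>
        (⟨Z ^ p.1.1 * A ^ p.2.1, mul_mem (pow_mem hZE _) (pow_mem hAE _)⟩ : E)) := by
      rintro ⟨x, hx⟩
      obtain ⟨i, j, rfl⟩ := hmem x hx
      have red : ∀ (w : X D) (k : ℤ), w ^ 3 = 1 → ∃ n : Fin 3, w ^ n.1 = w ^ k := by
        intro w k hw
        rcases zpow_three_cases hw k with e | e | e
        · exact ⟨0, by rw [e]; exact pow_zero _⟩
        · exact ⟨1, by rw [e]; exact pow_one _⟩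
        · refine ⟨2, ?_⟩
          rw [e]
          exact eq_inv_of_mul_eq_one_left (by rw [← pow_succ]; exact hw)
      obtain ⟨n, hn⟩ := red Z i hz3
      obtain ⟨m, hm⟩ := red A j ha3
      exact ⟨(n, m), Subtype.ext (by show Z ^ n.1 * A ^ m.1 = _; rw [hn, hm])⟩
    calc Nat.card E ≤ Nat.card (Fin 3 × Fin 3) := Nat.card_le_card_of_surjective _ hsurj
      _ = 9 := by simp
  obtain ⟨n, hn⟩ := IsPGroup.iff_card.1 hEp
  have hn3 : n ≤ 3 := by
    by_contra hlt
    have h1 : (3 : ℕ) ^ 3 ≤ 3 ^ n := Nat.pow_le_pow_right (by norm_num) (by omega)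
    omega
  obtain ⟨P, hPcard, hP⟩ :=
    Sylow.exists_subgroup_card_pow_prime_le 3 (show 3 ^ 3 ∣ Nat.card (X D) from h27) E hn hn3
  have hlt : E.subgroupOf P < ⊤ := by
    refine lt_top_iff_ne_top.2 fun e => ?_
    have h2 : Nat.card P ≤ Nat.card E := Subgroup.card_le_of_le (subgroupOf_eq_top.1 e)
    omega
  haveI : Group.IsNilpotent P := (IsPGroup.of_card hPcard).isNilpotent
  obtain ⟨x, hxn, hxE⟩ := SetLike.exists_of_lt
    ((Group.normalizerCondition_of_isNilpotent (G := P)) (E.subgroupOf P) hlt)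
  have hxE' : (x : X D) ∉ E := fun h => hxE (mem_subgroupOf.2 h)
  obtain ⟨h, hh⟩ := pr_surjective D (x : X D)
  have hconj : ∀ w ∈ E, (x : X D) * w * (x : X D)⁻¹ ∈ E := fun w hw => by
    have hwP : w ∈ P := hP hw
    have h' := (mem_normalizer_iff.1 hxn ⟨w, hwP⟩).1 (mem_subgroupOf.2 hw)
    exact mem_subgroupOf.1 h'
  -- a conjugate of an element of order three lifts into `J`
  have hlift : ∀ w : H D, (w : G) ^ 3 = 1 → pr D w ∈ E → (w : G) ∈ D.toTop.J := by
    intro w hw3 hwE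
    obtain ⟨i, j, hij⟩ := hmem _ hwE
    have e := eq_of_three D (x := zH D ^ i * aH D ^ j) (by
        push_cast
        exact J_cube D (mul_mem (zpow_mem (z_mem_J D) i) (zpow_mem (a_mem_J D) j))) hw3
      (by rw [map_mul, map_zpow, map_zpow, hij])
    rw [e]
    push_cast
    exact mul_mem (zpow_mem (z_mem_J D) i) (zpow_mem (a_mem_J D) j)
  have hline : ∀ w : G, (w = D.z ∨ w = D.a) → (h : G) * w * (h : G)⁻¹ ∈ D.toTop.J := by
    intro w hw
    have hwH : w ∈ H D := by rcases hw with rfl | rfl; exacts [(zH D).2, (aH D).2]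
    have hw3 : w ^ 3 = 1 := by rcases hw with rfl | rfl; exacts [z_cube D, a_cube D]
    refine hlift (h * ⟨w, hwH⟩ * h⁻¹) ?_ ?_
    · show ((h : G) * w * (h : G)⁻¹) ^ 3 = 1
      rw [conj_pow, hw3, mul_one, mul_inv_cancel]
    · rw [map_mul, map_mul, map_inv, hh]
      refine hconj _ ?_
      rcases hw with rfl | rfl
      exacts [Subgroup.subset_closure (Or.inl rfl), Subgroup.subset_closure (Or.inr rfl)]
  obtain ⟨f1, f2⟩ := line_fix D ((mem_H D).1 h.2) (hline _ (Or.inl rfl)) (hline _ (Or.inr rfl))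
  have hcZ : Commute ((x : X D) ^ 4) Z := by
    refine mul_inv_eq_iff_eq_mul.1 ?_
    rw [← hh, hZ, ← map_pow, ← map_inv, ← map_mul, ← map_mul]
    congr 1
    exact Subtype.ext (by push_cast; exact f1)
  have hcA : Commute ((x : X D) ^ 4) A := by
    refine mul_inv_eq_iff_eq_mul.1 ?_
    rw [← hh, hA, ← map_pow, ← map_inv, ← map_mul, ← map_mul]
    congr 1
    exact Subtype.ext (by push_cast; exact f2)
  have h4n : (x : X D) ^ 4 ∈ ψ.range := by
    rw [hrange]
    exact centralizer_le_normalizer _ (mem_centralizer_iff.2 fun w hw => by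
      obtain ⟨k, rfl⟩ := hw
      exact (hcZ.zpow_right k).eq.symm)
  obtain ⟨m, hm⟩ := h4n
  have hx27 : (x : X D) ^ 27 = 1 := by
    have hp1 : x ^ Nat.card P = 1 := pow_card_eq_one'
    rw [show Nat.card P = 27 from hPcard] at hp1
    simpa using congrArg Subtype.val hp1
  have hm1 : m ∈ closure ({zm, dm} : Set M) := by
    refine hsmall m (hinj ?_) (hinj ?_) (hinj ?_)
    · rw [map_mul, map_mul, hm, hzm]; exact hcZ.eq
    · rw [map_mul, map_mul, hm, hdm]; exact hcA.eq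
    · rw [map_pow, hm, ← pow_mul, mul_comm, pow_mul, hx27, one_pow, map_one]
  have hxin : (x : X D) ^ 4 ∈ E := by
    rw [← hm, hE, ← hzm, ← hdm, ← Set.image_pair, ← MonoidHom.map_closure]
    exact mem_map_of_mem _ hm1
  refine hxE' ?_
  have e : (x : X D) = ((x : X D) ^ 4) ^ 7 := by
    rw [← pow_mul, show 4 * 7 = 27 + 1 from rfl, pow_add, hx27, one_mul, pow_one]
  rw [e]
  exact pow_mem hxin 7

end CfsgLib.McLThree.CentT
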