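import Mathlib
import Cfsg.Agent.Lib.McLThree.CentTFrame

/-!
The centraliser of the diagonal element of the image of `⟨z, a⟩` modulo `t`.
-/

set_option autoImplicit false
set_option linter.style.haveILetI false

namespace CfsgLib.McLThree.CentT

open Subgroup

universe u

variable {G : Type u} [Group G] (D : Loc G)

theorem pr_za_comm : Commute (pr D (zH D)) (pr D (aH D)) := by
  show pr D (zH D) * pr D (aH D) = pr D (aH D) * pr D (zH D)
  rw [← map_mul, ← map_mul]; congr 1; exact Subtype.ext D.za.eq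

theorem pr_g_conj : pr D (gH D) * pr D (zH D) * (pr D (gH D))⁻¹ = pr D (aH D) ∧
    pr D (gH D) * pr D (aH D) * (pr D (gH D))⁻¹ = pr D (zH D) := by
  constructor <;> rw [← map_inv, ← map_mul, ← map_mul] <;> congr 1
  · exact Subtype.ext D.gz
  · exact Subtype.ext D.ga

theorem pr_z_ne_a : pr D (zH D) ≠ pr D (aH D) := fun h =>
  (a_ne_z D).1 (eq_of_three D (z_cube D) (a_cube D) h)

theorem pr_z_ne_one : pr D (zH D) ≠ 1 := fun h => by
  rcases (pr_eq_one D).1 h with e | e
  · exact z_ne_one D e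
  · have := z_cube D
    rw [show D.z = D.t from e, pow_succ, pow_two, t_sq D, one_mul] at this
    exact t_ne_one D this

/-- An element commuting with the image of `z` lies in the parametrised subgroup. -/
theorem mem_range_of_commute {M : Type*} [Group M] {ψ : M →* X D}
    (hrange : ψ.range = normalizer (zpowers (pr D (zH D)) : Set (X D))) {x : X D}
    (hx : Commute x (pr D (zH D))) : x ∈ ψ.range := by
  rw [hrange]
  exact centralizer_le_normalizer _ (mem_centralizer_iff.2 fun w hw => by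
    obtain ⟨k, rfl⟩ := hw
    exact (hx.zpow_right k).eq.symm)

/-- The centraliser of the diagonal element. -/
theorem card_diag (hY : centralizer ({D.z * D.a} : Set G) ≤ normalizer (D.toTop.J : Set G))
    {M : Type*} [Group M] (ψ : M →* X D) (hinj : Function.Injective ψ)
    (hrange : ψ.range = normalizer (zpowers (pr D (zH D)) : Set (X D))) (zm dm : M)
    (hzm : ψ zm = pr D (zH D)) (hdm : ψ dm = pr D (aH D)) {ι : Type*} [Finite ι] (P : ι → M)
    (hPinj : Function.Injective P)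
    (hP : ∀ m : M, (m * zm = zm * m ∧ m * dm = dm * m) ↔ ∃ i, P i = m) :
    Nat.card (centralizer ({pr D (zH D) * pr D (aH D)} : Set (X D))) = Nat.card ι * 2 ∧
      ∀ x ∈ centralizer ({pr D (zH D) * pr D (aH D)} : Set (X D)),
        ∃ i, x = ψ (P i) ∨ x = ψ (P i) * (pr D (gH D))⁻¹ := by
  classical
  set Z := pr D (zH D) with hZ
  set A := pr D (aH D) with hA
  set g := pr D (gH D) with hg
  obtain ⟨hgz, hga⟩ := pr_g_conj D
  rw [← hZ, ← hA, ← hg] at hgz hga
  have hgiz : g⁻¹ * Z * g = A := by rw [← hga]; group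
  have hgia : g⁻¹ * A * g = Z := by rw [← hgz]; group
  have hPc : ∀ i, Commute (ψ (P i)) Z ∧ Commute (ψ (P i)) A := fun i => by
    obtain ⟨h1, h2⟩ := (hP (P i)).2 ⟨i, rfl⟩
    exact ⟨hzm ▸ (show Commute (P i) zm from h1).map ψ,
      hdm ▸ (show Commute (P i) dm from h2).map ψ⟩
  have hfix : ∀ x : X D, x * Z * x⁻¹ = Z → x * A * x⁻¹ = A → ∃ i, ψ (P i) = x := by
    intro x h1 h2
    obtain ⟨m, rfl⟩ := mem_range_of_commute D hrange (mul_inv_eq_iff_eq_mul.1 h1)
    have e1 : m * zm * m⁻¹ = zm := hinj (by rw [map_mul, map_mul, map_inv, hzm]; exact h1)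
    have e2 : m * dm * m⁻¹ = dm := hinj (by rw [map_mul, map_mul, map_inv, hdm]; exact h2)
    obtain ⟨i, hi⟩ := (hP m).1 ⟨mul_inv_eq_iff_eq_mul.1 e1, mul_inv_eq_iff_eq_mul.1 e2⟩
    exact ⟨i, by rw [hi]⟩
  have hclass : ∀ x ∈ centralizer ({Z * A} : Set (X D)),
      ∃ i, x = ψ (P i) ∨ x = ψ (P i) * g⁻¹ := by
    intro x hx
    obtain ⟨h, rfl⟩ := pr_surjective D x
    have hc : Commute (pr D h) (Z * A) := mem_centralizer_singleton_iff.1 hx
    have hza3 : ((zH D * aH D : H D) : G) ^ 3 = 1 := by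
      show (D.z * D.a) ^ 3 = 1
      rw [D.za.mul_pow, z_cube, a_cube, one_mul]
    have hfx := eq_of_three D (x := zH D * aH D) (y := h * (zH D * aH D) * h⁻¹) hza3 (by
        show ((h : G) * ((zH D * aH D : H D) : G) * (h : G)⁻¹) ^ 3 = 1
        rw [conj_pow, hza3, mul_one, mul_inv_cancel])
      (by simp only [map_mul, map_inv]; rw [← hZ, ← hA, hc.eq, mul_inv_cancel_right])
    have hcG : Commute (h : G) (D.z * D.a) := mul_inv_eq_iff_eq_mul.1 hfx
    rcases cent_diag D hY ((mem_H D).1 h.2) hcG with ⟨e1, e2⟩ | ⟨e1, e2⟩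
    · obtain ⟨i, hi⟩ := hfix (pr D h)
        (by rw [hZ, ← map_inv, ← map_mul, ← map_mul]; congr 1; exact Subtype.ext e1)
        (by rw [hA, ← map_inv, ← map_mul, ← map_mul]; congr 1; exact Subtype.ext e2)
      exact ⟨i, Or.inl hi.symm⟩
    · have f1 : pr D h * Z * (pr D h)⁻¹ = A := by
        rw [hZ, hA, ← map_inv, ← map_mul, ← map_mul]; congr 1; exact Subtype.ext e1
      have f2 : pr D h * A * (pr D h)⁻¹ = Z := by
        rw [hZ, hA, ← map_inv, ← map_mul, ← map_mul]; congr 1; exact Subtype.ext e2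
      obtain ⟨i, hi⟩ := hfix (pr D h * g)
        (by rw [show pr D h * g * Z * (pr D h * g)⁻¹ = pr D h * (g * Z * g⁻¹) * (pr D h)⁻¹ by group,
          hgz, f2])
        (by rw [show pr D h * g * A * (pr D h * g)⁻¹ = pr D h * (g * A * g⁻¹) * (pr D h)⁻¹ by group,
          hga, f1])
      exact ⟨i, Or.inr (by rw [hi, mul_inv_cancel_right])⟩
  refine ⟨?_, hclass⟩
  have hmem1 : ∀ i, ψ (P i) ∈ centralizer ({Z * A} : Set (X D)) := fun i =>
    mem_centralizer_singleton_iff.2 ((hPc i).1.mul_right (hPc i).2).eq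
  have hgi : Commute g⁻¹ (Z * A) := by
    refine mul_inv_eq_iff_eq_mul.1 ?_
    calc g⁻¹ * (Z * A) * g⁻¹⁻¹ = (g⁻¹ * Z * g) * (g⁻¹ * A * g) := by group
      _ = Z * A := by rw [hgiz, hgia, (pr_za_comm D).eq]
  let f : ι × Fin 2 → centralizer ({Z * A} : Set (X D)) := fun p =>
    ⟨ψ (P p.1) * g⁻¹ ^ p.2.1,
      mul_mem (hmem1 p.1) (pow_mem (mem_centralizer_singleton_iff.2 hgi.eq) _)⟩
  have hf : Function.Bijective f := by
    have key : ∀ i i', ψ (P i) ≠ ψ (P i') * g⁻¹ := fun i i' h => by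
      have hg' : g = (ψ (P i))⁻¹ * ψ (P i') := by rw [h]; group
      have hc : Commute g Z := hg' ▸ (hPc i).1.inv_left.mul_left (hPc i').1
      rw [hc.eq, mul_inv_cancel_right] at hgz
      exact pr_z_ne_a D hgz
    refine ⟨fun p q h => ?_, fun x => ?_⟩
    · have e : ψ (P p.1) * g⁻¹ ^ p.2.1 = ψ (P q.1) * g⁻¹ ^ q.2.1 := congrArg Subtype.val h
      obtain ⟨i, b⟩ := p
      obtain ⟨i', b'⟩ := q
      fin_cases b <;> fin_cases b' <;> simp only [Fin.zero_eta, Fin.mk_one, Fin.isValue,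
        Fin.val_zero, Fin.val_one, pow_zero, pow_one, mul_one] at e
      · rw [hPinj (hinj e)]
      · exact absurd e (key _ _)
      · exact absurd e.symm (key _ _)
      · rw [hPinj (hinj (mul_right_cancel e))]
    · obtain ⟨i, hi | hi⟩ := hclass x x.2
      · exact ⟨(i, 0), Subtype.ext (by show ψ (P i) * g⁻¹ ^ 0 = _; rw [pow_zero, mul_one, hi])⟩
      · exact ⟨(i, 1), Subtype.ext (by show ψ (P i) * g⁻¹ ^ 1 = _; rw [pow_one, hi])⟩
  rw [← Nat.card_eq_of_bijective f hf, Nat.card_prod, Nat.card_fin]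

end CfsgLib.McLThree.CentT
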