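import Mathlib
import Cfsg.Agent.Lib.McLThree.CentTDiag
import Cfsg.Agent.Lib.AEightThree.SetupExists
import Cfsg.Agent.Lib.AEightThree.Build
import Cfsg.Agent.Lib.AEightThree.BigCentralizer
import Cfsg.Agent.Lib.AEightThree.Recognise

/-!
The case of the alternating group of degree five: the centraliser of `t` modulo `t` is alternating
of degree eight.
-/

set_option autoImplicit false
set_option linter.style.haveILetI false

namespace CfsgLib.McLThree.CentT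

open Subgroup Equiv

universe u

namespace Alt

open CfsgLib.AEightThree

theorem cent_frame : ∀ p : Perm (Fin 3) × Perm (Fin 5),
    Perm.sign p.1 * Perm.sign p.2 = 1 →
    p * SEightThree.zF = SEightThree.zF * p → p * SEightThree.dF = SEightThree.dF * p →
    ∃ i j : Fin 3, p = SEightThree.zF ^ i.1 * SEightThree.dF ^ j.1 := by
  decide +kernel

theorem frame_inv : ∀ i j : Fin 3,
    rK.1 * (SEightThree.zF ^ i.1 * SEightThree.dF ^ j.1) * rK.1⁻¹ =
        (SEightThree.zF ^ i.1 * SEightThree.dF ^ j.1)⁻¹ ∧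
      (SEightThree.zF ^ i.1 * SEightThree.dF ^ j.1) ^ 3 = 1 := by
  decide +kernel

theorem frame_inj : ∀ i j i' j' : Fin 3,
    SEightThree.zF ^ i.1 * SEightThree.dF ^ j.1 = SEightThree.zF ^ i'.1 * SEightThree.dF ^ j'.1 →
      i = i' ∧ j = j' := by
  decide +kernel

/-- The parameters of the centraliser of the frame. -/
def P (p : Fin 3 × Fin 3) : KK := zK ^ p.1.1 * dK ^ p.2.1

theorem coe_P (p : Fin 3 × Fin 3) :
    (P p).1 = SEightThree.zF ^ p.1.1 * SEightThree.dF ^ p.2.1 := rfl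

theorem P_inj : Function.Injective P := fun p q h => by
  obtain ⟨e1, e2⟩ := frame_inj _ _ _ _ (congrArg Subtype.val h)
  exact Prod.ext e1 e2

theorem P_spec (m : KK) : (m * zK = zK * m ∧ m * dK = dK * m) ↔ ∃ p, P p = m := by
  constructor
  · rintro ⟨h1, h2⟩
    obtain ⟨i, j, h⟩ := cent_frame m.1 (mem_KK.1 m.2) (congrArg Subtype.val h1)
      (congrArg Subtype.val h2)
    exact ⟨(i, j), Subtype.ext h.symm⟩
  · rintro ⟨p, rfl⟩
    have hc : Commute zK dK := SetupAux.sK_conj.2.2.2.2.2.2.1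
    exact ⟨((Commute.refl zK).pow_left _ |>.mul_left (hc.symm.pow_left _)).eq,
      ((hc.pow_left _).mul_left ((Commute.refl dK).pow_left _)).eq⟩

end Alt

open Alt AEightThree in
/-- The case of the alternating group of degree five. -/
theorem exists_model_alt {G : Type u} [Group G] [Finite G] (D : Loc G) (hY : CentY D)
    (F : L D →* Perm (Fin 3) × Perm (Fin 5))
    (hker : ∀ x : L D, F x = 1 ↔ ((x : G) = 1 ∨ (x : G) = D.t))
    (hFz : ∀ x : L D, (x : G) = D.z → F x = SEightThree.zF)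
    (hFa : ∀ x : L D, (x : G) = D.a → F x = SEightThree.dF)
    (hF : F.range = AEightThree.KK) :
    ∃ j : X D →* Perm (Fin 8), Function.Injective j ∧ alternatingGroup (Fin 8) ≤ j.range := by
  classical
  let F' : L D →* KK := F.codRestrict KK fun x => by rw [← hF]; exact ⟨x, rfl⟩
  have hsurj : Function.Surjective F' := fun m => by
    obtain ⟨x, hx⟩ : m.1 ∈ F.range := by rw [hF]; exact m.2
    exact ⟨x, Subtype.ext hx⟩
  have hker' : ∀ x : L D, F' x = 1 ↔ ((x : G) = 1 ∨ (x : G) = D.t) := fun x => by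
    rw [← hker x]
    exact ⟨fun h => congrArg Subtype.val h, fun h => Subtype.ext h⟩
  obtain ⟨ψ, hinj, hψ, hrange⟩ := exists_psi D F' hsurj hker'
  have hzm : ψ zK = pr D (zH D) := by
    rw [← show F' ⟨D.z, K_le_L D (zK' D).2⟩ = zK from Subtype.ext (hFz _ rfl), hψ]; rfl
  have hdm : ψ dK = pr D (aH D) := by
    rw [← show F' ⟨D.a, K_le_L D (aK' D).2⟩ = dK from Subtype.ext (hFa _ rfl), hψ]; rfl
  obtain ⟨-, -, -, -, rz, rd, hzd, rr⟩ := SetupAux.sK_conj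
  obtain ⟨hgz, hga⟩ := pr_g_conj D
  rw [← hzm, ← hdm] at hgz hga
  set g₀ := pr D (gH D)
  set Z := ψ zK with hZ
  set E := ψ dK with hE
  set r := ψ rK with hr
  have Hc : ∀ {k a b : KK}, k * a * k⁻¹ = b → ψ k * ψ a * (ψ k)⁻¹ = ψ b := fun {k a b} h => by
    rw [← h, map_mul, map_mul, map_inv]
  have hrz : r * Z * r⁻¹ = Z⁻¹ := (Hc rz).trans (map_inv _ _)
  have hrd : r * E * r⁻¹ = E⁻¹ := (Hc rd).trans (map_inv _ _)
  have hinvgen : ∀ x x' : X D, g₀ * x' * g₀⁻¹ = x → r * x' * r⁻¹ = x'⁻¹ →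
      (g₀ * r * g₀⁻¹) * x * (g₀ * r * g₀⁻¹)⁻¹ = x⁻¹ := fun x x' h1 h2 => by
    rw [← h1]
    calc g₀ * r * g₀⁻¹ * (g₀ * x' * g₀⁻¹) * (g₀ * r * g₀⁻¹)⁻¹
        = g₀ * (r * x' * r⁻¹) * g₀⁻¹ := by group
      _ = (g₀ * x' * g₀⁻¹)⁻¹ := by rw [h2]; group
  set w := r⁻¹ * (g₀ * r * g₀⁻¹) with hw
  have aux : ∀ x : X D, r * x * r⁻¹ = x⁻¹ → (g₀ * r * g₀⁻¹) * x * (g₀ * r * g₀⁻¹)⁻¹ = x⁻¹ →
      w * x * w⁻¹ = x := fun x h1 h2 => by
    calc w * x * w⁻¹ = r⁻¹ * ((g₀ * r * g₀⁻¹) * x * (g₀ * r * g₀⁻¹)⁻¹) * r⁻¹⁻¹ := by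
          simp only [w, mul_inv_rev, inv_inv, mul_assoc]
      _ = x := by rw [h2, ← h1]; group
  have hwz := aux Z hrz (hinvgen Z E hga hrd)
  have hwd := aux E hrd (hinvgen E Z hgz hrz)
  obtain ⟨m, hm⟩ := mem_range_of_commute D hrange (x := w) (by
    rw [← hzm]; exact mul_inv_eq_iff_eq_mul.1 hwz)
  obtain ⟨p, hp⟩ := (P_spec m).1
    ⟨hinj (by rw [map_mul, map_mul, hm]; exact mul_inv_eq_iff_eq_mul.1 hwz),
      hinj (by rw [map_mul, map_mul, hm]; exact mul_inv_eq_iff_eq_mul.1 hwd)⟩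
  obtain ⟨hinvp, hp3⟩ := frame_inv p.1 p.2
  have hrw : r * w * r⁻¹ = w⁻¹ := by
    rw [← hm, ← hp]
    exact (Hc (k := rK) (a := P p) (b := (P p)⁻¹) (Subtype.ext hinvp)).trans (map_inv _ _)
  have hw3 : w ^ 3 = 1 := by
    rw [← hm, ← hp, ← map_pow, show P p ^ 3 = 1 from Subtype.ext hp3, map_one]
  have hfix : ∀ x : X D, w * x * w⁻¹ = x → w⁻¹ * x * w = x := fun x hx => by
    nth_rewrite 1 [← hx]; group
  have h27 : ¬ 27 ∣ Nat.card (X D) := by
    refine not_dvd D ψ hinj hrange zK dK hzm hdm fun k h1 h2 _ => ?_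
    obtain ⟨q, rfl⟩ := (P_spec k).1 ⟨h1, h2⟩
    have e1 : zK ∈ closure ({zK, dK} : Set KK) := Subgroup.subset_closure (Or.inl rfl)
    have e2 : dK ∈ closure ({zK, dK} : Set KK) := Subgroup.subset_closure (Or.inr rfl)
    exact mul_mem (pow_mem e1 _) (pow_mem e2 _)
  have hcard : Nat.card (centralizer ({Z * E} : Set (X D))) = 18 := by
    rw [hzm, hdm, (card_diag D hY.1 ψ hinj hrange zK dK hzm hdm P P_inj P_spec).1,
      Nat.card_prod, Nat.card_fin]
  let S : AEightThree.Setup (X D) :=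
    { ψ := ψ
      inj := hinj
      range_eq := by rw [hrange, ← hzm]
      g := w⁻¹ * g₀
      g_z := by
        calc w⁻¹ * g₀ * Z * (w⁻¹ * g₀)⁻¹ = w⁻¹ * (g₀ * Z * g₀⁻¹) * w := by group
          _ = E := by rw [hgz]; exact hfix E hwd
      g_d := by
        calc w⁻¹ * g₀ * E * (w⁻¹ * g₀)⁻¹ = w⁻¹ * (g₀ * E * g₀⁻¹) * w := by group
          _ = Z := by rw [hga]; exact hfix Z hwz
      g_r := by
        show w⁻¹ * g₀ * r * (w⁻¹ * g₀)⁻¹ = r
        have e : g₀ * r * g₀⁻¹ = r * w := (mul_inv_cancel_left r (g₀ * r * g₀⁻¹)).symm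
        calc w⁻¹ * g₀ * r * (w⁻¹ * g₀)⁻¹ = w⁻¹ * (g₀ * r * g₀⁻¹) * w := by group
          _ = w⁻¹ * (r * w * r⁻¹ * r) * w := by rw [e]; group
          _ = (w ^ 3)⁻¹ * (w * r * w) := by rw [hrw]; group
          _ = w * (r * w * r⁻¹) * r := by rw [hw3]; group
          _ = r := by rw [hrw, mul_inv_cancel, one_mul]
      card_y := hcard
      not_dvd := h27 }
  obtain ⟨Em⟩ := S.exists_emb S.not_le_range
  obtain ⟨Θ⟩ := Em.iso
  refine ⟨(alternatingGroup (Fin 8)).subtype.comp Θ.toMonoidHom,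
    Subtype.val_injective.comp Θ.injective, fun y hy => ⟨Θ.symm ⟨y, hy⟩, ?_⟩⟩
  show ((Θ (Θ.symm ⟨y, hy⟩) : alternatingGroup (Fin 8)) : Perm (Fin 8)) = y
  rw [Θ.apply_symm_apply]

end CfsgLib.McLThree.CentT
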