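import Cfsg.Agent.Lib.McLThree.CoverModel
import Cfsg.Agent.Lib.Recog.CarmichaelPresentation

/-!
# The relators of the cover define the model of the double cover of the alternating group

The group presented by the relators has at most `40320` elements by Carmichael's coset argument,
and maps onto the alternating group of degree eight and into the permutations of the model with
trivial common kernel; the kernel of the second map is trivial as the first group is simple.
-/

set_option autoImplicit false
set_option maxRecDepth 100000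

namespace CfsgLib.McLThree

open Subgroup

universe u v

theorem val_nil {G : Type u} [Group G] (L : Fin 7 → G) : val L [] = 1 := rfl

theorem val_cons {G : Type u} [Group G] (L : Fin 7 → G) (k : Fin 14) (w : List (Fin 14)) :
    val L (k :: w) = (if h : k.1 < 7 then L ⟨k.1, h⟩ else (L ⟨k.1 - 7, by omega⟩)⁻¹) * val L w := by
  simp [val]

theorem cover_map_val {H : Type u} {K : Type v} [Group H] [Group K] (f : H →* K) (L : Fin 7 → H) :
    ∀ w : List (Fin 14), f (val L w) = val (f ∘ L) w
  | [] => map_one f
  | k :: w => by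
    rw [val_cons, val_cons, map_mul, cover_map_val f L w]
    split_ifs <;> simp

/-! ### The coset argument -/

section chain

variable {H : Type u} [Group H]

/-- Coset representatives over the previous group of the chain. -/
def chainRep {k : ℕ} (a : Fin k → H) (b : H) : Fin 3 ⊕ Fin k → H
  | .inl i => b ^ i.val
  | .inr j => b * b * a j

theorem chain_step {K : Subgroup H} [Finite K] {k : ℕ} (a : Fin k → H) (b t : H)
    (ha : ∀ j, a j ∈ K) (ht : t ∈ K) (hK : K ≤ closure (insert t (Set.range a)))
    (hbt : Commute t b) (hat : ∀ j, Commute t (a j)) (ht2 : t * t = 1) (hb : b ^ 3 = 1)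
    (ha3 : ∀ j, a j ^ 3 = 1) (hab : ∀ j, a j * b * (a j * b) = t)
    (haa : ∀ i j, i ≠ j → a i * a j * (a i * a j) = t) :
    Finite ↥(closure (insert b (K : Set H))) ∧
      Nat.card ↥(closure (insert b (K : Set H))) ≤ Nat.card K * (k + 3) := by
  have hb' : b * b * b = 1 := by rw [← hb, pow_succ, pow_two]
  have hbinv : b⁻¹ = b * b := inv_eq_of_mul_eq_one_right (by rw [← mul_assoc, hb'])
  have hainv : ∀ j, (a j)⁻¹ = a j * a j := fun j => inv_eq_of_mul_eq_one_right (by
    rw [← mul_assoc, ← pow_two, ← pow_succ, ha3])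
  have htinv : t⁻¹ = t := inv_eq_of_mul_eq_one_right ht2
  have hA : ∀ j, b * a j = (a j)⁻¹ * t * b⁻¹ := fun j => by
    rw [← hab j]; group
  have hB : ∀ j, b * (a j)⁻¹ = (a j)⁻¹ * t * (b * b * a j) := fun j => by
    rw [hainv j, ← mul_assoc, hA j, hbinv, hainv j]
    simp only [mul_assoc]
  have hC : ∀ j, b * b * (a j * a j) = t * a j * b := fun j => by
    have h := hB j
    calc b * b * (a j * a j) = t⁻¹ * a j * ((a j)⁻¹ * t * (b * b * a j)) * a j := by
          rw [show t⁻¹ * a j * ((a j)⁻¹ * t * (b * b * a j)) * a j = b * b * (a j * a j) by group]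
      _ = t⁻¹ * a j * (b * (a j)⁻¹) * a j := by rw [h]
      _ = t * a j * b := by rw [htinv]; group
  set R := chainRep a b
  let U : H → Prop := fun g => ∃ s, g * (R s)⁻¹ ∈ K
  have hmove : ∀ (s : Fin 3 ⊕ Fin k) (x : H), x ∈ insert b (insert t (Set.range a)) →
      U (R s * x) := by
    intro s x hx
    rcases hx with hx | hx | ⟨i, rfl⟩
    · rw [hx]
      rcases s with s | j
      · fin_cases s
        · exact ⟨.inl 1, by simp [R, chainRep]⟩
        · exact ⟨.inl 2, by simp [R, chainRep, pow_two]⟩
        · exact ⟨.inl 0, by simp [R, chainRep, pow_two, hb']⟩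
      · refine ⟨.inr j, ?_⟩
        have e : b * b * a j * b = (a j)⁻¹ * (b * b * a j) := by
          calc b * b * a j * b = b * (b * a j) * b := by group
            _ = b * ((a j)⁻¹ * t) := by rw [hA j]; group
            _ = b * (a j)⁻¹ * t := by group
            _ = (a j)⁻¹ * t * ((b * b * a j) * t) := by rw [hB j]; group
            _ = (a j)⁻¹ * t * (t * (b * b * a j)) := by
              rw [((hbt.mul_right hbt).mul_right (hat j)).eq]
            _ = (a j)⁻¹ * (t * t) * (b * b * a j) := by group
            _ = (a j)⁻¹ * (b * b * a j) := by rw [ht2, mul_one]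
        show R (.inr j) * b * (R (.inr j))⁻¹ ∈ K
        simp only [R, chainRep]
        rw [e, mul_inv_cancel_right]
        exact inv_mem (ha j)
    · rw [hx]
      refine ⟨s, ?_⟩
      have e : Commute t (R s) := by
        rcases s with s | j
        · exact hbt.pow_right _
        · exact (hbt.mul_right hbt).mul_right (hat j)
      rw [← e.eq, mul_inv_cancel_right]
      exact ht
    · rcases s with s | j
      · fin_cases s
        · exact ⟨.inl 0, by simp [R, chainRep, ha i]⟩
        · refine ⟨.inl 2, ?_⟩
          have e : b * a i * (b * b)⁻¹ = (a i)⁻¹ * t := by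
            rw [hA i]
            calc (a i)⁻¹ * t * b⁻¹ * (b * b)⁻¹ = (a i)⁻¹ * t * (b * b * b)⁻¹ := by group
              _ = (a i)⁻¹ * t := by rw [hb', inv_one, mul_one]
          simp only [R, chainRep]
          norm_num [pow_two]
          rw [show b * a i * (b⁻¹ * b⁻¹) = b * a i * (b * b)⁻¹ by group, e]
          exact mul_mem (inv_mem (ha i)) ht
        · exact ⟨.inr i, by simp [R, chainRep, pow_two]⟩
      · by_cases hij : j = i
        · subst hij
          refine ⟨.inl 1, ?_⟩
          simp only [R, chainRep]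
          norm_num
          rw [show b * b * a j * a j = b * b * (a j * a j) by group, hC j, mul_inv_cancel_right]
          exact mul_mem ht (ha j)
        · refine ⟨.inr j, ?_⟩
          have e : b * b * a j * a i = a i * (a j)⁻¹ * t * (b * b * a j) := by
            have h2 : a j * a i = t * ((a i)⁻¹ * (a j)⁻¹) := by rw [← haa j i hij]; group
            calc b * b * a j * a i = b * b * (a j * a i) := by group
              _ = b * b * t * ((a i)⁻¹ * (a j)⁻¹) := by rw [h2]; group
              _ = t * (b * b) * ((a i * a i) * (a j)⁻¹) := by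
                rw [(hbt.mul_right hbt).eq, hainv i]
              _ = t * (b * b * (a i * a i)) * (a j)⁻¹ := by group
              _ = t * t * a i * (b * (a j)⁻¹) := by rw [hC i]; group
              _ = a i * (a j)⁻¹ * t * (b * b * a j) := by rw [ht2, hB j]; group
          simp only [R, chainRep]
          rw [e, mul_inv_cancel_right]
          exact mul_mem (mul_mem (ha i) (inv_mem (ha j))) ht
  have hgen : ∀ x ∈ insert b (insert t (Set.range a)), ∀ g, U g → U (g * x) := by
    rintro x hx g ⟨s, hs⟩
    obtain ⟨s', hs'⟩ := hmove s x hx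
    refine ⟨s', ?_⟩
    rw [show g * x * (R s')⁻¹ = g * (R s)⁻¹ * (R s * x * (R s')⁻¹) by group]
    exact mul_mem hs hs'
  have hinv : ∀ x ∈ insert b (insert t (Set.range a)), x⁻¹ = x * x ∨ x⁻¹ = x := by
    rintro x (hx | hx | ⟨i, rfl⟩)
    exacts [.inl (hx ▸ hbinv), .inr (hx ▸ htinv), .inl (hainv i)]
  have hall : ∀ g ∈ closure (insert b (insert t (Set.range a))), U g := fun g hg => by
    induction hg using closure_induction_right with
    | one => exact ⟨.inl 0, by simp [R, chainRep]⟩
    | mul_right g _ x hx ih => exact hgen x hx g ih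
    | mul_inv_cancel g _ x hx ih =>
      rcases hinv x hx with e | e <;> rw [e]
      · rw [← mul_assoc]; exact hgen x hx _ (hgen x hx g ih)
      · exact hgen x hx g ih
  have hle : closure (insert b (K : Set H)) ≤ closure (insert b (insert t (Set.range a))) := by
    rw [closure_le]
    rintro x (hx | hx)
    · rw [hx]; exact subset_closure (Set.mem_insert _ _)
    · exact closure_mono (Set.subset_insert _ _) (hK hx)
  choose s hs using fun g : ↥(closure (insert b (K : Set H))) => hall g.1 (hle g.2)
  let F : ↥(closure (insert b (K : Set H))) → K × (Fin 3 ⊕ Fin k) :=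
    fun g => (⟨g.1 * (R (s g))⁻¹, hs g⟩, s g)
  have hF : Function.Injective F := fun g g' h => by
    have h1 : g.1 * (R (s g))⁻¹ = g'.1 * (R (s g'))⁻¹ := congrArg (fun q => (q.1 : H)) h
    rw [show s g = s g' from congrArg Prod.snd h] at h1
    exact Subtype.ext (mul_right_cancel h1)
  refine ⟨Finite.of_injective F hF, (Nat.card_le_card_of_injective F hF).trans (le_of_eq ?_)⟩
  rw [Nat.card_prod, Nat.card_sum, Nat.card_fin, Nat.card_fin, Nat.add_comm 3 k]

/-- The groups of the chain. -/
def chain (L : Fin 6 → H) (t : H) (n : ℕ) : Subgroup H :=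
  closure (insert t {x | ∃ i : Fin 6, i.val < n ∧ L i = x})

theorem chain_bound (L : Fin 6 → H) (t : H) (hcube : ∀ i, L i ^ 3 = 1)
    (hpair : ∀ i j, i ≠ j → L i * L j * (L i * L j) = t) (hc : ∀ i, Commute t (L i))
    (ht2 : t * t = 1) : ∀ n, n ≤ 6 →
    Finite ↥(chain L t n) ∧ Nat.card ↥(chain L t n) ≤ (n + 2).factorial := by
  intro n
  induction n with
  | zero =>
    intro _
    have e : chain L t 0 = zpowers t := by
      rw [chain, zpowers_eq_closure]
      congr 1
      ext x
      simp
    have ho : orderOf t ≤ 2 := orderOf_le_of_pow_eq_one two_pos (by rw [pow_two, ht2])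
    have hf : IsOfFinOrder t := isOfFinOrder_iff_pow_eq_one.2 ⟨2, two_pos, by rw [pow_two, ht2]⟩
    rw [e]
    refine ⟨hf.finite_zpowers.to_subtype, ?_⟩
    rw [Nat.card_zpowers]
    exact ho
  | succ n ih =>
    intro hn
    obtain ⟨hfin, hcard⟩ := ih (by omega)
    haveI := hfin
    let a : Fin n → H := fun j => L ⟨j.1, by omega⟩
    have hne : ∀ {i j : Fin 6}, i.val ≠ j.val → i ≠ j := fun h e => h (congrArg Fin.val e)
    obtain ⟨h1, h2⟩ := chain_step (K := chain L t n) a (L ⟨n, by omega⟩) t
      (fun j => subset_closure (.inr ⟨_, j.2, rfl⟩)) (subset_closure (Set.mem_insert _ _))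
      (closure_mono (Set.insert_subset_insert (by rintro x ⟨i, hi, hx⟩; exact ⟨⟨i.1, hi⟩, hx⟩)))
      (hc _) (fun j => hc _) ht2 (hcube _) (fun j => hcube _)
      (fun j => hpair _ _ (hne (Nat.ne_of_lt j.2)))
      (fun i j h => hpair _ _ (hne fun e => h (Fin.ext e)))
    have e : closure (insert (L ⟨n, by omega⟩) (chain L t n : Set H)) = chain L t (n + 1) := by
      refine le_antisymm ((closure_le _).2 ?_) ((closure_le _).2 ?_)
      · rintro x (rfl | hx)
        · exact subset_closure (.inr ⟨_, Nat.lt_succ_self n, rfl⟩)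
        · exact closure_mono (Set.insert_subset_insert
            (by rintro y ⟨i, hi, hy⟩; exact ⟨i, Nat.lt_succ_of_lt hi, hy⟩)) hx
      · rintro x (rfl | ⟨i, hi, rfl⟩)
        · exact subset_closure (.inr (subset_closure (Set.mem_insert _ _)))
        · rcases Nat.lt_succ_iff_lt_or_eq.1 hi with h | h
          · exact subset_closure (.inr (subset_closure (.inr ⟨i, h, rfl⟩)))
          · exact subset_closure (.inl (congrArg L (Fin.ext h)))
    rw [e] at h1 h2
    refine ⟨h1, h2.trans ?_⟩
    rw [Nat.factorial_succ (n + 2), Nat.mul_comm ((n + 2) + 1)]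
    exact Nat.mul_le_mul_right _ hcard

end chain

/-! ### The presented group -/

/-- The relators, with the seventh letter trivial. -/
def coverSet : Set (FreeGroup (Fin 7)) :=
  {r | ∃ w ∈ ([6] :: coverRels : List (List (Fin 14))), r = val FreeGroup.of w}

/-- The group presented by the relators. -/
abbrev CoverPres : Type := PresentedGroup coverSet

theorem cover_lift {H : Type u} [Group H] (L : Fin 7 → H) (h6 : L 6 = 1)
    (hL : ∀ w ∈ coverRels, val L w = 1) : ∀ r ∈ coverSet, FreeGroup.lift L r = 1 := by
  rintro r ⟨w, hw, rfl⟩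
  rw [cover_map_val, show (FreeGroup.lift L : FreeGroup (Fin 7) → H) ∘ FreeGroup.of = L by
    funext x; simp]
  rcases List.mem_cons.1 hw with rfl | hw
  · simp [val_cons, val_nil, h6]
  · exact hL w hw

/-- The letters of the presented group. -/
def cg : Fin 7 → CoverPres := PresentedGroup.of

theorem cg_rel : ∀ w ∈ ([6] :: coverRels : List (List (Fin 14))), val cg w = 1 := fun w hw => by
  have h : PresentedGroup.mk coverSet (val FreeGroup.of w) = 1 :=
    PresentedGroup.one_of_mem ⟨w, hw, rfl⟩
  rwa [cover_map_val] at h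

/-- The central element. -/
def ct : CoverPres := cg 0 * cg 1 * (cg 0 * cg 1)

theorem val_wordT {G : Type u} [Group G] (L : Fin 7 → G) :
    val L wordT = L 0 * L 1 * (L 0 * L 1) := by
  simp [wordT, val_cons, val_nil, mul_assoc]

theorem ct_sq : ct * ct = 1 := by
  have h := cg_rel [0, 1, 0, 1, 0, 1, 0, 1] (by decide)
  simp [val_cons, val_nil, mul_assoc] at h
  simpa [ct, mul_assoc] using h

theorem cg_cube (i : Fin 6) : cg i.castSucc ^ 3 = 1 := by
  have key : ∀ i : Fin 6, [Fin.castLE (by omega) i, Fin.castLE (by omega) i, Fin.castLE (by omega) i]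
      ∈ coverRels := by decide
  have h := cg_rel _ (List.mem_cons_of_mem _ (key i))
  have hi : (i : ℕ) < 7 := by omega
  simp only [val_cons, val_nil, Fin.val_castLE, dif_pos hi, mul_one] at h
  rw [pow_succ, pow_two, mul_assoc]
  exact h

theorem one_zero_pair : cg 1 * cg 0 * (cg 1 * cg 0) = ct := by
  have h := cg_rel [0, 1, 0, 1, 7, 8, 7, 8] (by decide)
  simp [val_cons, val_nil, mul_assoc] at h
  calc cg 1 * cg 0 * (cg 1 * cg 0)
      = ((cg 0 * (cg 1 * (cg 0 * (cg 1 * ((cg 0)⁻¹ * ((cg 1)⁻¹ * ((cg 0)⁻¹ * (cg 1)⁻¹))))))))⁻¹ * ct := by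
        rw [ct]; group
    _ = ct := by rw [h, inv_one, one_mul]

theorem ct_comm (i : Fin 6) : Commute ct (cg i.castSucc) := by
  show ct * cg i.castSucc = cg i.castSucc * ct
  have h10 := one_zero_pair
  fin_cases i
  · show ct * cg 0 = cg 0 * ct
    conv_rhs => rw [← h10]
    rw [ct]
    simp only [mul_assoc]
  · show ct * cg 1 = cg 1 * ct
    conv_lhs => rw [← h10]
    rw [ct]
    simp only [mul_assoc]
  all_goals
    first
      | (have h := cg_rel [2, 0, 1, 0, 1, 9, 8, 7, 8, 7] (by decide)
         show ct * cg 2 = cg 2 * ct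
         simp [val_cons, val_nil] at h
         calc ct * cg 2 = 1 * (ct * cg 2) := (one_mul _).symm
           _ = cg 2 * ct := by rw [← h, ct]; group)
      | (have h := cg_rel [3, 0, 1, 0, 1, 10, 8, 7, 8, 7] (by decide)
         show ct * cg 3 = cg 3 * ct
         simp [val_cons, val_nil] at h
         calc ct * cg 3 = 1 * (ct * cg 3) := (one_mul _).symm
           _ = cg 3 * ct := by rw [← h, ct]; group)
      | (have h := cg_rel [4, 0, 1, 0, 1, 11, 8, 7, 8, 7] (by decide)
         show ct * cg 4 = cg 4 * ct
         simp [val_cons, val_nil] at h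
         calc ct * cg 4 = 1 * (ct * cg 4) := (one_mul _).symm
           _ = cg 4 * ct := by rw [← h, ct]; group)
      | (have h := cg_rel [5, 0, 1, 0, 1, 12, 8, 7, 8, 7] (by decide)
         show ct * cg 5 = cg 5 * ct
         simp [val_cons, val_nil] at h
         calc ct * cg 5 = 1 * (ct * cg 5) := (one_mul _).symm
           _ = cg 5 * ct := by rw [← h, ct]; group)

theorem cg_pair (i j : Fin 6) (hij : i ≠ j) :
    cg i.castSucc * cg j.castSucc * (cg i.castSucc * cg j.castSucc) = ct := by
  have key : ∀ i j : Fin 6, i ≠ j →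
      ([Fin.castLE (by omega) i, Fin.castLE (by omega) j, Fin.castLE (by omega) i,
          Fin.castLE (by omega) j, 8, 7, 8, 7] : List (Fin 14)) ∈ coverRels ∨
      ([Fin.castLE (by omega) j, Fin.castLE (by omega) i, Fin.castLE (by omega) j,
          Fin.castLE (by omega) i, 8, 7, 8, 7] : List (Fin 14)) ∈ coverRels ∨
      (i = 0 ∧ j = 1) ∨ (i = 1 ∧ j = 0) := by decide
  have e : ∀ x y : Fin 6, ([Fin.castLE (by omega) x, Fin.castLE (by omega) y,
      Fin.castLE (by omega) x, Fin.castLE (by omega) y, 8, 7, 8, 7] : List (Fin 14)) ∈ coverRels →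
      cg x.castSucc * cg y.castSucc * (cg x.castSucc * cg y.castSucc) = ct := by
    intro x y hxy
    have h := cg_rel _ (List.mem_cons_of_mem _ hxy)
    have hx : (x : ℕ) < 7 := by omega
    have hy : (y : ℕ) < 7 := by omega
    simp only [val_cons, val_nil, Fin.val_castLE, dif_pos hx, dif_pos hy, mul_one] at h
    simp at h
    calc cg x.castSucc * cg y.castSucc * (cg x.castSucc * cg y.castSucc)
        = 1 * ct := by
          rw [← h, ct]
          show cg ⟨x, hx⟩ * cg ⟨y, hy⟩ * (cg ⟨x, hx⟩ * cg ⟨y, hy⟩) = _
          group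
      _ = ct := one_mul _
  rcases key i j hij with h | h | ⟨rfl, rfl⟩ | ⟨rfl, rfl⟩
  · exact e i j h
  · have h' := e j i h
    calc cg i.castSucc * cg j.castSucc * (cg i.castSucc * cg j.castSucc)
        = (cg j.castSucc)⁻¹ * (cg j.castSucc * cg i.castSucc * (cg j.castSucc * cg i.castSucc)) *
          cg j.castSucc := by group
      _ = ct := by rw [h', mul_assoc, (ct_comm j).eq, inv_mul_cancel_left]
  · rfl
  · exact one_zero_pair

theorem cover_pres_card : Finite CoverPres ∧ Nat.card CoverPres ≤ 40320 := by
  obtain ⟨h1, h2⟩ := chain_bound (fun i : Fin 6 => cg i.castSucc) ct cg_cube cg_pair ct_comm ct_sq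
    6 le_rfl
  have htop : chain (fun i : Fin 6 => cg i.castSucc) ct 6 = ⊤ := by
    rw [eq_top_iff, ← PresentedGroup.closure_range_of, closure_le]
    rintro _ ⟨k, rfl⟩
    rcases Fin.eq_castSucc_or_eq_last k with ⟨i, rfl⟩ | rfl
    · exact subset_closure (.inr ⟨i, i.2, rfl⟩)
    · have h := cg_rel [6] List.mem_cons_self
      simp [val_cons, val_nil] at h
      rw [show (PresentedGroup.of (Fin.last 6) : CoverPres) = 1 from h]
      exact one_mem _
  rw [htop] at h1 h2
  refine ⟨Finite.of_equiv _ Subgroup.topEquiv.toEquiv, ?_⟩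
  rw [Subgroup.card_top] at h2
  exact h2.trans (by decide)

/-! ### The two images -/

/-- The image of a point under a letter. -/
def coverPt (k : Fin 14) (i : Fin 240) : Fin 240 :=
  Fin.ofNat 240 (coverApp [k] i.1)

theorem coverPt_facts : ∀ k : Fin 14, ∀ i : Fin 240,
    coverApp [k] i.1 < 240 ∧ coverPt ⟨(k.1 + 7) % 14, Nat.mod_lt _ (by omega)⟩ (coverPt k i) = i := by
  decide +kernel

/-- A letter as a permutation of the points. -/
def coverPerm (k : Fin 14) : Equiv.Perm (Fin 240) where
  toFun := coverPt k
  invFun := coverPt ⟨(k.1 + 7) % 14, Nat.mod_lt _ (by omega)⟩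
  left_inv i := (coverPt_facts k i).2
  right_inv i := by
    have h := (coverPt_facts ⟨(k.1 + 7) % 14, Nat.mod_lt _ (by omega)⟩ i).2
    have e : (⟨((k.1 + 7) % 14 + 7) % 14, Nat.mod_lt _ (by omega)⟩ : Fin 14) = k :=
      Fin.ext (show ((k.1 + 7) % 14 + 7) % 14 = k.1 by omega)
    simpa only [e] using h

/-- The seven letters as permutations. -/
def coverLet (k : Fin 7) : Equiv.Perm (Fin 240) := coverPerm ⟨k.1, by omega⟩

theorem coverLet_val : ∀ (w : List (Fin 14)) (i : Fin 240), (val coverLet w i).1 = coverApp w i.1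
  | [], i => rfl
  | k :: w, i => by
    rw [val_cons, Equiv.Perm.mul_apply]
    have ih := coverLet_val w i
    have e : (if h : k.1 < 7 then coverLet ⟨k.1, h⟩ else (coverLet ⟨k.1 - 7, by omega⟩)⁻¹) =
        coverPerm k := by
      split_ifs with h
      · rfl
      · refine Equiv.ext fun j => ?_
        show coverPt ⟨(k.1 - 7 + 7) % 14, Nat.mod_lt _ (by omega)⟩ j = coverPt k j
        rw [show (⟨(k.1 - 7 + 7) % 14, Nat.mod_lt _ (by omega)⟩ : Fin 14) = k from
          Fin.ext (show (k.1 - 7 + 7) % 14 = k.1 by omega)]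
    rw [e]
    show (coverPt k (val coverLet w i)).1 = coverApp (k :: w) i.1
    rw [coverPt, Fin.val_ofNat, Nat.mod_eq_of_lt (coverPt_facts k _).1, coverApp, coverApp, ih]
    rfl

theorem coverLet_rels : (∀ w ∈ coverRels, ∀ i : Fin 240, coverApp w i.1 = i.1) ∧
    (∀ i : Fin 240, coverApp [6] i.1 = i.1) := by decide +kernel

theorem cover_distinct : coverApp [0] 0 ≠ 0 ∧ coverApp [0] 0 ≠ coverApp wordT 0 := by
  decide +kernel

theorem coverLet_rel : coverLet 6 = 1 ∧ ∀ w ∈ coverRels, val coverLet w = 1 := by
  refine ⟨Equiv.ext fun i => Fin.ext ?_, fun w hw => Equiv.ext fun i => Fin.ext ?_⟩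
  · have h := coverLet_val [6] i
    rw [coverLet_rels.2 i] at h
    simpa [val_cons, val_nil] using h
  · rw [coverLet_val, coverLet_rels.1 w hw i]
    rfl

/-- The letters as three-cycles. -/
def altLet : Fin 7 → Equiv.Perm (Fin 8) := fun k =>
  if k.1 < 6 then Equiv.swap 0 1 * Equiv.swap 1 (Fin.ofNat 8 (k.1 + 2)) else 1

theorem altLet_facts : (∀ k, altLet k ∈ alternatingGroup (Fin 8)) ∧ altLet 6 = 1 ∧
    ∀ w ∈ coverRels, val altLet w = 1 := by
  simp only [Equiv.Perm.mem_alternatingGroup]
  decide +kernel

theorem altLet_gen : ∀ i : Fin 6, ∃ w : List (Fin 14), w ∈ ([[0], [0, 8, 0], [1, 9, 1], [2, 10, 2],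
    [3, 11, 3], [4, 12, 4]] : List (List (Fin 14))) ∧ val altLet w = Recog.carmichaelGen 6 i := by
  decide +kernel

/-- The piece: the relators of the cover define the model. -/
theorem coverWords : StmtCoverWords.{u} := by
  intro H _ L hL w hw
  haveI : IsSimpleGroup (alternatingGroup (Fin 8)) := alternatingGroup.isSimpleGroup (by simp)
  obtain ⟨hfin, hcard⟩ := cover_pres_card
  haveI := hfin
  -- drop the seventh letter
  let L' : Fin 7 → H := Function.update L 6 1
  have hsame : ∀ v : List (Fin 14), (∀ k ∈ v, k ≠ 6 ∧ k ≠ 13) → val L' v = val L v := by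
    intro v
    induction v with
    | nil => intro _; rfl
    | cons k v ih =>
      intro hv
      rw [val_cons, val_cons, ih fun x hx => hv x (List.mem_cons_of_mem _ hx)]
      obtain ⟨h6, h13⟩ := hv k List.mem_cons_self
      have h6' : k.1 ≠ 6 := fun e => h6 (Fin.ext e)
      have h13' : k.1 ≠ 13 := fun e => h13 (Fin.ext e)
      congr 1
      split_ifs with h <;> simp [L', Function.update, Fin.ext_iff] <;> omega
  have hav : ∀ v ∈ coverRels, ∀ k ∈ v, k ≠ 6 ∧ k ≠ 13 := by decide
  let ψ : CoverPres →* H := PresentedGroup.toGroup (f := L') (cover_lift L'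
    (by simp [L']) fun v hv => (hsame v (hav v hv)).trans (hL v hv))
  let θ : CoverPres →* Equiv.Perm (Fin 240) :=
    PresentedGroup.toGroup (cover_lift coverLet coverLet_rel.1 coverLet_rel.2)
  let π : CoverPres →* Equiv.Perm (Fin 8) :=
    PresentedGroup.toGroup (cover_lift altLet altLet_facts.2.1 altLet_facts.2.2)
  have hψ : ψ ∘ cg = L' := funext fun k => PresentedGroup.toGroup.of _
  have hθ : θ ∘ cg = coverLet := funext fun k => PresentedGroup.toGroup.of _
  have hπ : π ∘ cg = altLet := funext fun k => PresentedGroup.toGroup.of _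
  have hπA : π.range = alternatingGroup (Fin 8) := by
    refine le_antisymm ?_ ((Recog.alternatingGroup_le_closure 6 (by norm_num)).trans
      ((closure_le _).2 ?_))
    · rintro _ ⟨x, rfl⟩
      have hx : x ∈ closure (Set.range cg) := by
        rw [show Set.range cg = Set.range (PresentedGroup.of : Fin 7 → CoverPres) from rfl,
          PresentedGroup.closure_range_of]
        exact mem_top x
      induction hx using closure_induction with
      | mem y hy => obtain ⟨k, rfl⟩ := hy; rw [show π (cg k) = altLet k from congrFun hπ k]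
                    exact altLet_facts.1 k
      | one => rw [map_one]; exact one_mem _
      | mul y z _ _ hy hz => rw [map_mul]; exact mul_mem hy hz
      | inv y _ hy => rw [map_inv]; exact inv_mem hy
    · rintro _ ⟨i, rfl⟩
      obtain ⟨v, -, hv⟩ := altLet_gen i
      exact ⟨val cg v, by rw [cover_map_val, hπ, hv]⟩
  -- the kernel of `π` is generated by the central element
  have hkt : ct ∈ π.ker := by
    rw [MonoidHom.mem_ker]
    have h : π ct = val altLet wordT := by
      rw [← hπ, ← cover_map_val, val_wordT]; rfl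
    rw [h]
    decide +kernel
  have hθt : θ ct ≠ 1 := by
    have h : θ ct = val coverLet wordT := by
      rw [← hθ, ← cover_map_val, val_wordT]; rfl
    rw [h]
    intro e
    have h0 := coverLet_val wordT 0
    rw [e] at h0
    revert h0
    decide +kernel
  have hker : Nat.card π.ker ≤ 2 := by
    have h := π.ker.card_mul_index
    rw [index_ker, hπA, nat_card_alternatingGroup, Nat.card_fin] at h
    have h8 : (8 : ℕ).factorial / 2 = 20160 := by decide
    rw [h8] at h
    omega
  have hker' : ∀ x ∈ π.ker, x = 1 ∨ x = ct := by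
    intro x hx
    by_contra hne
    rw [not_or] at hne
    have hct : ct ≠ 1 := fun e => hθt (by rw [e, map_one])
    let j : Fin 3 → π.ker := ![1, ⟨ct, hkt⟩, ⟨x, hx⟩]
    have hj : Function.Injective j := by
      intro p q hpq
      have hval := congrArg Subtype.val hpq
      fin_cases p <;> fin_cases q <;>
        first
        | rfl
        | exact absurd hval hct | exact absurd hval.symm hct
        | exact absurd hval hne.1 | exact absurd hval.symm hne.1
        | exact absurd hval hne.2 | exact absurd hval.symm hne.2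
    have h3 := Nat.card_le_card_of_injective j hj
    rw [Nat.card_fin] at h3
    omega
  -- the kernel of `θ` is trivial
  let π' : CoverPres →* alternatingGroup (Fin 8) :=
    π.codRestrict _ fun x => hπA.le ⟨x, rfl⟩
  have hπ' : Function.Surjective π' := fun y => by
    obtain ⟨x, hx⟩ : (y : Equiv.Perm (Fin 8)) ∈ π.range := hπA.ge y.2
    exact ⟨x, Subtype.ext hx⟩
  have hθinj : ∀ x, θ x = 1 → x = 1 := by
    intro x hx
    rcases ((MonoidHom.normal_ker θ).map π' hπ').eq_bot_or_eq_top with h | h
    · have : π' x = 1 := by rw [← mem_bot, ← h]; exact mem_map_of_mem _ hx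
      rcases hker' x (congrArg Subtype.val this) with e | e
      · exact e
      · exact absurd (e ▸ hx) hθt
    · exfalso
      obtain ⟨y, hy, hy0⟩ : π' (cg 0) ∈ θ.ker.map π' := h ▸ mem_top _
      have hmem : y⁻¹ * cg 0 ∈ π.ker := by
        rw [MonoidHom.mem_ker, map_mul, map_inv, show π y = π (cg 0) from congrArg Subtype.val hy0,
          inv_mul_cancel]
      have h0 : θ (cg 0) = val coverLet [0] :=
        (congrFun hθ 0).trans (by simp [val_cons, val_nil])
      rcases hker' _ hmem with e | e
      · have he := congrArg θ e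
        rw [map_mul, map_inv, MonoidHom.mem_ker.1 hy, inv_one, one_mul, map_one, h0] at he
        have h1 := coverLet_val [0] 0
        rw [he] at h1
        exact cover_distinct.1 h1.symm
      · have he := congrArg θ e
        rw [map_mul, map_inv, MonoidHom.mem_ker.1 hy, inv_one, one_mul, h0,
          show θ ct = val coverLet wordT by rw [← hθ, ← cover_map_val, val_wordT]; rfl] at he
        have h1 := coverLet_val [0] 0
        rw [he, coverLet_val] at h1
        exact cover_distinct.2 h1.symm
  have hone : val cg w = 1 := hθinj _ (by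
    rw [cover_map_val, hθ]
    refine Equiv.ext fun i => Fin.ext ?_
    rw [coverLet_val, hw.2 i.1 i.2]
    rfl)
  have h := congrArg ψ hone
  rw [cover_map_val, hψ, map_one, hsame w hw.1] at h
  exact h

end CfsgLib.McLThree
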