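import Mathlib
import Cfsg.Agent.Lib.McLThree.CoverWords

/-!
Permutations of eight letters: three-cycles, their normal form, and the letters of the cover.
-/

set_option autoImplicit false
set_option linter.style.haveILetI false

namespace CfsgLib.McLThree.CentT

open Equiv

/-- `(0 1 2)` -/
def c012 : Perm (Fin 8) := swap 0 1 * swap 1 2

/-- `(3 4 5)` -/
def c345 : Perm (Fin 8) := swap 3 4 * swap 4 5

/-- `(4 5 6)` -/
def c456 : Perm (Fin 8) := swap 4 5 * swap 5 6

/-- `(3 4)(5 6)` -/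
def w3456 : Perm (Fin 8) := swap 3 4 * swap 5 6

theorem cycleType_fifteen {p f : Perm (Fin 8)} (hp : p ^ 3 = 1) (hp1 : p ≠ 1) (hf : f ^ 5 = 1)
    (hf1 : f ≠ 1) (hc : Commute p f) : (p * f).cycleType = {3, 5} := by
  haveI : Fact (Nat.Prime 3) := ⟨Nat.prime_three⟩
  haveI : Fact (Nat.Prime 5) := ⟨Nat.prime_five⟩
  have ho : orderOf (p * f) = 15 := by
    rw [hc.orderOf_mul_eq_mul_orderOf_of_coprime
      (by rw [orderOf_eq_prime hp hp1, orderOf_eq_prime hf hf1]; norm_num),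
      orderOf_eq_prime hp hp1, orderOf_eq_prime hf hf1]
  set m := (p * f).cycleType with hm
  have hl : m.lcm = 15 := by rw [hm, Perm.lcm_cycleType, ho]
  have hsum : m.sum ≤ 8 := by
    rw [hm, Perm.sum_cycleType]
    exact (Finset.card_le_univ _).trans (le_of_eq (Fintype.card_fin 8))
  have hmem : ∀ x ∈ m, x = 3 ∨ x = 5 := by
    intro x hx
    have h2 : 2 ≤ x := Perm.two_le_of_mem_cycleType hx
    have hd : x ∣ 15 := hl ▸ Multiset.dvd_lcm hx
    have h8 : x ≤ 8 := (Multiset.le_sum_of_mem hx).trans hsum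
    interval_cases x <;> omega
  have h3 : 3 ∈ m := by
    by_contra h
    have : m.lcm ∣ 5 := Multiset.lcm_dvd.2 fun x hx => by
      rcases hmem x hx with rfl | rfl
      · exact absurd hx h
      · exact dvd_refl _
    rw [hl] at this
    omega
  have h5 : 5 ∈ m := by
    by_contra h
    have : m.lcm ∣ 3 := Multiset.lcm_dvd.2 fun x hx => by
      rcases hmem x hx with rfl | rfl
      · exact dvd_refl _
      · exact absurd hx h
    rw [hl] at this
    omega
  obtain ⟨m', hm'⟩ := Multiset.exists_cons_of_mem h3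
  have h5' : 5 ∈ m' := (Multiset.mem_cons.1 (hm' ▸ h5)).resolve_left (by norm_num)
  obtain ⟨m'', hm''⟩ := Multiset.exists_cons_of_mem h5'
  rw [hm', hm'', Multiset.sum_cons, Multiset.sum_cons] at hsum
  have hm0 : m'' = 0 := by
    by_contra h
    obtain ⟨x, hx⟩ := Multiset.exists_mem_of_ne_zero h
    have h2 : 2 ≤ x := Perm.two_le_of_mem_cycleType
      (hm ▸ hm' ▸ hm'' ▸ Multiset.mem_cons_of_mem (Multiset.mem_cons_of_mem hx) :
        x ∈ (p * f).cycleType)
    have := Multiset.le_sum_of_mem hx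
    omega
  rw [hm', hm'', hm0]
  rfl

theorem five_facts : c012 ^ 3 = 1 ∧ c012 ≠ 1 ∧
    (swap 3 4 * swap 4 5 * swap 5 6 * swap 6 7 : Perm (Fin 8)) ^ 5 = 1 ∧
    (swap 3 4 * swap 4 5 * swap 5 6 * swap 6 7 : Perm (Fin 8)) ≠ 1 ∧
    c012 * (swap 3 4 * swap 4 5 * swap 5 6 * swap 6 7) =
      swap 3 4 * swap 4 5 * swap 5 6 * swap 6 7 * c012 := by
  decide +kernel

/-- An element of order three commuting with one of order five is a three-cycle. -/
theorem isConj_c012 {p f : Perm (Fin 8)} (hp : p ^ 3 = 1) (hp1 : p ≠ 1) (hf : f ^ 5 = 1)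
    (hf1 : f ≠ 1) (hc : Commute p f) : IsConj p c012 := by
  obtain ⟨hq, hq1, hd, hd1, hqd⟩ := five_facts
  set d : Perm (Fin 8) := swap 3 4 * swap 4 5 * swap 5 6 * swap 6 7
  have hct : IsConj (p * f) (c012 * d) := Perm.isConj_iff_cycleType_eq.2
    ((cycleType_fifteen hp hp1 hf hf1 hc).trans (cycleType_fifteen hq hq1 hd hd1 hqd).symm)
  have key : ∀ a b : Perm (Fin 8), a ^ 3 = 1 → b ^ 5 = 1 → Commute a b → (a * b) ^ 10 = a := by
    intro a b ha hb hab
    rw [hab.mul_pow, show (10 : ℕ) = 5 * 2 from rfl, pow_mul b, hb, one_pow, mul_one,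
      show (5 * 2 : ℕ) = 3 * 3 + 1 from rfl, pow_add, pow_mul, ha, one_pow, one_mul, pow_one]
  obtain ⟨σ, hσ⟩ := isConj_iff.1 hct
  refine isConj_iff.2 ⟨σ, ?_⟩
  have h := congrArg (fun x => x ^ 10) hσ
  simp only [conj_pow, key p f hp hf hc, key c012 d hq hd hqd] at h
  exact h

/-- The permutation carrying `a, b, c` to `3, 4, 5`. -/
def toFrame (a b c : Fin 8) : Perm (Fin 8) :=
  let s1 := swap 3 a
  let s2 := swap 4 (s1 b)
  let s3 := swap 5 ((s2 * s1) c)
  s3 * s2 * s1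

theorem frame_cases : ∀ a b c : Fin 8, a ≠ b → b ≠ c → a ≠ c →
    swap a b * swap b c * c012 = c012 * (swap a b * swap b c) →
    swap a b * swap b c = c012 ∨ swap a b * swap b c = c012⁻¹ ∨
      (toFrame a b c * c012 * (toFrame a b c)⁻¹ = c012 ∧
        toFrame a b c * (swap a b * swap b c) * (toFrame a b c)⁻¹ = c345) := by
  decide +kernel

/-- A commuting conjugate of `(0 1 2)` is that cycle, its inverse, or can be moved to `(3 4 5)`. -/
theorem commuting_conj {π : Perm (Fin 8)} (h : Commute (π * c012 * π⁻¹) c012) :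
    π * c012 * π⁻¹ = c012 ∨ π * c012 * π⁻¹ = c012⁻¹ ∨
      ∃ σ : Perm (Fin 8), σ * c012 * σ⁻¹ = c012 ∧ σ * (π * c012 * π⁻¹) * σ⁻¹ = c345 := by
  have e : π * c012 * π⁻¹ = swap (π 0) (π 1) * swap (π 1) (π 2) := by
    rw [Equiv.swap_apply_apply, Equiv.swap_apply_apply, c012]
    group
  rw [e] at h ⊢
  rcases frame_cases _ _ _ (π.injective.ne (by decide)) (π.injective.ne (by decide))
    (π.injective.ne (by decide)) h.eq with h1 | h1 | ⟨h1, h2⟩
  · exact Or.inl h1
  · exact Or.inr (Or.inl h1)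
  · exact Or.inr (Or.inr ⟨_, h1, h2⟩)

/-- An even permutation carrying `(3 4)(5 6)` to the product of two letters. -/
def toPair (i j : Fin 6) : Perm (Fin 8) :=
  let k : Fin 8 := ⟨i.1 + 2, by omega⟩
  let l : Fin 8 := ⟨j.1 + 2, by omega⟩
  let s1 := swap 3 0
  let s2 := swap (s1 4) k
  let s3 := swap ((s2 * s1) 5) 1
  let s4 := swap ((s3 * s2 * s1) 6) l
  let s := s4 * s3 * s2 * s1
  if Perm.sign s = 1 then s else s * swap 3 4

theorem toPair_spec : ∀ i j : Fin 6, i ≠ j → Perm.sign (toPair i j) = 1 ∧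
    toPair i j * w3456 * (toPair i j)⁻¹ = altLet i.castSucc * altLet j.castSucc := by
  decide +kernel

theorem letters : altLet 0 = c012 ∧ altLet 6 = 1 ∧ val altLet wordA = c345 ∧
    c345 * c456 = w3456 ∧ c345 ^ 3 = 1 ∧ c456 ^ 3 = 1 ∧ c345 * c012 = c012 * c345 ∧
    c456 * c012 = c012 * c456 ∧ Perm.sign c345 = 1 ∧ Perm.sign c456 = 1 ∧
    w3456 * w3456 = 1 ∧ (w3456 ≠ 1 ∧ w3456 ≠ c012 ∧ w3456 ≠ c012⁻¹) ∧
    swap (3 : Fin 8) 4 * c012 = c012 * swap 3 4 ∧ Perm.sign (swap (3 : Fin 8) 4) = -1 := by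
  refine ⟨?_, ?_, ?_, ?_, ?_, ?_, ?_, ?_, ?_, ?_, ?_, ?_, ?_, ?_⟩ <;> decide +kernel

theorem altLet_cube : ∀ k : Fin 7, altLet k ^ 3 = 1 := by decide +kernel

/-- The letters generate the alternating group. -/
theorem alt_le_closure :
    alternatingGroup (Fin 8) ≤ Subgroup.closure (Set.range altLet) := by
  refine (Recog.alternatingGroup_le_closure 6 (by norm_num)).trans ((Subgroup.closure_le _).2 ?_)
  rintro _ ⟨i, rfl⟩
  obtain ⟨w, -, hw⟩ := altLet_gen i
  rw [← hw]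
  clear hw
  induction w with
  | nil => rw [val_nil]; exact one_mem _
  | cons k w ih =>
    rw [val_cons]
    refine mul_mem ?_ ih
    split_ifs
    · exact Subgroup.subset_closure ⟨_, rfl⟩
    · exact inv_mem (Subgroup.subset_closure ⟨_, rfl⟩)

end CfsgLib.McLThree.CentT
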