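import Mathlib
import Cfsg.Agent.Lib.McLThree.CentTLocal

/-!
The action on the elements of `J` inverted by `t` excludes the wreathed configuration: there would
be commuting elements `k`, `E` of square `t`, exchanged by `g` up to `t`, with `τ` anticommuting
with `k`.
-/

set_option autoImplicit false
set_option linter.style.haveILetI false

namespace CfsgLib.McLThree.CentT

open Subgroup

universe u

variable {G : Type u} [Group G]

/-- Conjugation of an element. -/
abbrev act (h x : G) : G := h * x * h⁻¹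

theorem act_mul (h k x : G) : act (h * k) x = act h (act k x) := by
  simp only [act, mul_inv_rev, mul_assoc]

theorem act_inv (h x : G) : act h x⁻¹ = (act h x)⁻¹ := by simp [act, mul_assoc]

theorem act_eq_self_iff {h x : G} : act h x = x ↔ x * h = h * x :=
  ⟨fun e => (mul_inv_eq_iff_eq_mul.1 e).symm, fun e => mul_inv_eq_iff_eq_mul.2 e.symm⟩

variable (D : Loc G)

theorem act_t {x : G} (hx : x ∈ W D) : act D.t x = x⁻¹ := hx.2

theorem W_self_inv {x : G} (hx : x ∈ W D) (h : x⁻¹ = x) : x = 1 := by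
  have h3 := J_cube D hx.1
  calc x = x ^ 3 * (x⁻¹ * x⁻¹) := by group
    _ = x⁻¹ * x := by rw [h3, one_mul]; nth_rewrite 2 [h]; rfl
    _ = 1 := inv_mul_cancel _

/-- An element whose square inverts `W` fixes no subgroup of order three of `W`. -/
theorem no_invariant_three [Finite G] {S : Subgroup G} (hS : S ≤ W D) (hc : Nat.card S = 3)
    {h : G} (hh : ∀ x ∈ S, act h x ∈ S) (hsq : ∀ x ∈ W D, act (h * h) x = x⁻¹) : False := by
  haveI : Fact (Nat.Prime 3) := ⟨Nat.prime_three⟩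
  obtain ⟨w, hw1⟩ : ∃ w : S, w ≠ 1 := by
    by_contra hno
    push Not at hno
    have : Nat.card S = 1 := Nat.card_eq_one_iff_unique.2
      ⟨⟨fun a b => (hno a).trans (hno b).symm⟩, ⟨1⟩⟩
    omega
  have hgen : zpowers w = ⊤ := zpowers_eq_top_of_prime_card hc hw1
  obtain ⟨n, hn⟩ : ∃ n : ℤ, (w : G) ^ n = act h w := by
    obtain ⟨n, hn⟩ := (hgen ▸ mem_top (⟨act h w, hh w w.2⟩ : S) :
      (⟨act h w, hh w w.2⟩ : S) ∈ zpowers w)
    exact ⟨n, by simpa using congrArg Subtype.val hn⟩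
  have hwW : (w : G) ∈ W D := hS w.2
  have h2 := hsq _ hwW
  rw [act_mul, ← hn] at h2
  have hzp : act h ((w : G) ^ n) = (act h w) ^ n := conj_zpow.symm
  rw [hzp, ← hn, ← zpow_mul] at h2
  refine hw1 (Subtype.ext (W_self_inv D hwW ?_))
  have h3 := J_cube D hwW.1
  rcases zpow_three_cases h3 n with e | e | e
  · exfalso
    have hA : act h (w : G) = 1 := hn.symm.trans e
    exact hw1 (Subtype.ext (conj_eq_one_iff.1 hA))
  · rw [zpow_mul, e, e] at h2
    exact h2.symm
  · rw [zpow_mul, e, inv_zpow, e, inv_inv] at h2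
    exact h2.symm

/-- The wreathed configuration is impossible. -/
theorem not_wr [Finite G] {k E τ g1 : G} (hk : k * k = D.t) (hE : E * E = D.t)
    (hkE : Commute k E) (hkτ : k * τ = τ * k * D.t)
    (hτt : Commute τ D.t) (hkt : Commute k D.t)
    (hg1 : ∀ x ∈ W D, act g1 x = act D.g x)
    (hgk : g1 * k * g1⁻¹ = E ∨ g1 * k * g1⁻¹ = E * D.t)
    (hkW : ∀ x ∈ W D, act k x ∈ W D) (hEW : ∀ x ∈ W D, act E x ∈ W D)
    (hτW : ∀ x ∈ W D, act τ x ∈ W D)
    {c : G} (hc2 : c * c * D.t ∈ D.toTop.J) (hg2 : D.g * D.g ∈ D.toTop.J)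
    (hgc : D.g * c * D.g⁻¹ * c ∈ D.toTop.J)
    (hcW : (∀ x ∈ W D, act c x = act (k * E) x) ∨ (∀ x ∈ W D, act c x = act (k * E * τ) x)) :
    False := by
  classical
  haveI : Fact (Nat.Prime 3) := ⟨Nat.prime_three⟩
  have hgW : ∀ x ∈ W D, act D.g x ∈ W D := fun x hx => conj_g_mem_W D hx
  have htcm : ∀ h : G, Commute h D.t → ∀ x ∈ W D, act h (act D.t x) = act D.t (act h x) :=
    fun h hh x _ => by rw [← act_mul, ← act_mul, hh.eq]
  set s := k * E with hsdef
  have hss : s * s = 1 := by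
    rw [hsdef, mul_assoc, ← mul_assoc E, ← hkE.eq, mul_assoc k E, ← mul_assoc, hk, hE, t_sq D]
  have hsW : ∀ x ∈ W D, act s x ∈ W D := fun x hx => by
    rw [hsdef, act_mul]; exact hkW _ (hEW _ hx)
  have hsk : Commute s k := (Commute.refl k).mul_left hkE.symm
  have hksq : ∀ x ∈ W D, act (k * k) x = x⁻¹ := fun x hx => by rw [hk]; exact act_t D hx
  -- `s` acts as a sign
  have hsign : ∃ ε : ℤ, (ε = 1 ∨ ε = -1) ∧ ∀ x ∈ W D, act s x = x ^ ε := by
    let S : Subgroup G := W D ⊓ centralizer ({s} : Set G)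
    have memS : ∀ x, x ∈ S ↔ x ∈ W D ∧ act s x = x := fun x => by
      rw [mem_inf, mem_centralizer_singleton_iff, act_eq_self_iff]
    by_cases hS : ∀ x ∈ W D, act s x = x
    · exact ⟨1, Or.inl rfl, fun x hx => by rw [hS x hx, zpow_one]⟩
    refine ⟨-1, Or.inr rfl, fun x hx => ?_⟩
    rw [zpow_neg_one]
    have hy : x * act s x ∈ S := (memS _).2 ⟨mul_mem hx (hsW x hx), by
      have e : act s (x * act s x) = act s x * act (s * s) x := by
        simp only [act]; group
      rw [e, hss, show act (1 : G) x = x by simp [act]]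
      exact (J_comm D (hsW x hx).1 hx.1).eq⟩
    by_cases hbot : x * act s x = 1
    · exact eq_inv_of_mul_eq_one_right hbot
    exfalso
    have hdvd : Nat.card S ∣ 3 ^ 2 := by
      have h := card_dvd_of_le (inf_le_left : S ≤ W D)
      rwa [card_W D] at h
    obtain ⟨m, hm2, hm⟩ := (Nat.dvd_prime_pow Nat.prime_three).1 hdvd
    interval_cases m
    · exact hbot (mem_bot.1 (eq_bot_of_card_eq S (by simpa using hm) ▸ hy))
    · refine no_invariant_three D (S := S) inf_le_left (by simpa using hm) (h := k)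
        (fun w hw => ?_) hksq
      obtain ⟨hwW, hws⟩ := (memS w).1 hw
      exact (memS _).2 ⟨hkW w hwW, by rw [← act_mul, hsk.eq, act_mul, hws]⟩
    · refine hS fun w hw => ((memS w).1 ?_).2
      have hSW : S = W D :=
        eq_of_le_of_card_ge inf_le_left (by rw [card_W D, hm]; norm_num)
      exact hSW ▸ hw
  obtain ⟨ε, hε, hεW⟩ := hsign
  have hεinv : ∀ x : G, (x ^ ε) ^ ε = x := fun x => by rcases hε with rfl | rfl <;> simp
  have hεact : ∀ h x : G, act h (x ^ ε) = (act h x) ^ ε := fun h x => conj_zpow.symm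
  have hc2W : ∀ x ∈ W D, act c (act c x) = x⁻¹ := fun x hx => by
    have e : c * c = c * c * D.t * D.t := by rw [mul_assoc (c * c), t_sq D, mul_one]
    rw [← act_mul, e, act_mul, act_t D hx]
    exact conj_J_W D hc2 (inv_mem hx)
  obtain ⟨x₀, hx₀⟩ : ∃ x ∈ W D, x ≠ 1 := by
    by_contra hno
    push Not at hno
    have : W D = ⊥ := (eq_bot_iff_forall _).2 hno
    have h9 := card_W D
    rw [this, card_bot] at h9
    omega
  rcases hcW with hcW | hcW
  · -- then `c` would be scalar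
    have h1 : act c (act c x₀) = x₀ := by
      rw [hcW x₀ hx₀.1, hεW x₀ hx₀.1, hcW _ (zpow_mem hx₀.1 ε), hεW _ (zpow_mem hx₀.1 ε), hεinv]
    exact hx₀.2 (W_self_inv D hx₀.1 ((hc2W x₀ hx₀.1).symm.trans h1))
  have hcτ : ∀ x ∈ W D, act c x = (act τ x) ^ ε := fun x hx => by
    rw [hcW x hx, act_mul, hεW _ (hτW x hx)]
  have hτ2 : ∀ x ∈ W D, act (τ * τ) x = x⁻¹ := fun x hx => by
    have h := hc2W x hx
    rw [hcτ x hx, hεact, hcτ _ (hτW x hx), hεinv] at h
    rwa [act_mul]
  have hg2W : ∀ x ∈ W D, act D.g (act D.g x) = x := fun x hx => by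
    rw [← act_mul]; exact conj_J_W D hg2 hx
  have hτg : ∀ x ∈ W D, act D.g (act τ x) = (act τ (act D.g x))⁻¹ := fun x hx => by
    set y := act D.g x with hy
    have hyW : y ∈ W D := hgW x hx
    have h := conj_J_W D hgc (hτW y hyW)
    change act (D.g * c * D.g⁻¹ * c) (act τ y) = act τ y at h
    have e1 : act c (act τ y) = (y⁻¹) ^ ε := by
      rw [hcτ _ (hτW _ hyW), ← act_mul, hτ2 _ hyW]
    have e2 : act D.g⁻¹ ((y⁻¹) ^ ε) = (x⁻¹) ^ ε := by
      rw [hεact, act_inv, hy, ← act_mul, inv_mul_cancel]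
      simp [act]
    have e3 : act c ((x⁻¹) ^ ε) = (act τ x)⁻¹ := by
      rw [hcτ _ (zpow_mem (inv_mem hx) ε), hεact, hεinv, act_inv]
    rw [act_mul, act_mul, act_mul, e1, e2, e3, act_inv] at h
    rw [← h, inv_inv]
  have hEk : ∀ x ∈ W D, act E x = ((act k x)⁻¹) ^ ε := fun x hx => by
    have h1 : act k (act E x) = x ^ ε := by rw [← act_mul]; exact hεW x hx
    have h2 := congrArg (act k) h1
    rw [← act_mul, hksq _ (hEW x hx), hεact] at h2
    rw [inv_zpow, ← h2, inv_inv]
  obtain ⟨δ, hδ, hgkW⟩ : ∃ δ : ℤ, (δ = 1 ∨ δ = -1) ∧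
      ∀ x ∈ W D, act D.g (act k x) = (act k (act D.g x)) ^ δ := by
    have base : ∀ x ∈ W D, act (g1 * k * g1⁻¹) (act D.g x) = act D.g (act k x) := fun x hx => by
      rw [← hg1 x hx, ← hg1 _ (hkW x hx), ← act_mul, ← act_mul, inv_mul_cancel_right]
    rcases hgk with e | e <;> rw [e] at base
    · refine ⟨-ε, by omega, fun x hx => ?_⟩
      rw [← base x hx, hEk _ (hgW x hx), inv_zpow, zpow_neg]
    · refine ⟨ε, hε, fun x hx => ?_⟩
      rw [← base x hx, act_mul, act_t D (hgW x hx), hEk _ (inv_mem (hgW x hx)), act_inv, inv_inv]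
  -- fixed and inverted points of `g`
  let F : Subgroup G := W D ⊓ centralizer ({D.g} : Set G)
  have memF : ∀ x, x ∈ F ↔ x ∈ W D ∧ act D.g x = x := fun x => by
    rw [mem_inf, mem_centralizer_singleton_iff, act_eq_self_iff]
  have hfix : ∀ x ∈ W D, x * act D.g x ∈ F := fun x hx => (memF _).2 ⟨mul_mem hx (hgW x hx), by
    have e : act D.g (x * act D.g x) = act D.g x * act D.g (act D.g x) := by simp only [act]; group
    rw [e, hg2W x hx]
    exact (J_comm D (hgW x hx).1 hx.1).eq⟩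
  have hFne : F ≠ ⊥ := fun hb => by
    have hinv : ∀ x ∈ W D, act D.g x = x⁻¹ := fun x hx =>
      eq_inv_of_mul_eq_one_right (mem_bot.1 (hb ▸ hfix x hx))
    have h := hτg x₀ hx₀.1
    rw [hinv _ (hτW _ hx₀.1), hinv _ hx₀.1, act_inv, inv_inv] at h
    exact hx₀.2 (conj_eq_one_iff.1 (W_self_inv D (hτW _ hx₀.1) h))
  have hFtop : F ≠ W D := fun hT => by
    have hid : ∀ x ∈ W D, act D.g x = x := fun x hx => ((memF x).1 (hT.symm ▸ hx)).2
    have h := hτg x₀ hx₀.1
    rw [hid _ (hτW _ hx₀.1), hid _ hx₀.1] at h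
    exact hx₀.2 (conj_eq_one_iff.1 (W_self_inv D (hτW _ hx₀.1) h.symm))
  have hF3 : Nat.card F = 3 := by
    have h := card_dvd_of_le (inf_le_left : F ≤ W D)
    rw [card_W D] at h
    obtain ⟨m, hm2, hm⟩ := (Nat.dvd_prime_pow Nat.prime_three).1 (show Nat.card F ∣ 3 ^ 2 from h)
    interval_cases m
    · exact absurd (eq_bot_of_card_eq F (by simpa using hm)) hFne
    · simpa using hm
    · exact absurd (eq_of_le_of_card_ge (inf_le_left : F ≤ W D) (by rw [card_W D, hm]; norm_num))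
        hFtop
  rcases hδ with rfl | rfl
  · refine no_invariant_three D inf_le_left hF3 (h := k) (fun w hw => ?_) hksq
    obtain ⟨hwW, hwg⟩ := (memF w).1 hw
    exact (memF _).2 ⟨hkW w hwW, by rw [hgkW w hwW, hwg, zpow_one]⟩
  · refine no_invariant_three D inf_le_left hF3 (h := k * τ) (fun w hw => ?_) fun x hx => ?_
    · obtain ⟨hwW, hwg⟩ := (memF w).1 hw
      refine (memF _).2 ⟨by rw [act_mul]; exact hkW _ (hτW w hwW), ?_⟩
      rw [act_mul, hgkW _ (hτW w hwW), hτg w hwW, hwg, act_inv, zpow_neg_one, inv_inv]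
    · have e : k * τ * (k * τ) = τ * τ := by
        have hτk : τ * k = k * τ * D.t := by rw [hkτ, mul_assoc (τ * k), t_sq D, mul_one]
        calc k * τ * (k * τ) = k * (τ * k) * τ := by simp only [mul_assoc]
          _ = k * k * τ * D.t * τ := by rw [hτk]; simp only [mul_assoc]
          _ = D.t * (τ * D.t) * τ := by rw [hk]; simp only [mul_assoc]
          _ = τ * τ := by rw [hτt.eq, ← mul_assoc D.t, t_sq D, one_mul]
      rw [e]
      exact hτ2 x hx

end CfsgLib.McLThree.CentT
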