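import Mathlib
import Cfsg.Agent.Lib.McLThree.CentTDiag
import Cfsg.Agent.Lib.McLThree.CentTWr
import Cfsg.Agent.Lib.SEightThree.KFive
import Cfsg.Agent.Lib.SEightThree.CentV
import Cfsg.Agent.Lib.SEightThree.KStruct
import Cfsg.Agent.Lib.SEightThree.SymIso

/-!
The case of the symmetric group of degree five: the centraliser of `t` modulo `t` is symmetric of
degree eight.
-/

set_option autoImplicit false
set_option linter.style.haveILetI false
set_option maxHeartbeats 800000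

namespace CfsgLib.McLThree.CentT

open Subgroup Equiv

universe u

namespace Sym

open CfsgLib.SEightThree

/-- The parameters of the centraliser of the frame. -/
def P (p : Fin 3 × Fin 3 × Fin 2) : KF := zF ^ p.1.1 * dF ^ p.2.1.1 * tF ^ p.2.2.1

theorem P_inj : Function.Injective P := by
  intro p q h
  revert h
  revert p q
  decide +kernel

theorem P_spec (m : KF) : (m * zF = zF * m ∧ m * dF = dF * m) ↔ ∃ p, P p = m := by
  revert m
  decide +kernel

theorem P_three : ∀ p : Fin 3 × Fin 3 × Fin 2, P p ^ 27 = 1 →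
    P p = zF ^ p.1.1 * dF ^ p.2.1.1 := by
  decide +kernel

theorem P_sq : ∀ p : Fin 3 × Fin 3 × Fin 2, (∃ i j : Fin 3, P p * P p = zF ^ i.1 * dF ^ j.1) ∧
    ∃ i j : Fin 3, P p * (zF ^ p.2.1.1 * dF ^ p.1.1 * tF ^ p.2.2.1) = zF ^ i.1 * dF ^ j.1 := by
  decide +kernel

theorem invert_both : ∀ m : KF, m * zF * m⁻¹ = zF⁻¹ → m * dF * m⁻¹ = dF⁻¹ →
    ∃ i j : Fin 3, m = zF ^ i.1 * dF ^ j.1 * (fF * tF * eF) ∨
      m = zF ^ i.1 * dF ^ j.1 * (fF * tF * eF * tF) := by
  decide +kernel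

/-- A three-cycle. -/
def uF : KF := (1, swap 0 1 * swap 1 2)

/-- A three-cycle. -/
def vF : KF := (1, swap 1 2 * swap 2 3)

/-- A double transposition. -/
def yF : KF := (1, swap 0 2 * swap 1 3)

theorem wr_facts : uF * vF = fF * tF ∧ uF ^ 3 = 1 ∧ vF ^ 3 = 1 ∧ uF * zF = zF * uF ∧
    vF * zF = zF * vF ∧ eF * uF * eF⁻¹ = uF ∧ eF * vF * eF⁻¹ = vF ∧ yF * tF * yF⁻¹ = fF ∧
    fF * tF * tF = fF ∧ (fF * tF) * (fF * tF) = 1 ∧ fF * tF ≠ 1 ∧ eF * eF = 1 ∧ eF ≠ 1 ∧
    tF * tF = 1 ∧ (fF * tF) * zF * (fF * tF)⁻¹ = zF ∧ (fF * tF) * dF * (fF * tF)⁻¹ = dF⁻¹ ∧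
    tF * zF * tF⁻¹ = zF ∧ tF * dF * tF⁻¹ = dF ∧ eF * zF * eF⁻¹ = zF⁻¹ ∧ eF * dF * eF⁻¹ = dF := by
  refine ⟨?_, ?_, ?_, ?_, ?_, ?_, ?_, ?_, ?_, ?_, ?_, ?_, ?_, ?_, ?_, ?_, ?_, ?_, ?_, ?_⟩ <;>
    decide +kernel

end Sym

open Sym SEightThree SEightThree.SetupAux in
/-- The case of the symmetric group of degree five. -/
theorem exists_model_sym {G : Type u} [Group G] [Finite G] (D : Loc G) (hY : CentY D)
    (F : L D →* Perm (Fin 3) × Perm (Fin 5))
    (hker : ∀ x : L D, F x = 1 ↔ ((x : G) = 1 ∨ (x : G) = D.t))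
    (hFz : ∀ x : L D, (x : G) = D.z → F x = SEightThree.zF)
    (hFa : ∀ x : L D, (x : G) = D.a → F x = SEightThree.dF)
    (hF : F.range = ⊤) :
    ∃ j : X D →* Perm (Fin 8), Function.Injective j ∧ alternatingGroup (Fin 8) ≤ j.range := by
  classical
  have hsurj : Function.Surjective F := MonoidHom.range_eq_top.1 hF
  obtain ⟨ψ, hinj, hψ, hrange⟩ := exists_psi D F hsurj hker
  have hzm : ψ zF = pr D (zH D) := by
    rw [← hFz ⟨D.z, K_le_L D (zK' D).2⟩ rfl, hψ]; rfl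
  have hdm : ψ dF = pr D (aH D) := by
    rw [← hFa ⟨D.a, K_le_L D (aK' D).2⟩ rfl, hψ]; rfl
  obtain ⟨hgz, hgd⟩ := pr_g_conj D
  rw [← hzm, ← hdm] at hgz hgd
  set g₀ := pr D (gH D) with hg₀
  set Z := ψ zF with hZ
  set E := ψ dF with hE
  have Hc : ∀ {k a b : KF}, k * a * k⁻¹ = b → ψ k * ψ a * (ψ k)⁻¹ = ψ b := fun {k a b} h => by
    rw [← h, map_mul, map_mul, map_inv]
  have hfrom : ∀ x : X D, x * Z * x⁻¹ = Z ∨ x * Z * x⁻¹ = Z⁻¹ → ∃ k, ψ k = x := by
    intro x hx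
    have hn : x ∈ normalizer (zpowers (pr D (zH D)) : Set (X D)) := by
      rw [mem_normalizer_iff_map_conj_eq, MonoidHom.map_zpowers, ← hzm]
      have e : (MulAut.conj x : X D →* X D) Z = x * Z * x⁻¹ := rfl
      rw [e]
      rcases hx with h | h <;> rw [h]
      exact zpowers_inv
    rw [← hrange] at hn
    exact hn
  have hginv : ∀ a b : X D, g₀ * a * g₀⁻¹ = b → g₀ * a⁻¹ * g₀⁻¹ = b⁻¹ := fun a b h => by
    rw [← conj_inv, h]
  have hconjg : ∀ (k : KF) (a b a' b' : X D), g₀ * a * g₀⁻¹ = a' → g₀ * b * g₀⁻¹ = b' →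
      ψ k * a * (ψ k)⁻¹ = b →
        (g₀ * ψ k * g₀⁻¹) * a' * (g₀ * ψ k * g₀⁻¹)⁻¹ = b' := fun k a b a' b' h1 h2 h3 => by
    rw [← h1, ← h2, ← h3]; group
  obtain ⟨ft1, ft2, ft3, ft4, ft5, ft6, ft7, ft8, ft9, ft10, ft11, ee, ene, tt, fz, fd, tz, td,
    ez, ed⟩ := Sym.wr_facts
  have hez : ψ eF * Z * (ψ eF)⁻¹ = Z⁻¹ := (Hc ez).trans (map_inv _ _)
  have hed : ψ eF * E * (ψ eF)⁻¹ = E := Hc ed
  have hfz : ψ fF * Z * (ψ fF)⁻¹ = Z := Hc (by decide +kernel)
  have hfd : ψ fF * E * (ψ fF)⁻¹ = E⁻¹ := (Hc (b := dF⁻¹) (by decide +kernel)).trans (map_inv _ _)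
  have ff : fF * fF = 1 := by decide +kernel
  have hsqg : ∀ k : KF, k * k = 1 → g₀ * ψ k * g₀⁻¹ * (g₀ * ψ k * g₀⁻¹) = 1 := fun k h => by
    rw [conj_mul, ← map_mul, h, map_one, mul_one, mul_inv_cancel]
  obtain ⟨kt, hkt⟩ := hfrom _ (Or.inl (hconjg tF E E Z Z hgd hgd (Hc td)))
  obtain ⟨ke, hke⟩ := hfrom _ (Or.inl (hconjg eF E E Z Z hgd hgd hed))
  obtain ⟨kf, hkf⟩ := hfrom _ (Or.inr (hconjg fF E E⁻¹ Z Z⁻¹ hgd (hginv _ _ hgd) hfd))
  have hkt' : kt = tF := by
    refine (cent_frame_sq kt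
      (hinj (by rw [map_mul, map_mul, map_inv, hkt]; exact hconjg tF E E Z Z hgd hgd (Hc td)))
      (hinj (by rw [map_mul, map_mul, map_inv, hkt]; exact hconjg tF Z Z E E hgz hgz (Hc tz)))
      (hinj (by rw [map_mul, map_one, hkt]; exact hsqg _ tt))).resolve_left fun h1 => ?_
    rw [h1, map_one] at hkt
    have h := conj_eq_one_iff.1 hkt.symm
    exact absurd (hinj (h.trans (map_one ψ).symm)) (by decide +kernel)
  have hgt : g₀ * ψ tF * g₀⁻¹ = ψ tF := by rw [← hkt, hkt']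
  obtain ⟨j, hj⟩ := invert_d ke
    (hinj (by rw [map_mul, map_mul, map_inv, hke]; exact hconjg eF E E Z Z hgd hgd hed))
    (hinj (by
      rw [map_mul, map_mul, map_inv, map_inv, hke]
      exact hconjg eF Z Z⁻¹ E E⁻¹ hgz (hginv _ _ hgz) hez))
    (hinj (by rw [map_mul, map_one, hke]; exact hsqg _ ee))
  obtain ⟨l, hl⟩ := invert_z kf
    (hinj (by rw [map_mul, map_mul, map_inv, hkf]; exact hconjg fF Z Z E E hgz hgz hfz))
    (hinj (by
      rw [map_mul, map_mul, map_inv, map_inv, hkf]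
      exact hconjg fF E E⁻¹ Z Z⁻¹ hgd (hginv _ _ hgd) hfd))
    (hinj (by rw [map_mul, map_one, hkf]; exact hsqg _ ff))
  obtain ⟨az, ad, atF, af, aft, ae, aet, acomm⟩ := adjust j l
  set w : KF := zF ^ l.1 * dF ^ j.1 with hw
  set g : X D := ψ w * g₀ with hg
  have move : ∀ a : X D, g * a * g⁻¹ = ψ w * (g₀ * a * g₀⁻¹) * (ψ w)⁻¹ := fun a => by
    rw [hg]; group
  have gz : g * Z * g⁻¹ = E := by rw [move, hgz]; exact Hc ad
  have gd : g * E * g⁻¹ = Z := by rw [move, hgd]; exact Hc az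
  have gt : g * ψ tF * g⁻¹ = ψ tF := by rw [move, hgt]; exact Hc atF
  have hwe : ∀ a : KF, dF ^ j.1 * ke * (dF ^ j.1)⁻¹ = a → zF ^ l.1 * a * (zF ^ l.1)⁻¹ = a →
      g * ψ eF * g⁻¹ = ψ a := fun a h1 h2 => by
    rw [move, ← hke]
    refine Hc ?_
    rw [hw]
    calc zF ^ l.1 * dF ^ j.1 * ke * (zF ^ l.1 * dF ^ j.1)⁻¹
        = zF ^ l.1 * (dF ^ j.1 * ke * (dF ^ j.1)⁻¹) * (zF ^ l.1)⁻¹ := by group
      _ = a := by rw [h1, h2]
  have hwf : ∀ a : KF, zF ^ l.1 * kf * (zF ^ l.1)⁻¹ = a → dF ^ j.1 * a * (dF ^ j.1)⁻¹ = a →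
      g * ψ fF * g⁻¹ = ψ a := fun a h1 h2 => by
    rw [move, ← hkf]
    refine Hc ?_
    rw [acomm]
    calc dF ^ j.1 * zF ^ l.1 * kf * (dF ^ j.1 * zF ^ l.1)⁻¹
        = dF ^ j.1 * (zF ^ l.1 * kf * (zF ^ l.1)⁻¹) * (dF ^ j.1)⁻¹ := by group
      _ = a := by rw [h1, h2]
  have mixed : g * g * ψ eF * (g * g)⁻¹ ≠ ψ (eF * tF) := fun h => by
    have hz2 : g * g * Z * (g * g)⁻¹ = Z := by rw [← conj_conj_eq gz, gd]
    have hd2 : g * g * E * (g * g)⁻¹ = E := by rw [← conj_conj_eq gd, gz]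
    obtain ⟨k, hk⟩ := hfrom (g * g) (Or.inl hz2)
    refine cent_frame_eF k (hinj ?_) (hinj ?_) (hinj ?_)
    · rw [map_mul, map_mul, map_inv, hk]; exact hz2
    · rw [map_mul, map_mul, map_inv, hk]; exact hd2
    · rw [map_mul, map_mul, map_inv, hk]; exact h
  have hcases : (g * ψ eF * g⁻¹ = ψ fF ∧ g * ψ fF * g⁻¹ = ψ eF) ∨
      (g * ψ eF * g⁻¹ = ψ (fF * tF) ∧ g * ψ fF * g⁻¹ = ψ (eF * tF)) := by
    rcases hj with hj | hj <;> rcases hl with hl | hl
    · exact Or.inl ⟨hwe _ hj af, hwf _ hl ae⟩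
    · exfalso
      refine mixed ?_
      rw [← conj_conj_eq (hwe _ hj af), hwf _ hl aet]
    · exfalso
      refine mixed ?_
      rw [← conj_conj_eq (hwe _ hj aft), map_mul, ← conj_mul, hwf _ hl ae, gt, ← map_mul]
    · exact Or.inr ⟨hwe _ hj aft, hwf _ hl aet⟩
  -- the centraliser of the diagonal element
  obtain ⟨hcard, hclass⟩ := card_diag D hY.1 ψ hinj hrange zF dF hzm hdm P P_inj P_spec
  rw [← hzm, ← hdm] at hcard hclass
  have hcard36 : Nat.card (centralizer ({Z * E} : Set (X D))) = 36 := by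
    rw [hcard, Nat.card_prod, Nat.card_prod]; simp
  obtain ⟨c, hct, hcz, hca, hc2, hg2, hgc⟩ := D.c_g
  have hZD : Z ∈ closure ({Z, E} : Set (X D)) := Subgroup.subset_closure (Or.inl rfl)
  have hED : E ∈ closure ({Z, E} : Set (X D)) := Subgroup.subset_closure (Or.inr rfl)
  have hpow : ∀ i i' : ℕ, ψ (zF ^ i * dF ^ i') ∈ closure ({Z, E} : Set (X D)) := fun i i' => by
    rw [map_mul, map_pow, map_pow]; exact mul_mem (pow_mem hZD i) (pow_mem hED i')
  have hsq : ∀ x ∈ centralizer ({Z * E} : Set (X D)),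
      x ^ 2 ∈ closure ({Z, E} : Set (X D)) := by
    intro x hx
    have hg2m : g₀ * g₀ ∈ closure ({Z, E} : Set (X D)) := by
      obtain ⟨i, i', hii⟩ := exists_of_mem_J_commute D hg2 (D.gt.mul_left D.gt)
      have e : g₀ * g₀ = Z ^ i * E ^ i' := by
        rw [hg₀, hzm, hdm, ← map_mul, ← map_zpow, ← map_zpow, ← map_mul]
        congr 1
        exact Subtype.ext (by push_cast; exact hii)
      rw [e]
      exact mul_mem (zpow_mem hZD _) (zpow_mem hED _)
    obtain ⟨p, hp | hp⟩ := hclass x hx <;> subst hp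
    · obtain ⟨i, i', h⟩ := (P_sq p).1
      rw [pow_two, ← map_mul, h]
      exact hpow _ _
    · obtain ⟨i, i', h⟩ := (P_sq p).2
      have eP : g₀⁻¹ * ψ (P p) * g₀ = ψ (zF ^ p.2.1.1 * dF ^ p.1.1 * tF ^ p.2.2.1) := by
        have hz' : g₀⁻¹ * Z * g₀ = E := by rw [← hgd]; group
        have hd' : g₀⁻¹ * E * g₀ = Z := by rw [← hgz]; group
        have ht' : g₀⁻¹ * ψ tF * g₀ = ψ tF := by nth_rewrite 1 [← hgt]; group
        have hpw : ∀ (a b : X D) (n : ℕ), g₀⁻¹ * a * g₀ = b → g₀⁻¹ * a ^ n * g₀ = b ^ n :=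
          fun a b n hab => by
            rw [← hab, show g₀⁻¹ * a * g₀ = g₀⁻¹ * a * (g₀⁻¹)⁻¹ by rw [inv_inv], conj_pow, inv_inv]
        have hc' : zF ^ p.2.1.1 * dF ^ p.1.1 = dF ^ p.1.1 * zF ^ p.2.1.1 :=
          (show Commute zF dF from facts_comm.1).pow_pow _ _
        rw [P, hc', map_mul, map_mul, map_pow, map_pow, map_pow, map_mul, map_mul, map_pow,
          map_pow, map_pow, ← hZ, ← hE]
        calc g₀⁻¹ * (Z ^ p.1.1 * E ^ p.2.1.1 * ψ tF ^ p.2.2.1) * g₀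
            = (g₀⁻¹ * Z ^ p.1.1 * g₀) * (g₀⁻¹ * E ^ p.2.1.1 * g₀) *
                (g₀⁻¹ * ψ tF ^ p.2.2.1 * g₀) := by group
          _ = E ^ p.1.1 * Z ^ p.2.1.1 * ψ tF ^ p.2.2.1 := by
            rw [hpw _ _ _ hz', hpw _ _ _ hd', hpw _ _ _ ht']
      have e2 : (ψ (P p) * g₀⁻¹) ^ 2 =
          ψ (P p) * (g₀⁻¹ * ψ (P p) * g₀) * (g₀ * g₀)⁻¹ := by
        rw [pow_two]; group
      rw [e2, eP, ← map_mul, h]
      exact mul_mem (hpow _ _) (inv_mem hg2m)
  have h27 : ¬ 27 ∣ Nat.card (X D) := by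
    refine not_dvd D ψ hinj hrange zF dF hzm hdm fun k h1 h2 h3 => ?_
    obtain ⟨q, rfl⟩ := (P_spec k).1 ⟨h1, h2⟩
    rw [P_three q h3]
    have e1 : zF ∈ closure ({zF, dF} : Set KF) := Subgroup.subset_closure (Or.inl rfl)
    have e2 : dF ∈ closure ({zF, dF} : Set KF) := Subgroup.subset_closure (Or.inr rfl)
    exact mul_mem (pow_mem e1 _) (pow_mem e2 _)
  let S : SEightThree.Setup (X D) :=
    { ψ := ψ, inj := hinj, range_eq := by rw [hrange, ← hzm]
      g := g, g_z := gz, g_d := gd, g_t := gt, card_y := hcard36, sq_y := hsq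
      not_dvd := h27, cases_e := hcases }
  have hnX : ¬ S.IsWr := by
    rintro ⟨hX1, hX2⟩
    change g * ψ eF * g⁻¹ = ψ (fF * tF) at hX1
    change g * ψ fF * g⁻¹ = ψ (eF * tF) at hX2
    -- lifts
    have lift : ∀ m : KF, ∃ h : L D, ψ m = pr D ⟨h, L_le_H D h.2⟩ := fun m => by
      obtain ⟨h, rfl⟩ := hsurj m
      exact ⟨h, hψ h⟩
    have lift3 : ∀ m : KF, m ^ 3 = 1 → ∃ h : H D, pr D h = ψ m ∧ (h : G) ^ 3 = 1 := fun m hm =>
      exists_lift_three D (by rw [← map_pow, hm, map_one])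
    obtain ⟨k, hk⟩ := lift (fF * tF)
    obtain ⟨E₀, hE₀⟩ := lift eF
    obtain ⟨τ, hτ⟩ := lift tF
    obtain ⟨Y, hYl⟩ := lift yF
    obtain ⟨u, hu, hu3⟩ := lift3 uF ft2
    obtain ⟨v, hv, hv3⟩ := lift3 vF ft3
    set kH : H D := ⟨k, L_le_H D k.2⟩
    set eH : H D := ⟨E₀, L_le_H D E₀.2⟩
    set τH : H D := ⟨τ, L_le_H D τ.2⟩
    set yH : H D := ⟨Y, L_le_H D Y.2⟩
    have hkt' : Commute (k : G) D.t := k.2.1
    have hτt : Commute (τ : G) D.t := τ.2.1
    have hEt : Commute (E₀ : G) D.t := E₀.2.1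
    have hKof : ∀ (h : H D) (m : KF), pr D h = ψ m → m * zF = zF * m → (h : G) ∈ K D := by
      intro h m hm hmz
      refine (mem_K D).2 ⟨mul_inv_eq_iff_eq_mul.1 ?_, (mem_H D).1 h.2⟩
      refine eq_of_three D (x := zH D) (y := h * zH D * h⁻¹) (z_cube D) ?_ ?_
      · show ((h : G) * D.z * (h : G)⁻¹) ^ 3 = 1
        rw [conj_pow, z_cube, mul_one, mul_inv_cancel]
      · rw [map_mul, map_mul, map_inv, hm, ← hzm]
        exact (Hc (b := zF) (mul_inv_eq_iff_eq_mul.2 hmz)).symm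
    have hkK : (k : G) ∈ K D := hKof kH _ hk.symm (mul_inv_eq_iff_eq_mul.1 fz)
    have huK : (u : G) ∈ K D := hKof u _ hu ft4
    have hvK : (v : G) ∈ K D := hKof v _ hv ft5
    have huv : (k : G) = u * v ∨ (k : G) = u * v * D.t := by
      have h : pr D (u * v) = pr D kH := by rw [map_mul, hu, hv, ← map_mul, ft1, hk]
      exact (pr_eq_pr D).1 h
    have htK : D.t ∈ K D := (mem_K D).2 ⟨D.tz, Commute.refl _⟩
    have hφt : D.φ ⟨D.t, htK⟩ = 1 := (D.φ_ker _).2 (Subgroup.subset_closure (Or.inr rfl))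
    have hkksq : (k : G) * k = D.t := by
      set x : K D := ⟨k, hkK⟩
      have hxsq : (x : G) * x = 1 ∨ (x : G) * x = D.t := sq_cases D (h := kH) (by
        rw [← hk, ← map_mul, ft10, map_one])
      have hφ1 : D.φ x ≠ 1 := fun h1 => by
        obtain ⟨i, hi⟩ := mem_closure_zt D ((D.φ_ker x).1 h1)
        have hzi : D.z ^ i ∈ K D := zpow_mem (zK' D).2 i
        have hpr1 : pr D (zH D) ^ i = pr D kH := by
          rw [← map_zpow]
          refine (pr_eq_pr D).2 ?_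
          rcases hi with e | e
          · exact Or.inl (by push_cast; exact e)
          · exact Or.inr (by push_cast; exact e)
        have hm : (fF * tF) = zF ^ i := hinj (by rw [map_zpow, hk, ← hZ, hzm]; exact hpr1.symm)
        rcases zpow_three_cases (show zF ^ 3 = 1 from facts_comm.2.2.2.2.2.2.2.1) i with e | e | e <;>
          rw [e] at hm <;> exact absurd hm (by decide +kernel)
      have hφ2 : D.φ x * D.φ x = 1 := by
        rw [← map_mul]
        rcases hxsq with e | e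
        · rw [show x * x = 1 from Subtype.ext e, map_one]
        · rw [show x * x = ⟨D.t, htK⟩ from Subtype.ext e, hφt]
      have heven : D.φ x ∈ alternatingGroup (Fin 5) := by
        have h3 : ∀ w : K D, (w : G) ^ 3 = 1 → Perm.sign (D.φ w) = 1 := fun w hw => by
          have h : Perm.sign (D.φ w) ^ 3 = 1 := by
            rw [← map_pow, ← map_pow, show w ^ 3 = 1 from Subtype.ext (by push_cast; exact hw),
              map_one, map_one]
          rcases Int.units_eq_one_or (Perm.sign (D.φ w)) with e | e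
          · exact e
          · rw [e] at h; exact absurd h (by decide)
        rw [Perm.mem_alternatingGroup]
        rcases huv with e | e
        · rw [show x = ⟨u, huK⟩ * ⟨v, hvK⟩ from Subtype.ext e, map_mul, map_mul,
            h3 ⟨u, huK⟩ hu3, h3 ⟨v, hvK⟩ hv3, one_mul]
        · rw [show x = ⟨u, huK⟩ * ⟨v, hvK⟩ * ⟨D.t, htK⟩ from Subtype.ext e, map_mul, map_mul,
            hφt, map_one, mul_one, map_mul, map_mul, h3 ⟨u, huK⟩ hu3, h3 ⟨v, hvK⟩ hv3, one_mul]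
      rcases hxsq with e | e
      · exfalso
        have h := D.φ_quat x heven hφ1 hφ2
        rw [e, one_mul] at h
        obtain ⟨n, hn⟩ := h
        have hn' : D.z ^ n = D.t := hn
        have := z_cube D
        have h3 : D.t ^ 3 = 1 := by
          rw [← hn', ← zpow_natCast, ← zpow_mul, mul_comm, zpow_mul, zpow_natCast, this, one_zpow]
        rw [pow_succ, pow_two, t_sq D, one_mul] at h3
        exact t_ne_one D h3
      · exact e
    -- the conjugate of `k`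
    set g1 : H D := zH D ^ l.1 * aH D ^ j.1 * gH D with hg1def
    have hg1pr : pr D g1 = g := by
      rw [hg1def, map_mul, map_mul, map_pow, map_pow, ← hzm, ← hdm, hg, hw, map_mul, map_pow,
        map_pow]
    have hgk' : g * ψ (fF * tF) * g⁻¹ = ψ eF := by
      rw [map_mul, ← conj_mul, hX2, gt, ← map_mul, mul_assoc, tt, mul_one]
    have hgk : (g1 : G) * k * (g1 : G)⁻¹ = E₀ ∨ (g1 : G) * k * (g1 : G)⁻¹ = E₀ * D.t := by
      have h : pr D eH = pr D (g1 * kH * g1⁻¹) := by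
        rw [map_mul, map_mul, map_inv, hg1pr, ← hk, hgk', hE₀]
      exact (pr_eq_pr D).1 h
    have hEsq : (E₀ : G) * E₀ = D.t := by
      have hc' : Commute (g1 : G) D.t := (mem_H D).1 g1.2
      have e : (g1 : G) * k * (g1 : G)⁻¹ * ((g1 : G) * k * (g1 : G)⁻¹) = D.t := by
        rw [conj_mul, hkksq, hc'.eq, mul_inv_cancel_right]
      rcases hgk with h | h <;> rw [h] at e
      · exact e
      · rwa [mul_assoc, ← mul_assoc D.t, ← hEt.eq, mul_assoc (E₀ : G), t_sq D, mul_one] at e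
    have hkE : Commute (k : G) E₀ := by
      have hone : ∀ w : H D, (w : G) ^ 3 = 1 → ∀ m : KF, pr D w = ψ m → eF * m * eF⁻¹ = m →
          Commute (w : G) E₀ := fun w hw m hm he => by
        refine (mul_inv_eq_iff_eq_mul.1 (eq_of_three D (x := w) (y := eH * w * eH⁻¹) hw ?_ ?_)).symm
        · show ((E₀ : G) * w * (E₀ : G)⁻¹) ^ 3 = 1
          rw [conj_pow, hw, mul_one, mul_inv_cancel]
        · rw [map_mul, map_mul, map_inv, ← hE₀, hm]
          exact (Hc he).symm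
      have h := (hone u hu3 _ hu ft6).mul_left (hone v hv3 _ hv ft7)
      rcases huv with e | e <;> rw [e]
      · exact h
      · exact h.mul_left hEt.symm
    have hkτ : (k : G) * τ = τ * k * D.t := by
      have hsame : pr D (yH * τH * yH⁻¹) = pr D (kH * τH) := by
        rw [map_mul, map_mul, map_inv, map_mul, ← hYl, ← hτ, ← hk, Hc ft8, ← map_mul, ft9]
      have hττ : (τ : G) * τ = 1 ∨ (τ : G) * τ = D.t := sq_cases D (h := τH) (by
        rw [← hτ, ← map_mul, tt, map_one])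
      have hsq' : (k : G) * τ * ((k : G) * τ) = τ * τ := by
        have hYt : Commute (Y : G) D.t := Y.2.1
        have e1 : (Y : G) * τ * (Y : G)⁻¹ * ((Y : G) * τ * (Y : G)⁻¹) = τ * τ := by
          rw [conj_mul]
          rcases hττ with e | e <;> rw [e]
          · rw [mul_one, mul_inv_cancel]
          · rw [hYt.eq, mul_inv_cancel_right]
        rcases (pr_eq_pr D).1 hsame with e | e
        · have e' : (k : G) * τ = Y * τ * (Y : G)⁻¹ := e
          rw [e', e1]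
        · have e' : (k : G) * τ = Y * τ * (Y : G)⁻¹ * D.t := e
          have hc' : Commute D.t ((Y : G) * τ * (Y : G)⁻¹) :=
            ((hYt.mul_left hτt).mul_left hYt.inv_left).symm
          rw [e', mul_assoc, ← mul_assoc D.t, hc'.eq, mul_assoc ((Y : G) * τ * (Y : G)⁻¹) D.t,
            t_sq D, mul_one, e1]
      have h1 : (k : G) * τ * k = τ := mul_right_cancel (b := (τ : G)) (by
        rw [mul_assoc ((k : G) * τ)]; exact hsq')
      calc (k : G) * τ = (k : G) * τ * k * (k : G)⁻¹ := by rw [mul_inv_cancel_right]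
        _ = τ * (k : G)⁻¹ := by rw [h1]
        _ = τ * k * D.t := by
          rw [mul_assoc]
          congr 1
          exact inv_eq_of_mul_eq_one_right (by rw [← mul_assoc, hkksq, t_sq D])
    -- the element `c`
    have hcL : c ∈ L D := ⟨hct, Or.inr hcz⟩
    set cH : H D := ⟨c, L_le_H D hcL⟩
    obtain ⟨m, hm⟩ : ∃ m, ψ m = pr D cH := ⟨F ⟨c, hcL⟩, hψ _⟩
    obtain ⟨i, i', hm'⟩ := invert_both m
      (hinj (by
        rw [map_mul, map_mul, map_inv, map_inv, hm, ← hZ, hzm, ← map_inv, ← map_mul, ← map_mul,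
          ← map_inv]
        congr 1
        exact Subtype.ext hcz))
      (hinj (by
        rw [map_mul, map_mul, map_inv, map_inv, hm, ← hE, hdm, ← map_inv, ← map_mul, ← map_mul,
          ← map_inv]
        congr 1
        exact Subtype.ext hca))
    have hjm : ((zH D ^ i.1 * aH D ^ i'.1 : H D) : G) ∈ D.toTop.J := by
      push_cast
      exact mul_mem (pow_mem (z_mem_J D) _) (pow_mem (a_mem_J D) _)
    have hline : ∀ (h : L D) (md : KF), ψ md = pr D ⟨h, L_le_H D h.2⟩ →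
        (md * dF * md⁻¹ = dF ∨ md * dF * md⁻¹ = dF⁻¹) → ∀ x ∈ W D, act (h : G) x ∈ W D := by
      intro h md hmd hd x hx
      refine conj_mem_W D h.2.1 h.2.2 ?_ hx
      rcases hd with e | e
      · refine Or.inl (eq_of_three D (x := aH D)
          (y := ⟨h, L_le_H D h.2⟩ * aH D * (⟨h, L_le_H D h.2⟩)⁻¹) (a_cube D) ?_ ?_)
        · show ((h : G) * D.a * (h : G)⁻¹) ^ 3 = 1
          rw [conj_pow, a_cube, mul_one, mul_inv_cancel]
        · rw [map_mul, map_mul, map_inv, ← hmd, ← hdm]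
          exact (Hc e).symm
      · refine Or.inr (eq_of_three D (x := (aH D)⁻¹)
          (y := ⟨h, L_le_H D h.2⟩ * aH D * (⟨h, L_le_H D h.2⟩)⁻¹) ?_ ?_ ?_)
        · show (D.a⁻¹) ^ 3 = 1
          rw [inv_pow, a_cube, inv_one]
        · show ((h : G) * D.a * (h : G)⁻¹) ^ 3 = 1
          rw [conj_pow, a_cube, mul_one, mul_inv_cancel]
        · rw [map_mul, map_mul, map_inv, map_inv, ← hmd, ← hdm]
          exact ((Hc e).trans (map_inv _ _)).symm
    have hkW : ∀ x ∈ W D, act (k : G) x ∈ W D := hline k _ hk (Or.inr fd)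
    have hEW : ∀ x ∈ W D, act (E₀ : G) x ∈ W D := hline E₀ _ hE₀ (Or.inl ed)
    have hτW : ∀ x ∈ W D, act (τ : G) x ∈ W D := hline τ _ hτ (Or.inl td)
    have hg1W : ∀ x ∈ W D, act (g1 : G) x = act D.g x := fun x hx => by
      have e : (g1 : G) = (zH D ^ l.1 * aH D ^ j.1 : H D) * D.g := rfl
      rw [e, act_mul]
      refine conj_J_W D ?_ (conj_g_mem_W D hx)
      push_cast
      exact mul_mem (pow_mem (z_mem_J D) _) (pow_mem (a_mem_J D) _)
    have actJ : ∀ (r : G), (∀ x ∈ W D, act r x ∈ W D) → ∀ x ∈ W D,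
        act ((zH D ^ i.1 * aH D ^ i'.1 : H D) * r) x = act r x := fun r hr x hx => by
      rw [act_mul]; exact conj_J_W D hjm (hr x hx)
    have hkt1 : Commute ((k : G) * D.t) D.t := hkt'.mul_left (Commute.refl _)
    -- either `k` or `k * t` fits
    suffices ∃ k' : G, (k' = k ∨ k' = k * D.t) ∧
        ((∀ x ∈ W D, act c x = act (k' * E₀) x) ∨ (∀ x ∈ W D, act c x = act (k' * E₀ * τ) x)) by
      obtain ⟨k', hk', hcW⟩ := this
      rcases hk' with rfl | rfl
      · exact not_wr D hkksq hEsq hkE hkτ hτt hkt' hg1W hgk hkW hEW hτW hc2 hg2 hgc hcW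
      · refine not_wr D ?_ hEsq (hkE.mul_left hEt.symm) ?_ hτt hkt1 hg1W ?_ ?_ hEW hτW hc2 hg2
          hgc hcW
        · rw [mul_assoc, ← mul_assoc D.t, ← hkt'.eq, mul_assoc (k : G) D.t, t_sq D, mul_one, hkksq]
        · rw [mul_assoc, ← hτt.eq, ← mul_assoc, hkτ]; simp only [mul_assoc]
        · have hc' : Commute (g1 : G) D.t := (mem_H D).1 g1.2
          have e : (g1 : G) * (k * D.t) * (g1 : G)⁻¹ = (g1 : G) * k * (g1 : G)⁻¹ * D.t := by
            rw [mul_assoc, mul_assoc (k : G), ← hc'.inv_left.eq]; simp only [mul_assoc]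
          rw [e]
          rcases hgk with h | h <;> rw [h]
          · exact Or.inr rfl
          · exact Or.inl (by rw [mul_assoc, t_sq D, mul_one])
        · intro x hx
          rw [act_mul]
          exact hkW _ (by rw [act_t D hx]; exact inv_mem hx)
    have hkEW : ∀ (k' : G), (∀ x ∈ W D, act k' x ∈ W D) → ∀ x ∈ W D, act (k' * E₀) x ∈ W D :=
      fun k' hk' x hx => by rw [act_mul]; exact hk' _ (hEW x hx)
    have hktW : ∀ x ∈ W D, act ((k : G) * D.t) x ∈ W D := fun x hx => by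
      rw [act_mul]; exact hkW _ (by rw [act_t D hx]; exact inv_mem hx)
    rcases hm' with e | e
    · have h : pr D (zH D ^ i.1 * aH D ^ i'.1 * (kH * eH)) = pr D cH := by
        rw [← hm, e]
        simp only [map_mul, map_pow, ← hzm, ← hdm, ← hk, ← hE₀, ← hZ, ← hE]
      rcases (pr_eq_pr D).1 h with h1 | h1
      · refine ⟨k, Or.inl rfl, Or.inl fun x hx => ?_⟩
        rw [show c = (zH D ^ i.1 * aH D ^ i'.1 : H D) * ((k : G) * E₀) from h1]
        exact actJ _ (hkEW _ hkW) x hx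
      · refine ⟨k * D.t, Or.inr rfl, Or.inl fun x hx => ?_⟩
        have h2 : c = (zH D ^ i.1 * aH D ^ i'.1 : H D) * ((k : G) * E₀) * D.t := h1
        rw [h2, mul_assoc _ _ D.t, mul_assoc (k : G), hEt.eq, ← mul_assoc (k : G)]
        exact actJ _ (hkEW _ hktW) x hx
    · have h : pr D (zH D ^ i.1 * aH D ^ i'.1 * (kH * eH * τH)) = pr D cH := by
        rw [← hm, e]
        simp only [map_mul, map_pow, ← hzm, ← hdm, ← hk, ← hE₀, ← hτ, ← hZ, ← hE]
      have hall : ∀ k' : G, (∀ x ∈ W D, act k' x ∈ W D) →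
          ∀ x ∈ W D, act (k' * E₀ * τ) x ∈ W D := fun k' hk' x hx => by
        rw [act_mul]; exact hkEW _ hk' _ (hτW x hx)
      rcases (pr_eq_pr D).1 h with h1 | h1
      · refine ⟨k, Or.inl rfl, Or.inr fun x hx => ?_⟩
        rw [show c = (zH D ^ i.1 * aH D ^ i'.1 : H D) * ((k : G) * E₀ * τ) from h1]
        exact actJ _ (hall _ hkW) x hx
      · refine ⟨k * D.t, Or.inr rfl, Or.inr fun x hx => ?_⟩
        have h2 : c = (zH D ^ i.1 * aH D ^ i'.1 : H D) * ((k : G) * E₀ * τ) * D.t := h1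
        have e3 : (k : G) * E₀ * τ * D.t = (k : G) * D.t * E₀ * τ := by
          rw [mul_assoc _ (τ : G), hτt.eq, ← mul_assoc, mul_assoc (k : G) (E₀ : G) D.t, hEt.eq,
            ← mul_assoc (k : G)]
        rw [h2, mul_assoc _ _ D.t, e3]
        exact actJ _ (hall _ hktW) x hx
  have hS : S.IsSym := S.isSym_or_isWr.resolve_right hnX
  have hbig : ¬ centralizer (S.V : Set (X D)) ≤ S.ψ.range := fun hW =>
    S.not_badFive hS (S.badFive hS hW)
  obtain ⟨s, hs, hsc⟩ := S.sym_comm hS hbig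
  obtain ⟨Θ⟩ := S.iso_of_comm hS s hs hsc
  exact ⟨Θ.toMonoidHom, Θ.injective, fun y _ => ⟨Θ.symm y, Θ.apply_symm_apply y⟩⟩

end CfsgLib.McLThree.CentT
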