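import Mathlib
import Cfsg.Agent.Lib.McLThree.CentTAlt
import Cfsg.Agent.Lib.McLThree.CentTSym
import Cfsg.Agent.Lib.McLThree.CentTPerm

/-!
Piece P3: the centraliser of `t` contains the double cover of the alternating group of degree
eight, and is generated by it and the centraliser of `z`.
-/

set_option autoImplicit false
set_option linter.style.haveILetI false

namespace CfsgLib.McLThree

open Subgroup Equiv

universe u

namespace CentT

variable {G : Type u} [Group G]

/-- A frame: the quotient by `t` embedded in `Sym 8`. -/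
theorem exists_model [Finite G] (D : Loc G) (hY : CentY D) :
    ∃ j : X D →* Perm (Fin 8), Function.Injective j ∧ alternatingGroup (Fin 8) ≤ j.range := by
  obtain ⟨F, hker, hz, ha, h | ⟨h, -⟩⟩ := exists_param D
  · exact exists_model_alt D hY F hker hz ha h
  · exact exists_model_sym D hY F hker hz ha h

theorem mem_K_of_pr {D : Loc G} {h : H D} (hh : Commute (pr D h) (pr D (zH D))) :
    (h : G) ∈ K D := by
  refine (mem_K D).2 ⟨mul_inv_eq_iff_eq_mul.1 ?_, (mem_H D).1 h.2⟩
  refine eq_of_three D (x := zH D) (y := h * zH D * h⁻¹) (z_cube D) ?_ ?_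
  · show ((h : G) * D.z * (h : G)⁻¹) ^ 3 = 1
    rw [conj_pow, z_cube, mul_one, mul_inv_cancel]
  · rw [map_mul, map_mul, map_inv, hh.eq, mul_inv_cancel_right]

/-- An element of order five commuting with the image of `z`. -/
theorem exists_five (D : Loc G) :
    ∃ f : X D, f ^ 5 = 1 ∧ f ≠ 1 ∧ Commute f (pr D (zH D)) := by
  set c5 : Perm (Fin 5) := swap 0 1 * swap 1 2 * swap 2 3 * swap 3 4 with hc5
  obtain ⟨x, hx⟩ : c5 ∈ D.φ.range := D.φ_range (Perm.mem_alternatingGroup.2 (by decide))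
  obtain ⟨i, hi⟩ := mem_closure_zt D ((D.φ_ker (x ^ 5)).1 (by
    rw [map_pow, hx, hc5]; decide +kernel))
  let h : H D := ⟨x, x.2.2⟩
  refine ⟨pr D h ^ 6, ?_, fun h1 => ?_, ?_⟩
  · rw [← pow_mul, show 6 * 5 = 5 * 6 from rfl, pow_mul, ← map_pow, ← map_pow]
    refine (pr_eq_one D).2 (Or.inl ?_)
    have hz6 : (D.z ^ i) ^ 6 = 1 := by
      rw [← zpow_natCast, ← zpow_mul, mul_comm, zpow_mul, zpow_natCast,
        show 6 = 3 * 2 from rfl, pow_mul, z_cube, one_pow, one_zpow]
    have ht6 : D.t ^ 6 = 1 := by rw [show 6 = 2 * 3 from rfl, pow_mul, pow_two, t_sq D, one_pow]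
    show ((x : G) ^ 5) ^ 6 = 1
    rcases hi with e | e
    · rw [show (x : G) ^ 5 = D.z ^ i by simpa using e, hz6]
    · rw [show (x : G) ^ 5 = D.z ^ i * D.t by simpa using e,
        ((D.tz.zpow_right i).symm).mul_pow, hz6, ht6, one_mul]
  · rw [← map_pow] at h1
    have hφ : D.φ (x ^ 6) = 1 := by
      refine (D.φ_ker _).2 ?_
      rcases (pr_eq_one D).1 h1 with e | e
      · rw [show ((x ^ 6 : K D) : G) = 1 from e]; exact one_mem _
      · rw [show ((x ^ 6 : K D) : G) = D.t from e]; exact Subgroup.subset_closure (Or.inr rfl)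
    rw [map_pow, hx, hc5] at hφ
    exact absurd hφ (by decide +kernel)
  · refine Commute.pow_left ?_ 6
    show pr D h * pr D (zH D) = pr D (zH D) * pr D h
    rw [← map_mul, ← map_mul]
    congr 1
    exact Subtype.ext ((mem_K D).1 x.2).1.eq

/-- The frame can be chosen with the images of `z` and `a` equal to `(0 1 2)` and `(3 4 5)`. -/
theorem exists_frame8 [Finite G] (D : Loc G) (hY : CentY D) :
    ∃ j : X D →* Perm (Fin 8), Function.Injective j ∧ alternatingGroup (Fin 8) ≤ j.range ∧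
      j (pr D (zH D)) = c012 ∧ j (pr D (aH D)) = c345 := by
  obtain ⟨j, hj, halt⟩ := exists_model D hY
  set Z := pr D (zH D) with hZ
  set A := pr D (aH D) with hA
  set p := j Z with hp
  set q := j A with hq
  have hp3 : p ^ 3 = 1 := by
    rw [hp, hZ, ← map_pow, ← map_pow, show zH D ^ 3 = 1 from Subtype.ext (z_cube D), map_one,
      map_one]
  have hp1 : p ≠ 1 := fun h => pr_z_ne_one D (hj (h.trans (map_one j).symm))
  obtain ⟨f, hf5, hf1, hfc⟩ := exists_five D
  obtain ⟨σ₀, hσ₀⟩ := isConj_iff.1 (isConj_c012 hp3 hp1 (f := j f)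
    (by rw [← map_pow, hf5, map_one]) (fun h => hf1 (hj (h.trans (map_one j).symm)))
    ((hfc.map j).symm))
  obtain ⟨hgz, -⟩ := pr_g_conj D
  set π := σ₀ * j (pr D (gH D)) * σ₀⁻¹ with hπ
  have hq1 : σ₀ * q * σ₀⁻¹ = π * c012 * π⁻¹ := by
    rw [hq, hA, ← hgz, map_mul, map_mul, map_inv, ← hσ₀, hp, hZ, hπ]
    group
  have hcomm : Commute (π * c012 * π⁻¹) c012 := by
    rw [← hq1, ← hσ₀]
    exact (((pr_za_comm D).symm.map j).map (MulAut.conj σ₀).toMonoidHom)
  have hconj : ∀ x y : X D, σ₀ * j x * σ₀⁻¹ = σ₀ * j y * σ₀⁻¹ → x = y := fun x y h =>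
    hj (mul_left_cancel (mul_right_cancel h))
  rcases commuting_conj hcomm with h | h | ⟨σ₁, h1, h2⟩
  · exact absurd (hconj Z A (hσ₀.trans (hq1.trans h).symm)) (pr_z_ne_a D)
  · exfalso
    have e : σ₀ * j Z⁻¹ * σ₀⁻¹ = σ₀ * j A * σ₀⁻¹ := by
      rw [map_inv, ← conj_inv, ← hp, hσ₀, ← h, ← hq1]
    have e' := hconj _ _ e
    rw [hZ, hA, ← map_inv] at e'
    refine (a_ne_z D).2 (eq_of_three D (x := (zH D)⁻¹) (y := aH D) ?_ (a_cube D) e')
    show (D.z⁻¹) ^ 3 = 1
    rw [inv_pow, z_cube, inv_one]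
  refine ⟨(MulAut.conj (σ₁ * σ₀)).toMonoidHom.comp j, (MulAut.conj _).injective.comp hj,
    fun y hy => ?_, ?_, ?_⟩
  · have hy' : (σ₁ * σ₀)⁻¹ * y * (σ₁ * σ₀) ∈ alternatingGroup (Fin 8) := by
      rw [Perm.mem_alternatingGroup] at hy ⊢
      rw [map_mul, map_mul _ _ y, map_inv, hy, mul_one, inv_mul_cancel]
    obtain ⟨x, hx⟩ := halt hy'
    refine ⟨x, ?_⟩
    show σ₁ * σ₀ * j x * (σ₁ * σ₀)⁻¹ = y
    rw [hx]; group
  · show σ₁ * σ₀ * j Z * (σ₁ * σ₀)⁻¹ = c012
    calc σ₁ * σ₀ * j Z * (σ₁ * σ₀)⁻¹ = σ₁ * (σ₀ * p * σ₀⁻¹) * σ₁⁻¹ := by rw [hp]; group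
      _ = c012 := by rw [hσ₀, h1]
  · show σ₁ * σ₀ * j A * (σ₁ * σ₀)⁻¹ = c345
    calc σ₁ * σ₀ * j A * (σ₁ * σ₀)⁻¹ = σ₁ * (σ₀ * q * σ₀⁻¹) * σ₁⁻¹ := by rw [hq]; group
      _ = c345 := by rw [hq1, h2]

end CentT

open CentT in
/-- Piece P3. -/
theorem centT : StmtCentT.{u} := by
  intro G _ _ D hY
  classical
  obtain ⟨j, hj, halt, hjz, hja⟩ := exists_frame8 D hY
  obtain ⟨hl0, hl6, hlA, huv, hu3, hv3, huz, hvz, hus, hvs, hww, ⟨hw1, hw2, hw3⟩, h34c, h34s⟩ :=
    letters
  have hpre : ∀ y : Perm (Fin 8), y ∈ j.range → y ^ 3 = 1 →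
      ∃ h : H D, j (pr D h) = y ∧ (h : G) ^ 3 = 1 := by
    rintro _ ⟨p, rfl⟩ h3
    obtain ⟨h, hh, hh3⟩ := exists_lift_three D (p := p) (hj (by rw [map_pow, h3, map_one]))
    exact ⟨h, by rw [hh], hh3⟩
  have hlet : ∀ i : Fin 6, ∃ h : H D, j (pr D h) = altLet i.castSucc ∧ (h : G) ^ 3 = 1 := fun i =>
    hpre _ (halt (altLet_facts.1 _)) (altLet_cube _)
  choose TH hT hT3 using hlet
  set T : Fin 6 → G := fun i => (TH i : G) with hTdef
  set LH : Fin 7 → H D := Fin.snoc TH 1 with hLH
  have hfun : (fun k => j (pr D (LH k))) = altLet := by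
    funext k
    refine Fin.lastCases ?_ (fun i => ?_) k
    · rw [hLH, Fin.snoc_last, map_one, map_one]; exact hl6.symm
    · rw [hLH, Fin.snoc_castSucc, hT]
  have hsub : (fun k => ((LH k : H D) : G)) = Fin.snoc T 1 := by
    funext k
    refine Fin.lastCases ?_ (fun i => ?_) k
    · rw [hLH, Fin.snoc_last, Fin.snoc_last]; rfl
    · rw [hLH, Fin.snoc_castSucc, Fin.snoc_castSucc]
  have hTz : T 0 = D.z := eq_of_three D (x := zH D) (y := TH 0) (z_cube D) (hT3 0)
    (hj (by rw [hjz, hT]; exact hl0.symm))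
  have hTa : val (Fin.snoc T 1) wordA = D.a := by
    have e1 : ((val LH wordA : H D) : G) = val (Fin.snoc T 1) wordA := by
      have h := cover_map_val (H D).subtype LH wordA
      exact h.trans (congrArg (fun L => val L wordA) hsub)
    have e2 : val LH wordA =
        (LH 1 * LH 3 * LH 0 * (LH 2)⁻¹) * LH 0 * (LH 1 * LH 3 * LH 0 * (LH 2)⁻¹)⁻¹ := by
      simp [val, wordA]
      group
    rw [← e1]
    refine eq_of_three D (x := aH D) (y := val LH wordA) (a_cube D) ?_ (hj ?_)
    · have h03 : ((LH 0 : H D) : G) ^ 3 = 1 := by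
        show ((LH (0 : Fin 6).castSucc : H D) : G) ^ 3 = 1
        rw [hLH, Fin.snoc_castSucc]; exact hT3 0
      rw [e2]
      push_cast
      rw [conj_pow, h03, mul_one, mul_inv_cancel]
    · rw [hja, ← hlA]
      have h := cover_map_val (j.comp (pr D)) LH wordA
      exact (h.trans (congrArg (fun L => val L wordA) hfun)).symm
  -- double transpositions lift to elements with square `t`
  obtain ⟨u, hju, hu⟩ := hpre c345 (halt (Perm.mem_alternatingGroup.2 hus)) hu3
  obtain ⟨v, hjv, hv⟩ := hpre c456 (halt (Perm.mem_alternatingGroup.2 hvs)) hv3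
  have hinK : ∀ h : H D, j (pr D h) * c012 = c012 * j (pr D h) → (h : G) ∈ K D := fun h hh =>
    mem_K_of_pr (hj (by rw [map_mul, map_mul, hjz]; exact hh))
  have huK : (u : G) ∈ K D := hinK u (by rw [hju]; exact huz)
  have hvK : (v : G) ∈ K D := hinK v (by rw [hjv]; exact hvz)
  set x : K D := ⟨u, huK⟩ * ⟨v, hvK⟩ with hx
  have hjx : j (pr D (u * v)) = w3456 := by rw [map_mul, map_mul, hju, hjv, huv]
  have hxx : ((u * v : H D) : G) * (u * v : H D) = D.t := by
    have hxsq : ((u * v : H D) : G) * (u * v : H D) = 1 ∨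
        ((u * v : H D) : G) * (u * v : H D) = D.t :=
      sq_cases D (hj (by rw [map_mul, hjx, hww, map_one]))
    rcases hxsq with e | e
    · exfalso
      have htK : D.t ∈ K D := (mem_K D).2 ⟨D.tz, Commute.refl _⟩
      have h3 : ∀ w : K D, (w : G) ^ 3 = 1 → Perm.sign (D.φ w) = 1 := fun w hw => by
        have h : Perm.sign (D.φ w) ^ 3 = 1 := by
          rw [← map_pow, ← map_pow, show w ^ 3 = 1 from Subtype.ext (by push_cast; exact hw),
            map_one, map_one]
        rcases Int.units_eq_one_or (Perm.sign (D.φ w)) with e | e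
        · exact e
        · rw [e] at h; exact absurd h (by decide)
      have heven : D.φ x ∈ alternatingGroup (Fin 5) := by
        rw [Perm.mem_alternatingGroup, hx, map_mul, map_mul, h3 ⟨u, huK⟩ hu, h3 ⟨v, hvK⟩ hv,
          one_mul]
      have hφ1 : D.φ x ≠ 1 := fun h1 => by
        obtain ⟨i, hi⟩ := mem_closure_zt D ((D.φ_ker x).1 h1)
        have hpr1 : pr D (zH D ^ i) = pr D (u * v) := by
          refine (pr_eq_pr D).2 ?_
          rcases hi with e | e
          · exact Or.inl (by push_cast; simpa [hx, zH] using e)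
          · exact Or.inr (by push_cast; simpa [hx, zH] using e)
        have hm : c012 ^ i = w3456 := by rw [← hjx, ← hpr1, map_zpow, map_zpow, hjz]
        rcases zpow_three_cases five_facts.1 i with e | e | e <;> rw [e] at hm
        exacts [hw1 hm.symm, hw2 hm.symm, hw3 hm.symm]
      have hφ2 : D.φ x * D.φ x = 1 := by
        rw [← map_mul, show x * x = 1 from Subtype.ext e, map_one]
      have h := D.φ_quat x heven hφ1 hφ2
      rw [show (x : G) * x = 1 from e, one_mul] at h
      obtain ⟨n, hn⟩ := h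
      have hn' : D.z ^ n = D.t := hn
      have ht3 : D.t ^ 3 = 1 := by
        rw [← hn', ← zpow_natCast, ← zpow_mul, mul_comm, zpow_mul, zpow_natCast, z_cube, one_zpow]
      rw [pow_succ, pow_two, t_sq D, one_mul] at ht3
      exact t_ne_one D ht3
    · exact e
  have hquat : ∀ i k, i ≠ k → T i * T k * (T i * T k) = D.t := by
    intro i k hik
    obtain ⟨hse, hs⟩ := toPair_spec i k hik
    obtain ⟨p, hp⟩ := halt (Perm.mem_alternatingGroup.2 hse)
    obtain ⟨h, rfl⟩ := pr_surjective D p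
    have he : pr D (h * (u * v) * h⁻¹) = pr D (TH i * TH k) := hj (by
      rw [map_mul, map_mul, map_inv, map_mul, map_mul, map_inv, hp, hjx, hs, map_mul, map_mul, hT,
        hT])
    have hht : Commute (h : G) D.t := (mem_H D).1 h.2
    have hsq : ((h * (u * v) * h⁻¹ : H D) : G) * (h * (u * v) * h⁻¹ : H D) = D.t := by
      rw [Subgroup.coe_mul, Subgroup.coe_mul, Subgroup.coe_inv, conj_mul, hxx, hht.eq,
        mul_inv_cancel_right]
    rcases (pr_eq_pr D).1 he with e | e
    · show ((TH i * TH k : H D) : G) * (TH i * TH k : H D) = D.t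
      rw [e]; exact hsq
    · show ((TH i * TH k : H D) : G) * (TH i * TH k : H D) = D.t
      rw [e]
      set w : H D := h * (u * v) * h⁻¹
      have hwt : Commute D.t (w : G) := ((mem_H D).1 w.2).symm
      rw [mul_assoc, ← mul_assoc D.t, hwt.eq, mul_assoc (w : G) D.t, t_sq D, mul_one]
      exact hsq
  -- the even elements
  have htS : D.t ∈ closure (Set.range T) := by
    rw [← hquat 0 1 (by decide)]
    have h0 : T 0 ∈ closure (Set.range T) := Subgroup.subset_closure ⟨0, rfl⟩
    have h1 : T 1 ∈ closure (Set.range T) := Subgroup.subset_closure ⟨1, rfl⟩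
    exact mul_mem (mul_mem h0 h1) (mul_mem h0 h1)
  have hpart : ∀ h : H D, Perm.sign (j (pr D h)) = 1 → (h : G) ∈ closure (Set.range T) := by
    intro h hh
    have hclo : j (pr D h) ∈ closure (Set.range altLet) :=
      alt_le_closure (Perm.mem_alternatingGroup.2 hh)
    have hrange : Set.range altLet = (j.comp (pr D)) '' Set.range LH := by
      rw [← Set.range_comp]; exact congrArg Set.range hfun.symm
    rw [hrange, ← MonoidHom.map_closure] at hclo
    obtain ⟨h', hh', e⟩ := hclo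
    have hh'S : (h' : G) ∈ closure (Set.range T) := by
      have hle : closure (Set.range LH) ≤ (closure (Set.range T)).comap (H D).subtype := by
        rw [closure_le]
        rintro _ ⟨k, rfl⟩
        refine Fin.lastCases ?_ (fun i => ?_) k
        · rw [hLH, Fin.snoc_last]; exact one_mem _
        · rw [hLH, Fin.snoc_castSucc]
          exact Subgroup.subset_closure ⟨i, rfl⟩
      exact hle hh'
    rcases (pr_eq_pr D).1 (hj e) with e' | e' <;> rw [e']
    · exact hh'S
    · exact mul_mem hh'S htS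
  refine ⟨⟨T, hT3, hquat, fun i => (mem_H D).1 (TH i).2, hTz, hTa, ?_, fun g hg => ?_⟩⟩
  swap
  · -- conjugates of the letters are even
    rw [mem_normalizer_iff_map_conj_eq]
    refine eq_of_le_of_card_ge ?_ (le_of_eq ?_)
    · rw [MonoidHom.map_closure, closure_le]
      rintro _ ⟨_, ⟨i, rfl⟩, rfl⟩
      refine hpart (⟨g, hg⟩ * TH i * (⟨g, hg⟩)⁻¹) ?_
      rw [map_mul, map_mul, map_inv, map_mul, map_mul, map_inv, map_mul, map_mul, map_inv, hT,
        Perm.mem_alternatingGroup.1 (altLet_facts.1 _), mul_one, mul_inv_cancel]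
    · exact Nat.card_congr
        ((closure (Set.range T)).equivMapOfInjective _ (MulAut.conj g).injective).toEquiv
  -- generation
  refine le_antisymm (fun g hg => ?_) (sup_le ((closure_le _).2 ?_) inf_le_right)
  swap
  · rintro _ ⟨i, rfl⟩
    exact (TH i).2
  set S := closure (Set.range T) ⊔ (centralizer ({D.z} : Set G) ⊓ centralizer ({D.t} : Set G))
    with hS
  have hleS : closure (Set.range T) ≤ S := le_sup_left
  set h : H D := ⟨g, hg⟩
  rcases Int.units_eq_one_or (Perm.sign (j (pr D h))) with e | e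
  · exact hleS (hpart h e)
  obtain ⟨p, hp⟩ : swap (3 : Fin 8) 4 ∈ j.range := by
    have h1 : swap (3 : Fin 8) 4 * (j (pr D h))⁻¹ ∈ j.range := halt (by
      rw [Perm.mem_alternatingGroup, map_mul, map_inv, h34s, e]; decide)
    have := mul_mem h1 (⟨pr D h, rfl⟩ : j (pr D h) ∈ j.range)
    rwa [inv_mul_cancel_right] at this
  obtain ⟨k, rfl⟩ := pr_surjective D p
  have hkK : (k : G) ∈ K D := hinK k (by rw [hp]; exact h34c)
  have h1 : ((h * k : H D) : G) ∈ S := hleS <| hpart _ (by
    rw [map_mul, map_mul, map_mul, e, hp, h34s]; decide)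
  have := mul_mem h1 (inv_mem (le_sup_right (a := closure (Set.range T)) hkK))
  rwa [Subgroup.coe_mul, mul_inv_cancel_right] at this

end CfsgLib.McLThree
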