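import Cfsg.Agent.Lib.McLThree.CentYCubeSix

/-!
# The cube with local centralizers is normal
-/

set_option autoImplicit false

namespace CfsgLib.McLThree

open Subgroup CubeAux

universe u

/-- The cube with local centralizers is normal. -/
theorem cube_top : StmtCubeTop.{u} := by
  intro M _ _ c
  obtain ⟨F⟩ := exists_fours c
  by_cases h : ∀ h : normalizer (c.J : Set M), Equiv.Perm.sign (aff F h).1.1 = 1
  · exact top_of_even F h
  · push Not at h
    obtain ⟨x, hx⟩ := h
    exact top_of_odd F ⟨x, (Int.units_eq_one_or _).resolve_left hx⟩

end CfsgLib.McLThree
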