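import Cfsg.Agent.Lib.McLThree.CentYFrameDefs

/-!
# The normalizer of `J` in the centraliser of `y` acts monomially with determinant one

The axes are the vectors carrying two conjugates of `z`. An element fixing the first axis acts on
the elements inverted by `t` and commutes there up to sign with an element inverting `a`, which
moves the other two axes to the diagonals: so it is no reflection.
-/

set_option autoImplicit false
set_option maxRecDepth 100000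
set_option synthInstance.maxSize 4000
set_option synthInstance.maxHeartbeats 400000
set_option linter.unusedSectionVars false
set_option linter.unreachableTactic false
set_option linter.unusedTactic false
set_option linter.unnecessarySeqFocus false

namespace CfsgLib.McLThree.CentY

open Subgroup Equiv CfsgLib.McLThree.Six
open scoped Pointwise

universe u

/-- The value at a vector of the linear map with the given images of the basis. -/
def cubeLin (A : Fin 3 → Cube3) (v : Cube3) : Cube3 :=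
  fun j => v 0 * A 0 j + v 1 * A 1 j + v 2 * A 2 j

/-- The determinant of the images of the basis. -/
def cubeDet (A : Fin 3 → Cube3) : ZMod 3 :=
  A 0 0 * (A 1 1 * A 2 2 - A 1 2 * A 2 1) - A 1 0 * (A 0 1 * A 2 2 - A 0 2 * A 2 1) +
    A 2 0 * (A 0 1 * A 1 2 - A 0 2 * A 1 1)

/-- The basis. -/
def cubeBase (i : Fin 3) : Cube3 := fun j => if j = i then 1 else 0

theorem axis_of_inZ : ∀ (w : Cube3) (l c : ZMod 3), (∀ k : ZMod 3, InZ (k + l) w ↔ k ≠ c) →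
    (∃ i : Fin 3, w i ≠ 0 ∧ ∀ j, j ≠ i → w j = 0) ∧ l = w 0 - c := by
  decide +kernel

theorem inZ_axis : ∀ (i : Fin 3) (k : ZMod 3), InZ k (cubeBase i) ↔ k ≠ cubeBase i 0 := by
  decide +kernel

theorem mono_of_det : ∀ (j : Fin 3 → Fin 3) (s : Fin 3 → ZMod 3),
    cubeDet (fun i k => if k = j i then s i else 0) = 1 →
    ∃ p : Perm (Fin 3), ∃ q : Fin 3 → ZMod 3, (∀ i, q i ≠ 0) ∧
      ((Equiv.Perm.sign p : ℤˣ) : ℤ) * ∏ i, (if q i = 1 then (1 : ℤ) else -1) = 1 ∧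
      ∀ i k, (if k = j i then s i else 0) = q k * cubeBase i (p.symm k) := by
  decide +kernel

theorem no_reflection : ∀ p q r s : ZMod 3, (p = 0 ∧ s = 0 ∧ q ≠ 0 ∧ r ≠ 0) ∨
      (q = 0 ∧ r = 0 ∧ p ≠ 0 ∧ s ≠ 0) →
    ∀ a b c d : ZMod 3, a ≠ 0 → b ≠ 0 → c ≠ 0 → d ≠ 0 → a * d - b * c ≠ 0 →
    ∀ e : ZMod 3, e ≠ 0 →
      p * a + q * c = e * (a * p + b * r) → p * b + q * d = e * (a * q + b * s) →
      r * a + s * c = e * (c * p + d * r) → r * b + s * d = e * (c * q + d * s) →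
      p * s - q * r = 1 := by
  decide +kernel

theorem inZ_diag : ∀ a b : ZMod 3, InZ 2 ![2, a, b] → a ≠ 0 ∧ b ≠ 0 := by
  decide +kernel

variable {G : Type u} [Group G] [Finite G] {D : Top G} {P : Model D} {S : Swap P}

namespace Frame

variable (F : Frame S)

theorem pt_inj {k l : ZMod 3} {v w : Cube3} (h : F.pt k v = F.pt l w) : k = l ∧ v = w :=
  F.inj k l v w h

theorem pt_neg (k : ZMod 3) (v : Cube3) : F.pt (-k) (-v) = (F.pt k v)⁻¹ :=
  eq_inv_of_mul_eq_one_left (by rw [← F.pt_add, neg_add_cancel, neg_add_cancel, F.pt_zero])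

theorem pt_pow (k : ZMod 3) (v : Cube3) (n : ℕ) :
    F.pt k v ^ n = F.pt ((n : ZMod 3) * k) (fun i => (n : ZMod 3) * v i) := by
  induction n with
  | zero =>
    rw [pow_zero, ← F.pt_zero]
    congr 1
    · simp
    · funext i; simp
  | succ n ih =>
    rw [pow_succ, ih, ← F.pt_add]
    congr 1
    · push_cast; ring
    · funext i; simp only [Pi.add_apply]; push_cast; ring

theorem pt_basis (v : Cube3) : F.pt 0 v = F.pt 0 (cubeBase 0) ^ (v 0).val *
    F.pt 0 (cubeBase 1) ^ (v 1).val * F.pt 0 (cubeBase 2) ^ (v 2).val := by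
  simp only [pt_pow, ← F.pt_add, mul_zero, add_zero, ZMod.natCast_zmod_val]
  congr 1
  funext i
  fin_cases i <;> simp [cubeBase]

theorem conj_lin {g : G} {l : Fin 3 → ZMod 3} {A : Fin 3 → Cube3}
    (h : ∀ i, g * F.pt 0 (cubeBase i) * g⁻¹ = F.pt (l i) (A i)) (v : Cube3) :
    g * F.pt 0 v * g⁻¹ = F.pt (v 0 * l 0 + v 1 * l 1 + v 2 * l 2) (cubeLin A v) := by
  have e : g * F.pt 0 v * g⁻¹ = (g * F.pt 0 (cubeBase 0) * g⁻¹) ^ (v 0).val *
      (g * F.pt 0 (cubeBase 1) * g⁻¹) ^ (v 1).val * (g * F.pt 0 (cubeBase 2) * g⁻¹) ^ (v 2).val := by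
    rw [conj_pow, conj_pow, conj_pow, F.pt_basis v]
    group
  rw [e, h, h, h]
  simp only [pt_pow, ← F.pt_add, ZMod.natCast_zmod_val]
  congr 1

theorem pt_k (k : ZMod 3) : F.pt k 0 = (D.z * S.b) ^ k.val := by
  simp [pt, point]

theorem pt_w2 : F.pt 0 ![0, 1, 0] = F.w₂ := by simp [pt, point, ZMod.val_one]

theorem pt_w3 : F.pt 0 ![0, 0, 1] = F.w₃ := by simp [pt, point, ZMod.val_one]

theorem t_pt (k : ZMod 3) (v : Cube3) :
    D.t * F.pt k v * D.t⁻¹ = F.pt k ![v 0, -v 1, -v 2] := by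
  have hneg : ∀ {x : G}, x ∈ D.J → ∀ i : ZMod 3, (x ^ i.val)⁻¹ = x ^ (-i).val := by
    intro x hx i
    refine inv_eq_of_mul_eq_one_right ?_
    rw [← pow_add_val hx, add_neg_cancel, ZMod.val_zero, pow_zero]
  have h1 : D.t * (D.z * S.b) * D.t⁻¹ = D.z * S.b := fix_of_commute (D.tz.mul_right S.bt)
  have h2 : D.t * D.z * D.t⁻¹ = D.z := fix_of_commute D.tz
  simp only [pt, point]
  rw [show D.t * ((D.z * S.b) ^ k.val * (D.z ^ (v 0).val * F.w₂ ^ (v 1).val * F.w₃ ^ (v 2).val)) *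
      D.t⁻¹ = (D.t * (D.z * S.b) * D.t⁻¹) ^ k.val * ((D.t * D.z * D.t⁻¹) ^ (v 0).val *
        (D.t * F.w₂ * D.t⁻¹) ^ (v 1).val * (D.t * F.w₃ * D.t⁻¹) ^ (v 2).val) by
      simp only [conj_pow]; group,
    h1, h2, F.hw₂.2, F.hw₃.2, inv_pow, inv_pow, hneg F.hw₂.1, hneg F.hw₃.1]
  rfl

theorem inW_pt {x : G} (hx : InW D x) : ∃ p q, x = F.pt 0 ![0, p, q] := by
  obtain ⟨k, v, e⟩ := F.surj x hx.1
  have e' : F.pt k v = x := e
  have h := F.t_pt k v
  rw [e', hx.2, ← e', ← F.pt_neg] at h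
  obtain ⟨h1, h2⟩ := F.pt_inj h
  have h3 : ∀ c : ZMod 3, -c = c → c = 0 := by decide
  refine ⟨v 1, v 2, ?_⟩
  rw [← e', h3 k h1]
  congr 1
  funext i
  fin_cases i
  · exact h3 _ (congrFun h2 0)
  · rfl
  · rfl

end Frame

variable (F : Frame S)

/-- The data of an element of the normalizer fixing `y`. -/
theorem mono_data {h : G} (hJ : h ∈ normalizer (D.J : Set G))
    (hy : h * (D.z * S.b) * h⁻¹ = D.z * S.b) :
    ∃ (A : Fin 3 → Cube3) (l : Fin 3 → ZMod 3) (j : Fin 3 → Fin 3) (s : Fin 3 → ZMod 3),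
      (∀ i, h * F.pt 0 (cubeBase i) * h⁻¹ = F.pt (l i) (A i)) ∧
      (∀ i k, A i k = if k = j i then s i else 0) ∧ (∀ i, s i ≠ 0) ∧
      (∀ i, l i = A i 0 - cubeBase i 0) ∧
      ∀ k v, h * F.pt k v * h⁻¹ = F.pt (k + (v 0 * l 0 + v 1 * l 1 + v 2 * l 2)) (cubeLin A v) := by
  choose l A hA using fun i => F.surj _ (conj_memJ hJ (F.pt_mem 0 (cubeBase i)))
  have hA' : ∀ i, h * F.pt 0 (cubeBase i) * h⁻¹ = F.pt (l i) (A i) := fun i => (hA i).symm
  have hfull : ∀ k v, h * F.pt k v * h⁻¹ =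
      F.pt (k + (v 0 * l 0 + v 1 * l 1 + v 2 * l 2)) (cubeLin A v) := by
    intro k v
    have e : F.pt k v = F.pt k 0 * F.pt 0 v := by rw [← F.pt_add, add_zero, zero_add]
    rw [e, show h * (F.pt k 0 * F.pt 0 v) * h⁻¹ = h * F.pt k 0 * h⁻¹ * (h * F.pt 0 v * h⁻¹) by group,
      F.conj_lin hA', F.pt_k, ← conj_pow, hy, ← F.pt_k, ← F.pt_add, zero_add]
  have hax : ∀ i, (∃ m : Fin 3, A i m ≠ 0 ∧ ∀ k, k ≠ m → A i k = 0) ∧
      l i = A i 0 - cubeBase i 0 := by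
    intro i
    refine axis_of_inZ _ _ _ fun k => ?_
    rw [← inZ_axis i k, ← F.table, ← F.table]
    have e : F.pt (k + l i) (A i) = h * F.pt k (cubeBase i) * h⁻¹ := by
      rw [show F.pt k (cubeBase i) = F.pt k 0 * F.pt 0 (cubeBase i) by
        rw [← F.pt_add, add_zero, zero_add],
        show h * (F.pt k 0 * F.pt 0 (cubeBase i)) * h⁻¹ =
          h * F.pt k 0 * h⁻¹ * (h * F.pt 0 (cubeBase i) * h⁻¹) by group,
        F.pt_k, ← conj_pow, hy, ← F.pt_k, hA', ← F.pt_add, zero_add]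
    show ZC D (F.pt (k + l i) (A i)) ↔ ZC D (F.pt k (cubeBase i))
    rw [e]
    constructor
    · intro hz
      have h3 := hz.conj (inv_mem hJ)
      rwa [show h⁻¹ * (h * F.pt k (cubeBase i) * h⁻¹) * h⁻¹⁻¹ = F.pt k (cubeBase i) by group] at h3
    · intro hz
      exact ZC.conj hz hJ
  choose j hj0 hj using fun i => (hax i).1
  refine ⟨A, l, j, fun i => A i (j i), hA', fun i k => ?_, hj0, fun i => (hax i).2, hfull⟩
  by_cases hk : k = j i
  · rw [if_pos hk, hk]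
  · rw [if_neg hk, hj i k hk]

/-- An element fixing `y` and the first axis has determinant one. -/
theorem det_fix {h : G} (hJ : h ∈ normalizer (D.J : Set G))
    (hy : h * (D.z * S.b) * h⁻¹ = D.z * S.b) {A : Fin 3 → Cube3} {l : Fin 3 → ZMod 3}
    (hA : ∀ i, h * F.pt 0 (cubeBase i) * h⁻¹ = F.pt (l i) (A i))
    (hl : ∀ i, l i = A i 0 - cubeBase i 0) (h0 : A 0 = cubeBase 0)
    (hax : ∀ i, ∃ m : Fin 3, A i m ≠ 0 ∧ ∀ k, k ≠ m → A i k = 0) : cubeDet A = 1 := by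
  have hl0 : l 0 = 0 := by rw [hl 0, h0, sub_self]
  have hez : cubeBase 0 = ![1, 0, 0] := by decide
  have hhz : h * D.z * h⁻¹ = D.z := by
    rw [← F.pt_z, ← hez, hA, h0, hl0]
  have hhb : h * S.b * h⁻¹ = S.b := by
    have e : h * (D.z * S.b) * h⁻¹ = h * D.z * h⁻¹ * (h * S.b * h⁻¹) := by group
    rw [hy, hhz] at e
    exact (mul_left_cancel e).symm
  have hha : h * D.a * h⁻¹ = D.a := by
    rcases S.a_cases with e | e <;> rw [e]
    · exact hhb
    · rw [← conj_inv, hhb]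
  -- the elements inverted by `t` go to such
  have hinj : ∀ i : Fin 3, i ≠ 0 → A i 0 = 0 := by
    intro i hi
    obtain ⟨m, hm, hm'⟩ := hax i
    by_contra hne
    have hm0 : m = 0 := by
      by_contra h'
      exact hne (hm' 0 (Ne.symm h'))
    -- two axes would have the same image
    set v : Cube3 := fun k => cubeBase i k - A i 0 * cubeBase 0 k with hv
    have hlin : cubeLin A v = 0 := by
      have hi' := (by decide : ∀ i : Fin 3, i ≠ 0 → i = 1 ∨ i = 2) i hi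
      funext k
      have hAi : A i k = A i 0 * cubeBase 0 k := by
        by_cases hk : k = 0
        · subst hk; simp [cubeBase]
        · rw [hm' k (by rw [hm0]; exact hk)]; simp [cubeBase, hk]
      rcases hi' with rfl | rfl
      · simp only [cubeLin, hv, h0, Pi.zero_apply]
        rw [hAi]; simp [cubeBase] <;> split_ifs <;> simp
      · simp only [cubeLin, hv, h0, Pi.zero_apply]
        rw [hAi]; simp [cubeBase] <;> split_ifs <;> simp
    have e := F.conj_lin hA v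
    rw [hlin] at e
    have e2 : F.pt 0 v = F.pt (v 0 * l 0 + v 1 * l 1 + v 2 * l 2) 0 := by
      have h3 := congrArg (fun x => h⁻¹ * x * h) e
      try simp only at h3
      rw [show h⁻¹ * (h * F.pt 0 v * h⁻¹) * h = F.pt 0 v by group, F.pt_k,
        show h⁻¹ * (D.z * S.b) ^ (v 0 * l 0 + v 1 * l 1 + v 2 * l 2).val * h =
          (h⁻¹ * (h * (D.z * S.b) * h⁻¹) ^ (v 0 * l 0 + v 1 * l 1 + v 2 * l 2).val * h) by rw [hy],
        conj_pow] at h3
      rw [h3, F.pt_k]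
      group
    have h4 : cubeBase i i - A i 0 * cubeBase 0 i = 0 := congrFun (F.pt_inj e2).2 i
    simp [cubeBase, hi] at h4
  have hl1 : l 1 = 0 := by rw [hl 1, hinj 1 (by decide)]; simp [cubeBase]
  have hl2 : l 2 = 0 := by rw [hl 2, hinj 2 (by decide)]; simp [cubeBase]
  -- replace `h` by an element commuting with `t`
  set K := centralizer ({D.z} : Set G) ⊓ centralizer ({D.t} : Set G) with hK
  have hKQ : K ≤ normalizer (D.Q : Set G) := fun x hx =>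
    normQ D (Or.inl (mul_inv_eq_iff_eq_mul.2 (mem_centralizer_singleton_iff.1 hx.1)))
  obtain ⟨q, hq, x, hx, hqx⟩ : ∃ q ∈ D.Q, ∃ x ∈ K, h = q * x := by
    have hmC : h ∈ centralizer ({D.z} : Set G) :=
      mem_centralizer_singleton_iff.2 (mul_inv_eq_iff_eq_mul.1 hhz)
    rw [D.gen_z] at hmC
    have h' : h ∈ ((D.Q : Set G) * (K : Set G)) := by
      rw [← coe_mul_of_right_le_normalizer_left _ _ hKQ]; exact hmC
    obtain ⟨q, hq, x, hx, e⟩ := Set.mem_mul.1 h'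
    exact ⟨q, hq, x, hx, e.symm⟩
  obtain ⟨haK, h3a, hnea⟩ := phi_a (D := D)
  have hxa : x * D.a * x⁻¹ = D.a := by
    have e1 : x * D.a * x⁻¹ = q⁻¹ * D.a * q := by
      have e : q * (x * D.a * x⁻¹) * q⁻¹ = D.a := by
        nth_rw 2 [← hha]; rw [hqx]; group
      calc x * D.a * x⁻¹ = q⁻¹ * (q * (x * D.a * x⁻¹) * q⁻¹) * q := by group
        _ = _ := by rw [e]
    refine kt_a (x := ⟨x, hx⟩) (Or.inl rfl) haK haK ?_
    have hw : D.φ (⟨x, hx⟩ * ⟨D.a, haK⟩ * (⟨x, hx⟩ : ↥K)⁻¹ * (⟨D.a, haK⟩ : ↥K)⁻¹) = 1 := by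
      refine (D.φ_ker _).2 ?_
      show x * D.a * x⁻¹ * D.a⁻¹ ∈ closure ({D.z, D.t} : Set G)
      have hQ : x * D.a * x⁻¹ * D.a⁻¹ ∈ D.Q := by
        rw [e1, show q⁻¹ * D.a * q * D.a⁻¹ = q⁻¹ * (D.a * q * D.a⁻¹) by group]
        exact mul_mem (inv_mem hq) (conj_memQ D (normQ D (Or.inl
          (mul_inv_eq_iff_eq_mul.2 D.za.symm.eq))) hq)
      have hct : Commute (x * D.a * x⁻¹ * D.a⁻¹) D.t :=
        mem_centralizer_singleton_iff.1
          (mul_mem (mul_mem (mul_mem hx haK) (inv_mem hx)) (inv_mem haK)).2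
      have hz : x * D.a * x⁻¹ * D.a⁻¹ ∈ zpowers D.z := by
        set c := x * D.a * x⁻¹ * D.a⁻¹
        have h2 := D.tQ c hQ
        rw [← hct.eq, mul_inv_cancel_right] at h2
        have h3 := cubeQ D hQ
        rw [show c = (c * c)⁻¹ from eq_inv_of_mul_eq_one_left (by rwa [pow_succ, pow_two, mul_assoc] at h3)]
        exact inv_mem h2
      exact (zpowers_le.2 (subset_closure (by simp))) hz
    rw [map_mul, map_mul, map_mul, map_inv, map_inv, mul_inv_eq_one] at hw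
    exact hw
  have hqJ : q ∈ D.J := by
    refine FF_le_J D ⟨hq, mem_centralizer_singleton_iff.2 (mul_inv_eq_iff_eq_mul.1 ?_)⟩
    nth_rw 2 [← hha]
    rw [hqx, show q * x * D.a * (q * x)⁻¹ = q * (x * D.a * x⁻¹) * q⁻¹ by group, hxa]
  have hxact : ∀ g ∈ D.J, x * g * x⁻¹ = h * g * h⁻¹ := by
    intro g hg
    have hm : x * g * x⁻¹ ∈ D.J := by
      have h' := conj_memJ hJ hg
      rw [hqx] at h'
      have h2 := mul_mem (mul_mem (inv_mem hqJ) h') hqJ
      rwa [show q⁻¹ * (q * x * g * (q * x)⁻¹) * q = x * g * x⁻¹ by group] at h2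
    rw [hqx, show q * x * g * (q * x)⁻¹ = q * (x * g * x⁻¹) * q⁻¹ by group,
      (J_comm D hqJ hm).eq, mul_inv_cancel_right]
  -- an element inverting `a`
  obtain ⟨k, hk, hka, hk1, hk2, -⟩ := exists_k (D := D)
  obtain ⟨σ, hσ⟩ := five_conj _ h3a hnea
  have hcz : Commute k D.z := mem_centralizer_singleton_iff.1 hk.1
  have hct : Commute k D.t := mem_centralizer_singleton_iff.1 hk.2
  have hkJ : k ∈ normalizer (D.J : Set G) := normJ_of (hKQ hk) (Or.inr hka)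
  let X : ↥K := ⟨x, hx⟩
  let Y : ↥K := ⟨k, hk⟩
  let Aa : ↥K := ⟨D.a, haK⟩
  let c : ↥K →* Perm (Fin 5) := (MulAut.conj σ).toMonoidHom.comp D.φ
  have hca : c Aa = fa := hσ
  have hcX : c X * fa = fa * c X := by
    rw [← hca, ← map_mul, ← map_mul]
    congr 1
    exact Subtype.ext (mul_inv_eq_iff_eq_mul.1 hxa)
  have hcY : c Y * fa * (c Y)⁻¹ = fa⁻¹ := by
    rw [← hca, ← map_mul, ← map_inv, ← map_inv, ← map_mul]
    congr 1
    exact Subtype.ext hka
  have hcY2 : c Y * c Y = 1 := by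
    show σ * D.φ Y * σ⁻¹ * (σ * D.φ Y * σ⁻¹) = 1
    rw [← cmul, hk2, mul_one, mul_inv_cancel]
  obtain ⟨s, hs, hsc⟩ := five_shift (c X) (c Y) hcX hcY hcY2
  obtain ⟨n, hn⟩ : ∃ n : ℕ, s = c (Aa ^ n) := by
    simp only [List.mem_cons, List.not_mem_nil, or_false] at hs
    rcases hs with rfl | rfl | rfl
    · exact ⟨0, by simp⟩
    · exact ⟨1, by rw [pow_one, hca]⟩
    · exact ⟨2, by rw [map_pow, hca, pow_two]⟩
  set X' : ↥K := Aa ^ n * X with hX'
  have hker : D.φ (Y * X' * Y⁻¹ * X'⁻¹) = 1 := by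
    have e : c (Y * X' * Y⁻¹ * X'⁻¹) = 1 := by
      rw [map_mul, map_mul, map_mul, map_inv, map_inv, map_mul, ← hn, hsc]
      group
    exact conj_eq_one_iff.1 e
  obtain ⟨ζ, hζ, hcase⟩ := mem_closure_zt ((D.φ_ker _).1 hker)
  -- on the elements inverted by `t`
  have hX'act : ∀ g ∈ D.J, (X' : G) * g * (X' : G)⁻¹ = h * g * h⁻¹ := by
    intro g hg
    rw [show (X' : G) = D.a ^ n * x by simp [hX', X, Aa],
      show D.a ^ n * x * g * (D.a ^ n * x)⁻¹ = D.a ^ n * (x * g * x⁻¹) * (D.a ^ n)⁻¹ by group,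
      hxact g hg, (J_comm D (pow_mem (a_mem_J D) n) (conj_memJ hJ hg)).eq, mul_inv_cancel_right]
  have hkW : ∀ {w : G}, InW D w → InW D (k * w * k⁻¹) := by
    intro w hw
    refine ⟨conj_memJ hkJ hw.1, ?_⟩
    calc D.t * (k * w * k⁻¹) * D.t⁻¹ = D.t * k * w * (D.t * k)⁻¹ := by group
      _ = k * D.t * w * (k * D.t)⁻¹ := by rw [hct.eq]
      _ = k * (D.t * w * D.t⁻¹) * k⁻¹ := by group
      _ = _ := by rw [hw.2, conj_inv]
  have hxW : ∀ {w : G}, InW D w → InW D ((X' : G) * w * (X' : G)⁻¹) := by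
    intro w hw
    have hxt : Commute (X' : G) D.t := mem_centralizer_singleton_iff.1 X'.2.2
    refine ⟨by rw [hX'act w hw.1]; exact conj_memJ hJ hw.1, ?_⟩
    calc D.t * ((X' : G) * w * (X' : G)⁻¹) * D.t⁻¹
        = D.t * (X' : G) * w * (D.t * (X' : G))⁻¹ := by group
      _ = (X' : G) * D.t * w * ((X' : G) * D.t)⁻¹ := by rw [hxt.eq]
      _ = (X' : G) * (D.t * w * D.t⁻¹) * (X' : G)⁻¹ := by group
      _ = _ := by rw [hw.2, conj_inv]
  obtain ⟨e, he0, he⟩ : ∃ e : ZMod 3, e ≠ 0 ∧ ∀ w, InW D w →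
      k * (h * w * h⁻¹) * k⁻¹ = (h * (k * w * k⁻¹) * h⁻¹) ^ e.val := by
    have hyx : (Y : G) * (X' : G) =
        ((Y * X' * Y⁻¹ * X'⁻¹ : ↥K) : G) * (X' : G) * (Y : G) := by simp [mul_assoc]
    have key : ∀ w, InW D w → k * (h * w * h⁻¹) * k⁻¹ =
        ((Y * X' * Y⁻¹ * X'⁻¹ : ↥K) : G) * (h * (k * w * k⁻¹) * h⁻¹) *
          ((Y * X' * Y⁻¹ * X'⁻¹ : ↥K) : G)⁻¹ := by
      intro w hw
      rw [← hX'act w hw.1, ← hX'act _ (hkW hw).1,
        show k * ((X' : G) * w * (X' : G)⁻¹) * k⁻¹ =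
          (Y : G) * (X' : G) * w * ((Y : G) * (X' : G))⁻¹ by simp [Y, mul_assoc], hyx]
      simp [Y, mul_assoc]
    rcases hcase with hc | hc
    · refine ⟨1, by decide, fun w hw => ?_⟩
      rw [key w hw, hc, ZMod.val_one, pow_one,
        (J_comm D (zp_J hζ) (conj_memJ hJ (hkW hw).1)).eq, mul_inv_cancel_right]
    · refine ⟨2, by decide, fun w hw => ?_⟩
      have hW : InW D (h * (k * w * k⁻¹) * h⁻¹) := by
        rw [← hX'act _ (hkW hw).1]; exact hxW (hkW hw)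
      rw [key w hw, hc, show ζ * D.t * (h * (k * w * k⁻¹) * h⁻¹) * (ζ * D.t)⁻¹ =
        ζ * (D.t * (h * (k * w * k⁻¹) * h⁻¹) * D.t⁻¹) * ζ⁻¹ by group, hW.2,
        (J_comm D (zp_J hζ) (inv_mem hW.1)).eq, mul_inv_cancel_right]
      show _ = (h * (k * w * k⁻¹) * h⁻¹) ^ 2
      refine inv_eq_of_mul_eq_one_right ?_
      rw [← pow_succ', cube_J hW.1]
  -- the matrices
  obtain ⟨a, b, hab⟩ := F.inW_pt (hkW F.hw₂)
  obtain ⟨c', d, hcd⟩ := F.inW_pt (hkW F.hw₃)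
  have hkzb : k * (D.z * S.b) * k⁻¹ = D.z * S.b⁻¹ := by
    have hkb : k * S.b * k⁻¹ = S.b⁻¹ := by
      rcases S.b_cases with eb | eb <;> rw [eb]
      · exact hka
      · rw [← conj_inv, hka]
    rw [show k * (D.z * S.b) * k⁻¹ = k * D.z * k⁻¹ * (k * S.b * k⁻¹) by group, hkb,
      hcz.eq, mul_inv_cancel_right]
  have hpt2 : F.pt 2 ![2, 0, 0] = D.z * S.b⁻¹ := by
    have e1 : F.pt 2 ![2, 0, 0] = (D.z * S.b) ^ 2 * D.z ^ 2 := by
      simp [Frame.pt, point]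
      rfl
    rw [e1, (J_comm D (z_mem_J D) S.bJ).mul_pow]
    have hb2 : S.b ^ 2 = S.b⁻¹ := eq_inv_of_mul_eq_one_left (by rw [← pow_succ, cube_J S.bJ])
    rw [hb2, mul_assoc, (J_comm D (inv_mem S.bJ) (pow_mem (z_mem_J D) 2)).eq, ← mul_assoc,
      ← pow_add, show 2 + 2 = 3 + 1 from rfl, pow_succ, z3, one_mul]
  have diag : ∀ (w : G) (v : Cube3) (p q : ZMod 3), w = F.pt 0 v → InZ 1 v →
      k * w * k⁻¹ = F.pt 0 ![0, p, q] → p ≠ 0 ∧ q ≠ 0 := by
    intro w v p q hwv hv hkw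
    have h1 : ZC D (F.pt 1 v) := (F.table 1 v).2 hv
    have h2 := h1.conj hkJ
    rw [show F.pt 1 v = F.pt 1 0 * F.pt 0 v by rw [← F.pt_add, add_zero, zero_add], ← hwv, F.pt_y,
      show k * (D.z * S.b * w) * k⁻¹ = k * (D.z * S.b) * k⁻¹ * (k * w * k⁻¹) by group, hkzb, hkw,
      ← hpt2, ← F.pt_add, F.zc_pt] at h2
    refine inZ_diag p q ?_
    have e : (![2, 0, 0] : Cube3) + ![0, p, q] = ![2, p, q] := by
      funext i; fin_cases i <;> simp
    rwa [e, show (2 : ZMod 3) + 0 = 2 from add_zero _] at h2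
  obtain ⟨ha0, hb0⟩ := diag _ _ a b F.pt_w2.symm (by decide) hab
  obtain ⟨hc0, hd0⟩ := diag _ _ c' d F.pt_w3.symm (by decide) hcd
  have hklin : ∀ v : Cube3, v 0 = 0 → k * F.pt 0 v * k⁻¹ =
      F.pt 0 ![0, v 1 * a + v 2 * c', v 1 * b + v 2 * d] := by
    intro v hv
    have e : F.pt 0 v = F.w₂ ^ (v 1).val * F.w₃ ^ (v 2).val := by
      simp [Frame.pt, point, hv]
    rw [e, show k * (F.w₂ ^ (v 1).val * F.w₃ ^ (v 2).val) * k⁻¹ =
      (k * F.w₂ * k⁻¹) ^ (v 1).val * (k * F.w₃ * k⁻¹) ^ (v 2).val by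
        rw [conj_pow, conj_pow]; group, hab, hcd, F.pt_pow, F.pt_pow, ← F.pt_add]
    congr 1 <;> first | (funext i; fin_cases i <;> simp) | simp
  have hdet : a * d - b * c' ≠ 0 := by
    intro h'
    have fin2 : ∀ a b c d : ZMod 3, a * d - b * c = 0 → a ≠ 0 → c ≠ 0 →
        c * a + (-a) * c = 0 ∧ c * b + (-a) * d = 0 := by decide +kernel
    obtain ⟨e1, e2⟩ := fin2 a b c' d h' ha0 hc0
    have hk' := hklin ![0, c', -a] rfl
    simp only [Matrix.cons_val_one, Matrix.cons_val_zero, Matrix.cons_val] at hk'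
    rw [e1, e2, show (![0, 0, 0] : Cube3) = 0 by funext i; fin_cases i <;> rfl, F.pt_zero] at hk'
    have h'' : F.pt 0 ![0, c', -a] = F.pt 0 0 := by
      rw [F.pt_zero]; exact conj_eq_one_iff.1 hk'
    exact hc0 (congrFun (F.pt_inj h'').2 1)
  have hhlin : ∀ v : Cube3, v 0 = 0 → h * F.pt 0 v * h⁻¹ =
      F.pt 0 ![0, v 1 * A 1 1 + v 2 * A 2 1, v 1 * A 1 2 + v 2 * A 2 2] := by
    intro v hv
    rw [F.conj_lin hA, hv, hl1, hl2]
    have h10 := hinj 1 (by decide)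
    have h20 := hinj 2 (by decide)
    congr 1 <;> first | (funext i; fin_cases i <;> simp [cubeLin, hv, h10, h20]) | simp
  have heq : ∀ v : Cube3, v 0 = 0 → ∀ i : Fin 3,
      (![0, (v 1 * A 1 1 + v 2 * A 2 1) * a + (v 1 * A 1 2 + v 2 * A 2 2) * c',
        (v 1 * A 1 1 + v 2 * A 2 1) * b + (v 1 * A 1 2 + v 2 * A 2 2) * d] : Cube3) i =
      e * (![0, (v 1 * a + v 2 * c') * A 1 1 + (v 1 * b + v 2 * d) * A 2 1,
        (v 1 * a + v 2 * c') * A 1 2 + (v 1 * b + v 2 * d) * A 2 2] : Cube3) i := by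
    intro v hv i
    have hW : InW D (F.pt 0 v) := by
      refine ⟨F.pt_mem 0 v, ?_⟩
      rw [F.t_pt, ← F.pt_neg]
      congr 1 <;> first | (funext i; fin_cases i <;> simp [hv]) | simp
    have h1 := he _ hW
    rw [hhlin v hv, hklin _ rfl, hklin v hv, hhlin _ rfl, F.pt_pow] at h1
    have h2 := congrFun (F.pt_inj h1).2 i
    simp only [Matrix.cons_val_one, Matrix.cons_val_zero, Matrix.cons_val,
      ZMod.natCast_zmod_val] at h2 ⊢
    exact h2
  have q1 := heq ![0, 1, 0] rfl 1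
  have q2 := heq ![0, 1, 0] rfl 2
  have q3 := heq ![0, 0, 1] rfl 1
  have q4 := heq ![0, 0, 1] rfl 2
  simp only [Matrix.cons_val_one, Matrix.cons_val_zero, Matrix.cons_val, one_mul, zero_mul,
    add_zero, zero_add] at q1 q2 q3 q4
  have hmon : (A 1 1 = 0 ∧ A 2 2 = 0 ∧ A 1 2 ≠ 0 ∧ A 2 1 ≠ 0) ∨
      (A 1 2 = 0 ∧ A 2 1 = 0 ∧ A 1 1 ≠ 0 ∧ A 2 2 ≠ 0) := by
    have hsep : ∀ v : Cube3, v 0 = 0 → v ≠ 0 →
        ¬ (v 1 * A 1 1 + v 2 * A 2 1 = 0 ∧ v 1 * A 1 2 + v 2 * A 2 2 = 0) := by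
      rintro v hv hv0 ⟨e1, e2⟩
      have h' := hhlin v hv
      rw [e1, e2, show (![0, 0, 0] : Cube3) = 0 by funext i; fin_cases i <;> rfl, F.pt_zero] at h'
      have h2 : F.pt 0 v = F.pt 0 0 := by rw [F.pt_zero]; exact conj_eq_one_iff.1 h'
      exact hv0 (F.pt_inj h2).2
    have fin3 : ∀ p q r s : ZMod 3, (p = 0 ∨ q = 0) → (r = 0 ∨ s = 0) →
        (∀ x y : ZMod 3, (x ≠ 0 ∨ y ≠ 0) → ¬ (x * p + y * r = 0 ∧ x * q + y * s = 0)) →
        (p = 0 ∧ s = 0 ∧ q ≠ 0 ∧ r ≠ 0) ∨ (q = 0 ∧ r = 0 ∧ p ≠ 0 ∧ s ≠ 0) := by decide +kernel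
    have hz : ∀ i, A i 1 = 0 ∨ A i 2 = 0 := by
      intro i
      obtain ⟨m, -, hm⟩ := hax i
      by_cases h1 : (1 : Fin 3) = m
      · exact Or.inr (hm 2 (by rw [← h1]; decide))
      · exact Or.inl (hm 1 h1)
    refine fin3 _ _ _ _ (hz 1) (hz 2) fun x y hxy => ?_
    refine hsep ![0, x, y] rfl fun h' => ?_
    rcases hxy with h'' | h''
    · exact h'' (congrFun h' 1)
    · exact h'' (congrFun h' 2)
  have hfin := no_reflection _ _ _ _ hmon a b c' d ha0 hb0 hc0 hd0 hdet e he0 q1 q2 q3 q4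
  simp only [cubeDet, h0, cubeBase]
  simp [hinj 1 (by decide), hinj 2 (by decide)]
  linear_combination hfin

/-- The monomial action. -/
theorem mono : StmtMono.{u} := by
  intro G _ _ D P S F h hJ hy
  obtain ⟨A, l, j, s, hA, hAs, hs, hl, hfull⟩ := mono_data F hJ hy
  suffices hdet : cubeDet A = 1 by
    obtain ⟨p, q, hq, hd, hpq⟩ := mono_of_det j s (by
      rw [← show A = fun i k => if k = j i then s i else 0 from funext fun i => funext (hAs i)]
      exact hdet)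
    refine ⟨⟨p, q, hq, hd⟩, fun k v =>
      ⟨k + (v 0 * l 0 + v 1 * l 1 + v 2 * l 2), (hfull k v).trans ?_⟩⟩
    congr 1
    funext i
    simp only [cubeLin, Mono.act, hAs, hpq]
    generalize hp : p.symm i = r
    fin_cases r <;> simp [cubeBase] <;> ring
  -- move the image of the first axis back to it
  obtain ⟨g, hg, hgy, L, m, hgA, hLdet, hfix⟩ : ∃ g : G, g ∈ normalizer (D.J : Set G) ∧
      g * (D.z * S.b) * g⁻¹ = D.z * S.b ∧ ∃ (L : Cube3 → Cube3) (m : ZMod 3 → Cube3 → ZMod 3),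
      (∀ k v, g * F.pt k v * g⁻¹ = F.pt (m k v) (L v)) ∧
      (∀ B : Fin 3 → Cube3, cubeDet (fun i => L (B i)) = cubeDet B) ∧ L (A 0) = cubeBase 0 := by
    have hu : F.u * (D.z * S.b) * F.u⁻¹ = D.z * S.b := by
      have h1 := F.u_act 1 0
      rw [show point D.z (D.z * S.b) F.w₂ F.w₃ 1 0 = F.pt 1 0 from rfl, F.pt_y] at h1
      rw [h1]; simp [point, ZMod.val_one]
    have hrJ : (S.r : G) ∈ normalizer (D.J : Set G) := P.MN S.r.2
    have hr : (S.r : G) * (D.z * S.b) * (S.r : G)⁻¹ = D.z * S.b := by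
      rw [show (S.r : G) * (D.z * S.b) * (S.r : G)⁻¹ =
        (S.r : G) * D.z * (S.r : G)⁻¹ * ((S.r : G) * S.b * (S.r : G)⁻¹) by group, S.rz, S.rb,
        (J_comm D S.bJ (z_mem_J D)).eq]
    have hua : ∀ k v, F.u * F.pt k v * F.u⁻¹ = F.pt (k - v 0 + v 2) ![v 2, v 0, v 1] := F.u_act
    have hra : ∀ k v, (S.r : G) * F.pt k v * (S.r : G)⁻¹ =
        F.pt (k + v 0) ![-v 0, v 1, -v 2] := F.r_act
    have comp : ∀ {g₁ g₂ : G} {m₁ m₂ : ZMod 3 → Cube3 → ZMod 3} {L₁ L₂ : Cube3 → Cube3},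
        (∀ k v, g₁ * F.pt k v * g₁⁻¹ = F.pt (m₁ k v) (L₁ v)) →
        (∀ k v, g₂ * F.pt k v * g₂⁻¹ = F.pt (m₂ k v) (L₂ v)) → ∀ k v,
        g₁ * g₂ * F.pt k v * (g₁ * g₂)⁻¹ = F.pt (m₁ (m₂ k v) (L₂ v)) (L₁ (L₂ v)) := by
      intro g₁ g₂ m₁ m₂ L₁ L₂ h1 h2 k v
      rw [← h1, ← h2]; group
    have ecomp : ∀ {g₁ g₂ : G}, g₁ * (D.z * S.b) * g₁⁻¹ = D.z * S.b →
        g₂ * (D.z * S.b) * g₂⁻¹ = D.z * S.b →
        g₁ * g₂ * (D.z * S.b) * (g₁ * g₂)⁻¹ = D.z * S.b := by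
      intro g₁ g₂ h1 h2
      rw [show g₁ * g₂ * (D.z * S.b) * (g₁ * g₂)⁻¹ = g₁ * (g₂ * (D.z * S.b) * g₂⁻¹) * g₁⁻¹ by
        group, h2, h1]
    have du : ∀ B : Fin 3 → Cube3, cubeDet (fun i => ![B i 2, B i 0, B i 1]) = cubeDet B := by
      intro B; simp [cubeDet]; ring
    have dr : ∀ B : Fin 3 → Cube3, cubeDet (fun i => ![-B i 0, B i 1, -B i 2]) = cubeDet B := by
      intro B; simp [cubeDet]; ring
    have hA0 : A 0 = fun k => if k = j 0 then s 0 else 0 := funext (hAs 0)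
    have h1 : s 0 = 1 ∨ s 0 = -1 :=
      (by decide : ∀ c : ZMod 3, c ≠ 0 → c = 1 ∨ c = -1) _ (hs 0)
    have fin0 : ∀ (i : Fin 3) (c : ZMod 3), c = 1 ∨ c = -1 →
        let w : Cube3 := fun k => if k = i then c else 0
        let U : Cube3 → Cube3 := fun v => ![v 2, v 0, v 1]
        let R : Cube3 → Cube3 := fun v => ![-v 0, v 1, -v 2]
        w = cubeBase 0 ∨ R w = cubeBase 0 ∨ U w = cubeBase 0 ∨ R (U w) = cubeBase 0 ∨
          U (U w) = cubeBase 0 ∨ R (U (U w)) = cubeBase 0 := by decide +kernel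
    rcases fin0 (j 0) (s 0) h1 with e | e | e | e | e | e <;> rw [← hA0] at e
    · exact ⟨1, one_mem _, by group, id, fun k _ => k, fun k v => by simp, fun B => rfl, e⟩
    · exact ⟨_, hrJ, hr, _, _, hra, dr, e⟩
    · exact ⟨_, F.uJ, hu, _, _, hua, du, e⟩
    · exact ⟨_, mul_mem hrJ F.uJ, ecomp hr hu, _, _, comp hra hua,
        fun B => (dr _).trans (du B), e⟩
    · exact ⟨_, mul_mem F.uJ F.uJ, ecomp hu hu, _, _, comp hua hua,
        fun B => (du _).trans (du B), e⟩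
    · exact ⟨_, mul_mem hrJ (mul_mem F.uJ F.uJ), ecomp hr (ecomp hu hu), _, _,
        comp hra (comp hua hua), fun B => (dr _).trans ((du _).trans (du B)), e⟩
  have hyy : g * h * (D.z * S.b) * (g * h)⁻¹ = D.z * S.b := by
    rw [show g * h * (D.z * S.b) * (g * h)⁻¹ = g * (h * (D.z * S.b) * h⁻¹) * g⁻¹ by group, hy, hgy]
  obtain ⟨A', l', j', s', hA', hAs', hs', hl', -⟩ := mono_data F (mul_mem hg hJ) hyy
  have hAL : ∀ i, A' i = L (A i) := fun i => by
    refine (F.pt_inj (k := l' i) (l := m (l i) (A i)) ?_).2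
    rw [← hA', ← hgA, ← hA i]; group
  rw [← hLdet A, ← show A' = fun i => L (A i) from funext hAL]
  refine det_fix F (mul_mem hg hJ) hyy hA' hl' (by rw [hAL, hfix]) fun i => ?_
  exact ⟨j' i, by rw [hAs']; simpa using hs' i, fun k hk => by rw [hAs', if_neg hk]⟩

end CfsgLib.McLThree.CentY
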