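import Cfsg.Agent.Lib.McLThree.CentYFrameDefs

/-!
# The centralisers of the vectors of odd weight

Conjugation in the normalizer of `J` fixing `y` reduces to `e₀`, where the element centralises `z`
and `a`, and to `(1, 1, 1)`, where a conjugate of it centralises `z` and an element inverted by `t`.
-/

set_option autoImplicit false
set_option linter.style.haveILetI false
set_option linter.unusedSectionVars false

namespace CfsgLib.McLThree.CentY

open Subgroup CfsgLib.McLThree.Six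

universe u

variable {G : Type u} [Group G] [Finite G] {D : Top G} {P : Model D} {S : Swap P} (F : Frame S)

/-- The rotation of the coordinates induced by `u`. -/
abbrev rotO (v : Cube3) : Cube3 := ![v 2, v 0, v 1]

/-- The sign change induced by `t`. -/
abbrev flipO (v : Cube3) : Cube3 := ![v 0, -v 1, -v 2]

/-- The first coordinate vector. -/
abbrev eO : Cube3 := ![1, 0, 0]

/-- The vector with all coordinates one. -/
abbrev oO : Cube3 := ![1, 1, 1]

theorem odd_cases : ∀ v : Cube3, OddWeight v → ∃ w ∈ [eO, rotO eO, rotO (rotO eO), oO, flipO oO,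
    rotO (flipO oO), rotO (rotO (flipO oO))], v = w ∨ v = -w := by
  decide +kernel

theorem inZ_facts : (∀ k, InZ k eO → k = 0 ∨ k = -1) ∧ ¬ InZ (-1) (-eO) ∧
    (∀ k, InZ k oO → k = 1) ∧ InZ 1 oO ∧ InZ 1 (flipO oO) := by
  decide +kernel

/-- The line of `v` is stabilised only inside the normalizer of `J`. -/
def GoodV (v : Cube3) : Prop := ∀ m : G, Commute m (D.z * S.b) →
  (∃ k, m * F.pt 0 v * m⁻¹ = F.pt k v) → m ∈ normalizer (D.J : Set G)

theorem y_mem : D.z * S.b ∈ D.J := mul_mem (z_mem_J D) S.bJ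

theorem t_y : Commute D.t (D.z * S.b) := D.tz.mul_right S.bt

theorem pt_neg (k : ZMod 3) (v : Cube3) : F.pt (-k) (-v) = (F.pt k v)⁻¹ := by
  refine eq_inv_of_mul_eq_one_left ?_
  rw [← F.pt_add, neg_add_cancel, neg_add_cancel, F.pt_zero]

theorem t_pt (k : ZMod 3) (v : Cube3) : D.t * F.pt k v * D.t⁻¹ = F.pt k (flipO v) := by
  have hw : ∀ {w : G}, InW D w → ∀ i : ZMod 3, D.t * w ^ i.val * D.t⁻¹ = w ^ (-i).val := by
    intro w hw i
    rw [← conj_pow, hw.2, inv_pow]
    refine inv_eq_of_mul_eq_one_right ?_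
    rw [← Frame.pow_add_val hw.1, add_neg_cancel, ZMod.val_zero, pow_zero]
  have hz : D.t * D.z ^ (v 0).val * D.t⁻¹ = D.z ^ (v 0).val :=
    fix_of_commute (D.tz.pow_right _)
  have hy : D.t * (D.z * S.b) ^ k.val * D.t⁻¹ = (D.z * S.b) ^ k.val :=
    fix_of_commute (t_y.pow_right _)
  simp only [Frame.pt, point]
  rw [cmul, cmul, cmul, hy, hz, hw F.hw₂, hw F.hw₃]
  rfl

theorem good_neg {v : Cube3} (h : GoodV F v) : GoodV F (-v) := by
  rintro m hm ⟨k, hk⟩
  refine h m hm ⟨-k, ?_⟩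
  have e0 : F.pt 0 v = (F.pt 0 (-v))⁻¹ := by
    rw [← pt_neg, neg_zero, neg_neg]
  have e1 : F.pt (-k) v = (F.pt k (-v))⁻¹ := by
    rw [← pt_neg, neg_neg]
  rw [e0, ← conj_inv, hk, e1]

/-- Transport along an element of the normalizer of `J` fixing `y`. -/
theorem good_conj {n : G} (hn : n ∈ normalizer (D.J : Set G))
    (hy : Commute n (D.z * S.b)) {v v' : Cube3} {f : ZMod 3}
    (hact : ∀ k, n * F.pt k v * n⁻¹ = F.pt (k + f) v') (h : GoodV F v) : GoodV F v' := by
  rintro m hm ⟨k, hk⟩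
  have hsplit : ∀ i, F.pt i v' = (D.z * S.b) ^ i.val * F.pt 0 v' := by
    intro i
    simp [Frame.pt, point]
  have key : m * F.pt f v' * m⁻¹ = F.pt (k + f) v' := by
    rw [hsplit f, cmul, hk, mul_inv_eq_iff_eq_mul.2 (hm.pow_right _).eq, hsplit k, ← mul_assoc,
      ← Frame.pow_add_val y_mem, ← hsplit, add_comm]
  have hm' : n⁻¹ * m * n ∈ normalizer (D.J : Set G) := by
    refine h _ ((hy.inv_left.mul_left hm).mul_left hy) ⟨k, ?_⟩
    have h0 := hact 0
    rw [zero_add] at h0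
    rw [show n⁻¹ * m * n * F.pt 0 v * (n⁻¹ * m * n)⁻¹ =
      n⁻¹ * (m * (n * F.pt 0 v * n⁻¹) * m⁻¹) * n by group, h0, key, ← hact k]
    group
  have e := mul_mem (mul_mem hn hm') (inv_mem hn)
  rwa [show n * (n⁻¹ * m * n) * n⁻¹ = m by group] at e

theorem u_y : Commute F.u (D.z * S.b) := by
  have h := F.u_act 1 0
  rw [show (![(0 : Cube3) 2, (0 : Cube3) 0, (0 : Cube3) 1] : Cube3) = 0 by decide] at h
  simp only [Pi.zero_apply, sub_zero, add_zero] at h
  have e : F.u * F.pt 1 0 * F.u⁻¹ = F.pt 1 0 := h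
  rw [F.pt_y] at e
  exact mul_inv_eq_iff_eq_mul.1 e

theorem good_rot {v : Cube3} (h : GoodV F v) : GoodV F (rotO v) := by
  refine good_conj F F.uJ (u_y F) (f := -v 0 + v 2) (fun k => ?_) h
  refine (F.u_act k v).trans ?_
  show F.pt _ _ = _
  congr 1
  ring

theorem good_flip {v : Cube3} (h : GoodV F v) : GoodV F (flipO v) :=
  good_conj F Pre.t_normJ t_y (f := 0) (fun k => by rw [add_zero, t_pt]) h

/-- A conjugate of a conjugate of `z` fixed in `J` is again one. -/
theorem zc_image {m x x' : G} (hx : ZC D x) (e : m * x * m⁻¹ = x') (hx' : x' ∈ D.J) : ZC D x' := by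
  obtain ⟨-, h, hh⟩ := hx
  exact ⟨hx', m * h, by rw [← e, ← hh]; group⟩

theorem good_e : GoodV F eO := by
  rintro m hm ⟨k, hk⟩
  rw [F.pt_z] at hk
  have hzc : ZC D (F.pt k eO) := zc_image zc_z hk (F.pt_mem _ _)
  have hmy : m * (D.z * S.b) * m⁻¹ = D.z * S.b := mul_inv_eq_iff_eq_mul.2 hm.eq
  rcases inZ_facts.1 k ((F.zc_pt _ _).1 hzc) with rfl | rfl
  · rw [F.pt_z] at hk
    have hmz : Commute m D.z := mul_inv_eq_iff_eq_mul.1 hk
    have hmb : Commute m S.b := by
      have h := hmz.inv_right.mul_right hm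
      rwa [inv_mul_cancel_left] at h
    refine normJ_of (normQ D (Or.inl hk)) (Or.inl (mul_inv_eq_iff_eq_mul.2 ?_))
    rcases S.a_cases with e | e <;> rw [e]
    exacts [hmb.eq, hmb.inv_right.eq]
  · exfalso
    have e1 : m * S.b * m⁻¹ = F.pt (-1) (-eO) := by
      have eb : S.b = (F.pt 0 eO)⁻¹ * (D.z * S.b) := by rw [F.pt_z, inv_mul_cancel_left]
      rw [eb, cmul, ← conj_inv, hmy, F.pt_z, hk, ← F.pt_y, ← pt_neg, neg_neg, ← F.pt_add]
      congr 1
      all_goals decide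
    exact inZ_facts.2.1 ((F.zc_pt _ _).1 (zc_image S.zc_b e1 (F.pt_mem _ _)))

theorem good_o : GoodV F oO := by
  rintro m hm ⟨k, hk⟩
  set w : G := F.w₂ * F.w₃ with hwdef
  have hwW : InW D w := F.hw₂.mul F.hw₃
  have hp0 : F.pt 0 oO = D.z * w := by
    simp [Frame.pt, point, oO, hwdef, ZMod.val_one, mul_assoc]
  have hp1 : F.pt 1 oO = D.z * S.b * (D.z * w) := by
    simp [Frame.pt, point, oO, hwdef, ZMod.val_one, mul_assoc]
  have hmy : m * (D.z * S.b) * m⁻¹ = D.z * S.b := mul_inv_eq_iff_eq_mul.2 hm.eq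
  have hz1 : ZC D (F.pt 1 oO) := (F.zc_pt _ _).2 inZ_facts.2.2.2.1
  have hk0 : k = 0 := by
    have e : m * F.pt 1 oO * m⁻¹ = F.pt (1 + k) oO := by
      rw [hp1, cmul, hmy, ← hp0, hk, ← F.pt_y, ← F.pt_add, zero_add]
    have := inZ_facts.2.2.1 _ ((F.zc_pt _ _).1 (zc_image hz1 e (F.pt_mem _ _)))
    simpa using this
  rw [hk0, hp0] at hk
  have hm0 : Commute m (D.z * w) := mul_inv_eq_iff_eq_mul.1 hk
  set c : G := D.z * D.z with hcdef
  have hc : c ∈ zpowers D.z := mul_mem (mem_zpowers _) (mem_zpowers _)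
  have hn : F.pt 1 oO = c * S.b * w := by
    rw [hp1, ← mul_assoc, mul_assoc D.z S.b D.z, (J_comm D S.bJ (z_mem_J D)).eq, ← mul_assoc D.z D.z]
  have hw1 : w ≠ 1 := by
    intro h
    have e : F.pt 0 oO = F.pt 0 eO := by rw [hp0, h, mul_one, F.pt_z]
    exact absurd (F.inj _ _ _ _ e).2 (by decide)
  obtain ⟨q, hq, hqb⟩ : ∃ q ∈ D.Q, q * S.b * q⁻¹ = c * S.b * w := by
    rw [← hn]
    rcases S.zc_cases hz1 with e | e | ⟨q, hq, e | e⟩
    · exfalso
      rw [hn, ← mul_one D.z] at e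
      exact hw1 (split_unique (S.cb_t hc).1 (z_mem_J D) (S.cb_t hc).2 D.tz hwW InW.one e).2
    · exfalso
      rw [hn, ← mul_one D.z⁻¹] at e
      exact hw1 (split_unique (S.cb_t hc).1 (inv_mem (z_mem_J D)) (S.cb_t hc).2 D.tz.inv_right hwW
        InW.one e).2
    · exact ⟨q, hq, e.symm⟩
    · exfalso
      rw [hn, ← conj_inv] at e
      rcases S.conj_b hq with e' | ⟨d, hd, x, hx, -, e'⟩
      · rw [e', ← mul_one S.b⁻¹] at e
        exact hw1 (split_unique (S.cb_t hc).1 (inv_mem S.bJ) (S.cb_t hc).2 S.bt.inv_right hwW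
          InW.one e).2
      · rw [e', mul_inv_rev,
          (J_comm D (inv_mem hx.1) (inv_mem (S.cb_t hd).1)).eq] at e
        have h1 := (split_unique (S.cb_t hc).1 (inv_mem (S.cb_t hd).1) (S.cb_t hc).2
          (S.cb_t hd).2.inv_right hwW hx.inv e).1
        refine S.b_notQ ?_
        have h2 : S.b * S.b = c⁻¹ * d⁻¹ := by
          rw [eq_inv_mul_iff_mul_eq, ← mul_assoc, h1, mul_inv_rev,
            (J_comm D (inv_mem S.bJ) (inv_mem (zp_J hd))).eq, inv_mul_cancel_right]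
        have hz' : c⁻¹ * d⁻¹ ∈ D.Q :=
          FF_le D (zp_FF D (mul_mem (inv_mem hc) (inv_mem hd)))
        have h3 : S.b = (S.b * S.b)⁻¹ := by
          have h := cube_J S.bJ
          rw [pow_succ, pow_two] at h
          exact (inv_eq_of_mul_eq_one_right h).symm
        rw [h3, h2]
        exact inv_mem hz'
  -- the conjugate of `b` under `q⁻¹`
  have hqb' : q⁻¹ * S.b * q = c * S.b * w⁻¹ := by
    have hf : F.pt 1 (flipO oO) = c * S.b * w⁻¹ := by
      rw [← t_pt, hn, cmul, hwW.2, fix_of_commute (S.cb_t hc).2]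
    have hzf : ZC D (F.pt 1 (flipO oO)) := (F.zc_pt _ _).2 inZ_facts.2.2.2.2
    rw [hf] at hzf
    rcases S.conj_b (inv_mem hq) with e' | ⟨d, hd, x, hx, -, e'⟩
    · exfalso
      rw [inv_inv] at e'
      have e'' : q * S.b * q⁻¹ = S.b := by
        nth_rw 1 [← e']
        group
      rw [e'', ← mul_one S.b] at hqb
      exact hw1 (split_unique S.bJ (S.cb_t hc).1 S.bt (S.cb_t hc).2 InW.one hwW
        (by simpa using hqb)).2.symm
    · rw [inv_inv] at e'
      obtain ⟨d', hd', e⟩ := S.conj_b_mul hq hc hd hx hqb (by rw [inv_inv]; exact e') hwW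
      rw [mul_inv_cancel, one_mul, inv_one, mul_one] at e
      have hxw : x = w⁻¹ := by
        have h := (split_unique S.bJ (S.cb_t hd').1 S.bt (S.cb_t hd').2 InW.one (hwW.mul hx)
          (by rw [mul_one]; exact e)).2
        exact (inv_eq_of_mul_eq_one_right h.symm).symm
      rw [hxw] at e'
      -- compare with the conjugate of `b` equal to the flipped point
      obtain ⟨q', hq', hq'b⟩ : ∃ q' ∈ D.Q, q' * S.b * q'⁻¹ = c * S.b * w⁻¹ := by
        rw [← hf]
        refine ⟨D.t * q * D.t⁻¹, conj_memQ D (normQ D (Or.inl (fix_of_commute D.tz))) hq, ?_⟩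
        rw [← t_pt, hn, ← hqb]
        conv_rhs => rw [cmul, cmul, fix_of_commute S.bt, ← conj_inv]
      have hdd := S.conj_b_unique (inv_mem hq) hq' (mul_mem hd (inv_mem hc)) (d := d * c⁻¹) (by
        rw [inv_inv, e', hq'b]; group)
      rw [mul_inv_eq_one] at hdd
      rw [e', hdd]
  set g : G := q * (S.r : G) with hg
  have hgN : g ∈ normalizer (D.J : Set G) := mul_mem (Q_normJ D hq) (P.MN S.r.2)
  have hmn : Commute m (c * S.b * w) := by
    rw [← hn, hp1]
    exact hm.mul_right hm0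
  have hzg : g * D.z * g⁻¹ = c * S.b * w := by
    rw [hg, show q * (S.r : G) * D.z * (q * (S.r : G))⁻¹ =
      q * ((S.r : G) * D.z * (S.r : G)⁻¹) * q⁻¹ by group, S.rz, hqb]
  set w'' : G := (S.r : G)⁻¹ * w⁻¹ * (S.r : G) with hw''
  have hyg : g⁻¹ * (D.z * S.b) * g = D.z * w'' := by
    have hqz : q⁻¹ * D.z * q = D.z := by
      rw [mul_assoc, (zp_commQ D (mem_zpowers D.z) hq).eq, inv_mul_cancel_left]
    have e1 : q⁻¹ * (D.z * S.b) * q = S.b * w⁻¹ := by
      rw [show q⁻¹ * (D.z * S.b) * q = q⁻¹ * D.z * q * (q⁻¹ * S.b * q) by group, hqz, hqb', hcdef,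
        ← mul_assoc, ← mul_assoc, show D.z * (D.z * D.z) = 1 by
          rw [← mul_assoc, ← pow_two, ← pow_succ]; exact z3 D, one_mul]
    have e2 : (S.r : G)⁻¹ * S.b * (S.r : G) = D.z := by rw [← S.rz]; group
    rw [show g⁻¹ * (D.z * S.b) * g = (S.r : G)⁻¹ * (q⁻¹ * (D.z * S.b) * q) * (S.r : G) by
      rw [hg]; group, e1, show (S.r : G)⁻¹ * (S.b * w⁻¹) * (S.r : G) =
      (S.r : G)⁻¹ * S.b * (S.r : G) * ((S.r : G)⁻¹ * w⁻¹ * (S.r : G)) by group, e2]
  have hw''W : InW D w'' := by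
    refine ⟨?_, ?_⟩
    · have := conj_memJ (inv_mem (P.MN S.r.2)) (inv_mem hwW.1)
      rwa [inv_inv] at this
    · have hrt : D.t * (S.r : G) = (S.r : G) * D.t := S.rt.eq.symm
      have h2 : D.t * w⁻¹ * D.t⁻¹ = w⁻¹⁻¹ := hwW.inv.2
      calc D.t * w'' * D.t⁻¹ = (S.r : G)⁻¹ * (D.t * w⁻¹ * D.t⁻¹) * (S.r : G) := by
            rw [hw'', cmul, cmul, fix_of_commute S.rt.symm.inv_right, fix_of_commute S.rt.symm]
        _ = w''⁻¹ := by rw [h2, hw'']; group
  have hw''1 : w'' ≠ 1 := by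
    intro h
    refine hw1 (inv_eq_one.1 ?_)
    have e : w⁻¹ = (S.r : G) * w'' * (S.r : G)⁻¹ := by rw [hw'']; group
    rw [e, h]; group
  have hconj : ∀ x x', g * x * g⁻¹ = x' → Commute m x' → Commute (g⁻¹ * m * g) x := by
    rintro x _ rfl hc'
    refine mul_inv_eq_iff_eq_mul.1 ?_
    calc g⁻¹ * m * g * x * (g⁻¹ * m * g)⁻¹ = g⁻¹ * (m * (g * x * g⁻¹) * m⁻¹) * g := by group
      _ = x := by rw [mul_inv_eq_iff_eq_mul.2 hc'.eq]; group
  have h1 : Commute (g⁻¹ * m * g) D.z := hconj _ _ hzg hmn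
  have h2 : Commute (g⁻¹ * m * g) (D.z * w'') :=
    hconj _ _ (by rw [← hyg]; group) hm
  have h3 : Commute (g⁻¹ * m * g) w'' := by
    have h := h1.inv_right.mul_right h2
    rwa [inv_mul_cancel_left] at h
  have e := mul_mem (mul_mem hgN (centW hw''W hw''1 h1 h3)) (inv_mem hgN)
  rwa [show g * (g⁻¹ * m * g) * g⁻¹ = m by group] at e

theorem good_odd {v : Cube3} (hv : OddWeight v) : GoodV F v := by
  obtain ⟨w, hw, he⟩ := odd_cases v hv
  have hgood : GoodV F w := by
    simp only [List.mem_cons, List.not_mem_nil, or_false] at hw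
    rcases hw with rfl | rfl | rfl | rfl | rfl | rfl | rfl
    exacts [good_e F, good_rot F (good_e F), good_rot F (good_rot F (good_e F)), good_o F,
      good_flip F (good_o F), good_rot F (good_flip F (good_o F)),
      good_rot F (good_rot F (good_flip F (good_o F)))]
  rcases he with rfl | rfl
  exacts [hgood, good_neg F hgood]

/-- The centralisers of the vectors of odd weight normalise `J`. -/
theorem odd_lines : StmtOddLines.{u} := fun _ _ _ _ _ _ F _ m hv hm hk => good_odd F hv m hm hk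

end CfsgLib.McLThree.CentY
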