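import Cfsg.Agent.Lib.McLThree.CentYCubeModel
import Cfsg.Agent.Lib.Base.Cores

/-!
# The complement in the normalizer of the cube
-/

set_option autoImplicit false

namespace CfsgLib.McLThree.CubeAux

open Subgroup Equiv

universe u

variable {M : Type u} [Group M] (c : CubeConfig M)

theorem E_zero : c.E 0 = 1 := by
  have h := c.add 0 0
  rw [add_zero] at h
  exact mul_eq_left.mp h.symm

theorem E_neg (v : Cube3) : c.E (-v) = (c.E v)⁻¹ :=
  eq_inv_of_mul_eq_one_left (by rw [← c.add, neg_add_cancel, E_zero])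

theorem E_cube (v : Cube3) : c.E v ^ 3 = 1 := by
  rw [pow_succ, pow_two, ← c.add, ← c.add, ← E_zero c]
  congr 1
  funext j
  exact (by decide : ∀ a : ZMod 3, a + a + a = 0) _

theorem E_mem (v : Cube3) : c.E v ∈ c.J := (c.mem_J _).2 ⟨v, rfl⟩

theorem E_comm (v w : Cube3) : c.E v * c.E w = c.E w * c.E v := by
  rw [← c.add, ← c.add, add_comm]

theorem E_eq_one {v : Cube3} (h : c.E v = 1) : v = 0 := c.inj (h.trans (E_zero c).symm)

/-- The elements acting by a linear map. -/
def Acts (h : M) (l : Lin) : Prop := ∀ v, h * c.E v * h⁻¹ = c.E (lact l v)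

theorem Acts.mul {g h : M} {a b : Lin} (hg : Acts c g a) (hh : Acts c h b) :
    Acts c (g * h) (lmul a b) := fun v => by
  rw [lact_mul, ← hg, ← hh]
  group

theorem acts_one : Acts c 1 lone := fun v => by rw [lact_lone]; group

theorem acts_E (w : Cube3) : Acts c (c.E w) lone := fun v => by
  rw [lact_lone, E_comm, mul_inv_cancel_right]

theorem Acts.unique {h : M} {a b : Lin} (ha : Acts c h a) (hb : Acts c h b) : a = b :=
  lin_ext fun v => c.inj ((ha v).symm.trans (hb v))

theorem Acts.mem_norm {h : M} {a : Lin} [Finite M] (ha : Acts c h a) :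
    h ∈ normalizer (c.J : Set M) := by
  refine mem_normalizer_fintype fun x hx => ?_
  obtain ⟨v, rfl⟩ := (c.mem_J _).1 hx
  rw [ha]
  exact E_mem c _

theorem Acts.pow {h : M} {a : Lin} (ha : Acts c h a) (hh : lmul a a = lone) :
    Acts c (h ^ 2) lone ∧ Acts c (h ^ 3) a := by
  have h2 : Acts c (h ^ 2) lone := by rw [pow_two, ← hh]; exact ha.mul c ha
  refine ⟨h2, ?_⟩
  rw [pow_succ]
  have := h2.mul c ha
  rwa [(lmul_lone a).2] at this

theorem eq_E_of_acts_lone {h : M} (ha : Acts c h lone) : ∃ w, c.E w = h := by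
  refine (c.mem_J h).1 (c.selfc (mem_centralizer_iff.2 fun x hx => ?_))
  obtain ⟨v, rfl⟩ := (c.mem_J _).1 hx
  have e := ha v
  rw [lact_lone, mul_inv_eq_iff_eq_mul] at e
  exact e.symm

/-- A monomial map as a linear part. -/
def ofMono (m : Mono) : Lin := (m.perm, fun i => decide (m.sgn i = -1))

theorem ofMono_spec (m : Mono) : (∀ v, lact (ofMono m) v = m.act v) ∧ dtm (ofMono m) := by
  have h : ∀ i, m.sgn i = 1 ∨ m.sgn i = -1 := fun i =>
    (by decide : ∀ a : ZMod 3, a ≠ 0 → a = 1 ∨ a = -1) _ (m.unit i)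
  refine ⟨fun v => funext fun i => ?_, ?_⟩
  · rcases h i with e | e <;> simp [lact, ofMono, Mono.act, sg, e,
      (by decide : ¬ (1 : ZMod 3) = -1)]
  · have hp : ∀ i, (if (ofMono m).2 i then (-1 : ℤ) else 1) = if m.sgn i = 1 then 1 else -1 := by
      intro i
      rcases h i with e | e <;> simp [ofMono, e, (by decide : ¬ (1 : ZMod 3) = -1),
        (by decide : ¬ (-1 : ZMod 3) = 1)]
    unfold dtm
    rw [Fintype.prod_congr _ _ hp]
    exact m.det

/-- A linear part of determinant one as a monomial map. -/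
def toMono (l : Lin) (h : dtm l) : Mono where
  perm := l.1
  sgn i := sg (l.2 i)
  unit i := by cases l.2 i <;> decide
  det := by
    have hp : ∀ i, (if sg (l.2 i) = 1 then (1 : ℤ) else -1) = if l.2 i then -1 else 1 := fun i => by
      cases l.2 i <;> simp [sg, (by decide : ¬ (-1 : ZMod 3) = 1)]
    rw [Fintype.prod_congr _ _ hp]
    exact h

theorem exists_acts {h : M} (hh : h ∈ normalizer (c.J : Set M)) :
    ∃ l, dtm l ∧ Acts c h l := by
  obtain ⟨m, hm⟩ := c.upper h hh
  exact ⟨ofMono m, (ofMono_spec m).2, fun v => by rw [(ofMono_spec m).1]; exact hm v⟩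

theorem exists_even {l : Lin} (hl : dtm l) (he : Perm.sign l.1 = 1) : ∃ h, Acts c h l :=
  c.lower (toMono l hl) he

/-- A lift of the map keeping coordinate `i`: an involution. -/
theorem exists_invol (i : Fin 3) : ∃ u, Acts c u (dl i) ∧ u * u = 1 := by
  obtain ⟨h, hh⟩ := exists_even c (dl_facts i i).1 (by simp [dl])
  obtain ⟨h2, h3⟩ := hh.pow c (dl_facts i i).2.2.1
  refine ⟨h ^ 3, h3, ?_⟩
  obtain ⟨w, hw⟩ := eq_E_of_acts_lone c h2
  rw [← pow_add, show 3 + 3 = 2 * 3 from rfl, pow_mul, ← hw, E_cube]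

theorem conj_shift (t w : Cube3) {u : M} {i : Fin 3} (hu : Acts c u (dl i)) :
    c.E t * (c.E w * u) * (c.E t)⁻¹ = c.E (t + w - lact (dl i) t) * u := by
  have e : u * (c.E t)⁻¹ = c.E (lact (dl i) (-t)) * u := by rw [← hu, E_neg]; group
  rw [← mul_assoc, ← c.add, mul_assoc, e, ← mul_assoc, ← c.add, lact_neg, ← sub_eq_add_neg]

theorem E_mul_sq {w : Cube3} {u : M} {i : Fin 3} (hu : Acts c u (dl i)) (hu2 : u * u = 1)
    (h : c.E w * u * (c.E w * u) = 1) : w i = 0 := by
  have e : u * c.E w = c.E (lact (dl i) w) * u := by rw [← hu, inv_mul_cancel_right]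
  rw [← mul_assoc, mul_assoc (c.E w), e, ← mul_assoc, ← c.add, mul_assoc, hu2, mul_one] at h
  have h0 := congrFun (E_eq_one c h) i
  rw [Pi.add_apply, lact_dl, if_pos rfl] at h0
  exact (by decide : ∀ a : ZMod 3, a + a = 0 → a = 0) _ h0

/-- Commuting involutions over the four-group. -/
structure Fours where
  u : Fin 3 → M
  acts : ∀ i, Acts c (u i) (dl i)
  sq : ∀ i, u i * u i = 1
  mul : ∀ i j, i ≠ j → u i * u j = u (-(i + j))

theorem exists_fours : Nonempty (Fours c) := by
  obtain ⟨a, ha, ha2⟩ := exists_invol c 0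
  obtain ⟨b₀, hb₀, hb02⟩ := exists_invol c 1
  have hconj : Acts c (a * b₀ * a) (dl 1) := by
    have := (ha.mul c hb₀).mul c ha
    rwa [show lmul (lmul (dl 0) (dl 1)) (dl 0) = dl 1 by decide +kernel] at this
  obtain ⟨w, hw⟩ := eq_E_of_acts_lone c (h := a * b₀ * a * b₀)
    (by rw [← (dl_facts 1 1).2.2.1]; exact hconj.mul c hb₀)
  have hab : a * b₀ * a = c.E w * b₀ := by rw [hw, mul_assoc _ b₀ b₀, hb02, mul_one]
  have ainv : a⁻¹ = a := inv_eq_of_mul_eq_one_right ha2
  have hw1 : w 1 = 0 := E_mul_sq c hb₀ hb02 (by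
    rw [← hab]
    calc a * b₀ * a * (a * b₀ * a) = a * b₀ * (a * a) * b₀ * a := by simp only [mul_assoc]
      _ = 1 := by rw [ha2, mul_one, mul_assoc a b₀ b₀, hb02, mul_one, ha2])
  have hw0 : w 0 = 0 := by
    have e : c.E (lact (dl 0) w + w) = 1 := by
      rw [c.add, ← ha]
      have h2 : a * (a * b₀ * a) * a = b₀ := by
        calc a * (a * b₀ * a) * a = a * a * b₀ * (a * a) := by simp only [mul_assoc]
          _ = b₀ := by rw [ha2, one_mul, mul_one]
      rw [hab] at h2
      have h3 : a * c.E w * a⁻¹ * (a * b₀ * a) = b₀ := by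
        rw [ainv]
        calc a * c.E w * a * (a * b₀ * a) = a * c.E w * (a * a) * b₀ * a := by
              simp only [mul_assoc]
          _ = a * (c.E w * b₀) * a := by rw [ha2, mul_one, mul_assoc a]
          _ = b₀ := h2
      rw [hab, ← mul_assoc] at h3
      exact mul_eq_right.mp h3
    have h0 := congrFun (E_eq_one c e) 0
    rw [Pi.add_apply, lact_dl, if_pos rfl] at h0
    exact (by decide : ∀ a : ZMod 3, a + a = 0 → a = 0) _ h0
  set b := c.E (-w) * b₀ with hb
  have hb1 : Acts c b (dl 1) := by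
    have := (acts_E c (-w)).mul c hb₀
    rwa [(lmul_lone (dl 1)).2] at this
  have hb2 : b * b = 1 := by
    have e : b₀ * c.E (-w) = c.E (lact (dl 1) (-w)) * b₀ := by rw [← hb₀, inv_mul_cancel_right]
    rw [hb, ← mul_assoc, mul_assoc (c.E (-w)), e, ← mul_assoc, ← c.add, mul_assoc, hb02, mul_one,
      ← E_zero c]
    congr 1
    funext j
    rw [Pi.add_apply, lact_dl, Pi.neg_apply, Pi.zero_apply]
    split_ifs with h
    · subst h; rw [hw1]; simp
    · exact add_neg_cancel _
  have hcomm : a * b = b * a := by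
    have e1 : a * b * a = b := by
      calc a * b * a = a * c.E (-w) * a⁻¹ * (a * b₀ * a) := by
            rw [hb, ainv]
            calc a * (c.E (-w) * b₀) * a = a * c.E (-w) * (1 * b₀ * a) := by
                  simp only [mul_assoc, one_mul]
              _ = a * c.E (-w) * a * (a * b₀ * a) := by rw [← ha2]; simp only [mul_assoc]
        _ = b := by
            rw [ha, hab, ← mul_assoc, ← c.add, hb]
            congr 2
            funext j
            rw [Pi.add_apply, lact_dl, Pi.neg_apply]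
            split_ifs with h
            · subst h; rw [hw0]; simp
            · exact (by decide : ∀ a : ZMod 3, - -a + a = -a) _
    calc a * b = a * b * a * a := by rw [mul_assoc _ a a, ha2, mul_one]
      _ = b * a := by rw [e1]
  let u : Fin 3 → M := ![a, b, a * b]
  have huacts : ∀ i, Acts c (u i) (dl i) := by
    intro i
    fin_cases i
    · exact ha
    · exact hb1
    · have := ha.mul c hb1
      rwa [show lmul (dl 0) (dl 1) = dl 2 by decide +kernel] at this
  have hab2 : a * b * (a * b) = 1 := by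
    calc a * b * (a * b) = a * b * (b * a) := by rw [hcomm]
      _ = a * (b * b) * a := by simp only [mul_assoc]
      _ = 1 := by rw [hb2, mul_one, ha2]
  refine ⟨⟨u, huacts, fun i => ?_, fun i j hij => ?_⟩⟩
  · fin_cases i
    · exact ha2
    · exact hb2
    · exact hab2
  · fin_cases i <;> fin_cases j <;> first
      | exact absurd rfl hij
      | (show a * b = a * b; rfl)
      | (show b * a = a * b; exact hcomm.symm)
      | (show a * (a * b) = b; rw [← mul_assoc, ha2, one_mul])
      | (show a * b * a = b; rw [hcomm, mul_assoc, ha2, mul_one])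
      | (show b * (a * b) = a; rw [hcomm, ← mul_assoc, hb2, one_mul])
      | (show a * b * b = a; rw [mul_assoc, hb2, mul_one])

variable {c} (F : Fours c)

/-- The stabilizer of the four-group. -/
def Stab (h : M) (l : Lin) : Prop := Acts c h l ∧ ∀ i, h * F.u i * h⁻¹ = F.u (l.1 i)

theorem Stab.mul {g h : M} {a b : Lin} (hg : Stab F g a) (hh : Stab F h b) :
    Stab F (g * h) (lmul a b) :=
  ⟨hg.1.mul c hh.1, fun i => by
    show g * h * F.u i * (g * h)⁻¹ = F.u (a.1 (b.1 i))
    rw [← hg.2, ← hh.2]; group⟩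

/-- Every element of the normalizer is a translation times a stabilizing element. -/
theorem exists_split {h : M} {l : Lin} (hl : Acts c h l) :
    ∃ t, Stab F ((c.E t)⁻¹ * h) l := by
  have hu : ∀ i, ∃ w, h * F.u i * h⁻¹ = c.E w * F.u (l.1 i) ∧ w (l.1 i) = 0 := by
    intro i
    have h1 : Acts c (h * F.u i * h⁻¹) (dl (l.1 i)) := fun v => by
      have e : c.E v = h * c.E (lact (l.1⁻¹, fun j => l.2 (l.1 j)) v) * h⁻¹ := by
        rw [hl, ← lact_mul,
          show lmul l (l.1⁻¹, fun j => l.2 (l.1 j)) = lone from lin_ext fun x => by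
            funext j
            simp [lact, lmul, lone, sg], lact_lone]
      conv_lhs => rw [e]
      calc h * F.u i * h⁻¹ * (h * c.E (lact (l.1⁻¹, fun j => l.2 (l.1 j)) v) * h⁻¹) *
            (h * F.u i * h⁻¹)⁻¹
          = h * (F.u i * c.E (lact (l.1⁻¹, fun j => l.2 (l.1 j)) v) * (F.u i)⁻¹) * h⁻¹ := by group
        _ = _ := by
          rw [F.acts, hl, ← lact_mul, ← lact_mul, dl_conj, lact_mul, lact_mul, ← lact_mul l,
            show lmul l (l.1⁻¹, fun j => l.2 (l.1 j)) = lone from lin_ext fun x => by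
              funext j
              simp [lact, lmul, lone, sg], lact_lone]
    obtain ⟨w, hw⟩ := eq_E_of_acts_lone c (h := h * F.u i * h⁻¹ * F.u (l.1 i))
      (by rw [← (dl_facts (l.1 i) (l.1 i)).2.2.1]; exact h1.mul c (F.acts _))
    have he : h * F.u i * h⁻¹ = c.E w * F.u (l.1 i) := by
      rw [hw, mul_assoc _ (F.u (l.1 i)), F.sq, mul_one]
    refine ⟨w, he, E_mul_sq c (F.acts _) (F.sq _) ?_⟩
    rw [← he]
    calc h * F.u i * h⁻¹ * (h * F.u i * h⁻¹) = h * (F.u i * F.u i) * h⁻¹ := by group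
      _ = 1 := by rw [F.sq]; group
  obtain ⟨w, hw, hwa⟩ := hu 0
  obtain ⟨w', hw', hwb⟩ := hu 1
  have hne : l.1 0 ≠ l.1 1 := fun e => absurd (l.1.injective e) (by decide)
  have hcm : w + lact (dl (l.1 0)) w' = w' + lact (dl (l.1 1)) w := by
    have e : c.E w * F.u (l.1 0) * (c.E w' * F.u (l.1 1)) =
        c.E w' * F.u (l.1 1) * (c.E w * F.u (l.1 0)) := by
      rw [← hw, ← hw']
      calc h * F.u 0 * h⁻¹ * (h * F.u 1 * h⁻¹) = h * (F.u 0 * F.u 1) * h⁻¹ := by group
        _ = h * (F.u 1 * F.u 0) * h⁻¹ := by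
          rw [F.mul 0 1 (by decide), F.mul 1 0 (by decide), add_comm]
        _ = _ := by group
    have key : ∀ (x y : Cube3) (a b : Fin 3), c.E x * F.u a * (c.E y * F.u b) =
        c.E (x + lact (dl a) y) * (F.u a * F.u b) := by
      intro x y a b
      rw [c.add, ← F.acts a]
      group
    rw [key, key, F.mul _ _ hne, F.mul _ _ hne.symm, add_comm (l.1 1) (l.1 0)] at e
    exact c.inj (mul_right_cancel e)
  let s : Cube3 := fun j => if j = l.1 0 then -w' j else -w j
  have hs0 : -s + w - lact (dl (l.1 0)) (-s) = 0 := by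
    funext j
    simp only [Pi.sub_apply, Pi.add_apply, Pi.neg_apply, lact_dl, Pi.zero_apply, s]
    split_ifs with h
    · subst h; rw [hwa]; ring
    · generalize w j = x
      revert x; decide
  have hs1 : -s + w' - lact (dl (l.1 1)) (-s) = 0 := by
    funext j
    have hj := congrFun hcm j
    simp only [Pi.sub_apply, Pi.add_apply, Pi.neg_apply, lact_dl, Pi.zero_apply, s] at hj ⊢
    by_cases h0 : j = l.1 0
    · subst h0
      rw [if_pos rfl, if_neg hne]
      generalize w' (l.1 0) = y
      revert y; decide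
    · rw [if_neg h0] at hj
      simp only [if_neg h0]
      by_cases h1 : j = l.1 1
      · subst h1
        rw [if_pos rfl, hwb]; ring
      · rw [if_neg h1] at hj ⊢
        revert hj
        generalize w j = x; generalize w' j = y
        revert x y; decide
  refine ⟨s, ?_, ?_⟩
  · have := (acts_E c (-s)).mul c hl
    rwa [(lmul_lone l).2, E_neg] at this
  · have hi : ∀ i, (c.E s)⁻¹ * h * F.u i * ((c.E s)⁻¹ * h)⁻¹ =
        c.E (-s) * (h * F.u i * h⁻¹) * (c.E (-s))⁻¹ := fun i => by rw [E_neg]; group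
    have e0 : (c.E s)⁻¹ * h * F.u 0 * ((c.E s)⁻¹ * h)⁻¹ = F.u (l.1 0) := by
      rw [hi, hw, conj_shift c (-s) w (F.acts _), hs0, E_zero, one_mul]
    have e1 : (c.E s)⁻¹ * h * F.u 1 * ((c.E s)⁻¹ * h)⁻¹ = F.u (l.1 1) := by
      rw [hi, hw', conj_shift c (-s) w' (F.acts _), hs1, E_zero, one_mul]
    intro i
    fin_cases i
    · exact e0
    · exact e1
    · have hsum : ∀ p : Perm (Fin 3), -(p 0 + p 1) = p 2 := by decide
      show (c.E s)⁻¹ * h * F.u 2 * ((c.E s)⁻¹ * h)⁻¹ = F.u (l.1 2)
      rw [show F.u 2 = F.u 0 * F.u 1 from by rw [F.mul 0 1 (by decide)]; rfl, ← hsum l.1,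
        ← F.mul _ _ hne, ← e0, ← e1]
      group

/-- A translation stabilizing the four-group is trivial. -/
theorem stab_E {t : Cube3} {l : Lin} (h : Stab F (c.E t) l) : t = 0 := by
  have hl : l = lone := h.1.unique c (acts_E c t)
  subst hl
  funext j
  obtain ⟨i, hi⟩ : ∃ i : Fin 3, j ≠ i := by revert j; decide
  have e := h.2 i
  have e2 := conj_shift c t 0 (F.acts i)
  rw [E_zero, one_mul, e, add_zero] at e2
  have h0 : c.E (t - lact (dl i) t) = 1 := mul_eq_right.mp e2.symm
  have h1 := congrFun (E_eq_one c h0) j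
  rw [Pi.sub_apply, lact_dl, if_neg hi, Pi.zero_apply] at h1
  revert h1
  show t j - -t j = 0 → t j = (0 : Cube3) j
  rw [Pi.zero_apply]
  generalize t j = x; revert x; decide

theorem split_unique {h : M} {a b : Lin} {s t : Cube3} (hs : Stab F ((c.E s)⁻¹ * h) a)
    (ht : Stab F ((c.E t)⁻¹ * h) b) : s = t ∧ a = b := by
  have hh : ∀ {x : Lin} {r : Cube3}, Stab F ((c.E r)⁻¹ * h) x → Acts c h x := fun {x r} hx => by
    have := (acts_E c r).mul c hx.1
    rwa [(lmul_lone x).2, mul_inv_cancel_left] at this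
  obtain rfl := (hh hs).unique c (hh ht)
  refine ⟨?_, rfl⟩
  have hd : Stab F (c.E (t - s)) lone := by
    refine ⟨acts_E c _, fun i => ?_⟩
    obtain ⟨i', rfl⟩ := a.1.surjective i
    show c.E (t - s) * F.u (a.1 i') * (c.E (t - s))⁻¹ = F.u (a.1 i')
    conv_lhs => rw [← ht.2, sub_eq_add_neg, add_comm, c.add, E_neg]
    rw [← hs.2]
    group
  exact (sub_eq_zero.1 (stab_E F hd)).symm

open Classical in
/-- The affine map of an element of the normalizer. -/
noncomputable def aff (h : normalizer (c.J : Set M)) : Aff :=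
  let l := Classical.choose (exists_acts c h.2)
  (l, Classical.choose (exists_split F (Classical.choose_spec (exists_acts c h.2)).2))

theorem aff_spec (h : normalizer (c.J : Set M)) :
    dtm (aff F h).1 ∧ Acts c (h : M) (aff F h).1 ∧
      Stab F ((c.E (aff F h).2)⁻¹ * (h : M)) (aff F h).1 :=
  ⟨(Classical.choose_spec (exists_acts c h.2)).1, (Classical.choose_spec (exists_acts c h.2)).2,
    Classical.choose_spec (exists_split F (Classical.choose_spec (exists_acts c h.2)).2)⟩

theorem aff_mul (g h : normalizer (c.J : Set M)) : aff F (g * h) = amul (aff F g) (aff F h) := by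
  obtain ⟨-, hga, hgs⟩ := aff_spec F g
  obtain ⟨-, -, hhs⟩ := aff_spec F h
  obtain ⟨-, -, hs⟩ := aff_spec F (g * h)
  have key : (c.E ((aff F g).2 + lact (aff F g).1 (aff F h).2))⁻¹ * ((g * h : _) : M) =
      (c.E (aff F g).2)⁻¹ * (g : M) * ((c.E (aff F h).2)⁻¹ * (h : M)) := by
    rw [add_comm, c.add, mul_inv_rev, ← E_neg c (lact _ _), ← lact_neg, ← hga, E_neg,
      Subgroup.coe_mul]
    group
  obtain ⟨e1, e2⟩ := split_unique F hs (b := lmul (aff F g).1 (aff F h).1)
    (t := (aff F g).2 + lact (aff F g).1 (aff F h).2) (key ▸ hgs.mul F hhs)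
  exact Prod.ext e2 e1

theorem aff_eq {h : normalizer (c.J : Set M)} {l : Lin} {t : Cube3}
    (hs : Stab F ((c.E t)⁻¹ * (h : M)) l) : aff F h = (l, t) := by
  obtain ⟨e1, e2⟩ := split_unique F (aff_spec F h).2.2 hs
  exact Prod.ext e2 e1

theorem stab_one : Stab F 1 lone :=
  ⟨acts_one c, fun i => by rw [one_mul, inv_one, mul_one]; rfl⟩

theorem aff_E (h : normalizer (c.J : Set M)) (v : Cube3) (e : (h : M) = c.E v) :
    aff F h = (lone, v) :=
  aff_eq F (by rw [e, inv_mul_cancel]; exact stab_one F)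

/-- The permutations of the nine points. -/
noncomputable def points : normalizer (c.J : Set M) →* ANineThree.P9 :=
  MonoidHom.mk' (fun h => pf (aff F h)) fun g h => by
    show pf (aff F (g * h)) = _
    rw [aff_mul, pf_mul]

theorem points_injective : Function.Injective (points F) := by
  rw [injective_iff_map_eq_one]
  intro h hh
  have e := (pf_facts _ (aff_spec F h).1).2 hh
  obtain ⟨-, ha, hs⟩ := aff_spec F h
  rw [e] at ha hs
  rw [E_zero, inv_one, one_mul] at hs
  obtain ⟨w, hw⟩ := eq_E_of_acts_lone c ha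
  refine Subtype.ext ?_
  rw [← hw] at hs ⊢
  rw [stab_E F hs, E_zero]
  rfl

theorem points_mem (h : normalizer (c.J : Set M)) : points F h ∈ ANineThree.Hm :=
  (pf_facts _ (aff_spec F h).1).1

end CfsgLib.McLThree.CubeAux
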