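import Cfsg.Agent.Lib.McLThree.CentYTwoDefs
import Cfsg.Agent.Lib.McLThree.CentYCubeFrame
import Cfsg.Agent.Lib.OddOrder.PLengthOne
import Cfsg.Agent.Lib.Coprime.Action2
import Cfsg.Agent.S0075
import Cfsg.Agent.S3347

/-!
# The centraliser of a vector of weight two

Modulo the vector the cube is a Sylow subgroup of type `3 × 3` with automiser of order at most two;
transfer and the theorem on such groups make it normal.
-/

set_option autoImplicit false
set_option linter.style.haveILetI false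
set_option linter.unusedSectionVars false
set_option maxRecDepth 100000
set_option synthInstance.maxSize 4000
set_option synthInstance.maxHeartbeats 400000

namespace CfsgLib.McLThree.CubeTwo

open Subgroup CubeAux

universe u

/-- A vector with exactly one vanishing coordinate. -/
def Two (v : Cube3) : Prop := v ≠ 0 ∧ ¬ OddWeight v

instance : DecidablePred Two := fun _ => inferInstanceAs (Decidable (_ ∧ _))

theorem lin_fix : ∀ (l : Lin), dtm l → ∀ v, Two v → lact l v = v →
    (∀ u, lact l u = u) ∨ (∀ u, ∃ a : ZMod 3, lact l u = -u + a • v) := by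
  decide +kernel

theorem odd_shift : ∀ v u : Cube3, Two v → (∀ a : ZMod 3, u ≠ a • v) →
    ∃ a : ZMod 3, OddWeight (u + a • v) := by
  decide +kernel

theorem not_line : ∀ v u : Cube3, (∀ a : ZMod 3, u ≠ a • v) →
    (∀ a b : ZMod 3, -u + a • v ≠ u + b • v) ∧ ∀ a c : ZMod 3, u + a • v ≠ c • v := by
  decide +kernel

/-- A complement of the line of `v`. -/
def cpl (v : Cube3) : Cube3 × Cube3 :=
  if v 0 = 0 then (Pi.single 0 1, Pi.single 1 1)
  else if v 1 = 0 then (Pi.single 1 1, Pi.single 0 1) else (Pi.single 2 1, Pi.single 0 1)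

theorem cpl_facts : ∀ v : Cube3, Two v → ∀ a b a' b' : ZMod 3,
    ((a • (cpl v).1 + b • (cpl v).2 = a' • (cpl v).1 + b' • (cpl v).2 → a = a' ∧ b = b') ∧
      (a = 0 ∧ b = 0 ∨ ∀ k : ZMod 3, a • (cpl v).1 + b • (cpl v).2 ≠ k • v)) := by
  decide +kernel

theorem exists_outside : ∀ v : Cube3, ∃ u : Cube3, ∀ a : ZMod 3, u ≠ a • v := by decide +kernel

theorem three_smul : ∀ a : ZMod 3, 3 • a = 0 := by decide

theorem smul_eq : ∀ a : ZMod 3, ∀ v : Cube3, a.val • v = a • v := by decide +kernel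

variable {M : Type u} [Group M] [Finite M] (c : CubePre M)

theorem E_zero : c.E 0 = 1 := by
  have h := c.add 0 0
  rw [add_zero] at h
  exact mul_eq_left.mp h.symm

theorem E_neg (v : Cube3) : c.E (-v) = (c.E v)⁻¹ :=
  eq_inv_of_mul_eq_one_left (by rw [← c.add, neg_add_cancel, E_zero])

theorem E_mem (v : Cube3) : c.E v ∈ c.J := (c.mem_J _).2 ⟨v, rfl⟩

theorem E_comm (v w : Cube3) : c.E v * c.E w = c.E w * c.E v := by
  rw [← c.add, ← c.add, add_comm]

theorem E_pow (v : Cube3) : ∀ n : ℕ, c.E v ^ n = c.E (n • v)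
  | 0 => by rw [pow_zero, zero_smul, E_zero]
  | n + 1 => by rw [pow_succ, E_pow v n, succ_nsmul, c.add]

theorem E_smul (a : ZMod 3) (v : Cube3) : c.E (a • v) = c.E v ^ a.val := by
  rw [E_pow, smul_eq]

theorem zp_line {v : Cube3} {x : M} (hx : x ∈ zpowers (c.E v)) :
    ∃ a : ZMod 3, x = c.E (a • v) := by
  obtain ⟨n, hn⟩ := mem_powers_iff_mem_zpowers.2 hx
  replace hn : c.E v ^ n = x := hn
  refine ⟨(n : ZMod 3), ?_⟩
  have h3 : c.E v ^ 3 = 1 := by
    rw [E_pow, ← E_zero c]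
    congr 1
    exact funext fun i => three_smul _
  rw [E_smul, ← hn, ZMod.val_natCast, ← pow_eq_pow_mod _ h3]

variable {c} {v : Cube3}

/-- The two kinds of elements of the normalizer fixing `E v`. -/
theorem norm_cases (hv : Two v) {h : M} (hJ : h ∈ normalizer (c.J : Set M))
    (hc : h ∈ centralizer ({c.E v} : Set M)) :
    h ∈ c.J ∨ ∀ u, ∃ a : ZMod 3, h * c.E u * h⁻¹ = c.E (-u + a • v) := by
  obtain ⟨m, hm⟩ := c.upper h hJ
  have hfix : lact (ofMono m) v = v := by
    rw [(ofMono_spec m).1]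
    refine c.inj ?_
    rw [← hm, mul_inv_eq_iff_eq_mul]
    exact mem_centralizer_singleton_iff.1 hc
  rcases lin_fix _ (ofMono_spec m).2 v hv hfix with e | e
  · left
    refine c.selfc (mem_centralizer_iff.2 fun x hx => ?_)
    obtain ⟨u, rfl⟩ := (c.mem_J _).1 hx
    have h' := hm u
    rw [← (ofMono_spec m).1, e, mul_inv_eq_iff_eq_mul] at h'
    exact h'.symm
  · right
    intro u
    obtain ⟨a, ha⟩ := e u
    exact ⟨a, by rw [hm, ← (ofMono_spec m).1, ha]⟩

theorem mem_J_of_commute (hv : Two v) {u : Cube3} (hu : ∀ a : ZMod 3, u ≠ a • v) {m : M}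
    (hmv : Commute m (c.E v)) (hmu : Commute m (c.E u)) : m ∈ c.J := by
  obtain ⟨a, ha⟩ := odd_shift v u hv hu
  have h1 : m ∈ normalizer (c.J : Set M) := by
    refine c.cent _ ha (mem_centralizer_singleton_iff.2 ?_)
    rw [c.add, E_smul]
    exact (hmu.mul_right (hmv.pow_right _)).eq
  rcases norm_cases hv h1 (mem_centralizer_singleton_iff.2 hmv.eq) with h | h
  · exact h
  · exfalso
    obtain ⟨b, hb⟩ := h u
    rw [hmu.eq, mul_inv_cancel_right] at hb
    refine (not_line v u hu).1 b 0 ?_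
    rw [zero_smul, add_zero]
    exact (c.inj hb).symm

/-- An element moving a vector outside the line along the line normalises the cube. -/
theorem norm_of_shift (hv : Two v) {u : Cube3} (hu : ∀ a : ZMod 3, u ≠ a • v) {m : M}
    (hmv : Commute m (c.E v)) {a : ZMod 3} (hmu : m * c.E u * m⁻¹ = c.E (u + a • v)) :
    m ∈ normalizer (c.J : Set M) := by
  refine mem_normalizer_fintype fun x hx => ?_
  obtain ⟨w, rfl⟩ := (c.mem_J _).1 hx
  have hfix : m * c.E v * m⁻¹ = c.E v := mul_inv_eq_iff_eq_mul.2 hmv.eq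
  refine mem_J_of_commute hv (u := u + a • v) (fun b => (not_line v u hu).2 a b) ?_ ?_
  · have := (show Commute (c.E w) (c.E v) from E_comm c w v).map (MulAut.conj m)
    simp only [MulAut.conj_apply] at this
    rwa [hfix] at this
  · have := (show Commute (c.E w) (c.E u) from E_comm c w u).map (MulAut.conj m)
    simp only [MulAut.conj_apply] at this
    rwa [hmu] at this

theorem main (hv : Two v) : centralizer ({c.E v} : Set M) ≤ normalizer (c.J : Set M) := by
  haveI : Fact (Nat.Prime 3) := ⟨Nat.prime_three⟩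
  set C := centralizer ({c.E v} : Set M) with hC
  have hJC : c.J ≤ C := fun x hx => by
    obtain ⟨u, rfl⟩ := (c.mem_J _).1 hx
    exact mem_centralizer_singleton_iff.2 (E_comm c u v)
  -- the cube is a Sylow subgroup
  obtain ⟨R, hR⟩ := ((IsPGroup.of_card (n := 3) (by
      rw [Nat.card_congr (subgroupOfEquivOfLe hJC).toEquiv, ← Nat.card_congr (Equiv.ofBijective
        (fun w : Cube3 => (⟨c.E w, E_mem c w⟩ : c.J))
        ⟨fun a b e => c.inj (congrArg Subtype.val e),
          fun x => (c.mem_J _).1 x.2 |>.imp fun w hw => Subtype.ext hw⟩)]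
      simp) : IsPGroup 3 ↥(c.J.subgroupOf C))).exists_le_sylow
  have hRJ : (R : Subgroup C) = c.J.subgroupOf C := by
    refine le_antisymm ?_ hR
    by_contra hne
    have hnc : NormalizerCondition ↥(R : Subgroup C) :=
      haveI := R.isPGroup'.isNilpotent
      Group.normalizerCondition_of_isNilpotent
    have hlt : (c.J.subgroupOf C).subgroupOf (R : Subgroup C) < ⊤ :=
      lt_top_iff_ne_top.2 fun e => hne (subgroupOf_eq_top.1 e)
    obtain ⟨-, g, hgn, hg⟩ := SetLike.lt_iff_le_and_exists.1 (hnc _ hlt)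
    refine hg (mem_subgroupOf.2 (mem_subgroupOf.2 ?_))
    set gM : M := ((g : C) : M)
    have hgJ : gM ∈ normalizer (c.J : Set M) := by
      refine mem_normalizer_fintype fun x hx => ?_
      have h := (mem_normalizer_iff.1 hgn ⟨⟨x, hJC hx⟩, hR (mem_subgroupOf.2 hx)⟩).1
        (mem_subgroupOf.2 (mem_subgroupOf.2 hx))
      exact mem_subgroupOf.1 (mem_subgroupOf.1 h)
    rcases norm_cases hv hgJ (g : C).2 with h | h
    · exact h
    · -- the square is trivial on the cube and the order is odd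
      have h2 : gM * gM ∈ c.J := by
        refine c.selfc (mem_centralizer_iff.2 fun x hx => ?_)
        obtain ⟨u, rfl⟩ := (c.mem_J _).1 hx
        obtain ⟨a, ha⟩ := h u
        have hfix : gM * c.E v * gM⁻¹ = c.E v :=
          mul_inv_eq_iff_eq_mul.2 (mem_centralizer_singleton_iff.1 (g : C).2)
        have h1 : gM * c.E (-u) * gM⁻¹ = (c.E (-u + a • v))⁻¹ := by rw [E_neg, ← conj_inv, ha]
        have h2 : gM * c.E (a • v) * gM⁻¹ = c.E (a • v) := by rw [E_smul, ← conj_pow, hfix]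
        have e : gM * gM * c.E u * (gM * gM)⁻¹ = c.E u := by
          calc gM * gM * c.E u * (gM * gM)⁻¹ = gM * (gM * c.E u * gM⁻¹) * gM⁻¹ := by group
            _ = (gM * c.E (-u) * gM⁻¹) * (gM * c.E (a • v) * gM⁻¹) := by rw [ha, c.add]; group
            _ = c.E u := by
              rw [h1, h2, ← E_neg, ← c.add]
              congr 1
              abel
        exact (mul_inv_eq_iff_eq_mul.1 e).symm
      obtain ⟨k, hk⟩ := R.isPGroup' g
      have hpow : gM ^ 3 ^ k = 1 := by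
        have := congrArg (fun y : (R : Subgroup C) => ((y : C) : M)) hk
        simpa using this
      obtain ⟨l, hl⟩ : Odd (3 ^ k) := (by decide : Odd 3).pow
      have e : (gM * gM) ^ (l + 1) = gM := by
        rw [← pow_two, ← pow_mul, show 2 * (l + 1) = 3 ^ k + 1 by omega, pow_succ, hpow, one_mul]
      rw [← e]
      exact pow_mem h2 _
  -- the quotient by the line
  set Z : Subgroup C := (zpowers (c.E v)).subgroupOf C with hZ
  have hZle : zpowers (c.E v) ≤ c.J := zpowers_le.2 (E_mem c v)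
  haveI hZn : Z.Normal := ⟨fun z hz g => by
    rw [hZ, mem_subgroupOf] at hz ⊢
    obtain ⟨n, hn⟩ := mem_zpowers_iff.1 hz
    show (g : M) * (z : M) * (g : M)⁻¹ ∈ zpowers (c.E v)
    rw [← hn, ((show Commute (g : M) (c.E v) from mem_centralizer_singleton_iff.1 g.2).zpow_right n).eq,
      mul_inv_cancel_right]
    exact zpow_mem (mem_zpowers _) n⟩
  set π := QuotientGroup.mk' Z with hπ
  have hπsurj : Function.Surjective π := QuotientGroup.mk'_surjective Z
  set P : Sylow 3 (C ⧸ Z) := R.mapSurjective hπsurj with hP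
  have hPmap : (P : Subgroup (C ⧸ Z)) = (c.J.subgroupOf C).map π := by
    rw [← hRJ]; rfl
  have hπeq : ∀ g g' : C, π g = π g' → ∃ a : ZMod 3, (g' : M) = g * c.E (a • v) := by
    intro g g' e
    rw [hπ, QuotientGroup.mk'_eq_mk'] at e
    obtain ⟨z, hz, e⟩ := e
    obtain ⟨a, ha⟩ := zp_line c (mem_subgroupOf.1 hz)
    exact ⟨a, by rw [← e, Subgroup.coe_mul, ha]⟩
  have hmemP : ∀ g : C, π g ∈ (P : Subgroup (C ⧸ Z)) → (g : M) ∈ c.J := by
    intro g hg
    rw [hPmap] at hg
    obtain ⟨j, hj, e⟩ := hg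
    obtain ⟨a, ha⟩ := hπeq _ _ e
    rw [ha]
    exact mul_mem (mem_subgroupOf.1 hj) (E_mem c _)
  have hPmem : ∀ u, π ⟨c.E u, hJC (E_mem c u)⟩ ∈ (P : Subgroup (C ⧸ Z)) := fun u => by
    rw [hPmap]; exact ⟨_, mem_subgroupOf.2 (E_mem c u), rfl⟩
  have hcommP : ∀ p ∈ (P : Subgroup (C ⧸ Z)), ∀ q ∈ (P : Subgroup (C ⧸ Z)), p * q = q * p := by
    rw [hPmap]
    rintro _ ⟨⟨p, hp⟩, hpJ, rfl⟩ _ ⟨⟨q, hq⟩, hqJ, rfl⟩
    obtain ⟨u, rfl⟩ := (c.mem_J _).1 (mem_subgroupOf.1 hpJ)
    obtain ⟨w, rfl⟩ := (c.mem_J _).1 (mem_subgroupOf.1 hqJ)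
    rw [← map_mul, ← map_mul]
    exact congrArg π (Subtype.ext (E_comm c u w))
  have hab : IsMulCommutative (P : Subgroup (C ⧸ Z)) :=
    ⟨⟨fun p q => Subtype.ext (hcommP p p.2 q q.2)⟩⟩
  -- normalizer and centralizer
  have hnorm : ∀ g : C, π g ∈ normalizer ((P : Subgroup (C ⧸ Z)) : Set (C ⧸ Z)) →
      (g : M) ∈ normalizer (c.J : Set M) := by
    intro g hg
    refine mem_normalizer_fintype fun x hx => ?_
    obtain ⟨u, rfl⟩ := (c.mem_J _).1 hx
    have h := (mem_normalizer_iff.1 hg _).1 (hPmem u)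
    rw [← map_inv, ← map_mul, ← map_mul] at h
    exact hmemP _ h
  have hout : ∀ g : C, π g ∈ normalizer ((P : Subgroup (C ⧸ Z)) : Set (C ⧸ Z)) →
      π g ∈ (P : Subgroup (C ⧸ Z)) ∨
        ∀ p ∈ (P : Subgroup (C ⧸ Z)), π g * p * (π g)⁻¹ = p⁻¹ := by
    intro g hg
    rcases norm_cases hv (hnorm g hg) g.2 with h | h
    · left; rw [hPmap]; exact ⟨g, mem_subgroupOf.2 h, rfl⟩
    · right
      rw [hPmap]
      rintro _ ⟨⟨j, hj⟩, hjJ, rfl⟩
      obtain ⟨u, rfl⟩ := (c.mem_J _).1 (mem_subgroupOf.1 hjJ)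
      rw [← map_inv, ← map_mul, ← map_mul, ← map_inv, hπ, QuotientGroup.mk'_eq_mk']
      obtain ⟨a, ha⟩ := h u
      refine ⟨(⟨c.E (a • v), hJC (E_mem c _)⟩ : C)⁻¹, inv_mem (mem_subgroupOf.2 ?_),
        Subtype.ext ?_⟩
      · show c.E (a • v) ∈ zpowers (c.E v)
        rw [E_smul]; exact pow_mem (mem_zpowers _) _
      · show (g : M) * c.E u * (g : M)⁻¹ * (c.E (a • v))⁻¹ = (c.E u)⁻¹
        rw [ha, c.add, mul_inv_cancel_right, E_neg]
  obtain ⟨u₀, hu₀⟩ := exists_outside v
  have hcentP : centralizer ((P : Subgroup (C ⧸ Z)) : Set (C ⧸ Z)) = (P : Subgroup (C ⧸ Z)) := by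
    refine le_antisymm (fun q hq => ?_) fun p hp => mem_centralizer_iff.2 fun p' hp' =>
      hcommP p' hp' p hp
    obtain ⟨g, rfl⟩ := hπsurj q
    have hgN : π g ∈ normalizer ((P : Subgroup (C ⧸ Z)) : Set (C ⧸ Z)) :=
      mem_normalizer_iff.2 fun p => ⟨fun hp => by
          rw [← mem_centralizer_iff.1 hq p hp, mul_inv_cancel_right]; exact hp,
        fun hp => by
          have h := mem_centralizer_iff.1 hq _ hp
          rw [inv_mul_cancel_right] at h
          rwa [← mul_left_cancel h] at hp⟩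
    rcases hout g hgN with h | h
    · exact h
    · exfalso
      have e := h _ (hPmem u₀)
      rw [← mem_centralizer_iff.1 hq _ (hPmem u₀), mul_inv_cancel_right, ← map_inv] at e
      obtain ⟨a, ha⟩ := hπeq _ _ e
      rw [Subgroup.coe_inv] at ha
      dsimp only at ha
      rw [← E_neg, ← c.add] at ha
      refine (not_line v u₀ hu₀).1 0 a ?_
      rw [zero_smul, add_zero]
      exact c.inj ha
  -- a complement of the line
  set f : ZMod 3 × ZMod 3 → Cube3 := fun p => p.1 • (cpl v).1 + p.2 • (cpl v).2 with hf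
  set g₀ : ZMod 3 × ZMod 3 → C ⧸ Z := fun p => π ⟨c.E (f p), hJC (E_mem c _)⟩ with hg₀
  have hg₀inj : Function.Injective g₀ := by
    rintro ⟨a, b⟩ ⟨a', b'⟩ e
    obtain ⟨k, hk⟩ := hπeq _ _ e
    dsimp only at hk
    rw [← c.add] at hk
    have hk' := c.inj hk
    rcases (cpl_facts v hv (a' - a) (b' - b) 0 0).2 with ⟨h1, h2⟩ | h
    · exact Prod.ext (sub_eq_zero.1 h1).symm (sub_eq_zero.1 h2).symm
    · refine absurd ?_ (h k)
      simp only [hf] at hk'
      rw [sub_smul, sub_smul, sub_add_sub_comm, hk', add_sub_cancel_left]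
  have hPnc : ¬ IsCyclic (P : Subgroup (C ⧸ Z)) := by
    intro hcyc
    obtain ⟨⟨w, hw⟩, hgen⟩ := hcyc.exists_ofOrder_eq_natCard
    have h3 : w ^ 3 = 1 := by
      rw [hPmap] at hw
      obtain ⟨⟨j, hj⟩, hjJ, rfl⟩ := hw
      obtain ⟨u, rfl⟩ := (c.mem_J _).1 (mem_subgroupOf.1 hjJ)
      rw [← map_pow, ← map_one π]
      refine congrArg π (Subtype.ext ?_)
      show c.E u ^ 3 = 1
      rw [E_pow, ← E_zero c]
      exact congrArg c.E (funext fun i => three_smul _)
    have hle : Nat.card (P : Subgroup (C ⧸ Z)) ≤ 3 := by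
      rw [← hgen, ← Subgroup.orderOf_coe]
      exact Nat.le_of_dvd (by norm_num) (orderOf_dvd_of_pow_eq_one h3)
    have h9 : 9 ≤ Nat.card (P : Subgroup (C ⧸ Z)) := by
      refine le_trans (le_of_eq (by simp : 9 = Nat.card (ZMod 3 × ZMod 3)))
        (Nat.card_le_card_of_injective (fun p => (⟨g₀ p, hPmem _⟩ : (P : Subgroup (C ⧸ Z))))
          fun p q e => hg₀inj (congrArg Subtype.val e))
    omega
  -- no normal subgroup of order prime to three
  set K := Cfsg.pPrimeCore 3 (C ⧸ Z) with hK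
  haveI hKn : K.Normal := Cfsg.pPrimeCore_normal 3 _
  have hKcop : (Nat.card K).Coprime 3 := CfsgLib.Base.pPrimeCore_coprime 3 _
  have hKP : ∀ q ∈ K, q ∈ (P : Subgroup (C ⧸ Z)) → q = 1 := by
    intro q hq hqP
    obtain ⟨i, hi⟩ := P.isPGroup' ⟨q, hqP⟩
    have h1 : q ^ 3 ^ i = 1 := congrArg Subtype.val hi
    exact orderOf_eq_one_iff.1 (Nat.eq_one_of_dvd_coprimes (hKcop.pow_right i)
      (orderOf_dvd_natCard _ hq) (orderOf_dvd_of_pow_eq_one h1))
  haveI : IsMulCommutative (P : Subgroup (C ⧸ Z)) := hab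
  have hKbot : K = ⊥ := by
    refine le_bot_iff.1 (CfsgLib.Coprime.le_of_centralizer_le_of_not_isCyclic
      (A := (P : Subgroup (C ⧸ Z))) hPnc (by rw [normalizer_eq_top (H := K)]; exact le_top) ?_ ?_)
    · obtain ⟨i, hi⟩ := IsPGroup.iff_card.1 P.isPGroup'
      rw [hi]
      exact Nat.Coprime.pow_left _ hKcop.symm
    · intro p hp hp1 q hq
      obtain ⟨g, rfl⟩ := hπsurj q
      rw [hPmap] at hp
      obtain ⟨⟨j, hj⟩, hjJ, rfl⟩ := hp
      obtain ⟨u, rfl⟩ := (c.mem_J _).1 (mem_subgroupOf.1 hjJ)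
      have hu : ∀ a : ZMod 3, u ≠ a • v := fun a e => hp1 (by
        rw [hπ, QuotientGroup.mk'_apply, QuotientGroup.eq_one_iff, hZ, mem_subgroupOf]
        show c.E u ∈ zpowers (c.E v)
        rw [e, E_smul]; exact pow_mem (mem_zpowers _) _)
      have hc2 := mem_centralizer_singleton_iff.1 hq.2
      rw [← map_mul, ← map_mul] at hc2
      obtain ⟨a, ha⟩ := hπeq _ _ hc2.symm
      have hgN : (g : M) ∈ normalizer (c.J : Set M) := by
        refine norm_of_shift hv hu (a := a) (mem_centralizer_singleton_iff.1 g.2) ?_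
        rw [c.add, mul_inv_eq_iff_eq_mul]
        calc (g : M) * c.E u = c.E u * (g : M) * c.E (a • v) := ha
          _ = _ := by
            rw [mul_assoc, E_smul, ((show Commute (g : M) (c.E v) from
              mem_centralizer_singleton_iff.1 g.2).pow_right a.val).eq, ← mul_assoc]
      have hgN' : π g ∈ centralizer ((P : Subgroup (C ⧸ Z)) : Set (C ⧸ Z)) := by
        refine mem_centralizer_iff.2 fun p hp => ?_
        rw [hPmap] at hp
        obtain ⟨⟨j', hj'⟩, hjJ', rfl⟩ := hp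
        set d := π g * π ⟨j', hj'⟩ * (π g)⁻¹ * (π ⟨j', hj'⟩)⁻¹ with hd
        have hdP : d ∈ (P : Subgroup (C ⧸ Z)) := by
          rw [hd, hPmap, ← map_inv, ← map_mul, ← map_mul, ← map_inv, ← map_mul]
          refine mem_map_of_mem _ (mem_subgroupOf.2 (mul_mem ?_ (inv_mem ?_)))
          · exact (mem_normalizer_iff.1 hgN _).1 (mem_subgroupOf.1 hjJ')
          · exact mem_subgroupOf.1 hjJ'
        have hdK : d ∈ K := by
          rw [hd, mul_assoc (π g * π ⟨j', hj'⟩), mul_assoc (π g)]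
          refine mul_mem hq.1 ?_
          rw [← mul_assoc]
          exact hKn.conj_mem _ (inv_mem hq.1) _
        have h1 := hKP d hdK hdP
        rw [hd, mul_inv_eq_one, mul_inv_eq_iff_eq_mul] at h1
        exact h1.symm
      rw [hcentP] at hgN'
      exact Subgroup.mem_bot.2 (hKP _ hq.1 hgN')
  -- the cube is normal
  suffices hPn : ∀ q : C ⧸ Z, ∀ p ∈ (P : Subgroup (C ⧸ Z)), q * p * q⁻¹ ∈ (P : Subgroup (C ⧸ Z)) by
    intro g hg
    refine mem_normalizer_fintype fun x hx => ?_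
    obtain ⟨u, rfl⟩ := (c.mem_J _).1 hx
    have h := hPn (π ⟨g, hg⟩) _ (hPmem u)
    rw [← map_inv, ← map_mul, ← map_mul] at h
    exact hmemP _ h
  set N := normalizer ((P : Subgroup (C ⧸ Z)) : Set (C ⧸ Z)) with hN
  by_cases htriv : N ≤ (P : Subgroup (C ⧸ Z))
  · -- Burnside
    have hle : N ≤ centralizer ((P : Subgroup (C ⧸ Z)) : Set (C ⧸ Z)) := by rw [hcentP]; exact htriv
    have hcompl := MonoidHom.ker_transferSylow_isComplement' P hle
    have hker : (MonoidHom.transferSylow P hle).ker ≤ K := by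
      refine CfsgLib.Base.le_pPrimeCore ?_
      have h : ¬ 3 ∣ (P : Subgroup (C ⧸ Z)).index := P.not_dvd_index
      rw [hcompl.index_eq_card] at h
      exact ((Nat.prime_three.coprime_iff_not_dvd).2 h).symm
    rw [hKbot, le_bot_iff] at hker
    have hsup := hcompl.sup_eq_top
    rw [hker, bot_sup_eq] at hsup
    intro q p _
    rw [hsup]; exact mem_top _
  · -- the automiser has order two
    obtain ⟨x, hxN, hxP⟩ := SetLike.not_le_iff_exists.1 htriv
    obtain ⟨g, rfl⟩ := hπsurj x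
    have hinv := (hout g hxN).resolve_left hxP
    have hidx : ((centralizer ((P : Subgroup (C ⧸ Z)) : Set (C ⧸ Z))).subgroupOf N).index = 2 := by
      rw [hcentP]
      refine Subgroup.index_eq_two_iff.2 ⟨⟨π g, hxN⟩, fun b => ?_⟩
      simp only [mem_subgroupOf, Subgroup.coe_mul]
      by_cases hb : (b : C ⧸ Z) ∈ (P : Subgroup (C ⧸ Z))
      · exact Or.inr ⟨hb, fun h => hxP (((P : Subgroup (C ⧸ Z)).mul_mem_cancel_left hb).1 h)⟩
      · refine Or.inl ⟨?_, hb⟩
        obtain ⟨b', hb'⟩ := hπsurj (b : C ⧸ Z)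
        have hbinv := (hout b' (hb'.symm ▸ b.2)).resolve_left (hb'.symm ▸ hb)
        rw [← hcentP]
        refine mem_centralizer_iff.2 fun p hp => ?_
        have e1 := hinv p hp
        have e2 : (b : C ⧸ Z) * (π g * p * (π g)⁻¹) * (b : C ⧸ Z)⁻¹ = p := by
          rw [e1, ← hb', hbinv p⁻¹ (inv_mem hp), inv_inv]
        calc p * ((b : C ⧸ Z) * π g) = ((b : C ⧸ Z) * (π g * p * (π g)⁻¹) * (b : C ⧸ Z)⁻¹) *
              ((b : C ⧸ Z) * π g) := by rw [e2]
          _ = (b : C ⧸ Z) * π g * p := by group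
    have hres : Cfsg.pResidual 3 (C ⧸ Z) = ⊤ := by
      set W := Cfsg.pResidual 3 (C ⧸ Z)
      haveI hWn : W.Normal := CfsgLib.Transfer.pResidual_normal
      have hPW : (P : Subgroup (C ⧸ Z)) ≤ W := by
        intro p hp
        have hfoc : (P : Subgroup (C ⧸ Z)) ⊓ W = _ := Cfsg.Agent.S0075.result P hab
        have hcm : p * π g * p⁻¹ * (π g)⁻¹ ∈ (P : Subgroup (C ⧸ Z)) ⊓ W := by
          rw [hfoc]; exact commutator_mem_commutator hp hxN
        have e : p * π g * p⁻¹ * (π g)⁻¹ = p * p := by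
          rw [mul_assoc p, mul_assoc p, hinv _ (inv_mem hp), inv_inv]
        rw [e] at hcm
        have h3 : p ^ 3 = 1 := by
          rw [hPmap] at hp
          obtain ⟨⟨j, hj⟩, hjJ, rfl⟩ := hp
          obtain ⟨u, rfl⟩ := (c.mem_J _).1 (mem_subgroupOf.1 hjJ)
          rw [← map_pow, ← map_one π]
          refine congrArg π (Subtype.ext ?_)
          show c.E u ^ 3 = 1
          rw [E_pow, ← E_zero c]
          exact congrArg c.E (funext fun i => three_smul _)
        have hp2 : (p * p) ^ 2 = p := by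
          rw [← pow_two, ← pow_mul, show 2 * 2 = 3 + 1 from rfl, pow_succ, h3, one_mul]
        rw [← hp2]
        exact pow_mem hcm.2 _
      refine (eq_top_iff' _).2 fun q => ?_
      obtain ⟨n, b, hb, hn⟩ := Nat.exists_eq_pow_mul_and_not_dvd (orderOf_pos q).ne' 3 (by norm_num)
      have hb0 : 0 < b := Nat.pos_of_ne_zero fun e => hb (e ▸ dvd_zero 3)
      have hqb : q ^ b ∈ W := by
        have hp : IsPGroup 3 (zpowers (q ^ b)) := by
          refine IsPGroup.of_card (n := n) ?_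
          rw [Nat.card_zpowers, orderOf_pow, hn, Nat.gcd_mul_left_left, Nat.mul_div_cancel _ hb0]
        obtain ⟨S', hS'⟩ := hp.exists_le_sylow
        obtain ⟨y, hy⟩ := MulAction.exists_smul_eq (C ⧸ Z) S' P
        have hm : y * q ^ b * y⁻¹ ∈ W := hPW (by
          show y * q ^ b * y⁻¹ ∈ P
          rw [← hy, Sylow.smul_def]
          exact ⟨_, hS' (mem_zpowers _), rfl⟩)
        have := hWn.conj_mem _ hm y⁻¹
        rwa [show y⁻¹ * (y * q ^ b * y⁻¹) * y⁻¹⁻¹ = q ^ b by group] at this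
      have hqn : q ^ 3 ^ n ∈ W := subset_closure (show Nat.Coprime (orderOf (q ^ 3 ^ n)) 3 by
        rw [orderOf_pow_of_dvd (by positivity) ⟨b, hn⟩, hn,
          Nat.mul_div_cancel_left _ (by positivity)]
        exact ((Nat.prime_three.coprime_iff_not_dvd).2 hb).symm)
      have hco : Nat.gcd (3 ^ n) b = 1 :=
        Nat.Coprime.pow_left n ((Nat.prime_three.coprime_iff_not_dvd).2 hb)
      have hgcd := Nat.gcd_eq_gcd_ab (3 ^ n) b
      rw [hco] at hgcd
      rw [← zpow_one q, show (1 : ℤ) = ((1 : ℕ) : ℤ) from rfl, hgcd, zpow_add, zpow_mul, zpow_mul,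
        zpow_natCast, zpow_natCast]
      exact mul_mem (zpow_mem hqn _) (zpow_mem hqb _)
    have hlen : Cfsg.PLengthLE 3 1 (C ⧸ Z) :=
      (Cfsg.Agent.S3347.result 3 (by norm_num) P hab hPnc hidx).resolve_left fun h => h hres
    set σ := QuotientGroup.mk' (Cfsg.pPrimeCore 3 (C ⧸ Z))
    have hσinj : Function.Injective σ := (σ.ker_eq_bot_iff).1 (by
      rw [QuotientGroup.ker_mk']; exact hKbot)
    have h1 := CfsgLib.OddOrder.map_le_pCore_quotient hlen P.isPGroup'
    haveI : (Cfsg.pCore 3 ((C ⧸ Z) ⧸ Cfsg.pPrimeCore 3 (C ⧸ Z))).Normal := Cfsg.pCore_normal 3 _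
    set L := (Cfsg.pCore 3 ((C ⧸ Z) ⧸ Cfsg.pPrimeCore 3 (C ⧸ Z))).comap σ with hL
    have hPL : (P : Subgroup (C ⧸ Z)) ≤ L := fun p hp => h1 ⟨p, hp, rfl⟩
    have hLP : L = (P : Subgroup (C ⧸ Z)) :=
      P.3 ((CfsgLib.Base.isPGroup_pCore 3 _).comap_of_injective σ hσinj) hPL
    haveI hLn : L.Normal := inferInstanceAs (Subgroup.comap σ _).Normal
    intro q p hp
    rw [← hLP]
    exact hLn.conj_mem _ (hPL hp) _

end CfsgLib.McLThree.CubeTwo

namespace CfsgLib.McLThree

universe u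

/-- The centralisers of the vectors of weight two normalise the cube. -/
theorem cube_two : StmtCubeTwo.{u} := by
  intro M _ _ c v hv
  by_cases h : OddWeight v
  · exact c.cent v h
  · exact CubeTwo.main ⟨hv, h⟩

end CfsgLib.McLThree
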