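import Cfsg.Agent.Lib.McLThree.CentYFrame
import Cfsg.Agent.Lib.McLThree.CentYMono
import Cfsg.Agent.Lib.McLThree.CentYOdd
import Cfsg.Agent.Lib.McLThree.CentYTwo
import Cfsg.Agent.Lib.McLThree.CentYCube

/-!
# The centralisers of the diagonal elements normalise `J`

Modulo `⟨y⟩` the subgroup `J` is a cube configuration in the centraliser of `y = z b`, so it is
normal there; the other diagonal element is conjugate to this one by an element normalising `J`.
-/

set_option autoImplicit false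
set_option linter.unusedSectionVars false
set_option linter.style.haveILetI false
set_option maxRecDepth 100000
set_option synthInstance.maxSize 4000
set_option synthInstance.maxHeartbeats 400000

namespace CfsgLib.McLThree.CentY

open Subgroup CfsgLib.McLThree.Six CubeAux

universe u

/-- The cyclic shift of a vector. -/
def shiftV (v : Cube3) : Cube3 := ![v 2, v 0, v 1]

/-- The change of sign given by `t`. -/
def flipT (v : Cube3) : Cube3 := ![v 0, -v 1, -v 2]

/-- The change of sign given by `r`. -/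
def flipR (v : Cube3) : Cube3 := ![-v 0, v 1, -v 2]

theorem lin_word : ∀ l : CubeAux.Lin, dtm l → Equiv.Perm.sign l.1 = 1 →
    ∃ a : Fin 3, ∃ b c : Bool, ∀ i : Fin 3,
      lact l (Pi.single i 1) = shiftV^[a.1] ((if b then flipT else id)
        ((if c then flipR else id) (Pi.single i 1))) := by
  decide +kernel

theorem word_lin : ∀ a : Fin 3, ∀ b c : Bool, ∃ l : CubeAux.Lin, ∀ v : Cube3,
    lact l v = shiftV^[a.1] ((if b then flipT else id) ((if c then flipR else id) v)) := by
  decide +kernel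

theorem lam_zero : ∀ (i : Fin 3) (l : ZMod 3),
    (∀ k, InZ k (cubeBase i) → InZ (k + l) (cubeBase i)) → l = 0 := by
  decide +kernel

theorem odd_base : ∀ i : Fin 3, OddWeight (cubeBase i) := by decide +kernel

variable {G : Type u} [Group G] [Finite G] {D : Top G} {P : Model D} {S : Swap P}

namespace Frame

variable (F : Frame S)

theorem y_pt (k : ZMod 3) (v : Cube3) : F.pt k v = (D.z * S.b) ^ k.val * F.pt 0 v := by
  rw [← F.pt_k, ← F.pt_add, add_zero, zero_add]

/-- A map of vectors realised in the centraliser of `y`. -/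
def Real (f : Cube3 → Cube3) : Prop :=
  ∃ h : G, Commute h (D.z * S.b) ∧ ∀ k v, ∃ l, h * F.pt k v * h⁻¹ = F.pt l (f v)

theorem Real.comp {f g : Cube3 → Cube3} (hf : F.Real f) (hg : F.Real g) : F.Real (f ∘ g) := by
  obtain ⟨h, hc, hh⟩ := hf
  obtain ⟨h', hc', hh'⟩ := hg
  refine ⟨h * h', hc.mul_left hc', fun k v => ?_⟩
  obtain ⟨l, hl⟩ := hh' k v
  obtain ⟨l', hl'⟩ := hh l (g v)
  exact ⟨l', by rw [Function.comp_apply, ← hl', ← hl]; group⟩

theorem real_id : F.Real id := ⟨1, Commute.one_left _, fun k v => ⟨k, by simp⟩⟩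

theorem real_t : F.Real flipT :=
  ⟨D.t, D.tz.mul_right S.bt, fun k v => ⟨k, F.t_pt k v⟩⟩

theorem real_r : F.Real flipR := by
  refine ⟨(S.r : G), ?_, fun k v => ⟨k + v 0, F.r_act k v⟩⟩
  refine mul_inv_eq_iff_eq_mul.1 ?_
  rw [cmul, S.rz, S.rb, (J_comm D S.bJ (z_mem_J D)).eq]

theorem real_u : F.Real shiftV := by
  refine ⟨F.u, ?_, fun k v => ⟨k - v 0 + v 2, F.u_act k v⟩⟩
  refine mul_inv_eq_iff_eq_mul.1 ?_
  have h := F.u_act 1 0
  rw [show point D.z (D.z * S.b) F.w₂ F.w₃ 1 (0 : Cube3) = D.z * S.b from F.pt_y,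
    show ((1 : ZMod 3) - (0 : Cube3) 0 + (0 : Cube3) 2) = 1 by decide +kernel,
    show (![(0 : Cube3) 2, (0 : Cube3) 0, (0 : Cube3) 1] : Cube3) = 0 by decide +kernel,
    show point D.z (D.z * S.b) F.w₂ F.w₃ 1 (0 : Cube3) = D.z * S.b from F.pt_y] at h
  exact h

theorem real_even {l : CubeAux.Lin} (hl : dtm l) (he : Equiv.Perm.sign l.1 = 1) :
    F.Real (lact l) := by
  obtain ⟨a, b, c, h⟩ := lin_word l hl he
  obtain ⟨l', hl'⟩ := word_lin a b c
  have hll : l = l' := lact_inj l l' fun i => by rw [h, hl']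
  subst hll
  have e : lact l = shiftV^[a.1] ∘ ((if b then flipT else id) ∘ (if c then flipR else id)) :=
    funext fun v => hl' v
  rw [e]
  refine Real.comp F ?_ (Real.comp F ?_ ?_)
  · induction a.1 with
    | zero => exact F.real_id
    | succ n ih => rw [Function.iterate_succ]; exact Real.comp F ih F.real_u
  · cases b
    exacts [F.real_id, F.real_t]
  · cases c
    exacts [F.real_id, F.real_r]

end Frame

/-- The centraliser of `y = z b` normalises `J`. -/
theorem cent_b (F : Frame S) :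
    centralizer ({D.z * S.b} : Set G) ≤ normalizer (D.J : Set G) := by
  set y := D.z * S.b with hy
  have hyJ : y ∈ D.J := mul_mem (z_mem_J D) S.bJ
  set C := centralizer ({y} : Set G) with hC
  have hcy : ∀ g : C, Commute (g : G) y := fun g => mem_centralizer_singleton_iff.1 g.2
  have hJC : D.J ≤ C := fun x hx => mem_centralizer_singleton_iff.2 (J_comm D hx hyJ).eq
  set Z : Subgroup C := (zpowers y).subgroupOf C with hZ
  haveI hZn : Z.Normal := ⟨fun z hz g => by
    rw [hZ, mem_subgroupOf] at hz ⊢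
    obtain ⟨n, hn⟩ := mem_zpowers_iff.1 hz
    show (g : G) * (z : G) * (g : G)⁻¹ ∈ zpowers y
    rw [← hn, ((hcy g).zpow_right n).eq, mul_inv_cancel_right]
    exact zpow_mem (mem_zpowers _) n⟩
  set π := QuotientGroup.mk' Z with hπ
  let E : Cube3 → C ⧸ Z := fun v => π ⟨F.pt 0 v, hJC (F.pt_mem 0 v)⟩
  have hE : ∀ k v (h : F.pt k v ∈ C), π ⟨F.pt k v, h⟩ = E v := by
    intro k v h
    rw [hπ]
    refine (QuotientGroup.mk'_eq_mk' Z).2 ⟨⟨y ^ k.val, pow_mem (hJC hyJ) _⟩⁻¹, inv_mem ?_, ?_⟩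
    · exact mem_subgroupOf.2 (pow_mem (mem_zpowers _) _)
    · refine Subtype.ext ?_
      show F.pt k v * (y ^ k.val)⁻¹ = F.pt 0 v
      rw [F.y_pt, (J_comm D (pow_mem hyJ _) (F.pt_mem 0 v)).eq, mul_inv_cancel_right]
  have hEeq : ∀ (g : C) v, π g = E v → ∃ k, (g : G) = F.pt k v := by
    intro g v e
    obtain ⟨z, hz, e'⟩ := (QuotientGroup.mk'_eq_mk' Z).1 e.symm
    obtain ⟨n, hn⟩ := mem_powers_iff_mem_zpowers.2 (mem_subgroupOf.1 hz)
    replace hn : y ^ n = (z : G) := hn
    refine ⟨(n : ZMod 3), ?_⟩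
    rw [← e', Subgroup.coe_mul, ← hn, F.y_pt (n : ZMod 3), ZMod.val_natCast,
      ← pow_eq_pow_mod _ (cube_J hyJ)]
    exact (J_comm D (F.pt_mem 0 v) (pow_mem hyJ _)).eq
  set JB : Subgroup (C ⧸ Z) := (D.J.subgroupOf C).map π with hJB
  have hmemJ : ∀ x, x ∈ JB ↔ ∃ v, E v = x := by
    intro x
    constructor
    · rintro ⟨⟨j, hj⟩, hjJ, rfl⟩
      obtain ⟨k, v, e⟩ := F.surj j (mem_subgroupOf.1 hjJ)
      have e' : F.pt k v = j := e
      subst e'
      exact ⟨v, (hE k v hj).symm⟩
    · rintro ⟨v, rfl⟩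
      exact ⟨_, mem_subgroupOf.2 (F.pt_mem 0 v), rfl⟩
  have hnorm : ∀ g : C, π g ∈ normalizer (JB : Set (C ⧸ Z)) →
      (g : G) ∈ normalizer (D.J : Set G) := by
    intro g hg
    refine mem_normalizer_fintype fun x hx => ?_
    have h := (mem_normalizer_iff.1 hg _).1
      (mem_map_of_mem π (mem_subgroupOf.2 hx : (⟨x, hJC hx⟩ : C) ∈ D.J.subgroupOf C))
    rw [← map_inv, ← map_mul, ← map_mul] at h
    obtain ⟨v, hv⟩ := (hmemJ _).1 h
    obtain ⟨k, hk⟩ := hEeq _ v hv.symm
    show (g : G) * x * (g : G)⁻¹ ∈ D.J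
    rw [show (g : G) * x * (g : G)⁻¹ = F.pt k v from hk]
    exact F.pt_mem k v
  have hnorm' : ∀ g : C, (g : G) ∈ normalizer (D.J : Set G) →
      π g ∈ normalizer (JB : Set (C ⧸ Z)) := by
    intro g hg
    refine mem_normalizer_fintype fun x hx => ?_
    obtain ⟨j, hj, rfl⟩ := hx
    rw [← map_inv, ← map_mul, ← map_mul]
    exact mem_map_of_mem π (mem_subgroupOf.2 (conj_memJ hg (mem_subgroupOf.1 hj)))
  have hadd : ∀ v w, E (v + w) = E v * E w := fun v w => by
    rw [← map_mul]
    refine congrArg π (Subtype.ext ?_)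
    show F.pt 0 (v + w) = F.pt 0 v * F.pt 0 w
    rw [← F.pt_add, add_zero]
  have hinj : Function.Injective E := fun v w e => by
    obtain ⟨k, hk⟩ := hEeq ⟨F.pt 0 v, hJC (F.pt_mem 0 v)⟩ w e
    exact (F.pt_inj hk).2
  have hodd : ∀ (g : C) (v : Cube3), OddWeight v → π g * E v * (π g)⁻¹ = E v →
      (g : G) ∈ normalizer (D.J : Set G) := by
    intro g v hv e
    rw [← map_inv, ← map_mul, ← map_mul] at e
    obtain ⟨k, hk⟩ := hEeq _ v e
    exact odd_lines G D P S F v g hv (hcy g) ⟨k, hk⟩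
  let c : CubePre (C ⧸ Z) :=
    { E := E
      J := JB
      mem_J := hmemJ
      add := hadd
      inj := hinj
      upper := fun h hh => by
        obtain ⟨g, rfl⟩ := QuotientGroup.mk'_surjective Z h
        obtain ⟨m, hm⟩ := mono G D P S F g (hnorm g hh) (mul_inv_eq_iff_eq_mul.2 (hcy g).eq)
        refine ⟨m, fun v => ?_⟩
        obtain ⟨l, hl⟩ := hm 0 v
        rw [← map_inv, ← map_mul, ← map_mul,
          ← hE l (m.act v) (hJC (F.pt_mem _ _))]
        exact congrArg π (Subtype.ext hl)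
      lower := fun m hm => by
        obtain ⟨h, hc, hh⟩ := F.real_even (l := ofMono m) (ofMono_spec m).2 hm
        refine ⟨π ⟨h, mem_centralizer_singleton_iff.2 hc.eq⟩, fun v => ?_⟩
        obtain ⟨l, hl⟩ := hh 0 v
        rw [← map_inv, ← map_mul, ← map_mul, ← (ofMono_spec m).1,
          ← hE l (lact (ofMono m) v) (hJC (F.pt_mem _ _))]
        exact congrArg π (Subtype.ext hl)
      selfc := fun x hx => by
        obtain ⟨g, rfl⟩ := QuotientGroup.mk'_surjective Z x
        have hfix : ∀ v, ∃ l, (g : G) * F.pt 0 v * (g : G)⁻¹ = F.pt l v := by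
          intro v
          have e := (mem_centralizer_iff.1 hx _ ((hmemJ _).2 ⟨v, rfl⟩)).symm
          rw [← mul_inv_eq_iff_eq_mul, ← map_inv, ← map_mul, ← map_mul] at e
          obtain ⟨k, hk⟩ := hEeq _ v e
          exact ⟨k, hk⟩
        have hgN : (g : G) ∈ normalizer (D.J : Set G) := by
          obtain ⟨k, hk⟩ := hfix (cubeBase 0)
          exact odd_lines G D P S F _ g (odd_base 0) (hcy g) ⟨k, hk⟩
        have hcomm : ∀ i, Commute (g : G) (F.pt 0 (cubeBase i)) := by
          intro i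
          obtain ⟨l, hl⟩ := hfix (cubeBase i)
          have hk : ∀ k, (g : G) * F.pt k (cubeBase i) * (g : G)⁻¹ = F.pt (k + l) (cubeBase i) := by
            intro k
            rw [F.y_pt k, cmul, hl, ((hcy g).pow_right k.val).eq, mul_inv_cancel_right,
              ← F.pt_k, ← F.pt_add, zero_add]
          have hl0 : l = 0 := lam_zero i l fun k hk' =>
            (F.zc_pt _ _).1 (hk k ▸ ((F.zc_pt _ _).2 hk').conj hgN)
          rw [hl0] at hl
          exact mul_inv_eq_iff_eq_mul.1 hl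
        refine mem_map_of_mem π (mem_subgroupOf.2 (centJ P (mem_centralizer_iff.2 fun j hj => ?_)))
        obtain ⟨k, v, e⟩ := F.surj j hj
        have e' : F.pt k v = j := e
        rw [← e', F.y_pt, F.pt_basis]
        exact (((hcy g).pow_right _).mul_right ((((hcomm 0).pow_right _).mul_right
          ((hcomm 1).pow_right _)).mul_right ((hcomm 2).pow_right _))).eq.symm
      cent := fun v hv x hx => by
        obtain ⟨g, rfl⟩ := QuotientGroup.mk'_surjective Z x
        refine hnorm' g (hodd g v hv ?_)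
        rw [mul_inv_eq_iff_eq_mul]
        exact mem_centralizer_singleton_iff.1 hx }
  have htop : normalizer (JB : Set (C ⧸ Z)) = ⊤ := cube_top _
    { E := c.E, J := c.J, mem_J := c.mem_J, add := c.add, inj := c.inj, upper := c.upper,
      lower := c.lower, selfc := c.selfc, cent := fun v hv => cube_two _ c v hv }
  intro g hg
  exact hnorm ⟨g, hg⟩ (htop ▸ mem_top _)

/-- Both diagonal elements. -/
theorem cent_both (P : Model D) :
    centralizer ({D.z * D.a} : Set G) ≤ normalizer (D.J : Set G) ∧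
      centralizer ({D.z * D.a⁻¹} : Set G) ≤ normalizer (D.J : Set G) := by
  obtain ⟨S⟩ := exists_swap P
  obtain ⟨F⟩ := frame G D P S
  have h1 := cent_b F
  obtain ⟨k, hk, hka, -⟩ := exists_k (D := D)
  have hkz : k * D.z * k⁻¹ = D.z :=
    mul_inv_eq_iff_eq_mul.2 (mem_centralizer_singleton_iff.1 hk.1)
  have hkJ : k ∈ normalizer (D.J : Set G) := normJ_of (normQ D (Or.inl hkz)) (Or.inr hka)
  have h2 : centralizer ({D.z * S.b⁻¹} : Set G) ≤ normalizer (D.J : Set G) := by
    intro m hm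
    have hkb : k * S.b * k⁻¹ = S.b⁻¹ := by
      rcases S.b_cases with h | h <;> rw [h]
      · exact hka
      · rw [← conj_inv, hka]
    have hy : k * (D.z * S.b) * k⁻¹ = D.z * S.b⁻¹ := by rw [cmul, hkz, hkb]
    have hm' : k⁻¹ * m * k ∈ normalizer (D.J : Set G) := by
      refine h1 (mem_centralizer_singleton_iff.2 ?_)
      have e := mem_centralizer_singleton_iff.1 hm
      rw [← hy] at e
      calc k⁻¹ * m * k * (D.z * S.b) = k⁻¹ * (m * (k * (D.z * S.b) * k⁻¹)) * k := by group
        _ = k⁻¹ * (k * (D.z * S.b) * k⁻¹ * m) * k := by rw [e]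
        _ = D.z * S.b * (k⁻¹ * m * k) := by group
    have := mul_mem (mul_mem hkJ hm') (inv_mem hkJ)
    rwa [show k * (k⁻¹ * m * k) * k⁻¹ = m by group] at this
  rcases S.a_cases with h | h
  · rw [h]; exact ⟨h1, h2⟩
  · rw [h, inv_inv]; exact ⟨h2, h1⟩

end CfsgLib.McLThree.CentY

namespace CfsgLib.McLThree

universe u

/-- Piece P3b: the centralisers of the diagonal lines normalise `J`. -/
theorem centY : StmtCentY.{u} := by
  intro G _ _ Z J Q h D _ _ hJ
  obtain ⟨P⟩ := Six.exists_model (D := D.toTop) h hJ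
  exact CentY.cent_both P

end CfsgLib.McLThree
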