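import Cfsg.Agent.Lib.Spor.PermOut.McL
import Cfsg.Agent.Lib.Spor.McLInvol.Main

/-!
# Facts on the McLaughlin group used in the census
-/

set_option autoImplicit false
set_option maxRecDepth 100000
set_option linter.style.haveILetI false

namespace CfsgLib.McLThree.Census

open Equiv Subgroup
open CfsgLib.Spor CfsgLib.Spor.PermOut CfsgLib.Spor.PermOut.Data

/-- What the census uses about the group. -/
structure Facts (K : Type*) [Group K] : Prop where
  card : Nat.card K = 898128000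
  invol : ∀ x y : K, orderOf x = 2 → orderOf y = 2 → IsConj x y
  cent : ∀ x : K, orderOf x = 2 → Nat.card (centralizer ({x} : Set K)) = 40320
  frame : ∃ a b : K, orderOf a = 11 ∧ orderOf b = 5 ∧ b * a * b⁻¹ = a ^ 4 ∧
    (∀ g, g * a = a * g → g ∈ zpowers a) ∧ Nat.card (centralizer ({b} : Set K)) ≤ 25 ∧
    ∃ φ : MulAut K, (∀ x, φ (φ x) = x) ∧ φ a = a ∧ ∀ g, φ ≠ MulAut.conj g

/-- The extra checks: `b` has order five and a small centraliser, and the outer permutation is
an involution that moves `c`. -/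
def extraOK (D : Data) : Bool :=
  D.agree (itQ D.b 5) id && !D.agree (getQ D.b) id &&
  Nat.ble (cands D.n D.b D.b 1 (D.levC D.levB)).length 25 &&
  D.agree (fun x => getQ D.outer (getQ D.outer x)) id && !D.flip &&
  !D.agree (getQ D.c) (app D.imgCs)

theorem extra_ok : extraOK McLData.cert = true := by decide +kernel

theorem frame_of_cert {D : Data} {M : Subgroup (Perm (Fin D.n))} (hN : Nat.card M = D.ord)
    (ha : InM M D.a) (hb : InM M D.b) (hc : InM M D.c) (h1 : D.checkGroup = true)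
    (h2 : D.checkGens = true) (h3 : D.checkCent = true) (h5 : D.checkOuter = true)
    (h6 : extraOK D = true) :
    ∃ a b : M, orderOf a = 11 ∧ orderOf b = 5 ∧ b * a * b⁻¹ = a ^ 4 ∧
      (∀ g, g * a = a * g → g ∈ zpowers a) ∧ Nat.card (centralizer ({b} : Set M)) ≤ 25 ∧
      ∃ φ : MulAut M, (∀ x, φ (φ x) = x) ∧ φ a = a ∧ ∀ g, φ ≠ MulAut.conj g := by
  classical
  haveI : Fact (Nat.Prime 11) := ⟨by norm_num⟩
  haveI : Fact (Nat.Prime 5) := ⟨by norm_num⟩
  simp only [checkGroup, Bool.and_eq_true, Nat.beq_eq] at h1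
  obtain ⟨⟨⟨⟨hs, hlA⟩, hlB⟩, hpA⟩, hpB⟩ := h1
  simp only [checkGens, Bool.and_eq_true, Bool.not_eq_true', agree_iff] at h2
  obtain ⟨⟨⟨⟨⟨-, ha11⟩, hane⟩, hba⟩, -⟩, -⟩ := h2
  simp only [extraOK, Bool.and_eq_true, Bool.not_eq_true', agree_iff, Nat.ble_eq] at h6
  obtain ⟨⟨⟨⟨⟨hb5, hbne⟩, hlen⟩, hHH⟩, hflip⟩, hcmv⟩ := h6
  simp only [checkOuter, Bool.and_eq_true, List.all_eq_true, Bool.not_eq_true', List.mem_range,
    Nat.blt_eq, agree_iff] at h5
  obtain ⟨⟨⟨⟨⟨⟨hHI, hIH⟩, hlt⟩, hHA⟩, hHB⟩, hHC⟩, -⟩ := h5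
  obtain ⟨A, hA, hAa⟩ := ha
  obtain ⟨B, hB, hBb⟩ := hb
  obtain ⟨C, hC, hCc⟩ := hc
  set K := Subgroup.closure ({A, B, C} : Set (Perm (Fin D.n))) with hKdef
  have hKM : K ≤ M := (Subgroup.closure_le _).2 (by rintro x (rfl | rfl | rfl) <;> assumption)
  have hAK : InM K D.a := ⟨A, Subgroup.subset_closure (by simp), hAa⟩
  obtain ⟨-, htblK⟩ := inM_slp hAK _ _ _ hs (all_fill [D.a, D.b, D.c] 0 (t := .nil) (fun x hx => by
    simp only [List.mem_cons, List.not_mem_nil, or_false] at hx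
    rcases hx with rfl | rfl | rfl
    · exact hAK
    · exact ⟨B, Subgroup.subset_closure (by simp), hBb⟩
    · exact ⟨C, Subgroup.subset_closure (by simp), hCc⟩) trivial)
  have hcdK : ∀ i, InM K (D.cd i) := fun i => htblK.get hAK i
  have hlevK : ∀ (L : List (ℕ × Option ℕ × List ℕ)), ∀ l ∈ D.levC L, ∀ t ∈ l.2.2, InM K t := by
    intro L l hl t ht
    obtain ⟨l', -, rfl⟩ := List.mem_map.1 hl
    obtain ⟨i, -, rfl⟩ := List.mem_map.1 ht
    exact hcdK i
  have hgen : K = M := by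
    refine Subgroup.eq_of_le_of_card_ge hKM ?_
    rw [hN, ← hpA]
    exact card_eq_of_elts hlA (hlevK _)
  rw [hgen] at hlevK hcdK
  have hval : ∀ (σ : Perm (Fin D.n)) (f : ℕ → ℕ) (τ : Perm (Fin D.n)) (g : ℕ → ℕ),
      (∀ i : Fin D.n, ((σ i : Fin D.n) : ℕ) = f i) → (∀ i : Fin D.n, ((τ i : Fin D.n) : ℕ) = g i) →
      (σ = τ ↔ ∀ x < D.n, f x = g x) := fun σ f τ g hσ hτ => by
    refine ⟨fun e x hx => by rw [← hσ ⟨x, hx⟩, e, hτ ⟨x, hx⟩], fun e => Equiv.ext fun i => Fin.ext ?_⟩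
    rw [hσ, hτ, e i i.2]
  have hA11 : A ^ 11 = 1 := (hval _ (itQ D.a 11) _ id (hAa.itQ 11) (fun i => rfl)).2 ha11
  have hA1 : A ≠ 1 := fun e => by
    have := (hval A (getQ D.a) 1 id hAa (fun i => rfl)).1 e
    rw [agree_iff.2 this] at hane
    exact Bool.noConfusion hane
  have hB5 : B ^ 5 = 1 := (hval _ (itQ D.b 5) _ id (hBb.itQ 5) (fun i => rfl)).2 hb5
  have hB1 : B ≠ 1 := fun e => by
    have := (hval B (getQ D.b) 1 id hBb (fun i => rfl)).1 e
    rw [agree_iff.2 this] at hbne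
    exact Bool.noConfusion hbne
  have hBA : B * A = A ^ 4 * B :=
    (hval _ (fun x => getQ D.b (getQ D.a x)) _ (fun x => itQ D.a 4 (getQ D.b x))
      (fun i => by rw [Perm.mul_apply, hBb, hAa]) (fun i => by rw [Perm.mul_apply, hAa.itQ, hBb])).2 hba
  have hord : orderOf (⟨A, hA⟩ : M) = 11 :=
    orderOf_eq_prime (Subtype.ext hA11) fun h => hA1 (congrArg Subtype.val h)
  have hcentA : ∀ g : M, g * ⟨A, hA⟩ = ⟨A, hA⟩ * g → g ∈ zpowers (⟨A, hA⟩ : M) := by
    intro g hg
    obtain ⟨q, hq, hqv⟩ := exists_cand (u := D.a) (v := D.a) (k := 1) hAa hAa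
      (y := g.1) (by rw [pow_one]; exact congrArg Subtype.val hg) g.2 hlA (hlevK _) (hpA.trans hN.symm)
    obtain ⟨t, -, ht⟩ := List.any_eq_true.1 (List.all_eq_true.1 h3 q hq)
    exact mem_zpowers_iff.2 ⟨t, by
      rw [zpow_natCast]
      exact Subtype.ext ((hval _ _ _ _ hqv (hAa.itQ t)).2 (agree_iff.1 ht)).symm⟩
  refine ⟨⟨A, hA⟩, ⟨B, hB⟩, hord, ?_, ?_, hcentA, ?_, ?_⟩
  · exact orderOf_eq_prime (Subtype.ext hB5) fun h => hB1 (congrArg Subtype.val h)
  · refine Subtype.ext ?_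
    show B * A * B⁻¹ = A ^ 4
    rw [hBA, mul_inv_cancel_right]
  · let L := cands D.n D.b D.b 1 (D.levC D.levB)
    have hex : ∀ g : centralizer ({(⟨B, hB⟩ : M)} : Set M), ∃ q : Fin L.length,
        ∀ i : Fin D.n, (((g : M).1 i : Fin D.n) : ℕ) = app L[(q : ℕ)] i := by
      intro g
      obtain ⟨q, hq, hqv⟩ := exists_cand (u := D.b) (v := D.b) (k := 1) hBb hBb (y := (g : M).1)
        (by rw [pow_one]; exact congrArg Subtype.val (mem_centralizer_singleton_iff.1 g.2))
        (g : M).2 hlB (hlevK _) (hpB.trans hN.symm)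
      obtain ⟨j, hj, rfl⟩ := List.mem_iff_getElem.1 hq
      exact ⟨⟨j, hj⟩, hqv⟩
    choose pick hpick using hex
    refine le_trans (le_trans (Nat.card_le_card_of_injective pick fun g g' e => ?_)
      (le_of_eq (Nat.card_fin _))) hlen
    refine Subtype.ext (Subtype.ext ((hval _ _ _ _ (hpick g) (hpick g')).2 fun x _ => ?_))
    rw [e]
  · let H : Perm (Fin D.n) :=
      { toFun := fun i => ⟨getQ D.outer i, (hlt i i.2).1⟩
        invFun := fun i => ⟨getQ D.outerInv i, (hlt i i.2).2⟩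
        left_inv := fun i => Fin.ext (hIH i i.2)
        right_inv := fun i => Fin.ext (hHI i i.2) }
    have hHr : Rep H D.outer := fun i => rfl
    have hxA : D.imgA = D.a := by simp [imgA, hflip]
    have hys : ∀ t ∈ D.imgCs, InM M t := fun t ht => by
      obtain ⟨i, -, rfl⟩ := List.mem_map.1 ht
      exact hcdK i
    let Y : Perm (Fin D.n) := (D.imgCs.map (permOf D.n)).prod
    have hYr : ∀ i : Fin D.n, ((Y i : Fin D.n) : ℕ) = app D.imgCs i :=
      app_prod _ fun t ht => (hys t ht).rep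
    have hY : Y ∈ M := Subgroup.list_prod_mem _ fun t ht => by
      obtain ⟨u, hu, rfl⟩ := List.mem_map.1 ht
      exact (hys u hu).mem
    have eA : H * A * H⁻¹ = A := mul_inv_eq_iff_eq_mul.2
      ((hval _ (fun x => getQ D.outer (getQ D.a x)) _ (fun x => getQ D.imgA (getQ D.outer x))
        (fun i => by rw [Perm.mul_apply, hHr, hAa])
        (fun i => by rw [hxA, Perm.mul_apply, hAa, hHr])).2 hHA)
    have eB : H * B * H⁻¹ = B := mul_inv_eq_iff_eq_mul.2
      ((hval _ (fun x => getQ D.outer (getQ D.b x)) _ (fun x => getQ D.b (getQ D.outer x))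
        (fun i => by rw [Perm.mul_apply, hHr, hBb]) (fun i => by rw [Perm.mul_apply, hBb, hHr])).2 hHB)
    have eC : H * C * H⁻¹ = Y := mul_inv_eq_iff_eq_mul.2
      ((hval _ (fun x => getQ D.outer (getQ D.c x)) _ (fun x => app D.imgCs (getQ D.outer x))
        (fun i => by rw [Perm.mul_apply, hHr, hCc]) (fun i => by rw [Perm.mul_apply, hYr, hHr])).2 hHC)
    have hYC : Y ≠ C := fun e => by
      have := (hval _ (getQ D.c) _ (app D.imgCs) hCc hYr).1 e.symm
      rw [agree_iff.2 this] at hcmv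
      exact Bool.noConfusion hcmv
    have hH2 : H * H = 1 := (hval _ (fun x => getQ D.outer (getQ D.outer x)) 1 id
      (fun i => by rw [Perm.mul_apply, hHr, hHr]) (fun i => rfl)).2 hHH
    have hle : M ≤ M.comap (MulAut.conj H).toMonoidHom := by
      conv_lhs => rw [← hgen]
      rw [hKdef, Subgroup.closure_le]
      intro x hx
      simp only [Set.mem_insert_iff, Set.mem_singleton_iff] at hx
      rcases hx with hx | hx | hx <;> rw [hx]
      · show H * A * H⁻¹ ∈ M; rw [eA]; exact hA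
      · show H * B * H⁻¹ ∈ M; rw [eB]; exact hB
      · show H * C * H⁻¹ ∈ M; rw [eC]; exact hY
    have hinvol : ∀ g : Perm (Fin D.n), H * (H * g * H⁻¹) * H⁻¹ = g := fun g => by
      rw [show H * (H * g * H⁻¹) * H⁻¹ = H * H * g * (H * H)⁻¹ by group, hH2]; simp
    let φ : MulAut M :=
      { toFun := fun g => ⟨H * g.1 * H⁻¹, hle g.2⟩
        invFun := fun g => ⟨H * g.1 * H⁻¹, hle g.2⟩
        left_inv := fun g => Subtype.ext (hinvol g.1)
        right_inv := fun g => Subtype.ext (hinvol g.1)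
        map_mul' := fun g g' => Subtype.ext (by simp [mul_assoc]) }
    refine ⟨φ, fun g => Subtype.ext (hinvol g.1), Subtype.ext eA, fun g hg => ?_⟩
    have hgx : ∀ x : M, H * x.1 * H⁻¹ = g.1 * x.1 * g.1⁻¹ := fun x =>
      congrArg Subtype.val (DFunLike.congr_fun hg x)
    have hgA : g * ⟨A, hA⟩ = ⟨A, hA⟩ * g := Subtype.ext (by
      have := hgx ⟨A, hA⟩
      rw [eA] at this
      exact (mul_inv_eq_iff_eq_mul.1 this.symm))
    obtain ⟨n, hn⟩ := mem_zpowers_iff.1 (hcentA g hgA)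
    have hgB : g.1 * B = B * g.1 := by
      have := hgx ⟨B, hB⟩
      rw [eB] at this
      exact mul_inv_eq_iff_eq_mul.1 this.symm
    have hg1 : g.1 = A ^ n := (congrArg Subtype.val hn.symm).trans rfl
    have h3n : A ^ (3 * n) = 1 := by
      have e : B * A ^ n * B⁻¹ = A ^ (4 * n) := by
        rw [← conj_zpow, hBA, mul_inv_cancel_right, zpow_mul, zpow_ofNat]
      rw [← hg1, ← hgB, mul_inv_cancel_right, hg1] at e
      rw [show 3 * n = 4 * n - n by ring, zpow_sub, ← e, mul_inv_cancel]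
    have hdvd : (11 : ℤ) ∣ n := by
      have h := orderOf_dvd_iff_zpow_eq_one.2 h3n
      rw [orderOf_eq_prime hA11 hA1] at h
      omega
    have : g.1 = 1 := by
      rw [hg1, ← orderOf_dvd_iff_zpow_eq_one, orderOf_eq_prime hA11 hA1]; exact hdvd
    refine hYC ?_
    rw [← eC, hgx ⟨C, hC⟩, this]
    simp

theorem facts_mcl : Facts Cfsg.Spor.McL := by
  haveI : IsSimpleGroup McLConfig.pairStab := ConwaySimple.isSimple_mcl
  haveI : Finite McLConfig.pairStab :=
    Nat.finite_of_card_ne_zero (by rw [ConwaySimple.natCard_mclStd]; norm_num)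
  obtain ⟨M, ⟨e⟩, hM⟩ := exists_model (K := McLConfig.pairStab) McLData.pts_length McLData.pts_ok
    McLData.pts_nodup McLConfig.ncard_275 (McLConfig.pairStab_fix 16 8) McLConfig.gens_pair
    McLData.gens (by decide +kernel) McLData.progs_ok McLData.moves_ok
  obtain ⟨e'⟩ := McLData.pairStab_equiv_mcl
  let f : M ≃* Cfsg.Spor.McL := e.symm.trans e'
  have hcardM : Nat.card M = 898128000 :=
    (Nat.card_congr e.toEquiv).symm.trans ConwaySimple.natCard_mclStd
  have hcard : Nat.card Cfsg.Spor.McL = 898128000 := by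
    rw [← Nat.card_congr f.toEquiv, hcardM]
  obtain ⟨hinv, t, ht, hz, ⟨q⟩, -⟩ := McLInvol.mcl_involutions
  haveI : Finite Cfsg.Spor.McL := Nat.finite_of_card_ne_zero (by rw [hcard]; norm_num)
  have hct : Nat.card (centralizer ({t} : Set Cfsg.Spor.McL)) = 40320 := by
    rw [card_eq_card_quotient_mul_card_subgroup (Subgroup.center _), Nat.card_congr q.toEquiv, hz,
      nat_card_alternatingGroup, Nat.card_fin]
    rfl
  refine ⟨hcard, hinv, fun x hx => ?_, ?_⟩
  · obtain ⟨c, hc⟩ := isConj_iff.1 (hinv t x ht hx)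
    rw [← hct, ← hc]
    refine Nat.card_congr ((MulAut.conj c).toEquiv.subtypeEquiv fun y => ?_).symm
    simp only [mem_centralizer_singleton_iff, MulEquiv.toEquiv_eq_coe, EquivLike.coe_coe,
      MulAut.conj_apply]
    constructor
    · intro h
      calc c * y * c⁻¹ * (c * t * c⁻¹) = c * (y * t) * c⁻¹ := by group
        _ = c * t * c⁻¹ * (c * y * c⁻¹) := by rw [h]; group
    · intro h
      calc y * t = c⁻¹ * (c * y * c⁻¹ * (c * t * c⁻¹)) * c := by group
        _ = t * y := by rw [h]; group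
  have habc := McLData.abc_ok
  simp only [abcOK, Bool.and_eq_true, decide_eq_true_eq] at habc
  obtain ⟨hs, he⟩ := habc
  have hd : InM M (McLData.gens.headD 0) := hM _ (by
    obtain ⟨x, l, hl⟩ := List.exists_cons_of_ne_nil
      (List.ne_nil_of_length_pos (by decide +kernel : 0 < McLData.gens.length))
    rw [hl]
    exact List.mem_cons_self)
  obtain ⟨-, hall⟩ := inM_slp hd _ _ _ hs (all_fill McLData.gens 0 (t := .nil) hM trivial)
  have hin : ∀ x ∈ [McLData.cert.a, McLData.cert.b, McLData.cert.c], InM M x := by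
    rw [← he]
    intro x hx
    obtain ⟨i, -, rfl⟩ := List.mem_map.1 hx
    exact hall.get hd i
  have hf : ∃ a b : M, orderOf a = 11 ∧ orderOf b = 5 ∧ b * a * b⁻¹ = a ^ 4 ∧
      (∀ g, g * a = a * g → g ∈ zpowers a) ∧ Nat.card (centralizer ({b} : Set M)) ≤ 25 ∧
      ∃ φ : MulAut M, (∀ x, φ (φ x) = x) ∧ φ a = a ∧ ∀ g, φ ≠ MulAut.conj g :=
    frame_of_cert (D := McLData.cert)
      (hcardM.trans rfl) (hin _ (by simp)) (hin _ (by simp)) (hin _ (by simp)) McLData.group_ok
      McLData.gens_ok McLData.cent_ok McLData.outer_ok extra_ok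
  obtain ⟨a, b, ha, hb, hab, hca, hcb, φ, hφ, hφa, hφo⟩ := hf
  refine ⟨f a, f b, by rw [MulEquiv.orderOf_eq]; exact ha, by rw [MulEquiv.orderOf_eq]; exact hb,
    by rw [← map_inv, ← map_mul, ← map_mul, hab, map_pow], fun g hg => ?_, ?_,
    (f.symm.trans φ).trans f, fun x => ?_, ?_, fun g hg => hφo (f.symm g) ?_⟩
  · obtain ⟨n, hn⟩ := mem_zpowers_iff.1 (hca (f.symm g) (f.injective (by simpa using hg)))
    exact mem_zpowers_iff.2 ⟨n, by rw [← map_zpow, hn, MulEquiv.apply_symm_apply]⟩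
  · refine le_trans (le_of_eq (Nat.card_congr (f.toEquiv.subtypeEquiv fun y => ?_)).symm) hcb
    simp only [mem_centralizer_singleton_iff, MulEquiv.toEquiv_eq_coe, EquivLike.coe_coe,
      ← map_mul, f.injective.eq_iff]
  · simp [hφ]
  · simp [hφa]
  · refine MulEquiv.ext fun x => f.injective ?_
    have := DFunLike.congr_fun hg (f x)
    simpa using this

end CfsgLib.McLThree.Census
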