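import Cfsg.Agent.Lib.McLThree.CensusOddThree

/-!
# The contradiction at five
-/

set_option autoImplicit false
set_option linter.style.haveILetI false
set_option linter.unusedSectionVars false
set_option maxHeartbeats 1000000

namespace CfsgLib.McLThree.Census

open Subgroup

variable {L : Type*} [Group L] [Finite L] {τ : MulAut L} (X : OddCtx L τ)
include X

/-- The contradiction. -/
theorem OddCtx.false : False := by
  haveI : Fact (Nat.Prime 11) := ⟨by norm_num⟩
  haveI : Fact (Nat.Prime 5) := ⟨by norm_num⟩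
  haveI : Fact (Nat.Prime 3) := ⟨by norm_num⟩
  obtain ⟨-, hL, -⟩ := X.card_eq
  obtain ⟨f, hf5, -, hCf, hfix⟩ := X.exists_fixed
  obtain ⟨s₀, R₀, hs5, hcomm, hs₀f, hRc, hND, h⟩ := X.exists_big hf5 hCf hfix
  have hsmall : ∀ S : Subgroup L, (∀ x ∈ S, x * f = f * x) → Nat.card S ≤ 25 := fun S hS =>
    (card_le_of_le fun x hx => mem_centralizer_singleton_iff.2 (hS x hx)).trans hCf
  set NR := normalizer (R₀ : Set L) with hNR
  set D := centralizer ({s₀} : Set L) with hD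
  have hDbig : 2025 ≤ Nat.card D := h ▸ card_le_of_le hND
  -- the group `⟨f, s₀⟩` in a Sylow subgroup
  set V := closure ({f, s₀} : Set L) with hV
  have hVcomm : ∀ y ∈ V, y * f = f * y ∧ y * s₀ = s₀ * y := by
    intro y hy
    induction hy using closure_induction with
    | mem y hy =>
      rcases hy with rfl | rfl
      · exact ⟨rfl, hcomm⟩
      · exact ⟨hcomm.symm, rfl⟩
    | one => simp
    | mul y z _ _ h1 h2 => exact ⟨(Commute.mul_left h1.1 h2.1), (Commute.mul_left h1.2 h2.2)⟩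
    | inv y _ h1 => exact ⟨Commute.inv_left h1.1, Commute.inv_left h1.2⟩
  have hVc : ∀ x ∈ V, ∀ y ∈ V, x * y = y * x := by
    intro x hx y hy
    induction hy using closure_induction with
    | mem y hy =>
      rcases hy with rfl | rfl
      · exact (hVcomm x hx).1
      · exact (hVcomm x hx).2
    | one => simp
    | mul y z _ _ h1 h2 => exact Commute.mul_right h1 h2
    | inv y _ h1 => exact Commute.inv_right h1
  have hV5 : ∀ x ∈ V, x ^ 5 = 1 := by
    intro x hx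
    induction hx using closure_induction with
    | mem y hy =>
      rcases hy with rfl | rfl
      · exact hf5 ▸ pow_orderOf_eq_one _
      · exact hs5 ▸ pow_orderOf_eq_one _
    | one => exact one_pow 5
    | mul y z hy hz h1 h2 => rw [Commute.mul_pow (hVc y hy z hz), h1, h2, one_mul]
    | inv y _ h1 => rw [inv_pow, h1, inv_one]
  have hVp : IsPGroup 5 V := fun x => ⟨1, Subtype.ext (by
    rw [SubgroupClass.coe_pow, OneMemClass.coe_one, pow_one]; exact hV5 x x.2)⟩
  have hfV : f ∈ V := subset_closure (by simp)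
  have hsV : s₀ ∈ V := subset_closure (by simp)
  have hVcard : Nat.card V = 25 := by
    obtain ⟨k, hk⟩ := IsPGroup.iff_card.1 hVp
    have hlt : zpowers f < V := lt_of_le_of_ne (zpowers_le.2 hfV) fun e => hs₀f (e ▸ hsV)
    have hcl : Nat.card (zpowers f) < Nat.card V :=
      lt_of_le_of_ne (card_le_of_le hlt.le) fun e => hlt.ne (eq_of_le_of_card_ge hlt.le e.ge)
    have hle := hsmall V fun x hx => (hVcomm x hx).1
    rw [Nat.card_zpowers, hf5, hk] at hcl
    rw [hk] at hle ⊢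
    have hk2 : k ≤ 2 := by
      by_contra hk2
      have : 5 ^ 3 ≤ 5 ^ k := Nat.pow_le_pow_right (by norm_num) (by omega)
      omega
    interval_cases k <;> omega
  obtain ⟨Q, hQ⟩ := hVp.exists_le_sylow
  have hQc : Nat.card Q = 125 := card_sylow_eq 5 3 891 Q (by norm_num) (by rw [hL]; norm_num)
  haveI : Nontrivial (Q : Subgroup L) := Finite.one_lt_card_iff_nontrivial.1 (hQc.symm ▸ by norm_num)
  haveI := IsPGroup.center_nontrivial Q.2
  obtain ⟨z', hz'⟩ := exists_ne (1 : Subgroup.center (Q : Subgroup L))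
  set z : L := ((z' : (Q : Subgroup L)) : L) with hz
  have hzQ : ∀ g ∈ (Q : Subgroup L), g * z = z * g := fun g hg =>
    congrArg Subtype.val (Subgroup.mem_center_iff.1 z'.2 (⟨g, hg⟩ : (Q : Subgroup L)))
  have hz1 : z ≠ 1 := fun e => hz' (Subtype.ext (Subtype.ext e))
  have hCfV : centralizer ({f} : Set L) = V :=
    (eq_of_le_of_card_ge (fun x hx => mem_centralizer_singleton_iff.2 (hVcomm x hx).1)
      (by rw [hVcard]; exact hCf)).symm
  have hzV : z ∈ V := hCfV ▸ mem_centralizer_singleton_iff.2 (hzQ f (hQ hfV)).symm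
  have hzo : orderOf z = 5 := orderOf_eq_prime (hV5 z hzV) hz1
  have hzf : z ∉ zpowers f := fun hzf => by
    have e : zpowers z = zpowers f := eq_of_le_of_card_ge (zpowers_le.2 hzf)
      (by rw [Nat.card_zpowers, Nat.card_zpowers, hzo, hf5])
    have hcz : ∀ x ∈ (Q : Subgroup L), x * f = f * x := fun x hx =>
      (pow_eq_of_comm (hzQ x hx).symm (e ▸ mem_zpowers f : f ∈ zpowers z)).symm
    have := hsmall Q hcz
    omega
  -- every element of `V`
  have hrep : ∀ v ∈ V, ∃ i j : Fin 5, v = f ^ (i : ℕ) * z ^ (j : ℕ) := by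
    intro v hv
    let Φ : Fin 5 × Fin 5 → V := fun p =>
      ⟨f ^ (p.1 : ℕ) * z ^ (p.2 : ℕ), mul_mem (pow_mem hfV _) (pow_mem hzV _)⟩
    have hΦ : Function.Injective Φ := by
      rintro ⟨i, j⟩ ⟨i', j'⟩ e
      have e' : f ^ (i : ℕ) * z ^ (j : ℕ) = f ^ (i' : ℕ) * z ^ (j' : ℕ) := congrArg Subtype.val e
      have e2 : z ^ ((j : ℤ) - j') = f ^ ((i' : ℤ) - i) := by
        rw [zpow_sub, zpow_sub, zpow_natCast, zpow_natCast, zpow_natCast, zpow_natCast,
          mul_inv_eq_iff_eq_mul]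
        have hc : f ^ (i : ℕ) * f ^ (i' : ℕ) = f ^ (i' : ℕ) * f ^ (i : ℕ) := pow_mul_comm f _ _
        calc z ^ (j : ℕ) = (f ^ (i : ℕ))⁻¹ * (f ^ (i : ℕ) * z ^ (j : ℕ)) := by group
          _ = (f ^ (i : ℕ))⁻¹ * f ^ (i' : ℕ) * z ^ (j' : ℕ) := by rw [e', mul_assoc]
          _ = f ^ (i' : ℕ) * (f ^ (i : ℕ))⁻¹ * z ^ (j' : ℕ) := by
            rw [(Commute.inv_left (Commute.pow_pow_self f (i : ℕ) (i' : ℕ))).eq]
      have hj : (5 : ℤ) ∣ (j : ℤ) - j' := by
        by_contra hne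
        apply hzf
        have hco : IsCoprime ((j : ℤ) - j') (5 : ℤ) :=
          ((Nat.prime_iff_prime_int.1 (by norm_num : Nat.Prime 5)).coprime_iff_not_dvd.2 hne).symm
        obtain ⟨u, w, huw⟩ := hco
        rw [← zpow_one z, ← huw, zpow_add, mul_comm u, zpow_mul, e2, mul_comm w, zpow_mul z 5,
          show z ^ (5 : ℤ) = 1 by rw [zpow_ofNat, hV5 z hzV], one_zpow, mul_one]
        exact zpow_mem (zpow_mem (mem_zpowers f) _) _
      have hjj : j = j' := Fin.ext (by omega)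
      subst hjj
      rw [sub_self, zpow_zero] at e2
      have hi : (5 : ℤ) ∣ (i' : ℤ) - i := by
        have := orderOf_dvd_iff_zpow_eq_one.2 e2.symm
        rwa [hf5] at this
      exact Prod.ext (Fin.ext (by dsimp only; omega)) rfl
    obtain ⟨⟨i, j⟩, hij⟩ := (hΦ.bijective_of_nat_card_le (by rw [hVcard]; simp)).2 ⟨v, hv⟩
    exact ⟨i, j, (congrArg Subtype.val hij).symm⟩
  -- some conjugate of `f` in `Q` is a power of `s₀`
  obtain ⟨q₀, hq₀Q, hq₀⟩ : ∃ x ∈ (Q : Subgroup L), x * f ≠ f * x := by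
    by_contra hno
    push Not at hno
    have := hsmall Q hno
    omega
  haveI hVn : (V.subgroupOf (Q : Subgroup L)).Normal := by
    refine normal_of_index_eq_minFac_card ?_
    have e := card_mul_index (V.subgroupOf (Q : Subgroup L))
    rw [Nat.card_congr (subgroupOfEquivOfLe hQ).toEquiv, hVcard, hQc] at e
    rw [hQc]
    norm_num
    omega
  have hqV : ∀ v ∈ V, q₀ * v * q₀⁻¹ ∈ V := fun v hv => by
    have := hVn.conj_mem ⟨v, hQ hv⟩ (mem_subgroupOf.2 hv) ⟨q₀, hq₀Q⟩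
    rwa [mem_subgroupOf] at this
  have hq5V : q₀ ^ 5 ∈ V := by
    have hp := pow_index_mem (V.subgroupOf (Q : Subgroup L)) (⟨q₀, hq₀Q⟩ : (Q : Subgroup L))
    have e := card_mul_index (V.subgroupOf (Q : Subgroup L))
    rw [Nat.card_congr (subgroupOfEquivOfLe hQ).toEquiv, hVcard, hQc] at e
    rw [show (V.subgroupOf (Q : Subgroup L)).index = 5 by omega, mem_subgroupOf] at hp
    simpa using hp
  obtain ⟨α, β, hαβ⟩ := hrep _ (hqV f hfV)
  have hiter : ∀ n : ℕ, ∃ b, q₀ ^ n * f * (q₀ ^ n)⁻¹ = f ^ ((α : ℕ) ^ n) * z ^ b := by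
    intro n
    induction n with
    | zero => exact ⟨0, by simp⟩
    | succ n ih =>
      obtain ⟨b, hb⟩ := ih
      refine ⟨(β : ℕ) * (α : ℕ) ^ n + b, ?_⟩
      rw [pow_succ', show q₀ * q₀ ^ n * f * (q₀ * q₀ ^ n)⁻¹ =
        q₀ * (q₀ ^ n * f * (q₀ ^ n)⁻¹) * q₀⁻¹ by group, hb,
        show q₀ * (f ^ ((α : ℕ) ^ n) * z ^ b) * q₀⁻¹ =
          (q₀ * f ^ ((α : ℕ) ^ n) * q₀⁻¹) * (q₀ * z ^ b * q₀⁻¹) by group, ← conj_pow, hαβ,
        ← conj_pow, hzQ q₀ hq₀Q, mul_inv_cancel_right,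
        Commute.mul_pow (hVc _ (pow_mem hfV _) _ (pow_mem hzV _)), ← pow_mul, ← pow_mul,
        pow_succ', pow_add, mul_assoc]
  have hα : (α : ℕ) = 1 := by
    obtain ⟨b, hb⟩ := hiter 5
    rw [hVc _ hq5V f hfV, mul_inv_cancel_right] at hb
    by_contra hα1
    refine hzf ?_
    have key : ∀ a : Fin 5, (a : ℕ) ≠ 1 → (a : ℕ) ^ 5 % 5 ≠ 1 := by decide
    by_cases hb5 : 5 ∣ b
    · exfalso
      obtain ⟨b', rfl⟩ := hb5
      rw [pow_mul, hV5 z hzV, one_pow, mul_one] at hb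
      have := pow_eq_pow_iff_modEq.1 ((pow_one f).trans hb)
      rw [hf5] at this
      exact key α hα1 this.symm
    · have e : z ^ b = (f ^ ((α : ℕ) ^ 5))⁻¹ * f := eq_inv_mul_of_mul_eq hb.symm
      have hco : Nat.Coprime b 5 := ((by norm_num : Nat.Prime 5).coprime_iff_not_dvd.2 hb5).symm
      obtain ⟨m, hm⟩ := exists_pow_eq_self_of_coprime (x := z) (hzo.symm ▸ hco)
      rw [← hm, e]
      exact pow_mem (mul_mem (inv_mem (pow_mem (mem_zpowers f) _)) (mem_zpowers f)) _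
  have hβ : (β : ℕ) ≠ 0 := fun e => hq₀ (by
    rw [hα, e, pow_one, pow_zero, mul_one] at hαβ
    exact mul_inv_eq_iff_eq_mul.1 hαβ)
  have hiter' : ∀ n : ℕ, q₀ ^ n * f * (q₀ ^ n)⁻¹ = f * z ^ ((β : ℕ) * n) := by
    intro n
    induction n with
    | zero => simp
    | succ n ih =>
      rw [pow_succ', show q₀ * q₀ ^ n * f * (q₀ * q₀ ^ n)⁻¹ =
        q₀ * (q₀ ^ n * f * (q₀ ^ n)⁻¹) * q₀⁻¹ by group, ih,
        show q₀ * (f * z ^ ((β : ℕ) * n)) * q₀⁻¹ =
          (q₀ * f * q₀⁻¹) * (q₀ * z ^ ((β : ℕ) * n) * q₀⁻¹) by group, hαβ, hα, pow_one,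
        ← conj_pow, hzQ q₀ hq₀Q, mul_inv_cancel_right, mul_assoc, ← pow_add, Nat.mul_succ, add_comm]
  obtain ⟨i, j, hij⟩ := hrep s₀ hsV
  by_cases hi : (i : ℕ) = 0
  · -- `s₀` is central in `Q`
    rw [hi, pow_zero, one_mul] at hij
    have hQD : (Q : Subgroup L) ≤ D := fun g hg => mem_centralizer_singleton_iff.2 (by
      rw [hij]; exact (Commute.pow_right (hzQ g hg) _).eq)
    have hd : 10125 ∣ Nat.card D :=
      Nat.Coprime.mul_dvd_of_dvd_of_dvd (show Nat.Coprime 81 125 by norm_num)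
        (hRc ▸ card_dvd_of_le (le_normalizer.trans hND)) (hQc ▸ card_dvd_of_le hQD)
    have hDL : Nat.card D ∣ 111375 := hL ▸ card_subgroup_dvd_card D
    obtain ⟨m, hm⟩ := hd
    have hmd : m ∣ 11 := Nat.dvd_of_mul_dvd_mul_left (by norm_num : 0 < 10125)
      (by rw [← hm]; simpa using hDL)
    rcases (Nat.dvd_prime (by norm_num)).1 hmd with rfl | rfl
    · -- a group of order 10125 has no place for the normaliser
      let R' : Subgroup D := R₀.subgroupOf D
      have hR'c : Nat.card R' = 81 := by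
        rw [Nat.card_congr (subgroupOfEquivOfLe (le_normalizer.trans hND)).toEquiv, hRc]
      obtain ⟨P, hP⟩ := ofCard_coe 3 4 125 R' (by norm_num) (by rw [hm]; norm_num) (by rw [hR'c]; norm_num)
      have h2 := card_sylow_modEq_one 3 D
      rw [Sylow.card_eq_index_normalizer P, ← P.coe_coe, hP] at h2
      have e : normalizer (R' : Set D) = NR.subgroupOf D :=
        (subgroupOf_normalizer_eq (le_normalizer.trans hND)).symm
      rw [e] at h2
      have hidx := card_mul_index (NR.subgroupOf D)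
      rw [Nat.card_congr (subgroupOfEquivOfLe hND).toEquiv, h, hm] at hidx
      rw [show (NR.subgroupOf D).index = 5 by omega] at h2
      exact absurd h2 (by decide)
    · have hall : D = ⊤ := Subgroup.eq_top_of_card_eq _ (by rw [hm, hL])
      obtain ⟨a, ha⟩ := exists_prime_orderOf_dvd_card' (G := L) 11 (by rw [hL]; norm_num)
      have hs : s₀ ∈ zpowers a := X.c11 a s₀ ha
        (mem_centralizer_singleton_iff.1 (hall ▸ mem_top a : a ∈ D)).symm
      have := Subgroup.orderOf_dvd_natCard _ hs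
      rw [hs5, Nat.card_zpowers, ha] at this
      norm_num at this
  · -- otherwise `f` is conjugate to a power of `s₀`
    have key : ∀ i j β : Fin 5, (i : ℕ) ≠ 0 → (β : ℕ) ≠ 0 → ∃ r m : Fin 5,
        (i : ℕ) * r % 5 = 1 ∧ (j : ℕ) * r % 5 = (β : ℕ) * m % 5 := by decide
    obtain ⟨r, m, hr, hm⟩ := key i j β hi hβ
    have hconj : q₀ ^ (m : ℕ) * f * (q₀ ^ (m : ℕ))⁻¹ = s₀ ^ (r : ℕ) := by
      rw [hiter', hij, Commute.mul_pow (hVc _ (pow_mem hfV _) _ (pow_mem hzV _)), ← pow_mul,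
        ← pow_mul, pow_eq_pow_mod ((i : ℕ) * r) (hf5 ▸ pow_orderOf_eq_one f), hr, pow_one,
        pow_eq_pow_mod ((j : ℕ) * r) (hV5 z hzV), hm, ← pow_eq_pow_mod _ (hV5 z hzV)]
    have hbig : Nat.card D ≤ Nat.card (centralizer ({f} : Set L)) := by
      refine Nat.card_le_card_of_injective
        (fun d => ⟨(q₀ ^ (m : ℕ))⁻¹ * d * q₀ ^ (m : ℕ), mem_centralizer_singleton_iff.2 ?_⟩) ?_
      · have hd := (Commute.pow_right (mem_centralizer_singleton_iff.1 d.2) (r : ℕ)).eq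
        calc (q₀ ^ (m : ℕ))⁻¹ * d * q₀ ^ (m : ℕ) * f
            = (q₀ ^ (m : ℕ))⁻¹ * ((d : L) * (q₀ ^ (m : ℕ) * f * (q₀ ^ (m : ℕ))⁻¹)) *
                q₀ ^ (m : ℕ) := by group
          _ = (q₀ ^ (m : ℕ))⁻¹ * ((q₀ ^ (m : ℕ) * f * (q₀ ^ (m : ℕ))⁻¹) * d) *
                q₀ ^ (m : ℕ) := by rw [hconj, hd]
          _ = f * ((q₀ ^ (m : ℕ))⁻¹ * d * q₀ ^ (m : ℕ)) := by group
      · intro d d' e
        exact Subtype.ext (mul_left_cancel (mul_right_cancel (congrArg Subtype.val e)))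
    omega

end CfsgLib.McLThree.Census
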