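import Mathlib

/-!
# A subgroup containing the centralisers of its involutions

If a proper subgroup `H` has one class of involutions and contains their centralisers, then some
odd subgroup of `H` is normalised by an involution `y`, and the number of its elements is the
number of involutions of `H` times the number of the elements centralised by `y`.
-/

set_option autoImplicit false
set_option linter.style.haveILetI false
set_option linter.unusedSectionVars false

namespace CfsgLib.McLThree.Census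

open Subgroup

variable {G : Type*} [Group G] [Finite G]

/-- The involutions of `H` are conjugate in `H`, and their centralisers lie in `H`. -/
structure Strong (H : Subgroup G) (t : G) : Prop where
  mem : t ∈ H
  sq : t * t = 1
  ne : t ≠ 1
  fusion : ∀ x ∈ H, x * x = 1 → x ≠ 1 → ∃ h ∈ H, h * t * h⁻¹ = x
  cent : centralizer ({t} : Set G) ≤ H

variable {H : Subgroup G} {t : G} (B : Strong H t)
include B

theorem Strong.cent_le {u : G} (hu : u ∈ H) (h2 : u * u = 1) (h1 : u ≠ 1) {g : G}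
    (hg : g * u = u * g) : g ∈ H := by
  obtain ⟨h, hh, rfl⟩ := B.fusion u hu h2 h1
  have hc : h⁻¹ * g * h ∈ centralizer ({t} : Set G) := mem_centralizer_singleton_iff.2 (by
    calc h⁻¹ * g * h * t = h⁻¹ * (g * (h * t * h⁻¹)) * h := by group
      _ = h⁻¹ * (h * t * h⁻¹ * g) * h := by rw [hg]
      _ = t * (h⁻¹ * g * h) := by group)
  have := mul_mem (mul_mem hh (B.cent hc)) (inv_mem hh)
  rwa [show h * (h⁻¹ * g * h) * h⁻¹ = g by group] at this

theorem Strong.mem_of_move {g : G} (h : g * t * g⁻¹ ∈ H) : g ∈ H := by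
  obtain ⟨k, hk, he⟩ := B.fusion _ h (by rw [show g * t * g⁻¹ * (g * t * g⁻¹) = g * (t * t) * g⁻¹ by
    group, B.sq, mul_one, mul_inv_cancel]) (fun e => B.ne (conj_eq_one_iff.1 e))
  have hc : k⁻¹ * g ∈ centralizer ({t} : Set G) := mem_centralizer_singleton_iff.2 (by
    calc k⁻¹ * g * t = k⁻¹ * (g * t * g⁻¹) * g := by group
      _ = t * (k⁻¹ * g) := by rw [← he]; group)
  simpa using mul_mem hk (B.cent hc)

/-- Involutions inside and outside are conjugate by a power of their product. -/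
theorem Strong.exists_conj {u y : G} (hu : u ∈ H) (hu2 : u * u = 1) (hu1 : u ≠ 1) (hy : y ∉ H)
    (hy2 : y * y = 1) : ∃ n : ℕ, (y * u) ^ n * u * ((y * u) ^ n)⁻¹ = y := by
  have hui : u⁻¹ = u := inv_eq_of_mul_eq_one_right hu2
  have hyi : y⁻¹ = y := inv_eq_of_mul_eq_one_right hy2
  have hinv : ∀ k : ℕ, u * (y * u) ^ k * u⁻¹ = ((y * u) ^ k)⁻¹ := fun k => by
    rw [← conj_pow, ← inv_pow, mul_inv_rev, hui, hyi, mul_assoc, mul_assoc, hu2, mul_one]
  have hinvy : ∀ k : ℕ, y * (y * u) ^ k * y⁻¹ = ((y * u) ^ k)⁻¹ := fun k => by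
    rw [← conj_pow, ← inv_pow, mul_inv_rev, hui, hyi, ← mul_assoc, hy2, one_mul]
  obtain ⟨N, hN⟩ : ∃ N, N = orderOf (y * u) := ⟨_, rfl⟩
  rcases Nat.even_or_odd N with ⟨m, hm⟩ | ⟨m, hm⟩
  · exfalso
    have hpos : 0 < N := hN ▸ orderOf_pos _
    set i := (y * u) ^ m with hi
    have hi1 : i ≠ 1 := fun e => by
      have := Nat.le_of_dvd (by omega) (orderOf_dvd_of_pow_eq_one e)
      rw [← hN] at this; omega
    have hi2 : i * i = 1 := by rw [hi, ← pow_add, ← hm, hN, pow_orderOf_eq_one]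
    have hii : i⁻¹ = i := inv_eq_of_mul_eq_one_right hi2
    have hiu : i * u = u * i := (mul_inv_eq_iff_eq_mul.1 ((hinv m).trans hii)).symm
    have hiy : i * y = y * i := (mul_inv_eq_iff_eq_mul.1 ((hinvy m).trans hii)).symm
    exact hy (B.cent_le (B.cent_le hu hu2 hu1 hiu) hi2 hi1 hiy.symm)
  · refine ⟨m + 1, ?_⟩
    have e1 : u * ((y * u) ^ (m + 1))⁻¹ = (y * u) ^ (m + 1) * u := by
      have h := hinv (m + 1)
      calc u * ((y * u) ^ (m + 1))⁻¹ = u * (u * (y * u) ^ (m + 1) * u⁻¹) := by rw [h]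
        _ = u * u * ((y * u) ^ (m + 1) * u⁻¹) := by group
        _ = (y * u) ^ (m + 1) * u := by rw [hu2, one_mul, hui]
    rw [mul_assoc, e1, ← mul_assoc, ← pow_add, show m + 1 + (m + 1) = N + 1 by omega, pow_succ,
      hN, pow_orderOf_eq_one, one_mul, mul_assoc, hu2, mul_one]

/-- Nothing inverted by an outside involution is centralised by one inside. -/
theorem Strong.inverted_eq_one {u y k : G} (hu : u ∈ H) (hu2 : u * u = 1) (hu1 : u ≠ 1)
    (hy : y ∉ H) (hy2 : y * y = 1) (hk : k ∈ H) (hky : y * k * y⁻¹ = k⁻¹)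
    (hku : u * k = k * u) : k = 1 := by
  obtain ⟨n, hn⟩ := B.exists_conj hu hu2 hu1 hy hy2
  have hsign : ∀ i : ℕ,
      (y * u) ^ i * k * ((y * u) ^ i)⁻¹ = k ∨ (y * u) ^ i * k * ((y * u) ^ i)⁻¹ = k⁻¹ := by
    intro i
    induction i with
    | zero => left; simp
    | succ i ih =>
      have hstep : ∀ x, (x = k ∨ x = k⁻¹) → (y * u) * x * (y * u)⁻¹ = k ∨ (y * u) * x * (y * u)⁻¹ = k⁻¹ := by
        rintro x (rfl | rfl)
        · right
          calc y * u * x * (y * u)⁻¹ = y * (u * x) * u⁻¹ * y⁻¹ := by group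
            _ = x⁻¹ := by rw [hku, mul_assoc y, mul_inv_cancel_right, hky]
        · left
          calc y * u * k⁻¹ * (y * u)⁻¹ = (y * (u * k) * u⁻¹ * y⁻¹)⁻¹ := by group
            _ = k := by rw [hku, mul_assoc y, mul_inv_cancel_right, hky, inv_inv]
      have := hstep _ ih
      rw [pow_succ']
      simpa only [mul_inv_rev, mul_assoc] using this
  obtain ⟨g, hg⟩ : ∃ g, g = (y * u) ^ n := ⟨_, rfl⟩
  rw [← hg] at hn
  have hk2 : k⁻¹ = k := by
    rw [← hky, ← hn]
    have hgk := hsign n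
    rw [← hg] at hgk
    have hgk' : g⁻¹ * k * g = k ∨ g⁻¹ * k * g = k⁻¹ := by
      rcases hgk with h | h
      · left; nth_rewrite 1 [← h]; group
      · right
        have e : g⁻¹ * k⁻¹ * g = k := by rw [← h]; group
        rw [show g⁻¹ * k * g = (g⁻¹ * k⁻¹ * g)⁻¹ by group, e]
    calc g * u * g⁻¹ * k * (g * u * g⁻¹)⁻¹ = g * (u * (g⁻¹ * k * g) * u⁻¹) * g⁻¹ := by group
      _ = g * (g⁻¹ * k * g) * g⁻¹ := by
        rcases hgk' with h | h <;> rw [h]
        · rw [hku, mul_inv_cancel_right]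
        · rw [show u * k⁻¹ * u⁻¹ = (u * k * u⁻¹)⁻¹ by group, hku, mul_inv_cancel_right]
      _ = k := by group
  by_contra hk1
  refine hy (B.cent_le hk ?_ hk1 ?_)
  · nth_rewrite 1 [← hk2]; exact inv_mul_cancel k
  · exact mul_inv_eq_iff_eq_mul.1 (hky.trans hk2)

/-- The odd subgroup attached to an outside involution. -/
theorem Strong.exists_odd (hne : H ≠ ⊤) :
    ∃ (y : G) (K : Subgroup G), y * y = 1 ∧ K ≤ H ∧ Odd (Nat.card K) ∧
      (∀ k ∈ K, y * k * y⁻¹ ∈ K) ∧
      Nat.card K = Nat.card {x : H // x * x = 1 ∧ x ≠ 1} *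
        Nat.card ↥(K ⊓ centralizer ({y} : Set G)) := by
  classical
  haveI : Fintype G := Fintype.ofFinite G
  set I := {x : H // x * x = 1 ∧ x ≠ 1} with hI
  -- outside involutions are conjugate to `t`
  have hout : ∀ y : G, y ∉ H → y * y = 1 → ∃ g : G, g * t * g⁻¹ = y := fun y hy hy2 =>
    (B.exists_conj B.mem B.sq B.ne hy hy2).elim fun n h => ⟨_, h⟩
  -- the inverted elements of `H`
  let J : G → Type _ := fun y => {k : H // y * (k : G) * y⁻¹ = (k : G)⁻¹}
  have hJle : ∀ y, y ∉ H → y * y = 1 → Nat.card (J y) ≤ Nat.card I := by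
    intro y hy hy2
    have ht1 : (⟨t, B.mem⟩ : H) ≠ 1 := fun e => B.ne (congrArg Subtype.val e)
    refine Nat.card_le_card_of_injective
      (fun j : J y => (⟨j.1 * ⟨t, B.mem⟩ * j.1⁻¹, ?_, ?_⟩ : I)) ?_
    · rw [show j.1 * ⟨t, B.mem⟩ * j.1⁻¹ * (j.1 * ⟨t, B.mem⟩ * j.1⁻¹) =
        j.1 * (⟨t, B.mem⟩ * ⟨t, B.mem⟩) * j.1⁻¹ by group]
      rw [show (⟨t, B.mem⟩ * ⟨t, B.mem⟩ : H) = 1 from Subtype.ext B.sq]; group
    · exact fun e => ht1 (conj_eq_one_iff.1 e)
    · rintro ⟨j, hj⟩ ⟨j', hj'⟩ e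
      have e1 : (j : G) * t * (j : G)⁻¹ = (j' : G) * t * (j' : G)⁻¹ :=
        congrArg Subtype.val (congrArg Subtype.val e)
      have hy1 : y * (j : G) ∉ H := fun h => hy (by simpa using mul_mem h (inv_mem j.2))
      have hy12 : y * (j : G) * (y * (j : G)) = 1 := by
        calc y * (j : G) * (y * (j : G)) = (y * (j : G) * y⁻¹) * (y * y) * j := by group
          _ = 1 := by rw [hj, hy2]; group
      have key := B.inverted_eq_one B.mem B.sq B.ne hy1 hy12
        (k := (j' : G)⁻¹ * j) (mul_mem (inv_mem j'.2) j.2) ?_ ?_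
      · exact Subtype.ext (Subtype.ext (inv_mul_eq_one.1 key).symm)
      · calc y * (j : G) * ((j' : G)⁻¹ * j) * (y * (j : G))⁻¹
              = (y * (j : G) * y⁻¹) * (y * (j' : G) * y⁻¹)⁻¹ := by group
          _ = ((j' : G)⁻¹ * j)⁻¹ := by rw [hj, hj']; group
      · calc t * ((j' : G)⁻¹ * j) = (j' : G)⁻¹ * ((j' : G) * t * (j' : G)⁻¹) * j := by group
          _ = (j' : G)⁻¹ * j * t := by rw [← e1]; group
  -- all involutions
  let P : G → Prop := fun x => x * x = 1 ∧ x ≠ 1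
  have hconj : ∀ x, P x → ∃ g : G, g * t * g⁻¹ = x := fun x hx => by
    by_cases hxH : x ∈ H
    · obtain ⟨h, -, e⟩ := B.fusion x hxH hx.1 hx.2; exact ⟨h, e⟩
    · exact hout x hxH hx.1
  have hPc : ∀ g : G, P (g * t * g⁻¹) := fun g => ⟨by
    rw [show g * t * g⁻¹ * (g * t * g⁻¹) = g * (t * t) * g⁻¹ by group, B.sq, mul_one,
      mul_inv_cancel], fun e => B.ne (conj_eq_one_iff.1 e)⟩
  let F : (G ⧸ H) × I → {x : G // P x} := fun p =>
    ⟨p.1.out * (p.2.1 : G) * p.1.out⁻¹, by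
      obtain ⟨h, -, e⟩ := B.fusion _ p.2.1.2 (congrArg Subtype.val p.2.2.1)
        (fun e => p.2.2.2 (Subtype.ext e))
      rw [← e, show p.1.out * (h * t * h⁻¹) * p.1.out⁻¹ = p.1.out * h * t * (p.1.out * h)⁻¹ by group]
      exact hPc _⟩
  have hF : Function.Injective F := by
    rintro ⟨q, u⟩ ⟨r, v⟩ e
    have e' : q.out * (u.1 : G) * q.out⁻¹ = r.out * (v.1 : G) * r.out⁻¹ := congrArg Subtype.val e
    obtain ⟨h, hh, he⟩ := B.fusion _ u.1.2 (congrArg Subtype.val u.2.1)
      (fun e => u.2.2 (Subtype.ext e))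
    have hm : r.out⁻¹ * q.out ∈ H := by
      have h1 : r.out⁻¹ * q.out * h * t * (r.out⁻¹ * q.out * h)⁻¹ ∈ H := by
        rw [show r.out⁻¹ * q.out * h * t * (r.out⁻¹ * q.out * h)⁻¹ =
          r.out⁻¹ * (q.out * (h * t * h⁻¹) * q.out⁻¹) * r.out by group, he, e']
        rw [show r.out⁻¹ * (r.out * (v.1 : G) * r.out⁻¹) * r.out = v.1 by group]
        exact v.1.2
      simpa using mul_mem (B.mem_of_move h1) (inv_mem hh)
    have hrq : r = q := by
      rw [← r.out_eq, ← q.out_eq]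
      exact QuotientGroup.eq.2 hm
    subst hrq
    have : u = v := Subtype.ext (Subtype.ext (mul_left_cancel (mul_right_cancel e')))
    rw [this]
  have hge : H.index * Nat.card I ≤ Nat.card {x : G // P x} := by
    have := Nat.card_le_card_of_injective F hF
    rwa [Nat.card_prod, ← index_eq_card] at this
  let φ : {x : G // P x} → G ⧸ H := fun x => QuotientGroup.mk (x : G)
  obtain ⟨g₀, hg₀⟩ : ∃ g : G, g ∉ H := by
    by_contra h; push Not at h; exact hne (eq_top_iff.2 fun g _ => h g)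
  have hidx : 1 < H.index := one_lt_index_of_ne_top hne
  -- a coset outside `H` with as many involutions as `H`
  obtain ⟨y, hy, hy2, hbig⟩ : ∃ y : G, y ∉ H ∧ y * y = 1 ∧ Nat.card I ≤ Nat.card (J y) := by
    by_contra hno
    push Not at hno
    haveI : Fintype (G ⧸ H) := Fintype.ofFinite _
    have hsum : Fintype.card {x : G // P x} =
        ∑ c : G ⧸ H, Fintype.card {x : {x : G // P x} // φ x = c} := by
      rw [← Fintype.card_sigma, Fintype.card_congr (Equiv.sigmaFiberEquiv φ)]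
    have hIpos : 0 < Nat.card I :=
      haveI : Nonempty I := ⟨⟨⟨t, B.mem⟩, Subtype.ext B.sq, fun e => B.ne (congrArg Subtype.val e)⟩⟩
      Nat.card_pos
    have hfib : ∀ c : G ⧸ H, Fintype.card {x : {x : G // P x} // φ x = c} ≤ Nat.card I ∧
        (c ≠ QuotientGroup.mk 1 → Fintype.card {x : {x : G // P x} // φ x = c} < Nat.card I) := by
      intro c
      by_cases hc : c = QuotientGroup.mk 1
      · refine ⟨?_, fun h => absurd hc h⟩
        rw [← Nat.card_eq_fintype_card]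
        have hin : ∀ x : {x : {x : G // P x} // φ x = c}, (x.1 : G) ∈ H := fun x => by
          have h := QuotientGroup.eq.1 (hc ▸ x.2 : φ x.1 = QuotientGroup.mk 1)
          simpa using h
        refine Nat.card_le_card_of_injective (fun x => (⟨⟨x.1.1, hin x⟩, Subtype.ext x.1.2.1,
          fun e => x.1.2.2 (congrArg Subtype.val e)⟩ : I)) ?_
        intro x x' e
        exact Subtype.ext (Subtype.ext (congrArg (fun z : I => ((z.1 : H) : G)) e :))
      · rcases isEmpty_or_nonempty {x : {x : G // P x} // φ x = c} with he | ⟨⟨x₀, hx₀⟩⟩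
        · rw [Fintype.card_eq_zero]; exact ⟨Nat.zero_le _, fun _ => hIpos⟩
        · have hx₀H : (x₀ : G) ∉ H := fun h => hc (by
            rw [← hx₀]; exact QuotientGroup.eq.2 (by simpa using h))
          have hlt := hno x₀ hx₀H x₀.2.1
          suffices hle : Fintype.card {x : {x : G // P x} // φ x = c} ≤ Nat.card (J x₀) from
            ⟨le_trans hle hlt.le, fun _ => lt_of_le_of_lt hle hlt⟩
          rw [← Nat.card_eq_fintype_card]
          have hi : (x₀ : G)⁻¹ = x₀ := inv_eq_of_mul_eq_one_right x₀.2.1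
          refine Nat.card_le_card_of_injective (fun x => (⟨⟨(x₀ : G)⁻¹ * x.1.1,
            QuotientGroup.eq.1 (hx₀.trans x.2.symm)⟩, ?_⟩ : J x₀)) ?_
          · show (x₀ : G) * ((x₀ : G)⁻¹ * x.1.1) * (x₀ : G)⁻¹ = ((x₀ : G)⁻¹ * x.1.1)⁻¹
            rw [mul_inv_rev, inv_eq_of_mul_eq_one_right x.1.2.1, inv_inv, hi, ← mul_assoc,
              x₀.2.1, one_mul]
          · intro x x' e
            exact Subtype.ext (Subtype.ext (mul_left_cancel
              (congrArg (fun z : J x₀ => ((z.1 : H) : G)) e :)))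
    have hlt : ∑ c : G ⧸ H, Fintype.card {x : {x : G // P x} // φ x = c} <
        ∑ _c : G ⧸ H, Nat.card I := by
      refine Finset.sum_lt_sum (fun c _ => (hfib c).1) ⟨QuotientGroup.mk g₀, Finset.mem_univ _,
        (hfib _).2 fun e => hg₀ ?_⟩
      have := QuotientGroup.eq.1 e
      simpa using this
    rw [← hsum, Finset.sum_const, smul_eq_mul, Finset.card_univ, ← Nat.card_eq_fintype_card,
      ← Nat.card_eq_fintype_card, ← index_eq_card] at hlt
    omega
  have hJeq : Nat.card (J y) = Nat.card I := le_antisymm (hJle y hy hy2) hbig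
  have hyi : y⁻¹ = y := inv_eq_of_mul_eq_one_right hy2
  have hmem : ∀ k : G, k ∈ H ⊓ H.map (MulAut.conj y).toMonoidHom ↔ k ∈ H ∧ y * k * y⁻¹ ∈ H := by
    intro k
    simp only [mem_inf, mem_map, MulEquiv.toMonoidHom_eq_coe, MonoidHom.coe_coe, MulAut.conj_apply]
    refine and_congr_right fun _ => ⟨?_, fun h => ⟨_, h, ?_⟩⟩
    · rintro ⟨h, hh, rfl⟩
      rw [show y * (y * h * y⁻¹) * y⁻¹ = (y * y) * h * (y * y)⁻¹ by group, hy2]
      simpa using hh
    · rw [show y * (y * k * y⁻¹) * y⁻¹ = (y * y) * k * (y * y)⁻¹ by group, hy2]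
      simp
  set K := H ⊓ H.map (MulAut.conj y).toMonoidHom with hK
  have hKy : ∀ k ∈ K, y * k * y⁻¹ ∈ K := fun k hk => by
    obtain ⟨h1, h2⟩ := (hmem k).1 hk
    refine (hmem _).2 ⟨h2, ?_⟩
    rw [show y * (y * k * y⁻¹) * y⁻¹ = (y * y) * k * (y * y)⁻¹ by group, hy2]
    simpa using h1
  have hodd : Odd (Nat.card K) := by
    rw [← Nat.not_even_iff_odd, even_iff_two_dvd]
    intro h2
    haveI : Fact (Nat.Prime 2) := ⟨Nat.prime_two⟩
    obtain ⟨i, hi⟩ := exists_prime_orderOf_dvd_card' (G := K) 2 h2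
    obtain ⟨h1, h2⟩ := (hmem i).1 i.2
    have hi1 : (i : G) ≠ 1 := fun e => by
      rw [← Subgroup.orderOf_coe, e, orderOf_one] at hi; omega
    have hi2 : (i : G) * i = 1 := by
      have h := pow_orderOf_eq_one (i : G)
      rwa [Subgroup.orderOf_coe, hi, pow_two] at h
    obtain ⟨h, hh, he⟩ := B.fusion i h1 hi2 hi1
    refine hy ?_
    have : y * h * t * (y * h)⁻¹ ∈ H := by
      rwa [show y * h * t * (y * h)⁻¹ = y * (h * t * h⁻¹) * y⁻¹ by group, he]
    simpa using mul_mem (B.mem_of_move this) (inv_mem hh)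
  refine ⟨y, K, hy2, inf_le_left, hodd, hKy, ?_⟩
  -- the map to the inverted elements
  set C := K ⊓ centralizer ({y} : Set G) with hC
  let Φ : K → J y := fun k => ⟨⟨(k : G) * (y * (k : G)⁻¹ * y⁻¹),
    mul_mem ((hmem _).1 k.2).1 ((hmem _).1 (hKy _ (inv_mem k.2))).1⟩, by
      show y * ((k : G) * (y * (k : G)⁻¹ * y⁻¹)) * y⁻¹ = ((k : G) * (y * (k : G)⁻¹ * y⁻¹))⁻¹
      rw [show y * ((k : G) * (y * (k : G)⁻¹ * y⁻¹)) * y⁻¹ =
        y * (k : G) * y * (k : G)⁻¹ * (y * y)⁻¹ by group, hy2, inv_one, mul_one, mul_inv_rev,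
        mul_inv_rev, mul_inv_rev, inv_inv, inv_inv, hyi]
      group⟩
  have hΦeq : ∀ k k' : K, Φ k = Φ k' ↔ (k : G)⁻¹ * k' ∈ C := by
    intro k k'
    constructor
    · intro e
      have e' : (k : G) * (y * (k : G)⁻¹ * y⁻¹) = (k' : G) * (y * (k' : G)⁻¹ * y⁻¹) :=
        congrArg (fun z : J y => ((z.1 : H) : G)) e
      refine mem_inf.2 ⟨K.mul_mem (K.inv_mem k.2) k'.2, mem_centralizer_singleton_iff.2 ?_⟩
      calc (k : G)⁻¹ * k' * y = (k : G)⁻¹ * ((k' : G) * (y * (k' : G)⁻¹ * y⁻¹)) * y * k' := by group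
        _ = y * ((k : G)⁻¹ * k') := by rw [← e']; group
    · intro hc
      have hc' := mem_centralizer_singleton_iff.1 hc.2
      refine Subtype.ext (Subtype.ext ?_)
      show (k : G) * (y * (k : G)⁻¹ * y⁻¹) = (k' : G) * (y * (k' : G)⁻¹ * y⁻¹)
      calc (k : G) * (y * (k : G)⁻¹ * y⁻¹)
          = (k : G) * (y * ((k : G)⁻¹ * k')) * (k' : G)⁻¹ * y⁻¹ := by group
        _ = (k' : G) * (y * (k' : G)⁻¹ * y⁻¹) := by rw [← hc']; group
  have hsurj : Function.Surjective Φ := by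
    rintro ⟨⟨j, hjH⟩, hj⟩
    simp only at hj
    have hjK : j ∈ K := (hmem j).2 ⟨hjH, by rw [hj]; exact inv_mem hjH⟩
    obtain ⟨r, hr⟩ : Odd (orderOf (⟨j, hjK⟩ : K)) := hodd.of_dvd_nat (orderOf_dvd_natCard _)
    have hb : j ^ (r + 1) * j ^ (r + 1) = j := by
      rw [← pow_add, show r + 1 + (r + 1) = 2 * r + 1 + 1 by omega, pow_succ, ← hr,
        ← Subgroup.orderOf_coe, pow_orderOf_eq_one, one_mul]
    refine ⟨⟨j ^ (r + 1), pow_mem hjK _⟩, Subtype.ext (Subtype.ext ?_)⟩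
    show j ^ (r + 1) * (y * (j ^ (r + 1))⁻¹ * y⁻¹) = j
    rw [show y * (j ^ (r + 1))⁻¹ * y⁻¹ = (y * j ^ (r + 1) * y⁻¹)⁻¹ by group, ← conj_pow, hj,
      inv_pow, inv_inv, hb]
  let Ψ : K ⧸ C.subgroupOf K → J y := Quotient.lift Φ fun k k' h => by
    rw [hΦeq]
    have := QuotientGroup.leftRel_apply.1 h
    rwa [mem_subgroupOf] at this
  have hΨ : Function.Bijective Ψ := by
    refine ⟨?_, fun j => ?_⟩
    · intro a b e
      induction a using QuotientGroup.induction_on with | _ k =>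
      induction b using QuotientGroup.induction_on with | _ k' =>
      refine QuotientGroup.eq.2 ?_
      rw [mem_subgroupOf]
      exact (hΦeq k k').1 e
    · obtain ⟨k, rfl⟩ := hsurj j; exact ⟨QuotientGroup.mk k, rfl⟩
  rw [← card_mul_index (C.subgroupOf K), index_eq_card, Nat.card_congr (Equiv.ofBijective Ψ hΨ),
    hJeq, Nat.card_congr (subgroupOfEquivOfLe (show C ≤ K from inf_le_left)).toEquiv, mul_comm]

end CfsgLib.McLThree.Census
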