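import Cfsg.Agent.Lib.McLThree.Defs
import Cfsg.Agent.Lib.McLThree.CensusStrong
import Cfsg.Agent.Lib.McLThree.CensusModel
import Cfsg.Agent.Lib.McLThree.CensusOddFive

/-!
# A subgroup isomorphic to the McLaughlin group whose normalizer holds an involution centraliser
-/

set_option autoImplicit false
set_option linter.style.haveILetI false
set_option linter.unusedSectionVars false
set_option maxHeartbeats 1000000

namespace CfsgLib.McLThree.Census


open Subgroup

theorem pow_five_eleven : ∀ r : ZMod 11, r ^ 5 = 1 → ∃ k : Fin 5, r = 4 ^ (k : ℕ) := by decide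

theorem solve_eleven : ∀ k : Fin 5, (k : ℕ) ≠ 0 → ∀ w : ZMod 11,
    ∃ r : ZMod 11, r * ((4 : ZMod 11) ^ (4 * (k : ℕ)) - 1) = w := by decide +kernel

theorem Facts.map {X Y : Type*} [Group X] [Group Y] (F : Facts X) (e : X ≃* Y) : Facts Y := by
  obtain ⟨a, b, ha, hb, hab, hca, hcb, φ, hφ, hφa, hφo⟩ := F.frame
  have hcen : ∀ x : X, Nat.card (centralizer ({e x} : Set Y)) = Nat.card (centralizer ({x} : Set X)) :=
    fun x => (Nat.card_congr (e.toEquiv.subtypeEquiv fun y => by
      simp only [mem_centralizer_singleton_iff, MulEquiv.toEquiv_eq_coe, EquivLike.coe_coe,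
        ← map_mul, e.injective.eq_iff])).symm
  refine ⟨by rw [← Nat.card_congr e.toEquiv, F.card], fun x y hx hy => ?_, fun x hx => ?_,
    e a, e b, by rw [MulEquiv.orderOf_eq, ha], by rw [MulEquiv.orderOf_eq, hb],
    by rw [← map_inv, ← map_mul, ← map_mul, hab, map_pow], fun g hg => ?_, by rw [hcen]; exact hcb,
    (e.symm.trans φ).trans e, fun x => by simp [hφ], by simp [hφa], fun g hg => hφo (e.symm g) ?_⟩
  · have h := e.toMonoidHom.map_isConj (F.invol (e.symm x) (e.symm y)
      (by rw [MulEquiv.orderOf_eq, hx]) (by rw [MulEquiv.orderOf_eq, hy]))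
    simpa using h
  · rw [← e.apply_symm_apply x, hcen, F.cent _ (by rw [MulEquiv.orderOf_eq, hx])]
  · obtain ⟨n, hn⟩ := mem_zpowers_iff.1 (hca (e.symm g) (e.injective (by simpa using hg)))
    exact mem_zpowers_iff.2 ⟨n, by rw [← map_zpow, hn, MulEquiv.apply_symm_apply]⟩
  · refine MulEquiv.ext fun x => e.injective ?_
    simpa using DFunLike.congr_fun hg (e x)

theorem Facts.card_invol {X : Type*} [Group X] [Finite X] (F : Facts X) {t : X}
    (ht : orderOf t = 2) : Nat.card {x : X // x * x = 1 ∧ x ≠ 1} = 22275 := by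
  haveI : Fact (Nat.Prime 2) := ⟨Nat.prime_two⟩
  have ht2 : t * t = 1 := by rw [← pow_two, ← ht, pow_orderOf_eq_one]
  have ht1 : t ≠ 1 := fun e => by rw [e, orderOf_one] at ht; omega
  set C := centralizer ({t} : Set X) with hC
  have hout : ∀ g h : X, g⁻¹ * h ∈ C → g * t * g⁻¹ = h * t * h⁻¹ := fun g h hm => by
    calc g * t * g⁻¹ = g * (t * (g⁻¹ * h)) * h⁻¹ := by group
      _ = h * t * h⁻¹ := by rw [← mem_centralizer_singleton_iff.1 hm]; group
  let Φ : X ⧸ C → {x : X // x * x = 1 ∧ x ≠ 1} :=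
    Quotient.lift (fun g => ⟨g * t * g⁻¹, by
      rw [show g * t * g⁻¹ * (g * t * g⁻¹) = g * (t * t) * g⁻¹ by group, ht2, mul_one,
        mul_inv_cancel], fun e => ht1 (conj_eq_one_iff.1 e)⟩)
      fun g h e => Subtype.ext (hout g h (QuotientGroup.leftRel_apply.1 e))
  have hΦ : Function.Bijective Φ := by
    refine ⟨fun p q e => ?_, fun x => ?_⟩
    · induction p using QuotientGroup.induction_on with | _ g =>
      induction q using QuotientGroup.induction_on with | _ h =>
      have e' : g * t * g⁻¹ = h * t * h⁻¹ := congrArg Subtype.val e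
      refine QuotientGroup.eq.2 (mem_centralizer_singleton_iff.2 ?_)
      calc g⁻¹ * h * t = g⁻¹ * (h * t * h⁻¹) * h := by group
        _ = t * (g⁻¹ * h) := by rw [← e']; group
    · obtain ⟨g, hg⟩ := isConj_iff.1 (F.invol t x.1 ht
        (orderOf_eq_prime (by rw [pow_two, x.2.1]) x.2.2))
      exact ⟨QuotientGroup.mk g, Subtype.ext hg⟩
  have h := card_mul_index C
  rw [index_eq_card, Nat.card_congr (Equiv.ofBijective Φ hΦ), hC, F.cent t ht, F.card] at h
  omega

/-- An odd subgroup of the group has the properties of `OddCtx`. -/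
theorem Facts.oddCtx {X : Type*} [Group X] [Finite X] (F : Facts X) {L : Subgroup X}
    {τ : MulAut L} (hτ : ∀ x, τ (τ x) = x) (hodd : Odd (Nat.card L))
    (hcard : Nat.card L = 22275 * Nat.card {x : L // τ x = x}) : OddCtx L τ := by
  haveI : Fact (Nat.Prime 11) := ⟨by norm_num⟩
  haveI : Fact (Nat.Prime 5) := ⟨by norm_num⟩
  obtain ⟨a, b, ha, hb, hab, hca, hcb, -⟩ := F.frame
  -- every element of order eleven is conjugate to a power of `a`
  have hconj : ∀ x : X, orderOf x = 11 →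
      ∃ c : X, (zpowers a).map (MulAut.conj c).toMonoidHom = zpowers x := by
    intro x hx
    obtain ⟨P, hP⟩ := ofCard_coe 11 1 81648000 (zpowers a) (by norm_num) (by rw [F.card]; norm_num)
      (by rw [Nat.card_zpowers, ha, pow_one])
    obtain ⟨Q, hQ⟩ := ofCard_coe 11 1 81648000 (zpowers x) (by norm_num) (by rw [F.card]; norm_num)
      (by rw [Nat.card_zpowers, hx, pow_one])
    obtain ⟨c, hc⟩ := MulAction.exists_smul_eq X P Q
    refine ⟨c, ?_⟩
    have h := congrArg (fun S : Sylow 11 X => (S : Subgroup X)) hc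
    simp only [Sylow.coe_subgroup_smul, hQ, hP] at h
    exact h
  have hc11 : ∀ x g : X, orderOf x = 11 → g * x = x * g → g ∈ zpowers x := by
    intro x g hx hg
    obtain ⟨c, hc⟩ := hconj x hx
    obtain ⟨a', ha', hac⟩ : ∃ a' ∈ zpowers x, a' = c * a * c⁻¹ :=
      ⟨_, hc ▸ mem_map_of_mem _ (mem_zpowers a), rfl⟩
    have hga : g * a' = a' * g := (pow_eq_of_comm hg.symm ha').symm
    have hk : c⁻¹ * g * c ∈ zpowers a := hca _ (by
      calc c⁻¹ * g * c * a = c⁻¹ * (g * a') * c := by rw [hac]; group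
        _ = a * (c⁻¹ * g * c) := by rw [hga, hac]; group)
    have := mem_map_of_mem (MulAut.conj c).toMonoidHom hk
    rw [hc] at this
    simpa [mul_assoc] using this
  have hc5 : ∀ x n : X, orderOf x = 11 → orderOf n = 5 → n * x * n⁻¹ ∈ zpowers x →
      Nat.card (centralizer ({n} : Set X)) ≤ 25 := by
    intro x n hx hn hnx
    obtain ⟨c, hc⟩ := hconj x hx
    set n' := c⁻¹ * n * c with hn'
    have hn'5 : orderOf n' = 5 := by
      have : n' = MulAut.conj c⁻¹ n := by simp [hn']
      rw [this, MulEquiv.orderOf_eq, hn]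
    have hna : n' * a * n'⁻¹ ∈ zpowers a := by
      have h1 : c * a * c⁻¹ ∈ zpowers x := hc ▸ mem_map_of_mem _ (mem_zpowers a)
      obtain ⟨i, hi⟩ := mem_zpowers_iff.1 h1
      have h2 : n * (c * a * c⁻¹) * n⁻¹ ∈ zpowers x := by
        rw [← hi, ← conj_zpow]; exact zpow_mem hnx i
      rw [← hc] at h2
      obtain ⟨w, hw, e⟩ := h2
      have e' : c * w * c⁻¹ = n * (c * a * c⁻¹) * n⁻¹ := e
      have : n' * a * n'⁻¹ = w := by
        calc n' * a * n'⁻¹ = c⁻¹ * (n * (c * a * c⁻¹) * n⁻¹) * c := by rw [hn']; group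
          _ = w := by rw [← e']; group
      exact this ▸ hw
    obtain ⟨s, hs⟩ := mem_zpowers_iff.1 hna
    have hiter : ∀ k : ℕ, n' ^ k * a * (n' ^ k)⁻¹ = a ^ (s ^ k) := by
      intro k
      induction k with
      | zero => simp
      | succ k ih =>
        rw [pow_succ', show n' * n' ^ k * a * (n' * n' ^ k)⁻¹ =
          n' * (n' ^ k * a * (n' ^ k)⁻¹) * n'⁻¹ by group, ih, ← conj_zpow, ← hs, ← zpow_mul,
          pow_succ']
    have hb' : ∀ k : ℕ, b ^ k * a * (b ^ k)⁻¹ = a ^ (4 ^ k : ℕ) := by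
      intro k
      induction k with
      | zero => simp
      | succ k ih =>
        rw [pow_succ', show b * b ^ k * a * (b * b ^ k)⁻¹ = b * (b ^ k * a * (b ^ k)⁻¹) * b⁻¹ by
          group, ih, ← conj_pow, hab, ← pow_mul, pow_succ']
    have h5 : ((s : ZMod 11)) ^ 5 = 1 := by
      have h := hiter 5
      rw [show n' ^ 5 = 1 from hn'5 ▸ pow_orderOf_eq_one n', one_mul, inv_one, mul_one] at h
      have h' := zpow_eq_zpow_iff_modEq.1 ((zpow_one a).trans h)
      rw [ha] at h'
      simpa using ((ZMod.intCast_eq_intCast_iff _ _ 11).2 h').symm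
    obtain ⟨k, hk⟩ : ∃ k : Fin 5, (s : ZMod 11) = 4 ^ (k : ℕ) := pow_five_eleven _ h5
    have has : a ^ s = a ^ (4 ^ (k : ℕ) : ℕ) := by
      rw [← zpow_natCast, zpow_eq_zpow_iff_modEq, ha]
      exact (ZMod.intCast_eq_intCast_iff _ _ 11).1 (by simpa using hk)
    obtain ⟨w, hw⟩ := mem_zpowers_iff.1 (hca ((b ^ (k : ℕ))⁻¹ * n') (by
      calc (b ^ (k : ℕ))⁻¹ * n' * a = (b ^ (k : ℕ))⁻¹ * (n' * a * n'⁻¹) * n' := by group
        _ = (b ^ (k : ℕ))⁻¹ * (b ^ (k : ℕ) * a * (b ^ (k : ℕ))⁻¹) * n' := by rw [← hs, has, hb']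
        _ = a * ((b ^ (k : ℕ))⁻¹ * n') := by group))
    have hk0 : (k : ℕ) ≠ 0 := by
      intro h0
      rw [h0, pow_zero, inv_one, one_mul] at hw
      have h := Subgroup.orderOf_dvd_natCard _ (hw ▸ zpow_mem (mem_zpowers a) w : n' ∈ zpowers a)
      rw [hn'5, Nat.card_zpowers, ha] at h
      norm_num at h
    -- conjugate by a power of `a` to a power of `b`
    have key : ∀ r : ℤ, a ^ r * b ^ (k : ℕ) * a ^ (-r) =
        b ^ (k : ℕ) * a ^ (r * ((4 : ℤ) ^ (4 * (k : ℕ)) - 1)) := by
      intro r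
      have hinv : (b ^ (k : ℕ))⁻¹ * a * b ^ (k : ℕ) = a ^ (4 ^ (4 * (k : ℕ)) : ℕ) := by
        have h := hb' (4 * (k : ℕ))
        have e : b ^ (4 * (k : ℕ)) = (b ^ (k : ℕ))⁻¹ := by
          refine eq_inv_of_mul_eq_one_left ?_
          rw [← pow_add, show 4 * (k : ℕ) + (k : ℕ) = 5 * (k : ℕ) by ring, pow_mul,
            show b ^ 5 = 1 from hb ▸ pow_orderOf_eq_one b, one_pow]
        rwa [e, inv_inv] at h
      calc a ^ r * b ^ (k : ℕ) * a ^ (-r)
          = b ^ (k : ℕ) * (((b ^ (k : ℕ))⁻¹ * a * b ^ (k : ℕ)) ^ r * a ^ (-r)) := by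
            rw [show ((b ^ (k : ℕ))⁻¹ * a * b ^ (k : ℕ)) ^ r =
              (b ^ (k : ℕ))⁻¹ * a ^ r * b ^ (k : ℕ) by
                simpa using (conj_zpow (a := (b ^ (k : ℕ))⁻¹) (b := a) (i := r))]
            group
        _ = _ := by
          rw [hinv, ← zpow_natCast a, ← zpow_mul, ← zpow_add]
          congr 1
          push_cast
          ring
    have hsol : ∀ k : Fin 5, (k : ℕ) ≠ 0 → ∀ w : ZMod 11,
        ∃ r : ZMod 11, r * ((4 : ZMod 11) ^ (4 * (k : ℕ)) - 1) = w := solve_eleven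
    obtain ⟨r, hr⟩ := hsol k hk0 (w : ZMod 11)
    obtain ⟨r, rfl⟩ := ZMod.intCast_surjective r
    have hn'eq : n' = a ^ r * b ^ (k : ℕ) * a ^ (-r) := by
      rw [key]
      have e : a ^ w = a ^ (r * ((4 : ℤ) ^ (4 * (k : ℕ)) - 1)) := by
        rw [zpow_eq_zpow_iff_modEq, ha]
        exact (ZMod.intCast_eq_intCast_iff _ _ 11).1 (by push_cast; exact hr.symm)
      rw [← e, hw, mul_inv_cancel_left]
    -- the centralisers
    refine le_trans ?_ hcb
    refine Nat.card_le_card_of_injective (fun g => ⟨(c * a ^ r)⁻¹ * (g : X) * (c * a ^ r),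
      mem_centralizer_singleton_iff.2 ?_⟩) fun g g' e => Subtype.ext
        (mul_left_cancel (mul_right_cancel (congrArg Subtype.val e)))
    set d := c * a ^ r with hd
    have hnd : n = d * b ^ (k : ℕ) * d⁻¹ := by
      calc n = c * n' * c⁻¹ := by rw [hn']; group
        _ = d * b ^ (k : ℕ) * d⁻¹ := by rw [hn'eq, hd]; group
    have hg : d⁻¹ * (g : X) * d * b ^ (k : ℕ) = b ^ (k : ℕ) * (d⁻¹ * (g : X) * d) := by
      have h := mem_centralizer_singleton_iff.1 g.2
      calc d⁻¹ * (g : X) * d * b ^ (k : ℕ) = d⁻¹ * ((g : X) * (d * b ^ (k : ℕ) * d⁻¹)) * d := by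
            group
        _ = d⁻¹ * (n * (g : X)) * d := by rw [← hnd, h]
        _ = d⁻¹ * (d * b ^ (k : ℕ) * d⁻¹ * (g : X)) * d :=
            congrArg (fun z => d⁻¹ * (z * (g : X)) * d) hnd
        _ = b ^ (k : ℕ) * (d⁻¹ * (g : X) * d) := by group
    obtain ⟨m, hm⟩ := exists_pow_eq_self_of_coprime (x := b) (n := (k : ℕ))
      (by rw [hb]; exact ((by norm_num : Nat.Prime 5).coprime_iff_not_dvd.2 fun h => hk0
        (by have := Nat.le_of_dvd (Nat.pos_of_ne_zero hk0) h; omega)).symm)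
    rw [← hm]
    exact (Commute.pow_right hg m).eq
  refine ⟨hτ, hodd, hcard, F.card ▸ card_subgroup_dvd_card L, fun x g hx hg => ?_,
    fun x n hx hn hnx => ?_⟩
  · obtain ⟨i, hi⟩ := mem_zpowers_iff.1
      (hc11 x g (by rw [Subgroup.orderOf_coe, hx]) (congrArg Subtype.val hg))
    exact mem_zpowers_iff.2 ⟨i, Subtype.ext (by rw [SubgroupClass.coe_zpow, hi])⟩
  · obtain ⟨i, hi⟩ := mem_zpowers_iff.1 hnx
    refine le_trans ?_ (hc5 x n (by rw [Subgroup.orderOf_coe, hx]) (by rw [Subgroup.orderOf_coe, hn])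
      (mem_zpowers_iff.2 ⟨i, by
        have := congrArg Subtype.val hi
        simpa using this⟩))
    exact Nat.card_le_card_of_injective (fun g => ⟨((g : L) : X),
      mem_centralizer_singleton_iff.2 (congrArg Subtype.val (mem_centralizer_singleton_iff.1 g.2))⟩)
      fun g g' e => Subtype.ext (Subtype.ext (congrArg Subtype.val e :))

/-- The group is not strongly embedded in a larger one. -/
theorem Facts.not_strong {G : Type*} [Group G] [Finite G] {G₀ : Subgroup G} {t : G}
    (F : Facts G₀) (B : Strong G₀ t) : G₀ = ⊤ := by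
  by_contra hne
  obtain ⟨y, K, hy2, hKle, hodd, hKy, hcard⟩ := B.exists_odd hne
  haveI : Fact (Nat.Prime 2) := ⟨Nat.prime_two⟩
  rw [F.card_invol (t := ⟨t, B.mem⟩) (orderOf_eq_prime (Subtype.ext (by
    rw [pow_two]; exact B.sq)) fun e => B.ne (congrArg Subtype.val e))] at hcard
  set K' := K.subgroupOf G₀
  have hmem : ∀ x : K', y * ((x : G₀) : G) * y⁻¹ ∈ K := fun x => hKy _ x.2
  have hinv : ∀ g : G, y * (y * g * y⁻¹) * y⁻¹ = g := fun g => by
    rw [show y * (y * g * y⁻¹) * y⁻¹ = y * y * g * (y * y)⁻¹ by group, hy2]; simp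
  let τ : MulAut K' :=
    { toFun := fun x => ⟨⟨y * ((x : G₀) : G) * y⁻¹, hKle (hmem x)⟩, hmem x⟩
      invFun := fun x => ⟨⟨y * ((x : G₀) : G) * y⁻¹, hKle (hmem x)⟩, hmem x⟩
      left_inv := fun x => Subtype.ext (Subtype.ext (hinv _))
      right_inv := fun x => Subtype.ext (Subtype.ext (hinv _))
      map_mul' := fun a b => Subtype.ext (Subtype.ext (by simp [mul_assoc])) }
  have hfix : Nat.card {x : K' // τ x = x} = Nat.card ↥(K ⊓ centralizer ({y} : Set G)) := by
    refine Nat.card_congr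
      { toFun := fun x => ⟨((x.1 : G₀) : G), x.1.2, mem_centralizer_singleton_iff.2 (by
          have h : y * ((x.1 : G₀) : G) * y⁻¹ = ((x.1 : G₀) : G) :=
            congrArg (fun z : K' => ((z : G₀) : G)) x.2
          exact (mul_inv_eq_iff_eq_mul.1 h).symm)⟩
        invFun := fun x => ⟨⟨⟨x.1, hKle x.2.1⟩, x.2.1⟩, Subtype.ext (Subtype.ext (by
          show y * x.1 * y⁻¹ = x.1
          rw [← mem_centralizer_singleton_iff.1 x.2.2, mul_inv_cancel_right]))⟩
        left_inv := fun _ => rfl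
        right_inv := fun _ => rfl }
  refine OddCtx.false (F.oddCtx (L := K') (τ := τ) (fun x => Subtype.ext (Subtype.ext (hinv _)))
    ?_ ?_)
  · rwa [Nat.card_congr (subgroupOfEquivOfLe hKle).toEquiv]
  · rw [hfix, Nat.card_congr (subgroupOfEquivOfLe hKle).toEquiv]
    exact hcard

/-- The sign of a permutation of order at most two. -/
theorem sign_involution {α : Type*} [Fintype α] [DecidableEq α] (p : Equiv.Perm α) (hp : p ^ 2 = 1) :
    Equiv.Perm.sign p = (-1 : ℤˣ) ^ (p.support.card / 2) := by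
  haveI : Fact (Nat.Prime 2) := ⟨Nat.prime_two⟩
  have h := Equiv.Perm.cycleType_of_pow_prime_eq_one hp
  have hsum := p.sum_cycleType
  rw [h, Multiset.sum_replicate, smul_eq_mul] at hsum
  rw [Equiv.Perm.sign_of_cycleType, h, Multiset.sum_replicate, Multiset.card_replicate,
    smul_eq_mul, ← hsum, Nat.mul_div_cancel _ (by norm_num : 0 < 2), pow_add, pow_mul']
  norm_num

theorem simple_mcl : IsSimpleGroup Cfsg.Spor.McL := by
  haveI : IsSimpleGroup CfsgLib.Spor.McLConfig.pairStab := CfsgLib.Spor.ConwaySimple.isSimple_mcl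
  obtain ⟨e⟩ := CfsgLib.Spor.PermOut.McLData.pairStab_equiv_mcl
  exact e.isSimpleGroup_congr.1 inferInstance

theorem card_mulAut_mcl {X : Type*} [Group X] (e : X ≃* Cfsg.Spor.McL)
    (hc : ∀ x : X, (∀ g : X, g * x = x * g) → x = 1) : Nat.card (MulAut X) = 2 * Nat.card X := by
  have h := Subgroup.card_eq_card_quotient_mul_card_subgroup (MulAut.conj : X →* MulAut X).range
  rw [h]
  congr 1
  · exact (CfsgLib.Spor.PermOut.natCard_out_congr e).trans
      CfsgLib.Spor.PermOut.McLData.natCard_out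
  · refine (Nat.card_congr (MonoidHom.ofInjective (f := (MulAut.conj : X →* MulAut X)) ?_).toEquiv).symm
    refine (injective_iff_map_eq_one _).2 fun x hx => hc x fun g => ?_
    have := DFunLike.congr_fun hx g
    simp only [MulAut.conj_apply, MulAut.one_apply] at this
    exact (mul_inv_eq_iff_eq_mul.1 this).symm

end CfsgLib.McLThree.Census

namespace CfsgLib.McLThree

open Subgroup Census

universe u

open scoped Classical in
theorem census : StmtCensus.{u} := by
  intro G _ _ G₀ t ⟨e⟩ htG ht hcent hle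
  haveI : Fact (Nat.Prime 2) := ⟨Nat.prime_two⟩
  haveI : IsSimpleGroup G₀ := by
    haveI := simple_mcl
    exact e.isSimpleGroup_congr.2 inferInstance
  have F : Facts G₀ := facts_mcl.map e.symm
  set H := normalizer (G₀ : Set G) with hH
  have hG₀H : G₀ ≤ H := le_normalizer
  have ht2 : t * t = 1 := by rw [← pow_two, ← ht, pow_orderOf_eq_one]
  have ht1 : t ≠ 1 := fun h => by rw [h, orderOf_one] at ht; omega
  have hconjG₀ : ∀ x : G, x ∈ G₀ → x * x = 1 → x ≠ 1 → ∃ h ∈ G₀, h * t * h⁻¹ = x := by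
    intro x hx hx2 hx1
    obtain ⟨h, hh⟩ := isConj_iff.1 (F.invol ⟨t, htG⟩ ⟨x, hx⟩
      (by rw [← Subgroup.orderOf_coe]; exact ht)
      (orderOf_eq_prime (Subtype.ext (by rw [pow_two]; exact hx2))
        fun e => hx1 (congrArg Subtype.val e)))
    exact ⟨h, h.2, congrArg Subtype.val hh⟩
  -- conjugation
  set ι : H →* MulAut G₀ := G₀.normalizerMonoidHom with hι
  have hιinj : Function.Injective ι := by
    rw [← MonoidHom.ker_eq_bot_iff, hι, normalizerMonoidHom_ker, eq_bot_iff]
    intro x hx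
    rw [mem_subgroupOf, hcent, mem_bot] at hx
    exact mem_bot.2 (Subtype.ext hx)
  have hc : ∀ x : G₀, (∀ g : G₀, g * x = x * g) → x = 1 := fun x hx => by
    have : (x : G) ∈ centralizer (G₀ : Set G) :=
      mem_centralizer_iff.2 fun g hg => congrArg Subtype.val (hx ⟨g, hg⟩)
    rw [hcent, mem_bot] at this
    exact Subtype.ext this
  have haut := card_mulAut_mcl e hc
  have hHdvd : Nat.card H ∣ 2 * Nat.card G₀ := haut ▸ card_dvd_of_injective ι hιinj
  obtain ⟨j, hj⟩ := card_dvd_of_le hG₀H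
  have hj2 : j = 1 ∨ j = 2 := by
    rw [hj, mul_comm 2] at hHdvd
    exact (Nat.dvd_prime Nat.prime_two).1 (Nat.dvd_of_mul_dvd_mul_left Nat.card_pos hHdvd)
  rcases hj2 with rfl | rfl
  · -- no outer automorphism occurs
    have e' : G₀ = H := eq_of_le_of_card_ge hG₀H (by rw [hj, mul_one])
    have B : Strong G₀ t := ⟨htG, ht2, ht1, hconjG₀, by rw [e']; exact hle⟩
    exact e'.symm.trans (F.not_strong B)
  have hGcard : Nat.card G₀ = 898128000 := F.card
  obtain ⟨a, b, ha, -, -, -, -, φ, hφ, hφa, hφo⟩ := F.frame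
  have hbij : Function.Bijective ι := hιinj.bijective_of_nat_card_le (by rw [haut, hj, mul_comm])
  obtain ⟨σH, hσ⟩ := hbij.2 φ
  obtain ⟨σ, hσH⟩ := σH
  have hι' : ∀ (h : H) (x : G₀), ((ι h x : G₀) : G) = (h : G) * x * (h : G)⁻¹ := fun h x => rfl
  have hσ2 : σ * σ = 1 := by
    have h1 : (⟨σ, hσH⟩ : H) * ⟨σ, hσH⟩ = 1 := hιinj (by
      rw [map_mul, map_one, hσ]; exact MulEquiv.ext hφ)
    exact congrArg Subtype.val h1
  have hσG : σ ∉ G₀ := fun h => hφo ⟨σ, h⟩ (by
    rw [← hσ]; exact MulEquiv.ext fun x => Subtype.ext (hι' _ x))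
  have hσa : σ * (a : G) = (a : G) * σ := by
    have := hι' ⟨σ, hσH⟩ a
    rw [hσ, hφa] at this
    exact mul_inv_eq_iff_eq_mul.1 this.symm
  -- squares of `H` lie in `G₀`
  haveI hnorm : (G₀.subgroupOf H).Normal := normal_in_normalizer
  have hsq : ∀ x ∈ H, x * x ∈ G₀ := by
    intro x hx
    have hidx : (G₀.subgroupOf H).index = 2 := by
      have h := card_mul_index (G₀.subgroupOf H)
      rw [Nat.card_congr (subgroupOfEquivOfLe hG₀H).toEquiv, hj] at h
      exact Nat.eq_of_mul_eq_mul_left Nat.card_pos h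
    have h := mem_subgroupOf.1 (mul_self_mem_of_index_two hidx (⟨x, hx⟩ : H))
    exact h
  -- `σ` is not conjugate to `t`
  have hnot : ∀ g : G, g * t * g⁻¹ ≠ σ := by
    intro g hg
    set a' := g⁻¹ * (a : G) * g with ha'
    have hord : orderOf a' = 11 := by
      have : a' = MulAut.conj g⁻¹ (a : G) := by simp [ha']
      rw [this, MulEquiv.orderOf_eq, Subgroup.orderOf_coe, ha]
    have hcomm : a' * t = t * a' := by
      calc a' * t = g⁻¹ * ((a : G) * (g * t * g⁻¹)) * g := by rw [ha']; group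
        _ = g⁻¹ * (g * t * g⁻¹ * (a : G)) * g := by rw [hg, hσa]
        _ = t * a' := by rw [ha']; group
    have hH' : a' ∈ H := hle (mem_centralizer_singleton_iff.2 hcomm)
    have hG' : a' ∈ G₀ := by
      have h12 : a' = (a' * a') ^ 6 := by
        rw [← pow_two, ← pow_mul, show 2 * 6 = 11 + 1 by norm_num, pow_succ, ← hord,
          pow_orderOf_eq_one, one_mul]
      rw [h12]; exact pow_mem (hsq _ hH') 6
    have h := Subgroup.orderOf_dvd_natCard (centralizer ({(⟨t, htG⟩ : G₀)} : Set G₀))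
      (x := (⟨a', hG'⟩ : G₀)) (mem_centralizer_singleton_iff.2 (Subtype.ext hcomm))
    rw [F.cent _ (by rw [← Subgroup.orderOf_coe]; exact ht), ← Subgroup.orderOf_coe] at h
    change orderOf a' ∣ 40320 at h
    rw [hord] at h
    norm_num at h
  have hmove : ∀ g : G, g * t * g⁻¹ ∈ G₀ → g ∈ H := by
    intro g hg
    obtain ⟨h, hh, he⟩ := hconjG₀ _ hg
      (by rw [show g * t * g⁻¹ * (g * t * g⁻¹) = g * (t * t) * g⁻¹ by group, ht2, mul_one,
        mul_inv_cancel]) (fun e => ht1 (conj_eq_one_iff.1 e))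
    have hc : h⁻¹ * g ∈ centralizer ({t} : Set G) := mem_centralizer_singleton_iff.2 (by
      calc h⁻¹ * g * t = h⁻¹ * (g * t * g⁻¹) * g := by group
        _ = t * (h⁻¹ * g) := by rw [← he]; group)
    simpa using mul_mem (hG₀H hh) (hle hc)
  -- the sign on the cosets
  haveI : Fintype (G ⧸ G₀) := Fintype.ofFinite _
  let χ : G →* ℤˣ := Equiv.Perm.sign.comp (MulAction.toPermHom G (G ⧸ G₀))
  have hidx : Nat.card (G ⧸ G₀) = 2 * H.index := by
    rw [← index_eq_card]
    refine Nat.eq_of_mul_eq_mul_left (Nat.card_pos : 0 < Nat.card G₀) ?_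
    rw [card_mul_index, ← mul_assoc, ← hj, card_mul_index]
  have hχG : ∀ x ∈ G₀, χ x = 1 := by
    intro x hx
    rcases (χ.comp G₀.subtype).normal_ker.eq_bot_or_eq_top with h | h
    · have h1 := card_dvd_of_injective (χ.comp G₀.subtype) ((MonoidHom.ker_eq_bot_iff _).1 h)
      rw [hGcard, Nat.card_eq_fintype_card, Fintype.card_units_int] at h1
      norm_num at h1
    · have : (⟨x, hx⟩ : G₀) ∈ (χ.comp G₀.subtype).ker := h ▸ mem_top _
      exact this
  have hsupp : ∀ x : G, x * x = 1 → χ x = (-1 : ℤˣ) ^ ((Finset.univ.filter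
      fun q : G ⧸ G₀ => x • q ≠ q).card / 2) := by
    intro x hx
    show Equiv.Perm.sign (MulAction.toPermHom G (G ⧸ G₀) x) = _
    refine (sign_involution _ (by rw [← map_pow, pow_two, hx, map_one])).trans ?_
    congr 3
  -- `σ` moves every coset
  have hσall : (Finset.univ.filter fun q : G ⧸ G₀ => σ • q ≠ q) = Finset.univ := by
    refine Finset.filter_true_of_mem fun q _ => ?_
    induction q using QuotientGroup.induction_on with | _ g =>
    intro hq
    rw [MulAction.Quotient.smul_mk, smul_eq_mul] at hq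
    have h1 := QuotientGroup.eq.1 hq.symm
    obtain ⟨k, hk, hke⟩ := hconjG₀ _ h1
      (by rw [show g⁻¹ * (σ * g) * (g⁻¹ * (σ * g)) = g⁻¹ * (σ * σ) * g by group, hσ2]; group)
      (fun e => hσG (by
        have : σ = g * (g⁻¹ * (σ * g)) * g⁻¹ := by group
        rw [this, e]; simp))
    refine hnot (g * k) ?_
    calc g * k * t * (g * k)⁻¹ = g * (k * t * k⁻¹) * g⁻¹ := by group
      _ = σ := by rw [hke]; group
  -- `t` fixes two cosets
  have htfix : (Finset.univ.filter fun q : G ⧸ G₀ => ¬ t • q ≠ q).card = 2 := by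
    rw [← Fintype.card_subtype, ← Nat.card_eq_fintype_card]
    have key : ∀ g : G, t • (QuotientGroup.mk g : G ⧸ G₀) = QuotientGroup.mk g ↔ g ∈ H := by
      intro g
      rw [MulAction.Quotient.smul_mk, smul_eq_mul, eq_comm, QuotientGroup.eq, ← mul_assoc]
      refine ⟨fun h => ?_, fun h => ?_⟩
      · have := hmove g⁻¹ (by rwa [inv_inv])
        simpa using inv_mem this
      · have := (mem_normalizer_iff.1 (inv_mem h) t).1 htG
        rwa [inv_inv] at this
    have hiff : ∀ q : G ⧸ G₀, (¬ t • q ≠ q) ↔ t • q = q := fun q => not_not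
    rw [Nat.card_congr (Equiv.subtypeEquivRight hiff)]
    let f : H ⧸ G₀.subgroupOf H → {q : G ⧸ G₀ // t • q = q} :=
      Quotient.lift (fun h => ⟨QuotientGroup.mk (h : G), (key h).2 h.2⟩) fun h h' hh =>
        Subtype.ext (QuotientGroup.eq.2 (by
          have := mem_subgroupOf.1 (QuotientGroup.leftRel_apply.1 hh)
          exact this))
    have hf : Function.Bijective f := by
      refine ⟨fun p q e => ?_, fun ⟨q, hq⟩ => ?_⟩
      · induction p using QuotientGroup.induction_on with | _ h =>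
        induction q using QuotientGroup.induction_on with | _ h' =>
        refine QuotientGroup.eq.2 (mem_subgroupOf.2 ?_)
        exact QuotientGroup.eq.1 (congrArg Subtype.val e :)
      · induction q using QuotientGroup.induction_on with | _ g =>
        exact ⟨QuotientGroup.mk ⟨g, (key g).1 hq⟩, rfl⟩
    rw [← Nat.card_congr (Equiv.ofBijective f hf), ← index_eq_card]
    have h := card_mul_index (G₀.subgroupOf H)
    rw [Nat.card_congr (subgroupOfEquivOfLe hG₀H).toEquiv, hj] at h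
    exact Nat.eq_of_mul_eq_mul_left Nat.card_pos h
  have hχσ : χ σ = -1 := by
    have h1 := hsupp t ht2
    rw [hχG t htG] at h1
    have hsum := Finset.card_filter_add_card_filter_not
      (s := (Finset.univ : Finset (G ⧸ G₀))) (fun q => t • q ≠ q)
    rw [htfix, Finset.card_univ, ← Nat.card_eq_fintype_card, hidx] at hsum
    have heven : Even ((Finset.univ.filter fun q : G ⧸ G₀ => t • q ≠ q).card / 2) := by
      rcases Nat.even_or_odd ((Finset.univ.filter fun q : G ⧸ G₀ => t • q ≠ q).card / 2) with h | h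
      · exact h
      · rw [h.neg_one_pow] at h1
        exact absurd h1 (by decide)
    rw [hsupp σ hσ2, hσall, Finset.card_univ, ← Nat.card_eq_fintype_card, hidx,
      Nat.mul_div_cancel_left _ (by norm_num : 0 < 2)]
    obtain ⟨r, hr⟩ := heven
    exact Odd.neg_one_pow ⟨r, by omega⟩
  -- the kernel of the sign
  set G₁ := χ.ker with hG₁
  have hle₁ : G₀ ≤ G₁ := fun x hx => hχG x hx
  have hHG₁ : H ⊓ G₁ ≤ G₀ := by
    intro x hx
    by_contra hxG
    have hidx2 : (G₀.subgroupOf H).index = 2 := by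
      have h := card_mul_index (G₀.subgroupOf H)
      rw [Nat.card_congr (subgroupOfEquivOfLe hG₀H).toEquiv, hj] at h
      exact Nat.eq_of_mul_eq_mul_left Nat.card_pos h
    have hm : x * σ ∈ G₀ := by
      have := (mul_mem_iff_of_index_two hidx2 (a := (⟨x, hx.1⟩ : H)) (b := ⟨σ, hσH⟩)).2
        (by simp only [mem_subgroupOf]; exact iff_of_false hxG hσG)
      exact this
    have h1 := hχG _ hm
    rw [map_mul, hχσ, show χ x = 1 from hx.2, one_mul] at h1
    exact absurd h1 (by decide)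
  set G₀' := G₀.subgroupOf G₁ with hG₀'
  let t' : G₁ := ⟨t, hle₁ htG⟩
  have B : Strong G₀' t' := by
    refine ⟨htG, Subtype.ext ht2, fun e => ht1 (congrArg Subtype.val e), fun x hx hx2 hx1 => ?_,
      fun g hg => ?_⟩
    · obtain ⟨h, hh, he⟩ := hconjG₀ x hx (congrArg Subtype.val hx2)
        (fun e => hx1 (Subtype.ext e))
      exact ⟨⟨h, hle₁ hh⟩, hh, Subtype.ext he⟩
    · exact hHG₁ ⟨hle (mem_centralizer_singleton_iff.2
        (congrArg Subtype.val (mem_centralizer_singleton_iff.1 hg))), g.2⟩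
  have htop := (F.map (subgroupOfEquivOfLe hle₁).symm).not_strong B
  have heq : G₀ = G₁ := le_antisymm hle₁ (subgroupOf_eq_top.1 htop)
  rw [hH, heq]
  exact normalizer_eq_top (H := G₁)

end CfsgLib.McLThree
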