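import Cfsg.Agent.Lib.McLThree.GlueFrame

/-!
# One of the candidates holds
-/

set_option autoImplicit false
set_option maxRecDepth 100000

namespace CfsgLib.McLThree

open Subgroup Glue

universe u

namespace Glue

/-- Conjugate of a word. -/
def wconj (v w : List (Fin 14)) : List (Fin 14) := v ++ w ++ winv v

/-- Commutator of two words. -/
def wcomm (v w : List (Fin 14)) : List (Fin 14) := v ++ w ++ winv v ++ winv w

/-- Power of a word with exponent modulo three. -/
def wpw (w : List (Fin 14)) (i : ZMod 3) : List (Fin 14) :=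
  if i = 0 then [] else if i = 1 then w else winv w

/-- The second element, as a word. -/
def wordQ2 : List (Fin 14) := wconj wordS [6]

/-- The third element, as a word. -/
def wordQ3 : List (Fin 14) := wconj wordW [6]

/-- The fourth element, as a word. -/
def wordQ4 : List (Fin 14) := wconj wordW wordQ2

/-- The relators involving `q` before reduction. -/
def qShapes (x α β : ZMod 3) : List (List (Fin 14)) := [
  [6, 6, 6],
  wcomm [0] [6],
  wcomm wordA [6],
  wconj wordT [6] ++ [6],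
  wconj wordG [6] ++ [6],
  wcomm [6] wordQ2,
  wcomm [6] wordQ3 ++ wpw [0] (-α),
  wcomm [6] wordQ4 ++ wpw [0] (-β),
  wcomm wordQ2 wordQ3 ++ wpw [0] (-β),
  wcomm wordQ2 wordQ4 ++ wpw [0] α,
  wcomm wordA wordQ2,
  wconj wordA wordQ3 ++ winv wordQ3 ++ wordQ2 ++ [13] ++ wpw [0] (β - α),
  wconj wordA wordQ4 ++ winv wordQ4 ++ winv wordQ2 ++ [13] ++ wpw [0] (α - β),
  wconj wordS wordQ2 ++ [6],
  wconj wordS wordQ3 ++ wordQ4,
  wconj wordS wordQ4 ++ winv wordQ3,
  wconj wordW wordQ3 ++ [6],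
  wconj wordW wordQ4 ++ wordQ2,
  wconj wordE [6] ++ wordQ2 ++ wpw [6] (-x),
  wconj wordE wordQ2 ++ wpw wordQ2 x ++ [6],
  wconj wordE wordQ3 ++ wpw wordQ4 (-x) ++ winv wordQ3,
  wconj wordE wordQ4 ++ wordQ4 ++ wpw wordQ3 (-x)]

/-- The parameters of the candidates. -/
def params : Fin 4 → ZMod 3 × ZMod 3 × ZMod 3
  | 0 => (1, 1, 0)
  | 1 => (1, -1, 0)
  | 2 => (-1, 0, 1)
  | 3 => (-1, 0, -1)

/-- The relators involving `q`. -/
def qRelsOf : Fin 4 → List (List (Fin 14))
  | 0 => qRels0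
  | 1 => qRels1
  | 2 => qRels2
  | 3 => qRels3

theorem qRels_shapes : ∀ k : Fin 4, ∀ w ∈ qRelsOf k,
    ∃ w' ∈ qShapes (params k).1 (params k).2.1 (params k).2.2,
      ∃ c ∈ ([[], [2]] : List (List (Fin 14))), fred (c ++ w ++ winv c) = fred w' := by
  decide +kernel

variable {G : Type u} [Group G] {D : Loc G} (C : Cover G D)

theorem val_wconj (L : Fin 7 → G) (v w : List (Fin 14)) :
    val L (wconj v w) = cj (val L v) (val L w) := by
  rw [wconj, val_append, val_append, val_winv]; rfl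

theorem val_wcomm (L : Fin 7 → G) (v w : List (Fin 14)) :
    val L (wcomm v w) = cj (val L v) (val L w) * (val L w)⁻¹ := by
  rw [wcomm, val_append, val_append, val_append, val_winv, val_winv]; rfl

theorem val_wpw (L : Fin 7 → G) (w : List (Fin 14)) (i : ZMod 3) (h : val L w ^ 3 = 1) :
    val L (wpw w i) = pw (val L w) i := by
  have : i = 0 ∨ i = 1 ∨ i = -1 := (by decide : ∀ i : ZMod 3, i = 0 ∨ i = 1 ∨ i = -1) i
  rcases this with rfl | rfl | rfl
  · rw [pw_zero]; rfl
  · rw [pw_one]; rfl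
  · rw [pw_neg_one h, show wpw w (-1) = winv w from rfl, val_winv]

theorem shapes_vanish {F : Frame D} {B : Base F} (Z : Sol B)
    (hS : F.S = val (letters C 1) wordS) (hW : F.W = val (letters C 1) wordW)
    (hE : F.E = val (letters C 1) wordE) (hR : F.R = val (letters C 1) wordG) :
    ∀ w ∈ qShapes Z.x B.α B.β, val (letters C B.q) w = 1 := by
  have vS : val (letters C B.q) wordS = F.S :=
    (letters_indep C B.q 1 wordS (by decide)).trans hS.symm
  have vW : val (letters C B.q) wordW = F.W :=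
    (letters_indep C B.q 1 wordW (by decide)).trans hW.symm
  have vE : val (letters C B.q) wordE = F.E :=
    (letters_indep C B.q 1 wordE (by decide)).trans hE.symm
  have vG : val (letters C B.q) wordG = F.R :=
    (letters_indep C B.q 1 wordG (by decide)).trans hR.symm
  have v6 : val (letters C B.q) [6] = B.q := by
    rw [val_cons, val_nil, mul_one, dif_pos (by decide)]
    exact Fin.snoc_last (α := fun _ => G) B.q C.T
  have v13 : val (letters C B.q) [13] = B.q⁻¹ :=
    (val_letter (letters C B.q) 6).trans (congrArg _ v6)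
  have v2 : val (letters C B.q) wordQ2 = B.q2 := by rw [wordQ2, val_wconj, vS, v6]; rfl
  have v3 : val (letters C B.q) wordQ3 = B.q3 := by rw [wordQ3, val_wconj, vW, v6]; rfl
  have v4 : val (letters C B.q) wordQ4 = B.q4 := by rw [wordQ4, val_wconj, vW, v2]; rfl
  have vz := letters_z C B.q
  have z3' : val (letters C B.q) [0] ^ 3 = 1 := by rw [vz]; exact z3 D
  have q3' : val (letters C B.q) [6] ^ 3 = 1 := by rw [v6]; exact B.cube1
  have q23 : val (letters C B.q) wordQ2 ^ 3 = 1 := by rw [v2]; exact B.cube2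
  have q33 : val (letters C B.q) wordQ3 ^ 3 = 1 := by rw [v3]; exact B.cube3
  have q43 : val (letters C B.q) wordQ4 ^ 3 = 1 := by rw [v4]; exact B.cube4
  have cm : ∀ {x y : G} {i : ZMod 3}, Cm D x y i → cj x y * y⁻¹ * pw D.z (-i) = 1 := fun h => by
    rw [pw_neg (z3 D), cj, h.2.2]
    group
  have sq : ∀ {x y : G}, Commute x y → cj x y * y⁻¹ = 1 := fun h => by
    rw [cj_eq_self.2 h, mul_inv_cancel]
  intro w hw
  simp only [qShapes, List.mem_cons, List.not_mem_nil, or_false] at hw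
  rcases hw with rfl|rfl|rfl|rfl|rfl|rfl|rfl|rfl|rfl|rfl|rfl|rfl|rfl|rfl|rfl|rfl|rfl|rfl|rfl|rfl|rfl|rfl
  · rw [show ([6, 6, 6] : List (Fin 14)) = [6] ++ [6] ++ [6] from rfl, val_append, val_append,
      ← pow_two, ← pow_succ, v6]
    exact B.cube1
  · rw [val_wcomm, vz, v6]; exact sq (z_comm D B.qQ)
  · rw [val_wcomm, letters_A, v6]; exact sq B.wm.2
  · rw [val_append, val_wconj, letters_T, v6, B.t_q, inv_mul_cancel]
  · rw [val_append, val_wconj, vG, v6, Z.R_q, inv_mul_cancel]
  · rw [val_wcomm, v6, v2]; exact sq B.comm12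
  · rw [val_append, val_wcomm, val_wpw _ _ _ z3', vz, v6, v3]; exact cm B.c13
  · rw [val_append, val_wcomm, val_wpw _ _ _ z3', vz, v6, v4]; exact cm B.c14
  · rw [val_append, val_wcomm, val_wpw _ _ _ z3', vz, v2, v3]; exact cm B.c23
  · rw [val_append, val_wcomm, val_wpw _ _ _ z3', vz, v2, v4]
    simpa using cm B.c24
  · rw [val_wcomm, letters_A, v2]; exact sq B.wm2.2
  · simp only [val_append, val_wconj, val_winv, val_wpw _ _ _ z3', letters_A, vz, v2, v3, v13,
      Z.a_q3, Base.lo, pw_one, pw_neg_one B.cube2]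
    rw [show B.β - B.α = -(B.α - B.β) by ring, pw_neg (z3 D),
      ← (zp_comm D (mul_mem (mul_mem B.qQ (inv_mem B.q2Q)) B.q3Q) (B.α - B.β)).eq]
    group
  · simp only [val_append, val_wconj, val_winv, val_wpw _ _ _ z3', letters_A, vz, v2, v4, v13,
      Z.a_q4, Base.lo, pw_one]
    rw [show B.α - B.β = -(B.β - B.α) by ring, pw_neg (z3 D),
      ← (zp_comm D (mul_mem (mul_mem B.qQ B.q2Q) B.q4Q) (B.β - B.α)).eq]
    group
  · rw [val_append, val_wconj, vS, v2, v6, B.S_q2, inv_mul_cancel]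
  · rw [val_append, val_wconj, vS, v3, v4, B.S_q3, inv_mul_cancel]
  · rw [val_append, val_wconj, val_winv, vS, v4, v3, B.S_q4, mul_inv_cancel]
  · rw [val_append, val_wconj, vW, v3, v6, B.W_q3, inv_mul_cancel]
  · rw [val_append, val_wconj, vW, v4, v2, B.W_q4, inv_mul_cancel]
  · rw [val_append, val_append, val_wconj, val_wpw _ _ _ q3', vE, v6, v2, Z.E_q, Base.lo,
      pw_neg_one B.cube2, pw_neg B.cube1, inv_mul_cancel_right, mul_inv_cancel]
  · rw [val_append, val_append, val_wconj, val_wpw _ _ _ q23, vE, v6, v2, Z.E_q2, Base.lo,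
      pw_neg B.cube2, pw_neg_one B.cube1, inv_mul_cancel_right, inv_mul_cancel]
  · rw [val_append, val_append, val_wconj, val_winv, val_wpw _ _ _ q43, vE, v4, v3, Z.E_q3,
      Base.hi, pw_one, pw_neg B.cube4, mul_inv_cancel_right, mul_inv_cancel]
  · rw [val_append, val_append, val_wconj, val_wpw _ _ _ q33, vE, v4, v3, Z.E_q4, Base.hi,
      pw_neg_one B.cube4, pw_neg B.cube3, inv_mul_cancel_right, mul_inv_cancel]

end Glue

/-- Piece P4: some candidate holds. -/
theorem glue : StmtGlue.{u} := by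
  intro G _ _ D C
  obtain ⟨F, hS, hW, hE, hR⟩ := exists_frame C
  obtain ⟨B, ⟨Z⟩⟩ := exists_sol F
  have hk : ∃ k : Fin 4, params k = (Z.x, B.α, B.β) := by
    rcases Z.sign with ⟨hx, hb, ha⟩ | ⟨hx, ha, hb⟩
    · rcases (by decide : ∀ i : ZMod 3, ¬ i = 0 → i = 1 ∨ i = -1) _ ha with h | h
      · exact ⟨0, by rw [hx, hb, h]; rfl⟩
      · exact ⟨1, by rw [hx, hb, h]; rfl⟩
    · rcases (by decide : ∀ i : ZMod 3, ¬ i = 0 → i = 1 ∨ i = -1) _ hb with h | h
      · exact ⟨2, by rw [hx, ha, h]; rfl⟩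
      · exact ⟨3, by rw [hx, ha, h]; rfl⟩
  obtain ⟨k, hk⟩ := hk
  refine ⟨k, B.q, B.qQ, fun hz => B.ne ?_, fun w hw => ?_⟩
  · obtain ⟨i, hi⟩ := mem_zpowers_pw D.ord_z hz
    exact (Inv.unique B.wm.1 Inv.one (by rw [one_mul]; exact hi)).2
  · have hsplit : rels k = coverRels ++ qRelsOf k := by fin_cases k <;> rfl
    rw [hsplit, List.mem_append] at hw
    rcases hw with hw | hw
    · exact letters_coverRels C B.q w hw
    · obtain ⟨w', hw', c, -, e⟩ := qRels_shapes k w hw
      rw [hk] at hw'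
      exact val_eq_one_of_fred _ e (shapes_vanish C Z hS hW hE hR w' hw')

end CfsgLib.McLThree
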