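import Cfsg.Agent.Lib.McLThree.Defs
import Cfsg.Agent.Lib.Spor.McLRank3.Deg275

/-!
# The model of the McLaughlin group on 275 points as a target of seven letters
-/

set_option autoImplicit false
set_option maxRecDepth 100000

namespace CfsgLib.McLThree.Model

open CfsgLib.Spor.PermOut CfsgLib.Spor.McLRank3 Equiv

/-- the code of a letter or of an inverse letter -/
def code14 (cs ci : List ℕ) (k : Fin 14) : ℕ :=
  if k.1 < 7 then cs.getD k.1 0 else ci.getD (k.1 - 7) 0

/-- a word is trivial on the points -/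
def wordOK (cs ci : List ℕ) (w : List (Fin 14)) : Bool :=
  allN 275 fun x => Nat.beq (app (w.map (code14 cs ci)) x) x

theorem val_map {G H : Type*} [Group G] [Group H] (f : G →* H) (L : Fin 7 → G) (w : List (Fin 14)) :
    val (fun i => f (L i)) w = f (val L w) := by
  rw [val, val, map_list_prod, List.map_map]
  refine congrArg List.prod (List.map_congr_left fun k _ => ?_)
  by_cases h : k.1 < 7 <;> simp [h]

/-- Seven permutations that reach the generators and the point stabiliser of the model. -/
theorem exists_letters {d : ℕ} (cs ci : List ℕ)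
    (hmem : ∀ M : Subgroup (Perm (Fin 275)), IsModel M → ∀ k : Fin 7, InM M (cs.getD k 0))
    (hinv : ∀ k : Fin 7, invOK 275 (cs.getD k 0) (ci.getD k 0) = true)
    (rows : List (ℕ × ℕ × ℕ)) (base : List ℕ)
    (hd : allN 275 (fun i => Nat.beq (getQ d i) i) = true)
    (hbase : base = d :: (List.ofFn fun k : Fin 7 => cs.getD k 0) ++
      List.ofFn fun k : Fin 7 => ci.getD k 0)
    (hrows : slp 275 d rows base.length (fill base 0 .nil) = true)
    (hreach : ((McLData.gens ++ [kA, kB]).all fun a =>
      (base ++ rows.map Prod.fst).contains a) = true) :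
    ∃ L : Fin 7 → Cfsg.Spor.McL, Subgroup.closure (Set.range L) = ⊤ ∧
      ∀ w, wordOK cs ci w = true → val L w = 1 := by
  obtain ⟨M, hM⟩ := exists_isModel
  obtain ⟨e⟩ := hM.1
  let σ : Fin 7 → Perm (Fin 275) := fun k => permOf 275 (cs.getD k 0)
  have hrep : ∀ k, Rep (σ k) (cs.getD k 0) := fun k => (hmem M hM k).rep
  have hσM : ∀ k, σ k ∈ M := fun k => (hmem M hM k).mem
  have hrep' : ∀ k, Rep (σ k)⁻¹ (ci.getD k 0) := fun k => by
    obtain ⟨τ, hτ, hτi⟩ := exists_rep (hinv k)
    rwa [show σ k = τ from hτ.permOf_eq]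
  set H : Subgroup (Perm (Fin 275)) := Subgroup.closure (Set.range σ) with hH
  have hL : ∀ k, σ k ∈ H := fun k => Subgroup.subset_closure ⟨k, rfl⟩
  have hb : ∀ a ∈ base, InM H a := by
    intro a ha
    rw [hbase, List.cons_append, List.mem_cons, List.mem_append, List.mem_ofFn, List.mem_ofFn] at ha
    rcases ha with rfl | ⟨k, rfl⟩ | ⟨k, rfl⟩
    · exact inM_one hd
    · exact ⟨σ k, hL k, hrep k⟩
    · exact ⟨_, H.inv_mem (hL k), hrep' k⟩
  have hone : InM H d := inM_one hd
  have hall : ∀ a ∈ McLData.gens ++ [kA, kB], InM H a := by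
    intro a ha
    have h := List.contains_iff_mem.1 (List.all_eq_true.1 hreach a ha)
    rcases List.mem_append.1 h with h | h
    · exact hb a h
    · exact (inM_slp hone rows _ _ hrows (all_fill base 0 hb trivial)).1 a h
  have hHM : H ≤ M := (Subgroup.closure_le _).2 (Set.range_subset_iff.2 hσM)
  have hK : K ≤ H := by
    rw [Subgroup.closure_le]
    rintro x (rfl | rfl)
    exacts [(hall kA (by simp)).mem, (hall kB (by simp)).mem]
  have htop : H = M := by
    refine le_antisymm hHM fun g hg => ?_
    have h := reachM_ok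
    simp only [Bool.and_eq_true, allN_iff, List.contains_iff_mem] at h
    obtain ⟨τ, hτ, he⟩ := reach_spec (fun a ha => hall a (List.mem_append_left _ ha)) h.1
      (0 : Fin 275) (g 0) (h.2 _ (0 : Fin 275).2) (h.2 _ (g 0).2)
    have hk : τ⁻¹ * g ∈ K := by
      rw [← model_stab hM]
      refine ⟨M.mul_mem (M.inv_mem (hHM hτ)) hg, ?_⟩
      show (τ⁻¹ * g) 0 = 0
      rw [Perm.mul_apply, Perm.inv_eq_iff_eq, he]
    simpa using H.mul_mem hτ (hK hk)
  refine ⟨fun k => e.symm ⟨σ k, hσM k⟩, ?_, fun w hw => ?_⟩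
  · have hc : Subgroup.closure (Set.range fun k => (⟨σ k, hσM k⟩ : M)) = ⊤ := by
      refine Subgroup.map_injective (f := M.subtype) Subtype.val_injective ?_
      rw [MonoidHom.map_closure, ← MonoidHom.range_eq_map, Subgroup.range_subtype,
        ← Set.range_comp]
      exact htop
    rw [show (fun k => e.symm ⟨σ k, hσM k⟩) = e.symm.toMonoidHom ∘ fun k => (⟨σ k, hσM k⟩ : M)
      from rfl, Set.range_comp, ← MonoidHom.map_closure, hc,
      Subgroup.map_top_of_surjective _ e.symm.surjective]
  · have hv : val σ w = 1 := by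
      have hr : ∀ k : Fin 14, Rep (if h : k.1 < 7 then σ ⟨k.1, h⟩ else (σ ⟨k.1 - 7, by omega⟩)⁻¹)
          (code14 cs ci k) := fun k => by
        by_cases h : k.1 < 7
        · rw [dif_pos h, code14, if_pos h]
          exact hrep ⟨k.1, h⟩
        · rw [dif_neg h, code14, if_neg h]
          exact hrep' ⟨k.1 - 7, by omega⟩
      have hmap : (w.map fun k : Fin 14 => if h : k.1 < 7 then σ ⟨k.1, h⟩
          else (σ ⟨k.1 - 7, by omega⟩)⁻¹) = (w.map (code14 cs ci)).map (permOf 275) := by
        rw [List.map_map]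
        exact List.map_congr_left fun k _ => ((hr k).permOf_eq).symm
      refine Equiv.ext fun i => Fin.ext ?_
      rw [val, hmap, app_prod _ (fun a ha => by
        obtain ⟨k, -, rfl⟩ := List.mem_map.1 ha
        rw [(hr k).permOf_eq]; exact hr k) i]
      rw [wordOK, allN_iff] at hw
      exact Nat.eq_of_beq_eq_true (hw i i.2)
    have h1 := val_map M.subtype (fun k => (⟨σ k, hσM k⟩ : M)) w
    have h2 : val (fun k => (⟨σ k, hσM k⟩ : M)) w = 1 :=
      Subtype.val_injective (h1.symm.trans hv)
    exact (val_map e.symm.toMonoidHom _ w).trans (by rw [h2, map_one])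

end CfsgLib.McLThree.Model
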