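import Cfsg.Agent.Lib.McLThree.Basic
import Cfsg.Agent.Lib.McLThree.ModelBase
import Cfsg.Agent.Lib.McLThree.ModelData

/-!
# The letters in the McLaughlin group
-/

set_option autoImplicit false
set_option linter.style.haveILetI false
set_option maxRecDepth 100000

namespace CfsgLib.McLThree.Model

open CfsgLib.Spor CfsgLib.Spor.PermOut CfsgLib.Spor.McLRank3 Equiv

/-- the start of the program from the generators -/
def baseDown : List ℕ :=
  dOne :: (McLData.gens ++ [McLData.gens.getD 0 0]) ++ (genInv ++ [genInv.getD 0 0])

/-- the start of the program from the letters -/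
def baseUp : List ℕ :=
  dOne :: (List.ofFn fun k : Fin 7 => letCodes.getD k 0) ++
    List.ofFn fun k : Fin 7 => letInv.getD k 0

theorem one_ok : allN 275 (fun i => Nat.beq (getQ dOne i) i) = true := by decide +kernel

theorem genInv_ok : ((List.range 6).all fun i =>
    invOK 275 (McLData.gens.getD i 0) (genInv.getD i 0)) = true ∧ McLData.gens.length = 6 ∧
    genInv.length = 6 := by decide +kernel

theorem down_ok : slp 275 dOne rowsDown baseDown.length (fill baseDown 0 .nil) = true := by
  decide +kernel

theorem letters_down : ((List.range 7).all fun k =>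
    (baseDown ++ rowsDown.map Prod.fst).contains (letCodes.getD k 0)) = true := by decide +kernel

theorem letInv_ok : ∀ k : Fin 7, invOK 275 (letCodes.getD k 0) (letInv.getD k 0) = true := by
  decide +kernel

theorem up_ok : slp 275 dOne rowsUp baseUp.length (fill baseUp 0 .nil) = true := by decide +kernel

theorem reach_ok : ((McLData.gens ++ [kA, kB]).all fun a =>
    (baseUp ++ rowsUp.map Prod.fst).contains a) = true := by decide +kernel

theorem rels_ok : ((rels 0).all (wordOK letCodes letInv)) = true := by decide +kernel

theorem inM_letters (M : Subgroup (Perm (Fin 275))) (hM : IsModel M) (k : Fin 7) :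
    InM M (letCodes.getD k 0) := by
  obtain ⟨hinv, hlen, hlen'⟩ := genInv_ok
  have hone : InM M dOne := inM_one one_ok
  have hg : ∀ i < 6, InM M (McLData.gens.getD i 0) := fun i hi => hM.2.2 _ (by
    rw [List.getD_eq_getElem _ _ (by omega)]
    exact List.getElem_mem _)
  have hgi : ∀ i < 6, InM M (genInv.getD i 0) := fun i hi =>
    inM_inv (hg i hi) (List.all_eq_true.1 hinv i (List.mem_range.2 hi))
  have hb : ∀ a ∈ baseDown, InM M a := by
    intro a ha
    simp only [baseDown, List.cons_append, List.mem_cons, List.mem_append, List.not_mem_nil,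
      or_false] at ha
    rcases ha with rfl | (ha | rfl) | ha | rfl
    · exact hone
    · exact hM.2.2 a ha
    · exact hg 0 (by omega)
    · obtain ⟨i, hi, rfl⟩ := List.mem_iff_getElem.1 ha
      rw [← List.getD_eq_getElem _ 0 hi]
      exact hgi i (by omega)
    · exact hgi 0 (by omega)
  have h := List.contains_iff_mem.1 (List.all_eq_true.1 letters_down k (List.mem_range.2 k.2))
  rcases List.mem_append.1 h with h | h
  · exact hb _ h
  · exact (inM_slp hone rowsDown _ _ down_ok (all_fill baseDown 0 hb trivial)).1 _ h

end Model

open CfsgLib.Spor CfsgLib.Spor.PermOut CfsgLib.Spor.McLRank3 in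
/-- Piece P7: the letters in the McLaughlin group. -/
theorem model : StmtModel := by
  obtain ⟨L, hgen, hrel⟩ := Model.exists_letters Model.letCodes Model.letInv Model.inM_letters
    Model.letInv_ok Model.rowsUp Model.baseUp Model.one_ok rfl Model.up_ok Model.reach_ok
  obtain ⟨M, hM⟩ := exists_isModel
  obtain ⟨e⟩ := hM.1
  refine ⟨L, fun w hw => hrel w (List.all_eq_true.1 Model.rels_ok w hw), hgen,
    (Nat.card_congr e.toEquiv).trans hM.2.1, ?_⟩
  obtain ⟨e'⟩ := McLData.pairStab_equiv_mcl
  haveI : IsSimpleGroup McLConfig.pairStab := ConwaySimple.isSimple_mcl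
  exact e'.symm.isSimpleGroup

end CfsgLib.McLThree
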