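import Cfsg.Agent.Lib.McLThree.Main
import Cfsg.Agent.Lib.McLThree.CoverWords
import Cfsg.Agent.Lib.McLThree.Glue
import Cfsg.Agent.Lib.McLThree.Bound
import Cfsg.Agent.Lib.McLThree.Model
import Cfsg.Agent.Lib.McLThree.Census

/-!
# The pieces that do not depend on the source of the data
-/

set_option autoImplicit false

namespace CfsgLib.McLThree

universe u

/-- All the pieces that do not depend on the source of the data. -/
theorem pieces : Pieces.{u} :=
  ⟨coverWords, glue, bound, bound, model, census⟩

end CfsgLib.McLThree
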