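import Cfsg.Agent.Lib.McLThree.Six.Select

/-!
The normalizer of `J`.
-/

set_option autoImplicit false
set_option linter.unusedSectionVars false

namespace CfsgLib.McLThree

open Subgroup Equiv
open scoped Pointwise

universe u

namespace Six

variable {G : Type u} [Group G] [Finite G] (D : Top G)

/-- Congruence modulo the fixed points of `a` in `Q`. -/
def CF (p q : G) : Prop := p ∈ D.Q ∧ q ∈ D.Q ∧ q * p⁻¹ ∈ FF D

variable {D}

theorem FF_normal {x f : G} (hx : x ∈ D.Q) (hf : f ∈ FF D) : x * f * x⁻¹ ∈ FF D := by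
  rw [conjQ_eq D hx (FF_le D hf)]
  exact mul_mem (zp_FF D (com_mem D hx (FF_le D hf))) hf

theorem CF.refl {p : G} (h : p ∈ D.Q) : CF D p p := ⟨h, h, by simp⟩

theorem CF.symm {p q : G} (h : CF D p q) : CF D q p :=
  ⟨h.2.1, h.1, by simpa using inv_mem h.2.2⟩

theorem CF.trans {p q r : G} (h : CF D p q) (h' : CF D q r) : CF D p r :=
  ⟨h.1, h'.2.1, by
    rw [show r * p⁻¹ = (r * q⁻¹) * (q * p⁻¹) by group]
    exact mul_mem h'.2.2 h.2.2⟩

theorem CF.mul {p q p' q' : G} (h : CF D p q) (h' : CF D p' q') : CF D (p * p') (q * q') :=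
  ⟨mul_mem h.1 h'.1, mul_mem h.2.1 h'.2.1, by
    rw [show q * q' * (p * p')⁻¹ = q * (q' * p'⁻¹) * q⁻¹ * (q * p⁻¹) by group]
    exact mul_mem (FF_normal h.2.1 h'.2.2) h.2.2⟩

theorem CF.inv {p q : G} (h : CF D p q) : CF D p⁻¹ q⁻¹ :=
  ⟨inv_mem h.1, inv_mem h.2.1, by
    rw [show q⁻¹ * p⁻¹⁻¹ = q⁻¹ * (p * q⁻¹) * q⁻¹⁻¹ by group]
    exact FF_normal (inv_mem h.2.1) (by simpa using inv_mem h.2.2)⟩

theorem CF.comm {p q : G} (hp : p ∈ D.Q) (hq : q ∈ D.Q) : CF D (p * q) (q * p) :=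
  ⟨mul_mem hp hq, mul_mem hq hp, by
    rw [show q * p * (p * q)⁻¹ = com q p by simp [com, mul_assoc]]
    exact zp_FF D (com_mem D hq hp)⟩

theorem CF.conj {h p q : G} (hJ : h ∈ normalizer (D.J : Set G))
    (hQ : h ∈ normalizer (D.Q : Set G)) (hpq : CF D p q) :
    CF D (h * p * h⁻¹) (h * q * h⁻¹) :=
  ⟨conj_memQ D hQ hpq.1, conj_memQ D hQ hpq.2.1, by
    rw [show h * q * h⁻¹ * (h * p * h⁻¹)⁻¹ = h * (q * p⁻¹) * h⁻¹ by group]
    exact conj_FF hJ hQ hpq.2.2⟩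

theorem CF.conjJ {j q : G} (hj : j ∈ D.J) (hq : q ∈ D.Q) : CF D q (j * q * j⁻¹) := by
  obtain ⟨f, hf, b, hb, rfl⟩ := mem_J D hj
  have ha : CF D q (D.a * q * D.a⁻¹) := ⟨hq, conj_memQ D (a_normQ D) hq, fa_memFF D hq⟩
  have hb' : CF D q (b * q * b⁻¹) := by
    rcases a_pow_cases D hb with rfl | rfl | rfl
    · simpa using CF.refl hq
    · exact ha
    · have h := CF.conj (h := D.a⁻¹) (inv_mem (le_normalizer (a_mem_J D)))
        (inv_mem (a_normQ D)) ha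
      rw [show D.a⁻¹ * (D.a * q * D.a⁻¹) * D.a⁻¹⁻¹ = q by group] at h
      exact h.symm
  refine hb'.trans ?_
  have h1 : CF D (b * q * b⁻¹) (f * (b * q * b⁻¹) * f⁻¹) :=
    ⟨hb'.2.1, mul_mem (mul_mem (FF_le D hf) hb'.2.1) (inv_mem (FF_le D hf)),
      zp_FF D (com_mem D (FF_le D hf) hb'.2.1)⟩
  rwa [show f * b * q * (f * b)⁻¹ = f * (b * q * b⁻¹) * f⁻¹ by group]

theorem CF.conjt {q : G} (hq : q ∈ D.Q) : CF D q⁻¹ (D.t * q * D.t⁻¹) := by
  refine ⟨inv_mem hq, conj_memQ D (normQ D (Or.inl (mul_inv_eq_iff_eq_mul.2 D.tz.eq))) hq, ?_⟩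
  rw [inv_inv]
  exact zp_FF D (D.tQ q hq)

theorem CF.mem {p q : G} (h : CF D p q) (hp : p ∈ FF D) : q ∈ FF D := by
  have := mul_mem h.2.2 hp
  rwa [inv_mul_cancel_right] at this

/-- Two commuting maps with square inversion and identity. -/
theorem no_even (S : Sel D) {e : G} (heJ : e ∈ normalizer (D.J : Set G))
    (heQ : e ∈ normalizer (D.Q : Set G)) (hea : e * D.a * e⁻¹ = D.a)
    (hez : e * D.z * e⁻¹ = D.z⁻¹) (hek : e * S.k * e⁻¹ * S.k⁻¹ ∈ zpowers D.z)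
    (hec : ∃ j ∈ D.J, e = j * (S.k * S.c)) : False := by
  have hkQ : S.k ∈ normalizer (D.Q : Set G) :=
    normQ D (Or.inl (mul_inv_eq_iff_eq_mul.2 S.kz.eq))
  have hkJ : S.k ∈ normalizer (D.J : Set G) := normJ_of hkQ (Or.inr S.ka)
  have hkk : S.k * S.k * D.t ∈ zpowers D.z := by
    obtain ⟨hk, h1, h2, x, y, hx, hy, hxy⟩ := S.k_even
    exact D.φ_quat ⟨S.k, hk⟩ (Perm.mem_alternatingGroup.2 (by rw [← hxy]; simp [hx, hy])) h1 h2
  -- the squares
  have sqt : ∀ {x : G}, x * x * D.t ∈ D.J → ∀ q ∈ D.Q, CF D q⁻¹ (x * (x * q * x⁻¹) * x⁻¹) := by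
    intro x hx q hq
    have h := CF.conjJ hx (CF.conjt hq).2.1
    rw [show x * x * D.t * (D.t * q * D.t⁻¹) * (x * x * D.t)⁻¹ =
      x * x * (D.t * D.t) * q * (D.t * D.t)⁻¹ * (x * x)⁻¹ by group, tt] at h
    simp only [mul_one, inv_one] at h
    have h' := (CF.conjt hq).trans h
    rwa [show x * (x * q * x⁻¹) * x⁻¹ = x * x * q * (x * x)⁻¹ by group]
  have hk2 := sqt (FF_le_J D (zp_FF D hkk))
  have hc2 := sqt S.cc
  have hcQ := S.cQ
  have hcJ := S.cJ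
  -- `e` commutes with `k`
  have hcomm : ∀ q ∈ D.Q, CF D (S.k * (e * q * e⁻¹) * S.k⁻¹) (e * (S.k * q * S.k⁻¹) * e⁻¹) := by
    intro q hq
    have h1 := CF.conjJ (FF_le_J D (zp_FF D hek)) (conj_memQ D hkQ (conj_memQ D heQ hq))
    rwa [show e * S.k * e⁻¹ * S.k⁻¹ * (S.k * (e * q * e⁻¹) * S.k⁻¹) *
      (e * S.k * e⁻¹ * S.k⁻¹)⁻¹ = e * (S.k * q * S.k⁻¹) * e⁻¹ by group] at h1
  have hek' : ∀ q ∈ D.Q, CF D (S.k * (S.c * q * S.c⁻¹) * S.k⁻¹) (e * q * e⁻¹) := by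
    intro q hq
    obtain ⟨j, hj, he⟩ := hec
    have h1 := CF.conjJ hj (conj_memQ D hkQ (conj_memQ D hcQ hq))
    rwa [show j * (S.k * (S.c * q * S.c⁻¹) * S.k⁻¹) * j⁻¹ = e * q * e⁻¹ by rw [he]; group] at h1
  -- the square of `e` is the identity
  have hee : ∀ q ∈ D.Q, CF D q (e * (e * q * e⁻¹) * e⁻¹) := by
    intro q hq
    have hq1 := conj_memQ D heQ hq
    -- `c = k⁻¹ e`
    have hc : ∀ p ∈ D.Q, CF D (S.c * p * S.c⁻¹) (S.k⁻¹ * (e * p * e⁻¹) * S.k⁻¹⁻¹) := by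
      intro p hp
      have h := (hek' p hp).conj (inv_mem hkJ) (inv_mem hkQ)
      rwa [show S.k⁻¹ * (S.k * (S.c * p * S.c⁻¹) * S.k⁻¹) * S.k⁻¹⁻¹ = S.c * p * S.c⁻¹ by group]
        at h
    have h1 := ((hc2 q hq).trans ((hc q hq).conj hcJ hcQ)).trans
      (hc _ (conj_memQ D (inv_mem hkQ) hq1))
    set r := e * (S.k⁻¹ * (e * q * e⁻¹) * S.k⁻¹⁻¹) * e⁻¹ with hr
    have h2 : CF D (S.k * q⁻¹ * S.k⁻¹) r := by
      have h := h1.conj hkJ hkQ
      rwa [show S.k * (S.k⁻¹ * r * S.k⁻¹⁻¹) * S.k⁻¹ = r by group] at h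
    have h3 := (h2.conj hkJ hkQ).trans (hcomm _ (conj_memQ D (inv_mem hkQ) hq1))
    rw [show e * (S.k * (S.k⁻¹ * (e * q * e⁻¹) * S.k⁻¹⁻¹) * S.k⁻¹) * e⁻¹ =
      e * (e * q * e⁻¹) * e⁻¹ by group] at h3
    have h4 := hk2 q⁻¹ (inv_mem hq)
    rw [inv_inv] at h4
    exact h4.trans h3
  have hz2 : D.z⁻¹ ≠ D.z := z_inv_ne D
  -- some element outside is fixed
  obtain ⟨p, hp, hpne⟩ : ∃ p ∈ D.Q, ¬ CF D p⁻¹ (e * p * e⁻¹) := by
    by_contra hcon
    push_neg at hcon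
    refine hz2 (hez.symm.trans ((grade D heQ (one_mem _)).1 (by rw [hea, mul_one])
      (Or.inr fun q hq => ?_)))
    have := (hcon q hq).2.2
    rwa [inv_inv] at this
  set v := p * (e * p * e⁻¹) with hv
  have hvQ : v ∈ D.Q := mul_mem hp (conj_memQ D heQ hp)
  have hvfix : CF D v (e * v * e⁻¹) := by
    rw [hv, cmul]
    exact (CF.comm hp (conj_memQ D heQ hp)).trans
      ((CF.refl (conj_memQ D heQ hp)).mul (hee p hp))
  have hvF : v ∉ FF D := fun h => hpne ⟨inv_mem hp, conj_memQ D heQ hp, by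
    rw [inv_inv, show e * p * e⁻¹ * p = p⁻¹ * v * p⁻¹⁻¹ by rw [hv]; group]
    exact FF_normal (inv_mem hp) h⟩
  let E : Subgroup G :=
    { carrier := {q | CF D q (e * q * e⁻¹)}
      one_mem' := by simpa using CF.refl (D := D) (one_mem D.Q)
      mul_mem' := fun {x y} hx hy => by
        show CF D (x * y) (e * (x * y) * e⁻¹)
        rw [cmul]; exact CF.mul hx hy
      inv_mem' := fun {x} hx => by
        show CF D x⁻¹ (e * x⁻¹ * e⁻¹)
        rw [← conj_inv]; exact CF.inv hx }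
  have hFE : FF D ≤ E := fun f hf => ⟨FF_le D hf, conj_memQ D heQ (FF_le D hf),
    mul_mem (conj_FF heJ heQ hf) (inv_mem hf)⟩
  have hEQ : E ≤ D.Q := fun q hq => hq.1
  have hall : E = D.Q := by
    by_contra hne
    set V : Subgroup G := FF D ⊔ zpowers v with hV
    have hVE : V ≤ E := sup_le hFE (zpowers_le.2 hvfix)
    have hn : zpowers v ≤ normalizer (FF D : Set G) :=
      zpowers_le.2 (mem_normalizer_fintype fun f hf => FF_normal hvQ hf)
    have hpow : ∀ i : ℕ, Nat.card ↥(FF D) = 3 ^ 3 ∧ i = i := fun i => ⟨D.fix_a.1, rfl⟩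
    have hpk : ∀ H : Subgroup G, H ≤ D.Q → ∃ i ≤ 5, Nat.card H = 3 ^ i := fun H hH =>
      (Nat.dvd_prime_pow Nat.prime_three).1 (by
        have := card_dvd_of_le hH
        rwa [D.cardQ] at this)
    have hEV : E = V := by
      obtain ⟨i, hi, hie⟩ := hpk E hEQ
      obtain ⟨l, hl, hle⟩ := hpk V (hVE.trans hEQ)
      have hFV : Nat.card ↥(FF D) < Nat.card ↥V := lt_of_le_of_ne
        (Nat.le_of_dvd Nat.card_pos (card_dvd_of_le le_sup_left)) fun h => hvF (by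
          rw [eq_of_le_of_card_ge (le_sup_left (b := zpowers v)) h.ge]
          exact le_sup_right (a := FF D) (mem_zpowers v))
      have hEQ' : Nat.card ↥E < Nat.card ↥D.Q := lt_of_le_of_ne
        (Nat.le_of_dvd Nat.card_pos (card_dvd_of_le hEQ)) fun h =>
          hne (eq_of_le_of_card_ge hEQ h.ge)
      rw [(hpow 0).1, hle] at hFV
      rw [hie, D.cardQ] at hEQ'
      have l4 : 3 < l := (Nat.pow_lt_pow_iff_right (show 1 < 3 by norm_num)).1 hFV
      have i4 : i < 5 := (Nat.pow_lt_pow_iff_right (show 1 < 3 by norm_num)).1 hEQ'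
      refine (eq_of_le_of_card_ge hVE ?_).symm
      rw [hie, hle]
      exact Nat.pow_le_pow_right (by norm_num) (by omega)
    have hu : S.k * v * S.k⁻¹ ∈ E :=
      (hvfix.conj hkJ hkQ).trans (hcomm v hvQ)
    rw [hEV] at hu
    have hu' : S.k * v * S.k⁻¹ ∈ ((FF D : Set G) * (zpowers v : Set G)) := by
      rw [← coe_mul_of_right_le_normalizer_left _ _ hn]; exact hu
    obtain ⟨f, hf, w, hw, hfw⟩ := Set.mem_mul.1 hu'
    obtain ⟨n, hn'⟩ := mem_powers_iff_mem_zpowers.2 hw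
    replace hn' : v ^ n = w := hn'
    have hv3 : v ^ 3 = 1 := cubeQ D hvQ
    have h1 : CF D (v ^ n) (S.k * v * S.k⁻¹) := by
      refine ⟨pow_mem hvQ n, conj_memQ D hkQ hvQ, ?_⟩
      rw [← hfw, hn', mul_inv_cancel_right]; exact hf
    have hpowCF : ∀ {x y : G}, CF D x y → ∀ m : ℕ, CF D (x ^ m) (y ^ m) := by
      intro x y hxy m
      induction m with
      | zero => simpa using CF.refl (D := D) (one_mem D.Q)
      | succ m ih => rw [pow_succ, pow_succ]; exact ih.mul hxy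
    have h2 : CF D (v ^ (n * n)) (S.k * (S.k * v * S.k⁻¹) * S.k⁻¹) := by
      refine CF.trans ?_ (h1.conj hkJ hkQ)
      rw [pow_mul, ← conj_pow]
      exact hpowCF h1 n
    have h3 : CF D (v ^ (n * n)) v⁻¹ := h2.trans (hk2 v hvQ).symm
    have h4 : v ^ (n * n + 1) ∈ FF D := by
      have h5 := inv_mem h3.2.2
      rwa [mul_inv_rev, inv_inv, inv_inv, ← pow_succ] at h5
    refine hvF ?_
    rw [pow_eq_pow_mod _ hv3] at h4
    have hnn : (n * n + 1) % 3 = 1 ∨ (n * n + 1) % 3 = 2 := by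
      rw [Nat.add_mod, Nat.mul_mod]
      rcases (show n % 3 = 0 ∨ n % 3 = 1 ∨ n % 3 = 2 by omega) with h | h | h <;> rw [h] <;>
        norm_num
    rcases hnn with h | h <;> rw [h] at h4
    · simpa using h4
    · have := mul_mem h4 h4
      rwa [← pow_add, pow_eq_pow_mod _ hv3, show (2 + 2) % 3 = 1 from rfl, pow_one] at this
  refine hz2 (hez.symm.trans ((grade D heQ (one_mem _)).1 (by rw [hea, mul_one])
    (Or.inl fun q hq => ?_)))
  exact ((hall ▸ hq : q ∈ E) : CF D q (e * q * e⁻¹)).2.2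

/-- The element inducing an odd permutation. -/
theorem odd_part (S : Sel D) : ∃ π : Perm (Fin 5), Perm.sign π = -1 ∧
    ∀ x y : ↥(centralizer ({D.z} : Set G) ⊓ centralizer ({D.t} : Set G)),
      (y : G) = (S.k * S.c) * (x : G) * (S.k * S.c)⁻¹ → D.φ y = π * D.φ x * π⁻¹ := by
  set K := centralizer ({D.z} : Set G) ⊓ centralizer ({D.t} : Set G) with hK
  set e := S.k * S.c with he
  have hkc : ∀ c ∈ zpowers D.z, S.k * c * S.k⁻¹ = c := fun c hc => by
    obtain ⟨n, rfl⟩ := mem_zpowers_iff.1 hc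
    exact mul_inv_eq_iff_eq_mul.2 (S.kz.zpow_right n).eq
  have hez : e * D.z * e⁻¹ = D.z⁻¹ := by
    calc e * D.z * e⁻¹ = S.k * (S.c * D.z * S.c⁻¹) * S.k⁻¹ := by rw [he]; group
      _ = D.z⁻¹ := by rw [S.cz]; exact hkc _ (inv_mem (mem_zpowers _))
  have hea : e * D.a * e⁻¹ = D.a := by
    calc e * D.a * e⁻¹ = S.k * (S.c * D.a * S.c⁻¹) * S.k⁻¹ := by rw [he]; group
      _ = D.a := by rw [S.ca, ← conj_inv, S.ka, inv_inv]
  have het : Commute e D.t := S.kt.mul_left S.ct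
  have hKz : ∀ x ∈ K, Commute x D.z := fun x hx => mem_centralizer_singleton_iff.1 hx.1
  have hKt : ∀ x ∈ K, Commute x D.t := fun x hx => mem_centralizer_singleton_iff.1 hx.2
  have hmem : ∀ x ∈ K, e * x * e⁻¹ ∈ K := fun x hx => by
    refine mem_KT ?_ ((het.mul_left (hKt x hx)).mul_left het.inv_left)
    have h := ((hKz x hx).inv_right).map (MulAut.conj e)
    have e1 : (MulAut.conj e) D.z⁻¹ = D.z := by
      rw [MulAut.conj_apply, ← conj_inv, hez, inv_inv]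
    rw [e1] at h
    exact h
  let cE : ↥K →* ↥K :=
    { toFun := fun x => ⟨e * x * e⁻¹, hmem x x.2⟩
      map_one' := Subtype.ext (by simp)
      map_mul' := fun x y => Subtype.ext (cmul e x y) }
  obtain ⟨ha, h3, hne⟩ := phi_a (D := D)
  obtain ⟨σ, hσ⟩ := five_conj _ h3 hne
  let φ' : ↥K →* Perm (Fin 5) := (MulAut.conj σ).toMonoidHom.comp D.φ
  let α : ↥K →* Perm (Fin 5) := φ'.comp cE
  have hφ'1 : ∀ x, φ' x = 1 ↔ D.φ x = 1 := fun x => conj_eq_one_iff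
  have hker : ∀ x : ↥K, φ' x = 1 → α x = 1 := by
    intro x hx
    refine (hφ'1 _).2 ((D.φ_ker _).2 ?_)
    show e * (x : G) * e⁻¹ ∈ closure ({D.z, D.t} : Set G)
    obtain ⟨c, hc, hxc | hxc⟩ := mem_closure_zt ((D.φ_ker _).1 ((hφ'1 x).1 hx)) <;> rw [hxc]
    all_goals
      obtain ⟨n, rfl⟩ := mem_zpowers_iff.1 hc
      have hzmem : D.z ∈ closure ({D.z, D.t} : Set G) := subset_closure (by simp)
      have htmem : D.t ∈ closure ({D.z, D.t} : Set G) := subset_closure (by simp)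
      first
      | (rw [← conj_zpow, hez]; exact zpow_mem (inv_mem hzmem) n)
      | (rw [cmul, ← conj_zpow, hez, mul_inv_eq_iff_eq_mul.2 het.eq]
         exact mul_mem (zpow_mem (inv_mem hzmem) n) htmem)
  set aK : ↥K := ⟨D.a, ha⟩ with haK
  have hαa : α aK = fa := by
    show σ * D.φ (cE aK) * σ⁻¹ = fa
    rw [show cE aK = aK from Subtype.ext hea]; exact hσ
  have hφa : φ' aK = fa := hσ
  obtain ⟨bK, hbK⟩ := D.φ_range (Perm.mem_alternatingGroup.2
    (show Perm.sign (σ⁻¹ * fb * σ) = 1 by simp [five_facts.2.1]))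
  have hφb : φ' bK = fb := by
    show σ * D.φ bK * σ⁻¹ = fb
    rw [hbK]; group
  have hrel : ∀ (w : ↥K) (n : ℕ), φ' w ^ n = 1 → α w ^ n = 1 := fun w n h => by
    rw [← map_pow] at h ⊢; exact hker _ h
  obtain ⟨π, hπa, hπb⟩ := five_pin (α bK) (hrel bK 5 (by rw [hφb]; exact five_facts.2.2.2.2.2.2.1))
    (by
      rw [← hαa, ← map_mul]
      exact hrel _ 5 (by rw [map_mul, hφa, hφb]; exact five_facts.2.2.2.2.2.2.2.1))
    (by
      rw [← hαa, ← map_inv, ← map_mul]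
      exact hrel _ 3 (by rw [map_mul, map_inv, hφa, hφb]; exact five_facts.2.2.2.2.2.2.2.2.1))
  let β : ↥K →* Perm (Fin 5) := (MulAut.conj π).toMonoidHom.comp φ'
  have hE : ∀ x, Perm.sign (φ' x) = 1 → α x = β x := by
    intro x hx
    have h1 : fa ∈ (α.eqLocus β).map φ' :=
      ⟨aK, show α aK = π * φ' aK * π⁻¹ by rw [hαa, hφa, hπa], hφa⟩
    have h2 : fb ∈ (α.eqLocus β).map φ' :=
      ⟨bK, show α bK = π * φ' bK * π⁻¹ by rw [hφb, hπb], hφb⟩
    obtain ⟨y, hy, hyx⟩ := five_gen _ h1 h2 (φ' x) hx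
    have h3 : φ' (y⁻¹ * x) = 1 := by rw [map_mul, map_inv, hyx, inv_mul_cancel]
    have h4 : α (y⁻¹ * x) = 1 := hker _ h3
    rw [map_mul, map_inv, inv_mul_eq_one] at h4
    have hy' : α y = β y := hy
    show α x = π * φ' x * π⁻¹
    rw [← h4, hy']
    show π * φ' y * π⁻¹ = π * φ' x * π⁻¹
    rw [hyx]
  have hall : ∀ x, α x = π * φ' x * π⁻¹ := by
    intro x
    set d := π⁻¹ * ((β x)⁻¹ * α x) * π with hd
    have hc : ∀ n : ↥K, Perm.sign (φ' n) = 1 → d * φ' n = φ' n * d := by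
      intro n hn
      have h1 := hE (x * n * x⁻¹) (by simp [hn])
      rw [map_mul, map_mul, map_inv, map_mul, map_mul, map_inv, hE n hn] at h1
      have h2 : (β x)⁻¹ * α x * β n = β n * ((β x)⁻¹ * α x) := by
        calc (β x)⁻¹ * α x * β n = (β x)⁻¹ * (α x * β n * (α x)⁻¹) * α x := by group
          _ = (β x)⁻¹ * (β x * β n * (β x)⁻¹) * α x := by rw [h1]
          _ = β n * ((β x)⁻¹ * α x) := by group
      have e : φ' n = π⁻¹ * β n * π := by
        show φ' n = π⁻¹ * (π * φ' n * π⁻¹) * π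
        group
      rw [hd, e]
      calc π⁻¹ * ((β x)⁻¹ * α x) * π * (π⁻¹ * β n * π)
          = π⁻¹ * ((β x)⁻¹ * α x * β n) * π := by group
        _ = π⁻¹ * (β n * ((β x)⁻¹ * α x)) * π := by rw [h2]
        _ = _ := by group
    have hd1 : d = 1 := five_centre d
      (by have := hc aK (by rw [hφa]; exact five_facts.1); rwa [hφa] at this)
      (by have := hc bK (by rw [hφb]; exact five_facts.2.1); rwa [hφb] at this)
    show α x = β x
    have h3 : (β x)⁻¹ * α x = 1 := by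
      calc (β x)⁻¹ * α x = π * d * π⁻¹ := by rw [hd]; group
        _ = 1 := by rw [hd1]; group
    exact (inv_mul_eq_one.1 h3).symm
  refine ⟨σ⁻¹ * π * σ, ?_, fun x y hy => ?_⟩
  swap
  · have hy' : y = cE x := Subtype.ext hy
    have h := hall x
    change σ * D.φ (cE x) * σ⁻¹ = π * (σ * D.φ x * σ⁻¹) * π⁻¹ at h
    rw [hy']
    calc D.φ (cE x) = σ⁻¹ * (σ * D.φ (cE x) * σ⁻¹) * σ := by group
      _ = _ := by rw [h]; group
  rcases five_sign π with hπ | hπ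
  swap
  · simp [hπ]
  exfalso
  obtain ⟨i, hi⟩ : ∃ i : ℕ, π = fa ^ i := by
    rcases five_even_comm π hπa hπ with h | h | h
    exacts [⟨0, by simp [h]⟩, ⟨1, by simp [h]⟩, ⟨2, by rw [h, pow_two]⟩]
  set x0 : ↥K := aK ^ i with hx0
  have hπ0 : φ' x0 = π := by rw [hx0, map_pow, hφa, hi]
  set j : G := ((x0⁻¹ : ↥K) : G) with hj
  have hjJ : j ∈ D.J := by
    rw [hj, hx0]; simp only [Subgroup.coe_inv, SubmonoidClass.coe_pow]
    exact inv_mem (pow_mem (a_mem_J D) i)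
  set e0 := j * e with he0
  have he0J : e0 ∈ normalizer (D.J : Set G) := by
    refine mul_mem (le_normalizer hjJ) (mul_mem ?_ S.cJ)
    exact normJ_of (normQ D (Or.inl (mul_inv_eq_iff_eq_mul.2 S.kz.eq))) (Or.inr S.ka)
  have hjz : j * D.z⁻¹ * j⁻¹ = D.z⁻¹ :=
    mul_inv_eq_iff_eq_mul.2 (J_comm D hjJ (inv_mem (z_mem_J D))).eq
  have he0z : e0 * D.z * e0⁻¹ = D.z⁻¹ := by
    calc e0 * D.z * e0⁻¹ = j * (e * D.z * e⁻¹) * j⁻¹ := by rw [he0]; group
      _ = D.z⁻¹ := by rw [hez, hjz]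
  have he0a : e0 * D.a * e0⁻¹ = D.a := by
    calc e0 * D.a * e0⁻¹ = j * (e * D.a * e⁻¹) * j⁻¹ := by rw [he0]; group
      _ = D.a := by rw [hea]; exact mul_inv_eq_iff_eq_mul.2 (J_comm D hjJ (a_mem_J D)).eq
  refine no_even S he0J (normQ D (Or.inr he0z)) he0a he0z ?_ ⟨j, hjJ, rfl⟩
  -- conjugation by `e0` is trivial modulo the kernel
  let c0 : ↥K →* ↥K := (MulAut.conj x0⁻¹).toMonoidHom.comp cE
  have hc0G : ∀ x : ↥K, (c0 x : G) = e0 * x * e0⁻¹ := fun x => by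
    show j * (e * x * e⁻¹) * (((x0⁻¹)⁻¹ : ↥K) : G) = _
    rw [he0, hj]; simp [mul_assoc]
  have htriv : ∀ x : ↥K, φ' (c0 x) = φ' x := fun x => by
    show φ' (x0⁻¹ * cE x * x0⁻¹⁻¹) = φ' x
    simp only [map_mul, map_inv, hπ0]
    show π⁻¹ * α x * π⁻¹⁻¹ = φ' x
    rw [hall x]; group
  have hw : ∀ x : ↥K, ∃ c ∈ zpowers D.z, (c0 x : G) * (x : G)⁻¹ = c ∨
      (c0 x : G) * (x : G)⁻¹ = c * D.t := by
    intro x
    have h : φ' (c0 x * x⁻¹) = 1 := by rw [map_mul, htriv, map_inv, mul_inv_cancel]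
    simpa using mem_closure_zt ((D.φ_ker _).1 ((hφ'1 _).1 h))
  have hcent : ∀ x : ↥K, ∀ y : ↥K, Commute ((c0 x : G) * (x : G)⁻¹) (y : G) := by
    intro x y
    obtain ⟨c, hc, h | h⟩ := hw x <;> rw [h]
    · obtain ⟨n, rfl⟩ := mem_zpowers_iff.1 hc
      exact ((hKz y y.2).symm).zpow_left n
    · obtain ⟨n, rfl⟩ := mem_zpowers_iff.1 hc
      exact (((hKz y y.2).symm).zpow_left n).mul_left (hKt y y.2).symm
  obtain ⟨hk, -, -, x', y', hx', hy', hxy⟩ := S.k_even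
  obtain ⟨x, hx⟩ := D.φ_range (Perm.mem_alternatingGroup.2 hx')
  obtain ⟨y, hy⟩ := D.φ_range (Perm.mem_alternatingGroup.2 hy')
  set w : ↥K := (x * y * x⁻¹ * y⁻¹)⁻¹ * ⟨S.k, hk⟩ with hwdef
  have hw1 : D.φ w = 1 := by
    rw [hwdef, map_mul, map_inv, map_mul, map_mul, map_mul, map_inv, map_inv, hx, hy, hxy,
      inv_mul_cancel]
  have hkeq : (S.k : G) = com (x : G) (y : G) * (w : G) := by
    simp [hwdef, com, mul_assoc]
  set wx := (c0 x : G) * (x : G)⁻¹ with hwx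
  set wy := (c0 y : G) * (y : G)⁻¹ with hwy
  have hcomc : e0 * com (x : G) (y : G) * e0⁻¹ = com (x : G) (y : G) := by
    rw [com_conj, ← hc0G, ← hc0G,
      show (c0 x : G) = wx * (x : G) by simp [hwx],
      show (c0 y : G) = wy * (y : G) by simp [hwy]]
    have a1 : Commute wx (x : G) := hcent x x
    have a2 : Commute wx (y : G) := hcent x y
    have a3 : Commute wy (x : G) := hcent y x
    have a5 : Commute wx wy := by
      rw [hwy]; exact (hcent x (c0 y)).mul_right (hcent x y).inv_right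
    simp only [com]
    calc wx * (x : G) * (wy * y) * (wx * (x : G))⁻¹ * (wy * (y : G))⁻¹
        = wx * ((x : G) * wy) * (y : G) * (x : G)⁻¹ * (wx⁻¹ * (y : G)⁻¹) * wy⁻¹ := by group
      _ = wx * wy * ((x : G) * (y : G) * (x : G)⁻¹ * (y : G)⁻¹) * wx⁻¹ * wy⁻¹ := by
          rw [a3.symm.eq, a2.inv_inv.eq]; group
      _ = _ := by
          have h1 : Commute (wx * wy) ((x : G) * (y : G) * (x : G)⁻¹ * (y : G)⁻¹) := by
            have a4 : Commute wy (y : G) := hcent y y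
            exact (((a1.mul_left a3).mul_right (a2.mul_left a4)).mul_right
              (a1.mul_left a3).inv_right).mul_right (a2.mul_left a4).inv_right
          rw [h1.eq, mul_assoc, mul_assoc, ← mul_inv_rev, a5.eq.symm, mul_inv_cancel, mul_one]
  have hres : e0 * S.k * e0⁻¹ * (S.k)⁻¹ =
      com (x : G) (y : G) * (e0 * (w : G) * e0⁻¹ * (w : G)⁻¹) * (com (x : G) (y : G))⁻¹ := by
    rw [hkeq, cmul, hcomc]; group
  rw [hres]
  obtain ⟨c, hc, hwc | hwc⟩ := mem_closure_zt ((D.φ_ker _).1 hw1) <;> rw [hwc]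
  all_goals
    obtain ⟨n, rfl⟩ := mem_zpowers_iff.1 hc
    have e1 : e0 * D.z ^ n * e0⁻¹ = (D.z⁻¹) ^ n := by rw [← conj_zpow, he0z]
    have hzc : ∀ m : ℤ, com (x : G) (y : G) * D.z ^ m * (com (x : G) (y : G))⁻¹ = D.z ^ m := by
      intro m
      refine mul_inv_eq_iff_eq_mul.2 (Commute.zpow_right ?_ m).eq
      exact (((hKz x x.2).mul_left (hKz y y.2)).mul_left (hKz x x.2).inv_left).mul_left
        (hKz y y.2).inv_left
    have hte : e0 * D.t * e0⁻¹ = D.t := by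
      refine mul_inv_eq_iff_eq_mul.2 (Commute.mul_left ?_ het).eq
      rw [hj]; exact hKt _ (x0⁻¹ : ↥K).2
    first
    | (rw [e1, inv_zpow', ← zpow_neg, ← zpow_add, hzc]
       exact zpow_mem (mem_zpowers _) _)
    | (rw [cmul e0, e1, hte, mul_inv_rev, show D.z⁻¹ ^ n * D.t * (D.t⁻¹ * (D.z ^ n)⁻¹) =
          D.z⁻¹ ^ n * (D.z ^ n)⁻¹ by group, inv_zpow', ← zpow_neg, ← zpow_add, hzc]
       exact zpow_mem (mem_zpowers _) _)

end Six

open Six in
/-- Piece P2: the normalizer of `J`. -/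
theorem six : StmtSix.{u} := by
  intro G _ _ Z J Q h D _ _ hJ
  obtain ⟨P⟩ := exists_model (D := D) h hJ
  obtain ⟨S⟩ := exists_sel P
  obtain ⟨π, hπ, hodd⟩ := odd_part S
  exact ⟨{ toTop := D
           e := S.k * S.c
           g := S.g
           et := S.kt.mul_left S.ct
           ez := by
             calc S.k * S.c * D.z * (S.k * S.c)⁻¹ = S.k * (S.c * D.z * S.c⁻¹) * S.k⁻¹ := by group
               _ = D.z⁻¹ := by
                 rw [S.cz]; exact mul_inv_eq_iff_eq_mul.2 (S.kz.inv_right).eq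
           ea := by
             calc S.k * S.c * D.a * (S.k * S.c)⁻¹ = S.k * (S.c * D.a * S.c⁻¹) * S.k⁻¹ := by group
               _ = D.a := by rw [S.ca, ← conj_inv, S.ka, inv_inv]
           gt := S.gt
           gz := S.gz
           ga := S.ga
           e_odd := ⟨π, hπ, hodd⟩
           gJ := S.gJ
           fusion := S.fusion
           c_g := ⟨S.c, S.ct, S.cz, S.ca, S.cc, S.gg, S.gc⟩ }, rfl⟩

end CfsgLib.McLThree
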