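import Cfsg.Agent.Lib.McLThree.TopNoRoot

/-!
# S5523, piece P1: the structure of the centraliser of `z`

The character `χ` is the transfer into the Sylow 3-subgroup `⟨z, a⟩` of `C(z, t)`.
-/

set_option autoImplicit false
set_option linter.style.haveILetI false
set_option linter.unusedSectionVars false

namespace CfsgLib.McLThree

open Subgroup

universe u

/-- The powers of an element of exponent three. -/
def powThree {H : Type*} [Group H] (g : H) (h : g ^ 3 = 1) : Multiplicative (ZMod 3) →* H :=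
  MonoidHom.mk' (fun k => g ^ (Multiplicative.toAdd k).val) fun i j => by
    show g ^ (Multiplicative.toAdd i + Multiplicative.toAdd j : ZMod 3).val = _
    rw [ZMod.val_add, ← pow_eq_pow_mod _ h, pow_add]

theorem powThree_ofAdd {H : Type*} [Group H] (g : H) (h : g ^ 3 = 1) (n : ℕ) :
    powThree g h (Multiplicative.ofAdd (n : ZMod 3)) = g ^ n := by
  show g ^ ((n : ZMod 3)).val = g ^ n
  rw [ZMod.val_natCast, ← pow_eq_pow_mod _ h]

variable {G : Type u} [Group G] [Finite G] {Z J Q : Subgroup G}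

namespace Base

variable (B : Base G Z J Q)
include B

theorem z_mem_C0 : B.z ∈ B.C0 := B.Z_le_C0 B.z_mem

theorem z_ne_one : B.z ≠ 1 := fun h => by
  have := B.ord_z
  rw [h, orderOf_one] at this
  omega

/-- `⟨z, a⟩` is a Sylow 3-subgroup of `C(z, t)` and `z` survives in the transfer into it. -/
theorem exists_char (O : B.Orders) (E : B.Elem) :
    ∃ χ : B.C0 →* Multiplicative (ZMod 3), χ ⟨B.z, B.z_mem_C0⟩ ≠ 1 := by
  classical
  let z0 : B.C0 := ⟨B.z, B.z_mem_C0⟩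
  let a0 : B.C0 := ⟨E.a, E.a_C0⟩
  have hz3 : z0 ^ 3 = 1 := Subtype.ext B.z3
  have ha3 : a0 ^ 3 = 1 := Subtype.ext E.a3
  have hzc : ∀ c : B.C0, Commute c z0 := fun c =>
    Subtype.ext (B.Zc B.z_mem (B.C0_le c.2)).eq
  let j : Multiplicative (ZMod 3) × Multiplicative (ZMod 3) →* B.C0 :=
    (powThree z0 hz3).noncommCoprod (powThree a0 ha3) fun _ _ =>
      ((hzc a0).symm.pow_pow _ _)
  have hj : Function.Injective j := by
    rw [injective_iff_map_eq_one]
    rintro ⟨p, q⟩ hpq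
    have e : B.z ^ (Multiplicative.toAdd p).val * E.a ^ (Multiplicative.toAdd q).val = 1 :=
      congrArg Subtype.val hpq
    have hq : (Multiplicative.toAdd q).val = 0 := by
      by_contra h
      have h1 : E.a ^ (Multiplicative.toAdd q).val ∈ Q := by
        rw [eq_inv_of_mul_eq_one_right e]
        exact inv_mem (pow_mem (B.hyp.zQ B.z_mem) _)
      have h2 := ZMod.val_lt (Multiplicative.toAdd q)
      obtain hv | hv : (Multiplicative.toAdd q).val = 1 ∨ (Multiplicative.toAdd q).val = 2 := by omega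
      · rw [hv, pow_one] at h1
        exact E.a_notQ h1
      · rw [hv] at h1
        refine E.a_notQ ?_
        have h3 : E.a ^ 2 * E.a ^ 2 = E.a := by
          rw [← pow_add, show 2 + 2 = 3 + 1 from rfl, pow_succ, E.a3, one_mul]
        exact h3 ▸ mul_mem h1 h1
    rw [hq, pow_zero, mul_one] at e
    have hp : (Multiplicative.toAdd p).val = 0 := by
      have h2 := ZMod.val_lt (Multiplicative.toAdd p)
      have h3 : 3 ∣ (Multiplicative.toAdd p).val := B.ord_z.symm.dvd.trans (orderOf_dvd_of_pow_eq_one e)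
      omega
    rw [ZMod.val_eq_zero] at hp hq
    exact Prod.ext hp hq
  set P := j.range with hP
  have hPcard : Nat.card P = 9 := by
    rw [← Nat.card_congr (MonoidHom.ofInjective hj).toEquiv, Nat.card_prod,
      Nat.card_congr Multiplicative.toAdd, Nat.card_zmod]
  let θ : P →* Multiplicative (ZMod 3) :=
    (MonoidHom.fst _ _).comp (MonoidHom.ofInjective hj).symm.toMonoidHom
  refine ⟨θ.transfer, ?_⟩
  have hidx : ¬ 3 ∣ P.index := by
    intro h
    have h1 := P.card_mul_index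
    rw [hPcard] at h1
    have h2 : 243 * 27 ∣ 466560 * 3 := by
      refine dvd_trans ?_ (Nat.mul_dvd_mul_right O.cK 3)
      rw [B.card_cZ, ← h1]
      exact Nat.mul_dvd_mul_left 243 ((Nat.mul_dvd_mul_left 9 h))
    norm_num at h2
  rw [MonoidHom.transfer_eq_pow θ _ fun k g _ => by
    rw [((hzc g⁻¹).pow_right k).eq, inv_mul_cancel_right]]
  intro h
  refine hidx ((ZMod.natCast_eq_zero_iff _ _).1 ?_)
  have e : (MonoidHom.ofInjective hj) (Multiplicative.ofAdd ((P.index : ℕ) : ZMod 3), 1) =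
      ⟨z0 ^ P.index, MonoidHom.transfer_eq_pow_aux _ fun k g _ => by
        rw [((hzc g⁻¹).pow_right k).eq, inv_mul_cancel_right]⟩ := by
    refine Subtype.ext ?_
    show powThree z0 hz3 _ * powThree a0 ha3 1 = z0 ^ P.index
    rw [powThree_ofAdd, map_one, mul_one]
  have h' : θ ⟨z0 ^ P.index, _⟩ = 1 := h
  rw [← e] at h'
  simp only [θ, MonoidHom.comp_apply, MulEquiv.coe_toMonoidHom, MulEquiv.symm_apply_apply,
    MonoidHom.coe_fst] at h'
  exact h'

variable {B}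

/-- `a` may be multiplied by an element of `Z`. -/
def Elem.shift (E : B.Elem) (c : G) (hc : c ∈ Z) : B.Elem where
  a := E.a * c
  a_C0 := mul_mem E.a_C0 (B.Z_le_C0 hc)
  a_J := mul_mem E.a_J (E.good.zle hc).1
  a_L := mul_mem E.a_L (B.QL (B.hyp.zQ hc))
  a_notQ := fun h => E.a_notQ ((Q.mul_mem_cancel_right (B.hyp.zQ hc)).1 h)
  a3 := by rw [(B.Zc hc (B.C0_le E.a_C0)).mul_pow, E.a3, B.cube_Z hc, one_mul]
  good := E.good
  inf_a := by
    rw [← E.inf_a]
    ext q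
    simp only [mem_inf, mem_centralizer_singleton_iff]
    refine and_congr_right fun hq => ?_
    have hqc : Commute q c := B.Qw hc hq
    constructor
    · intro h
      have h' : Commute q (E.a * c) := h
      simpa using (h'.mul_right hqc.inv_right).eq
    · intro h
      exact (show Commute q E.a from h).mul_right hqc

end Base

/-- Piece P1. -/
theorem top : StmtTop.{u} := by
  intro G _ _ Z J Q h
  classical
  obtain ⟨B, hy⟩ := h.exists_base'
  have O := B.exists_orders hy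
  obtain ⟨T⟩ := B.exists_letters
  obtain ⟨E₀⟩ := B.exists_elem O
  obtain ⟨χ, hχ⟩ := B.exists_char O E₀
  obtain ⟨E, hχa⟩ : ∃ E : B.Elem, χ ⟨E.a, E.a_C0⟩ = 1 := by
    haveI : Fact (Nat.Prime 3) := ⟨Nat.prime_three⟩
    have hc : Nat.card (Multiplicative (ZMod 3)) = 3 := by
      rw [Nat.card_congr Multiplicative.toAdd, Nat.card_zmod]
    have hm : (χ ⟨E₀.a, E₀.a_C0⟩)⁻¹ ∈ zpowers (χ ⟨B.z, B.z_mem_C0⟩) := by
      rw [zpowers_eq_top_of_prime_card hc hχ]; trivial
    obtain ⟨m, hm⟩ := mem_zpowers_iff.1 hm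
    refine ⟨E₀.shift (B.z ^ m) (zpow_mem B.z_mem m), ?_⟩
    show χ (⟨E₀.a, E₀.a_C0⟩ * ⟨B.z, B.z_mem_C0⟩ ^ m) = 1
    rw [map_mul, map_zpow, hm, mul_inv_cancel]
  have hinf := E.inf_a
  obtain ⟨S, -, hS⟩ := h.syl
  obtain ⟨-, hd, hnd⟩ := O.sylow S hS
  have hzc : ∀ {x : G}, x ∈ B.C0 → Commute B.z x := fun hx => B.mem_cZ.1 (B.C0_le hx)
  have hcl : ∀ x : G, x ∈ closure ({B.z, (B.t : G)} : Set G) ↔ x ∈ T.ker := by
    intro x
    refine ⟨fun hx => ?_, fun hx => ?_⟩
    · refine (closure_le _).2 ?_ hx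
      rintro w (rfl | rfl)
      · exact T.Z_le_ker B.z_mem
      · exact T.inTZ_mem_ker (Or.inr (by rw [B.t_sq]; exact one_mem _))
    · have hZ : Z ≤ closure ({B.z, (B.t : G)} : Set G) :=
        B.hz.ge.trans (zpowers_le.2 (subset_closure (Or.inl rfl)))
      rcases E.ker_inTZ T hy hx with hx' | hx'
      · exact hZ hx'
      · rw [B.eq_mul_t (x := x)]
        exact mul_mem (hZ hx') (subset_closure (Or.inr rfl))
  refine ⟨⟨B.z, B.t, E.a, Q, B.ord_z, B.ord_t, orderOf_eq_prime E.a3 ?_, ?_, ?_, hzc E.a_C0,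
    E.a_notQ, B.hyp.cardQ, B.hyp.expQ, B.hyp.zQ B.z_mem, ?_, ?_, ?_, ?_, B.hyp.centQ, ?_,
    B.gen_eq, ⟨hd, hnd⟩, T.ψ, χ, T.alt_le, ?_, ?_, ?_, ?_, ?_⟩, B.hz, rfl, ?_⟩
  · exact fun e => E.a_notQ (e ▸ one_mem _)
  · exact B.Zc B.z_mem B.t_cZ
  · exact (B.mem_C0.1 E.a_C0).2.symm
  · intro q hq hcom
    rw [B.hz]
    exact B.centerQ hq hcom
  · intro q hq x hx
    rw [B.hz]
    exact B.commQ hq hx
  · rw [B.cz_eq]; exact B.hyp.cQ
  · rw [B.hz]; exact B.hyp.nQ
  · intro q hq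
    rw [B.hz]
    exact B.t_inverts hq
  · suffices key : ∀ x : B.C0, T.ψ x = 1 ↔ (x : G) ∈ closure ({B.z, (B.t : G)} : Set G) from key
    intro x
    rw [hcl]
    exact ⟨fun hx => T.mem_ker.2 ⟨x.2, hx⟩, fun hx => (T.mem_ker.1 hx).2⟩
  · suffices key : ∀ x : B.C0, T.ψ x ∈ alternatingGroup (Fin 5) → T.ψ x ≠ 1 →
        T.ψ x * T.ψ x = 1 → (x : G) * x * (B.t : G) ∈ zpowers B.z from key
    intro x hxA hx1 hx2
    obtain ⟨s, hs⟩ := T.ρ_range.ge hxA
    obtain ⟨v, hv, hφv⟩ := B.exists_lift s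
    have hψv : T.ψ ⟨v, hv⟩ = T.ψ x := by
      rw [T.on_L ⟨v, hv⟩ v.2, ← hs]
      exact congrArg T.ρ hφv
    have hker : (v : G)⁻¹ * x ∈ T.ker := T.mem_ker.2 ⟨mul_mem (inv_mem hv) x.2, by
      rw [show (⟨(v : G)⁻¹ * x, _⟩ : B.C0) = ⟨v, hv⟩⁻¹ * x from rfl, map_mul, map_inv, hψv,
        inv_mul_cancel]⟩
    have hxL : (x : G) ∈ B.L := by
      have h1 := mul_mem v.2 (Base.InTZ.mem_L B (E.ker_inTZ T hy hker))
      simpa using h1
    rw [T.on_L x hxL] at hx1 hx2
    rw [← map_mul, T.ρ_ker] at hx2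
    have hsq : B.φ ⟨x, hxL⟩ * B.φ ⟨x, hxL⟩ = -1 := by
      refine hx2.resolve_left fun e => hx1 ((T.ρ_ker _).2 (sq_one _ e))
    rw [B.hz]
    refine B.C0_inf_Q (mul_mem (mul_mem x.2 x.2) B.t_mem_C0) ?_
    rw [show (x : G) * x * (B.t : G) = ((⟨x, hxL⟩ * ⟨x, hxL⟩ * B.t : B.L) : G) from rfl,
      B.mem_Q_of_φ, map_mul, map_mul, hsq, B.φ_t, neg_one_mul_self]
  · intro x hx
    rw [show x = ⟨B.z, B.z_mem_C0⟩ from Subtype.ext hx]
    exact hχ
  · intro x hx
    rw [show x = ⟨E.a, E.a_C0⟩ from Subtype.ext hx]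
    exact hχa
  · rw [hinf]
    exact ⟨E.good.card, ⟨⟨fun p q => Subtype.ext (E.good.comm p p.2 q q.2).eq⟩⟩⟩
  · show (Q ⊓ centralizer ({E.a} : Set G)) ⊔ zpowers E.a = J
    rw [hinf]
    have hle : (J ⊓ Q) ⊔ zpowers E.a ≤ J := sup_le inf_le_left (zpowers_le.2 E.a_J)
    have hdv := card_dvd_of_le hle
    have hdI := card_dvd_of_le (le_sup_left : J ⊓ Q ≤ (J ⊓ Q) ⊔ zpowers E.a)
    rw [h.cardJ] at hdv
    rw [E.good.card] at hdI
    obtain ⟨k, hk, e⟩ := (Nat.dvd_prime_pow Nat.prime_three).1 hdv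
    rw [e] at hdI
    have hk4 : k = 4 := by
      have h3 : 3 ≤ k := (Nat.pow_dvd_pow_iff_le_right (by norm_num : 1 < 3)).1
        (show 3 ^ 3 ∣ 3 ^ k from hdI)
      by_contra hne
      have heq : J ⊓ Q = (J ⊓ Q) ⊔ zpowers E.a := eq_of_le_of_card_ge le_sup_left (by
        rw [e, E.good.card, show k = 3 by omega]; norm_num)
      exact E.a_notQ (heq.ge (mem_sup_right (mem_zpowers _))).2
    exact eq_of_le_of_card_ge hle (by rw [e, hk4, h.cardJ])

end CfsgLib.McLThree
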