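import Cfsg.Agent.Lib.McLThree.Finish
import Cfsg.Agent.Lib.McLThree.PiecesAll
import Cfsg.Agent.Lib.McLThree.Top
import Cfsg.Agent.Lib.McLThree.Six
import Cfsg.Agent.Lib.McLThree.CentT
import Cfsg.Agent.Lib.McLThree.CentY

/-!
# The pieces that produce the data from the hypotheses
-/

set_option autoImplicit false

namespace CfsgLib.McLThree

universe u

/-- The pieces that build the data and the double cover. -/
theorem builders : Builders.{u} :=
  ⟨top, six, centT, centY⟩

end CfsgLib.McLThree
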