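import Cfsg.Agent.Lib.McLThree.CensusOddLocal

/-!
# No odd subgroup of the McLaughlin group is large enough to be transitive on the involutions
-/

set_option autoImplicit false
set_option linter.style.haveILetI false
set_option linter.unusedSectionVars false
set_option maxHeartbeats 1000000

namespace CfsgLib.McLThree.Census

open Subgroup

variable {L : Type*} [Group L] [Finite L] {τ : MulAut L}

theorem sq_one_eleven : ∀ r : ZMod 11, r * r = 1 → r = 1 ∨ r = -1 := by decide

/-- Twice six is one modulo eleven: a fixed element of order five normalises `⟨a⟩`. -/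
theorem exists_fixed_normalizer {a n : L} (ha : a ^ 11 = 1) (hτa : τ a = a⁻¹) {m : ℕ}
    (hn : τ n = a ^ m * n) : τ (a ^ (6 * m) * n) = a ^ (6 * m) * n := by
  rw [map_mul, map_pow, hτa, hn, ← mul_assoc]
  congr 1
  rw [inv_pow, inv_mul_eq_iff_eq_mul, ← pow_add, pow_eq_pow_mod m ha,
    pow_eq_pow_mod (6 * m + 6 * m) ha]
  congr 1
  omega

variable (X : OddCtx L τ)
include X

theorem OddCtx.dvd_odd : Nat.card L ∣ 7016625 :=
  (((Nat.coprime_two_right).2 X.odd).pow_right 7).dvd_of_dvd_mul_left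
    (by simpa using X.dvd)

/-- The multiplicity is five, and the normaliser of a Sylow subgroup at eleven has order 55. -/
theorem OddCtx.card_eq : Nat.card {x : L // τ x = x} = 5 ∧ Nat.card L = 111375 ∧
    ∀ a : L, orderOf a = 11 → Nat.card (normalizer (zpowers a : Set L)) = 55 := by
  haveI : Fact (Nat.Prime 11) := ⟨by norm_num⟩
  haveI : Fact (Nat.Prime 5) := ⟨by norm_num⟩
  obtain ⟨c, hc⟩ : ∃ c, c = Nat.card {x : L // τ x = x} := ⟨_, rfl⟩
  have hL : Nat.card L = 22275 * c := by rw [hc]; exact X.card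
  have hc315 : c ∣ 315 := by
    have h := X.dvd_odd
    rw [hL, show (7016625 : ℕ) = 22275 * 315 by norm_num] at h
    exact Nat.dvd_of_mul_dvd_mul_left (by norm_num) h
  have hm11 : ¬ 11 ∣ 2025 * c := fun h => by
    rcases (Nat.Prime.dvd_mul (by norm_num)).1 h with h | h
    · norm_num at h
    · exact absurd (h.trans hc315) (by norm_num)
  -- the count at eleven
  have hcount : ∀ a : L, orderOf a = 11 → ∃ n, Nat.card (normalizer (zpowers a : Set L)) * n =
      22275 * c ∧ n % 11 = 1 := by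
    intro a ha
    obtain ⟨P, hP⟩ := ofCard_coe 11 1 (2025 * c) (zpowers a) hm11 (by rw [hL]; ring)
      (by rw [Nat.card_zpowers, ha, pow_one])
    refine ⟨(normalizer (zpowers a : Set L)).index, by rw [card_mul_index, hL], ?_⟩
    have h := card_sylow_modEq_one 11 L
    rw [Sylow.card_eq_index_normalizer P, ← P.coe_coe, hP] at h
    exact h
  obtain ⟨a₀, ha₀⟩ := exists_prime_orderOf_dvd_card' (G := L) 11
    (by rw [hL]; exact dvd_mul_of_dvd_left (by norm_num) c)
  have key : ∀ a : L, orderOf a = 11 → Nat.card (normalizer (zpowers a : Set L)) = 55 ∧ c = 5 ∨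
      Nat.card (normalizer (zpowers a : Set L)) = 11 ∧ (c = 1 ∨ c = 45) := by
    intro a ha
    obtain ⟨n, hn, hn1⟩ := hcount a ha
    have hmem : c ∈ Nat.divisors 315 := Nat.mem_divisors.2 ⟨hc315, by norm_num⟩
    rcases X.normalizer_eleven ha with h | h <;> rw [h] at hn ⊢
    · right
      refine ⟨rfl, ?_⟩
      have key : ∀ d ∈ Nat.divisors 315, 2025 * d % 11 = 1 → d = 1 ∨ d = 45 := by decide +kernel
      exact key c hmem (by rwa [show 2025 * c = n by omega])
    · left
      refine ⟨rfl, ?_⟩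
      have key : ∀ d ∈ Nat.divisors 315, 405 * d % 11 = 1 → d = 5 := by decide +kernel
      exact key c hmem (by rwa [show 405 * c = n by omega])
  -- a self-normalising Sylow subgroup has a normal complement
  have hno : ¬ (c = 1 ∨ c = 45) := by
    intro hc'
    have h11 : Nat.card (normalizer (zpowers a₀ : Set L)) = 11 := by
      rcases key a₀ ha₀ with ⟨-, h⟩ | ⟨h, -⟩
      · omega
      · exact h
    obtain ⟨P, hP⟩ := ofCard_coe 11 1 (2025 * c) (zpowers a₀) hm11 (by rw [hL]; ring)
      (by rw [Nat.card_zpowers, ha₀, pow_one])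
    have hNP : normalizer ((P : Subgroup L) : Set L) ≤ centralizer ((P : Subgroup L) : Set L) := by
      rw [hP]
      have e : zpowers a₀ = normalizer (zpowers a₀ : Set L) :=
        eq_of_le_of_card_ge le_normalizer (by rw [h11, Nat.card_zpowers, ha₀])
      rw [← e]
      intro g hg
      refine mem_centralizer_iff.2 fun w hw => ?_
      obtain ⟨i, rfl⟩ := mem_zpowers_iff.1 hg
      obtain ⟨j, rfl⟩ := mem_zpowers_iff.1 hw
      exact zpow_mul_comm a₀ j i
    set M := (MonoidHom.transferSylow P hNP).ker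
    have hcompl := MonoidHom.ker_transferSylow_isComplement' P hNP
    have hM : Nat.card M = 2025 * c := by
      have h := hcompl.card_mul_card
      have hPc : Nat.card (P : Subgroup L) = 11 :=
        (congrArg (fun S : Subgroup L => Nat.card S) hP).trans (by rw [Nat.card_zpowers, ha₀])
      rw [hPc, hL] at h
      change Nat.card M * 11 = 22275 * c at h
      omega
    have h11L : 11 ∣ Nat.card L := by rw [hL]; exact dvd_mul_of_dvd_left (by norm_num) c
    rcases hc' with rfl | rfl
    · exact absurd (X.sylow_mod M (hM ▸ hm11) 5 2 81 (by norm_num) (by rw [hM]; norm_num) (by norm_num) h11L)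
        (by norm_num)
    · exact absurd (X.sylow_mod M (hM ▸ hm11) 5 3 729 (by norm_num) (by rw [hM]; norm_num) (by norm_num) h11L)
        (by norm_num)
  have h5 : c = 5 := by
    rcases key a₀ ha₀ with ⟨-, h⟩ | ⟨-, h⟩
    · exact h
    · exact absurd h hno
  refine ⟨hc ▸ h5, by rw [hL, h5], fun a ha => ?_⟩
  rcases key a ha with ⟨h, -⟩ | ⟨-, h⟩
  · exact h
  · exact absurd h hno

/-- The fixed elements are the powers of an element of order five with a small centraliser. -/
theorem OddCtx.exists_fixed : ∃ f : L, orderOf f = 5 ∧ τ f = f ∧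
    Nat.card (centralizer ({f} : Set L)) ≤ 25 ∧ ∀ x, τ x = x → x ∈ zpowers f := by
  haveI : Fact (Nat.Prime 11) := ⟨by norm_num⟩
  haveI : Fact (Nat.Prime 5) := ⟨by norm_num⟩
  obtain ⟨hfix, hL, hN⟩ := X.card_eq
  obtain ⟨P, hP⟩ := exists_stable_sylow X.odd X.invol 11
  have hPc : Nat.card P = 11 := card_sylow_eq 11 1 10125 P (by norm_num) (by rw [hL]; norm_num)
  haveI : IsCyclic (P : Subgroup L) := isCyclic_of_prime_card hPc
  obtain ⟨a, ha⟩ := ((P : Subgroup L).isCyclic_iff_exists_zpowers_eq_top).1 inferInstance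
  have hao : orderOf a = 11 := by rw [← Nat.card_zpowers, ha, hPc]
  have haP : a ∈ (P : Subgroup L) := ha.le (mem_zpowers a)
  have hτN : ∀ n ∈ normalizer (zpowers a : Set L), τ n * a * (τ n)⁻¹ ∈ zpowers a := by
    intro n hn
    rw [ha]
    have h1 : n * τ a * n⁻¹ ∈ (P : Subgroup L) := by
      have h := (mem_normalizer_iff.1 hn (τ a)).1 (by rw [ha]; exact hP a haP)
      rwa [ha] at h
    have h2 := hP _ h1
    rwa [map_mul, map_mul, X.invol, map_inv] at h2
  obtain ⟨j, hj⟩ := mem_zpowers_iff.1 (show τ a ∈ zpowers a by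
    rw [ha]; exact hP a haP)
  -- `τ` inverts `a`
  have hτa : τ a = a⁻¹ := by
    have hsq : a ^ (j * j) = a := by
      rw [zpow_mul, hj, ← map_zpow, hj, X.invol]
    have h1 : ((j : ZMod 11)) * j = 1 := by
      have h := zpow_eq_zpow_iff_modEq.1 (hsq.trans (zpow_one a).symm)
      rw [hao] at h
      simpa using (ZMod.intCast_eq_intCast_iff _ _ 11).2 h
    have h2 : (j : ZMod 11) = 1 ∨ (j : ZMod 11) = -1 := by
      exact sq_one_eleven _ h1
    rcases h2 with h | h
    · exfalso
      have e : τ a = a := by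
        rw [← hj]
        nth_rewrite 2 [← zpow_one a]
        rw [zpow_eq_zpow_iff_modEq, hao]
        exact (ZMod.intCast_eq_intCast_iff _ _ 11).1 (by simpa using h)
      let Fx : Subgroup L :=
        { carrier := {x | τ x = x}
          one_mem' := map_one τ
          mul_mem' := fun {x y} hx hy => by
            simp only [Set.mem_ofPred_eq] at hx hy ⊢
            rw [map_mul, hx, hy]
          inv_mem' := fun {x} hx => by
            simp only [Set.mem_ofPred_eq] at hx ⊢
            rw [map_inv, hx] }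
      have h5 := Subgroup.orderOf_dvd_natCard Fx (x := a) e
      rw [hao, show Nat.card Fx = 5 from hfix] at h5
      norm_num at h5
    · rw [← hj, ← zpow_neg_one, zpow_eq_zpow_iff_modEq, hao]
      exact (ZMod.intCast_eq_intCast_iff _ _ 11).1 (by simpa using h)
  obtain ⟨n₀, hn₀⟩ := exists_prime_orderOf_dvd_card' (G := normalizer (zpowers a : Set L)) 5
    (by rw [hN a hao]; norm_num)
  have hn5 : orderOf (n₀ : L) = 5 := by rw [Subgroup.orderOf_coe, hn₀]
  obtain ⟨s, hs⟩ := mem_zpowers_iff.1 ((mem_normalizer_iff.1 n₀.2 a).1 (mem_zpowers a))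
  -- `τ n₀` acts on `a` as `n₀`
  have hact : τ (n₀ : L) * a * (τ (n₀ : L))⁻¹ = a ^ s := by
    have e := congrArg τ hs
    rw [map_zpow, map_mul, map_mul, map_inv, hτa] at e
    have e' := congrArg (fun z => z⁻¹) e
    simp only [inv_zpow', mul_inv_rev, inv_inv, zpow_neg, mul_assoc] at e'
    rw [mul_assoc]
    exact e'.symm
  have hcomm : (n₀ : L)⁻¹ * τ (n₀ : L) * a = a * ((n₀ : L)⁻¹ * τ (n₀ : L)) := by
    calc (n₀ : L)⁻¹ * τ (n₀ : L) * a
        = (n₀ : L)⁻¹ * (τ (n₀ : L) * a * (τ (n₀ : L))⁻¹) * τ (n₀ : L) := by group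
      _ = (n₀ : L)⁻¹ * ((n₀ : L) * a * (n₀ : L)⁻¹) * τ (n₀ : L) := by rw [hact, hs]
      _ = a * ((n₀ : L)⁻¹ * τ (n₀ : L)) := by group
  have hw : τ (n₀ : L) * (n₀ : L)⁻¹ ∈ zpowers a := by
    have h := (mem_normalizer_iff.1 n₀.2 _).1 (X.c11 a _ hao hcomm)
    rwa [show (n₀ : L) * ((n₀ : L)⁻¹ * τ (n₀ : L)) * (n₀ : L)⁻¹ = τ (n₀ : L) * (n₀ : L)⁻¹ by
      group] at h
  obtain ⟨m, hm⟩ : ∃ m : ℕ, a ^ m = τ (n₀ : L) * (n₀ : L)⁻¹ :=
    mem_powers_iff_mem_zpowers.2 hw
  have hf : τ (a ^ (6 * m) * n₀) = a ^ (6 * m) * n₀ :=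
    exists_fixed_normalizer (hao ▸ pow_orderOf_eq_one a) hτa (by rw [hm, inv_mul_cancel_right])
  set f := a ^ (6 * m) * (n₀ : L)
  let Fx : Subgroup L :=
    { carrier := {x | τ x = x}
      one_mem' := map_one τ
      mul_mem' := fun {x y} hx hy => by
        simp only [Set.mem_ofPred_eq] at hx hy ⊢
        rw [map_mul, hx, hy]
      inv_mem' := fun {x} hx => by
        simp only [Set.mem_ofPred_eq] at hx ⊢
        rw [map_inv, hx] }
  have hFx : Nat.card Fx = 5 := hfix
  have hf1 : f ≠ 1 := fun e => by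
    have : (n₀ : L) ∈ zpowers a := by
      rw [show (n₀ : L) = (a ^ (6 * m))⁻¹ from eq_inv_of_mul_eq_one_right e]
      exact inv_mem (pow_mem (mem_zpowers a) _)
    have h := Subgroup.orderOf_dvd_natCard _ this
    rw [hn5, Nat.card_zpowers, hao] at h
    norm_num at h
  have hf5 : orderOf f = 5 := by
    rcases (Nat.dvd_prime (by norm_num)).1 (hFx ▸ Subgroup.orderOf_dvd_natCard Fx (x := f) hf) with
      h | h
    · exact absurd (orderOf_eq_one_iff.1 h) hf1
    · exact h
  refine ⟨f, hf5, hf, X.c5 a f hao hf5 ?_, fun x hx => ?_⟩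
  · exact (mem_normalizer_iff.1 (mul_mem (le_normalizer (pow_mem (mem_zpowers a) _)) n₀.2) a).1
      (mem_zpowers a)
  · have e : zpowers f = Fx := eq_of_le_of_card_ge (zpowers_le.2 hf)
      (by rw [Nat.card_zpowers, hf5, hFx])
    exact e ▸ (show x ∈ Fx from hx)

end CfsgLib.McLThree.Census
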