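import Mathlib

/-!
# An automorphism of order two of a group of odd order, and counting lemmas
-/

set_option autoImplicit false
set_option linter.style.haveILetI false
set_option linter.unusedSectionVars false

namespace CfsgLib.McLThree.Census

open Subgroup

variable {L : Type*} [Group L] [Finite L] {τ : MulAut L}

/-- Without fixed points on an invariant subgroup the automorphism inverts it. -/
theorem inverted_of_fpf (hτ : ∀ x, τ (τ x) = x) {R : Subgroup L} (hR : ∀ x ∈ R, τ x ∈ R)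
    (hfix : ∀ x ∈ R, τ x = x → x = 1) : ∀ x ∈ R, τ x = x⁻¹ := by
  let f : R → R := fun x => ⟨(x : L)⁻¹ * τ x, mul_mem (inv_mem x.2) (hR _ x.2)⟩
  have hf : Function.Injective f := by
    intro a b e
    have e' : (a : L)⁻¹ * τ a = (b : L)⁻¹ * τ b := congrArg Subtype.val e
    have : τ ((b : L) * (a : L)⁻¹) = (b : L) * (a : L)⁻¹ := by
      rw [map_mul, map_inv]
      calc τ b * (τ a)⁻¹ = b * ((b : L)⁻¹ * τ b) * (τ a)⁻¹ := by group
        _ = (b : L) * (a : L)⁻¹ := by rw [← e']; group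
    exact Subtype.ext (mul_inv_eq_one.1 (hfix _ (mul_mem b.2 (inv_mem a.2)) this)).symm
  intro x hx
  obtain ⟨y, hy⟩ := (Finite.injective_iff_surjective.1 hf) ⟨x, hx⟩
  have e : (y : L)⁻¹ * τ y = x := congrArg Subtype.val hy
  rw [← e, map_mul, map_inv, hτ]
  group

theorem comm_of_fpf (hτ : ∀ x, τ (τ x) = x) {R : Subgroup L} (hR : ∀ x ∈ R, τ x ∈ R)
    (hfix : ∀ x ∈ R, τ x = x → x = 1) : ∀ x ∈ R, ∀ y ∈ R, x * y = y * x := by
  intro x hx y hy
  have h := inverted_of_fpf hτ hR hfix _ (mul_mem hx hy)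
  rw [map_mul, inverted_of_fpf hτ hR hfix x hx, inverted_of_fpf hτ hR hfix y hy, mul_inv_rev] at h
  have := congrArg (fun z => z⁻¹) h
  simp only [mul_inv_rev, inv_inv] at this
  exact this.symm

theorem exists_stable_sylow (hodd : Odd (Nat.card L)) (hτ : ∀ x, τ (τ x) = x) (p : ℕ)
    [Fact p.Prime] : ∃ S : Sylow p L, ∀ x ∈ S, τ x ∈ S := by
  classical
  haveI : Fintype (Sylow p L) := Fintype.ofFinite _
  have hcard : Odd (Nat.card (Sylow p L)) := hodd.of_dvd_nat
    ((Sylow.card_dvd_index (default : Sylow p L)).trans (index_dvd_card _))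
  let σ : Equiv.Perm (Sylow p L) := MulAction.toPerm τ
  haveI : Fact (Nat.Prime 2) := ⟨Nat.prime_two⟩
  obtain ⟨S, hS⟩ := Equiv.Perm.exists_fixed_point_of_prime (p := 2) (n := 1) (σ := σ)
    (by rw [← Nat.card_eq_fintype_card]; exact hcard.not_two_dvd_nat)
    (by
      ext S
      simp only [pow_one, sq, Equiv.Perm.mul_apply, σ, MulAction.toPerm_apply, ← mul_smul]
      rw [show τ * τ = 1 from MulEquiv.ext hτ, one_smul, Equiv.Perm.one_apply])
  refine ⟨S, fun x hx => ?_⟩
  rw [← hS]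
  show τ • x ∈ ((τ • S : Sylow p L) : Subgroup L)
  exact Set.smul_mem_smul_set hx

/-- The number of elements fixed by a normalising `p`-group. -/
theorem modEq_fixed {p : ℕ} [Fact p.Prime] {W R : Subgroup L} (hW : IsPGroup p W)
    (hWR : W ≤ normalizer (R : Set L)) :
    Nat.card R ≡ Nat.card {r : R // ∀ w ∈ W, w * (r : L) = (r : L) * w} [MOD p] := by
  letI : MulAction W R :=
    { smul := fun w r => ⟨(w : L) * r * (w : L)⁻¹, (mem_normalizer_iff.1 (hWR w.2) _).1 r.2⟩
      one_smul := fun r => Subtype.ext (by show (1 : L) * r * (1 : L)⁻¹ = r; simp)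
      mul_smul := fun v w r => Subtype.ext (by
        show ((v : L) * w) * r * ((v : L) * w)⁻¹ = (v : L) * ((w : L) * r * (w : L)⁻¹) * (v : L)⁻¹
        group) }
  have h := hW.card_modEq_card_fixedPoints R
  rwa [Nat.card_congr (Equiv.subtypeEquivRight
    (q := fun r : R => ∀ w ∈ W, w * (r : L) = (r : L) * w) fun r => ?_)] at h
  simp only [MulAction.mem_fixedPoints]
  exact ⟨fun h w hw => mul_inv_eq_iff_eq_mul.1 (congrArg Subtype.val (h ⟨w, hw⟩)),
    fun h w => Subtype.ext (mul_inv_eq_iff_eq_mul.2 (h w w.2))⟩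

theorem card_zpowers_pgroup {p : ℕ} [Fact p.Prime] {x : L} (hx : orderOf x = p) :
    IsPGroup p (zpowers x) :=
  IsPGroup.of_card (n := 1) (by rw [Nat.card_zpowers, hx, pow_one])

theorem pow_eq_of_comm {x y : L} (h : x * y = y * x) {z : L} (hz : z ∈ zpowers x) :
    z * y = y * z := by
  obtain ⟨k, rfl⟩ := mem_zpowers_iff.1 hz
  exact (Commute.zpow_left h k).eq

/-- A free action: twenty-five does not divide eighty. -/
theorem free_dvd {W R : Subgroup L} (hWR : W ≤ normalizer (R : Set L))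
    (hfree : ∀ w ∈ W, w ≠ 1 → ∀ r ∈ R, w * r = r * w → r = 1) :
    Nat.card W ∣ Nat.card {r : R // r ≠ 1} := by
  classical
  letI : MulAction W {r : R // r ≠ 1} :=
    { smul := fun w r => ⟨⟨(w : L) * r.1 * (w : L)⁻¹, (mem_normalizer_iff.1 (hWR w.2) _).1 r.1.2⟩,
        fun e => r.2 (Subtype.ext (conj_eq_one_iff.1 (congrArg Subtype.val e :)))⟩
      one_smul := fun r => Subtype.ext (Subtype.ext (by
        show (1 : L) * r.1 * (1 : L)⁻¹ = r.1; simp))
      mul_smul := fun v w r => Subtype.ext (Subtype.ext (by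
        show ((v : L) * w) * r.1 * ((v : L) * w)⁻¹ = (v : L) * ((w : L) * r.1 * (w : L)⁻¹) * (v : L)⁻¹
        group)) }
  have hs : ∀ r : {r : R // r ≠ 1}, MulAction.stabilizer W r = ⊥ := by
    intro r
    refine (eq_bot_iff_forall _).2 fun w hw => ?_
    by_contra hw1
    have e : (w : L) * r.1 * (w : L)⁻¹ = r.1 :=
      congrArg Subtype.val (congrArg Subtype.val (MulAction.mem_stabilizer_iff.1 hw))
    exact r.2 (Subtype.ext (hfree w w.2 (fun e => hw1 (Subtype.ext e)) _ r.1.2
      (mul_inv_eq_iff_eq_mul.1 e)))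
  haveI : Fintype (Quotient (MulAction.orbitRel W {r : R // r ≠ 1})) := Fintype.ofFinite _
  rw [Nat.card_congr (MulAction.selfEquivSigmaOrbitsQuotientStabilizer W {r : R // r ≠ 1}),
    Nat.card_sigma]
  refine Finset.dvd_sum fun q _ => ?_
  rw [← index_eq_card, hs, index_bot]

end CfsgLib.McLThree.Census
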