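import Cfsg.Agent.Lib.McLThree.CensusOddBasic

/-!
# An odd group with the local properties of the McLaughlin group at eleven and five
-/

set_option autoImplicit false
set_option linter.style.haveILetI false
set_option linter.unusedSectionVars false

namespace CfsgLib.McLThree.Census

open Subgroup

/-- The properties of an odd subgroup of the McLaughlin group with an automorphism of order two
that fixes few elements. -/
structure OddCtx (L : Type*) [Group L] [Finite L] (τ : MulAut L) : Prop where
  invol : ∀ x, τ (τ x) = x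
  odd : Odd (Nat.card L)
  card : Nat.card L = 22275 * Nat.card {x : L // τ x = x}
  dvd : Nat.card L ∣ 898128000
  c11 : ∀ x g : L, orderOf x = 11 → g * x = x * g → g ∈ zpowers x
  c5 : ∀ x n : L, orderOf x = 11 → orderOf n = 5 → n * x * n⁻¹ ∈ zpowers x →
    Nat.card (centralizer ({n} : Set L)) ≤ 25

variable {L : Type*} [Group L] [Finite L] {τ : MulAut L}

theorem ofCard_coe (p k m : ℕ) [hp : Fact p.Prime] (S : Subgroup L) (hm : ¬ p ∣ m)
    (hL : Nat.card L = p ^ k * m) (hS : Nat.card S = p ^ k) :
    ∃ P : Sylow p L, (P : Subgroup L) = S := by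
  refine ⟨Sylow.ofCard S ?_, rfl⟩
  rw [hS, hL, Nat.factorization_mul (pow_ne_zero _ hp.out.ne_zero) (fun h : m = 0 => hm (by simp [h])),
    Finsupp.add_apply, Nat.factorization_pow_self hp.out, Nat.factorization_eq_zero_of_not_dvd hm,
    add_zero]

theorem card_sylow_eq (p k m : ℕ) [hp : Fact p.Prime] (P : Sylow p L) (hm : ¬ p ∣ m)
    (hL : Nat.card L = p ^ k * m) : Nat.card P = p ^ k := by
  rw [Sylow.card_eq_multiplicity, hL,
    Nat.factorization_mul (pow_ne_zero _ hp.out.ne_zero) (fun h : m = 0 => hm (by simp [h])),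
    Finsupp.add_apply, Nat.factorization_pow_self hp.out, Nat.factorization_eq_zero_of_not_dvd hm,
    add_zero]

variable (X : OddCtx L τ)
include X

/-- An element of order eleven normalising a subgroup. -/
theorem OddCtx.no_act {x : L} (hx : orderOf x = 11) {S : Subgroup L}
    (hxS : x ∈ normalizer (S : Set L)) (h11 : ¬ 11 ∣ Nat.card S) : Nat.card S % 11 = 1 := by
  haveI : Fact (Nat.Prime 11) := ⟨by norm_num⟩
  have h := modEq_fixed (card_zpowers_pgroup hx) (R := S) (zpowers_le.2 hxS)
  have h1 : Nat.card {r : S // ∀ w ∈ zpowers x, w * (r : L) = (r : L) * w} = 1 := by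
    refine Nat.card_eq_one_iff_unique.2 ⟨⟨fun a b => ?_⟩, ⟨⟨1, fun w _ => by simp⟩⟩⟩
    have key : ∀ r : {r : S // ∀ w ∈ zpowers x, w * (r : L) = (r : L) * w}, ((r.1 : S) : L) = 1 := by
      intro r
      have hm := X.c11 x _ hx (r.2 x (mem_zpowers x)).symm
      by_contra hne
      apply h11
      have ho : orderOf ((r.1 : S) : L) = 11 := by
        have hd : orderOf ((r.1 : S) : L) ∣ 11 := hx ▸ Nat.card_zpowers x ▸
          Subgroup.orderOf_dvd_natCard _ hm
        rcases (Nat.dvd_prime (by norm_num)).1 hd with h | h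
        · exact absurd (orderOf_eq_one_iff.1 h) hne
        · exact h
      exact ho ▸ Subgroup.orderOf_dvd_natCard _ r.1.2
    exact Subtype.ext (Subtype.ext ((key a).trans (key b).symm))
  rw [h1] at h
  exact h

/-- A Sylow subgroup of a normal subgroup is normalised by an element of order eleven. -/
theorem OddCtx.sylow_mod (M : Subgroup L) [M.Normal] (h11 : ¬ 11 ∣ Nat.card M) (p k m : ℕ)
    [Fact p.Prime] (hm : ¬ p ∣ m) (hM : Nat.card M = p ^ k * m) (hp : p ≠ 11)
    (hL : 11 ∣ Nat.card L) : p ^ k % 11 = 1 := by
  haveI : Fact (Nat.Prime 11) := ⟨by norm_num⟩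
  let P : Sylow p M := default
  have hP : Nat.card ((P : Subgroup M).map M.subtype) = p ^ k := by
    rw [card_subtype]; exact card_sylow_eq p k m P hm hM
  have hF := Sylow.normalizer_sup_eq_top P
  set N := normalizer (((P : Subgroup M).map M.subtype : Subgroup L) : Set L) with hN
  have h11N : 11 ∣ Nat.card N := by
    by_contra hn
    have hd : Nat.card L ∣ Nat.card N * Nat.card M := by
      have hs : Function.Surjective ((QuotientGroup.mk' M).comp N.subtype) := by
        rw [← MonoidHom.range_eq_top, MonoidHom.range_comp, range_subtype]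
        have e : (N ⊔ M).map (QuotientGroup.mk' M) = ⊤ := by
          rw [hN, hF, map_top_of_surjective _ (QuotientGroup.mk'_surjective M)]
        rwa [Subgroup.map_sup, QuotientGroup.map_mk'_self, sup_bot_eq] at e
      rw [← card_mul_index M, mul_comm (Nat.card M), index_eq_card]
      exact Nat.mul_dvd_mul (card_dvd_of_surjective _ hs) dvd_rfl
    rcases (Nat.Prime.dvd_mul (by norm_num)).1 (hL.trans hd) with h | h
    · exact hn h
    · exact h11 h
  obtain ⟨x, hx⟩ := exists_prime_orderOf_dvd_card' (G := N) 11 h11N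
  have := X.no_act (x := (x : L)) (by rw [Subgroup.orderOf_coe, hx]) x.2 (by
    rw [hP]
    intro h
    exact hp ((Nat.prime_dvd_prime_iff_eq (by norm_num) (Fact.out)).1
      (Nat.Prime.dvd_of_dvd_pow (by norm_num) h)).symm)
  rwa [hP] at this

/-- The normaliser of a subgroup of order eleven. -/
theorem OddCtx.normalizer_eleven {a : L} (ha : orderOf a = 11) :
    Nat.card (normalizer (zpowers a : Set L)) = 11 ∨
      Nat.card (normalizer (zpowers a : Set L)) = 55 := by
  set N := normalizer (zpowers a : Set L) with hN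
  set φ := (zpowers a).normalizerMonoidHom with hφ
  have hker : Nat.card φ.ker = 11 := by
    rw [hφ, normalizerMonoidHom_ker, Nat.card_congr (subgroupOfEquivOfLe
      (centralizer_le_normalizer _)).toEquiv, show centralizer (zpowers a : Set L) = zpowers a from
        le_antisymm (fun g hg => X.c11 a g ha (mem_centralizer_iff.1 hg a (mem_zpowers a)).symm)
          (fun g hg => mem_centralizer_iff.2 fun w hw => by
            obtain ⟨i, rfl⟩ := mem_zpowers_iff.1 hg
            obtain ⟨j, rfl⟩ := mem_zpowers_iff.1 hw
            exact zpow_mul_comm a j i),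
      Nat.card_zpowers, ha]
  have hprod : Nat.card N = 11 * Nat.card φ.range := by
    rw [← card_mul_index φ.ker, index_ker, hker]
  have h10 : Nat.card φ.range ∣ 10 := by
    refine (card_subgroup_dvd_card _).trans ?_
    haveI : IsCyclic (zpowers a) := isCyclic_zpowers a
    rw [IsCyclic.card_mulAut, Nat.card_zpowers, ha, Nat.totient_prime (by norm_num)]
  have hodd : Odd (Nat.card φ.range) :=
    X.odd.of_dvd_nat ((dvd_mul_left _ 11).trans (hprod ▸ card_subgroup_dvd_card N))
  have hle := Nat.le_of_dvd (by norm_num) h10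
  obtain ⟨r, hr⟩ := h10
  obtain ⟨o, ho⟩ := hodd
  generalize Nat.card φ.range = n at *
  interval_cases n <;> omega

end CfsgLib.McLThree.Census
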