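import Cfsg.Agent.Lib.McLThree.CensusOdd

/-!
# The element of order five centralising a Sylow subgroup at three
-/

set_option autoImplicit false
set_option linter.style.haveILetI false
set_option linter.unusedSectionVars false
set_option maxHeartbeats 1000000

namespace CfsgLib.McLThree.Census

open Subgroup

variable {L : Type*} [Group L] [Finite L] {τ : MulAut L} (X : OddCtx L τ)
include X

/-- An element of order five commuting with the fixed one and centralising the normaliser of a
Sylow subgroup at three. -/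
theorem OddCtx.exists_big {f : L} (hf5 : orderOf f = 5)
    (hCf : Nat.card (centralizer ({f} : Set L)) ≤ 25) (hfix : ∀ x, τ x = x → x ∈ zpowers f) :
    ∃ (s : L) (R : Subgroup L), orderOf s = 5 ∧ f * s = s * f ∧ s ∉ zpowers f ∧
      Nat.card R = 81 ∧ normalizer (R : Set L) ≤ centralizer ({s} : Set L) ∧
      Nat.card (normalizer (R : Set L)) = 2025 := by
  haveI : Fact (Nat.Prime 11) := ⟨by norm_num⟩
  haveI : Fact (Nat.Prime 5) := ⟨by norm_num⟩
  haveI : Fact (Nat.Prime 3) := ⟨by norm_num⟩
  obtain ⟨-, hL, hN11⟩ := X.card_eq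
  have hinv := X.invol
  have hsmall : ∀ S : Subgroup L, (∀ x ∈ S, x * f = f * x) → Nat.card S ≤ 25 := fun S hS =>
    (card_le_of_le fun x hx => mem_centralizer_singleton_iff.2 (hS x hx)).trans hCf
  -- a fixed element of an invariant subgroup
  have hfree : ∀ S : Subgroup L, f ∉ S → ∀ x ∈ S, τ x = x → x = 1 := by
    intro S hS x hx he
    by_contra h1
    have hxo : orderOf x = 5 := by
      rcases (Nat.dvd_prime (by norm_num)).1 (hf5 ▸ Nat.card_zpowers f ▸
          Subgroup.orderOf_dvd_natCard _ (hfix x he)) with h | h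
      · exact absurd (orderOf_eq_one_iff.1 h) h1
      · exact h
    have e : zpowers x = zpowers f := eq_of_le_of_card_ge (zpowers_le.2 (hfix x he))
      (by rw [Nat.card_zpowers, Nat.card_zpowers, hxo, hf5])
    exact hS (zpowers_le.2 hx (e ▸ mem_zpowers f))
  -- a Sylow subgroup at three
  obtain ⟨R, hR⟩ := exists_stable_sylow X.odd hinv 3
  have hRc : Nat.card R = 81 := card_sylow_eq 3 4 1375 R (by norm_num) (by rw [hL]; norm_num)
  set R₀ : Subgroup L := (R : Subgroup L) with hR₀
  have hfR : f ∉ R₀ := fun h => by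
    have := Subgroup.orderOf_dvd_natCard _ h
    rw [hf5, hRc] at this
    norm_num at this
  have hRab := comm_of_fpf hinv hR (hfree R₀ hfR)
  -- Burnside
  have hburn : ¬ normalizer (R₀ : Set L) ≤ centralizer (R₀ : Set L) := by
    intro hNC
    have hcompl := MonoidHom.ker_transferSylow_isComplement' R hNC
    set M := (MonoidHom.transferSylow R hNC).ker with hMdef
    have hM : Nat.card M = 1375 := by
      have h := hcompl.card_mul_card
      rw [← hR₀, hRc, hL] at h
      omega
    obtain ⟨x, hx⟩ := exists_prime_orderOf_dvd_card' (G := M) 11 (by rw [hM]; norm_num)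
    obtain ⟨P, hP⟩ := ofCard_coe 11 1 125 (zpowers x) (by norm_num) (by rw [hM]; norm_num)
      (by rw [Nat.card_zpowers, hx, pow_one])
    have hidx := card_mul_index (normalizer (zpowers x : Set M))
    have hmod := card_sylow_modEq_one 11 M
    rw [Sylow.card_eq_index_normalizer P, ← P.coe_coe, hP] at hmod
    have h11 : 11 ∣ Nat.card (normalizer (zpowers x : Set M)) :=
      hx ▸ Nat.card_zpowers x ▸ card_dvd_of_le le_normalizer
    obtain ⟨r, hr⟩ := h11
    generalize hi : (normalizer (zpowers x : Set M)).index = i at hidx hmod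
    rw [hM, hr] at hidx
    have hi125 : i ∣ 125 := ⟨r, by nlinarith⟩
    have hi1 : i = 1 := by
      have hle := Nat.le_of_dvd (by norm_num) hi125
      unfold Nat.ModEq at hmod
      obtain ⟨q, hq⟩ := hi125
      interval_cases i <;> omega
    have hnorm : normalizer (zpowers x : Set M) = ⊤ := index_eq_one.1 (hi.trans hi1)
    have hle : M ≤ normalizer (zpowers (x : L) : Set L) := by
      intro g hg
      have e : (zpowers x).map M.subtype = zpowers (x : L) := MonoidHom.map_zpowers M.subtype x
      rw [← e]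
      exact le_normalizer_map M.subtype (mem_map_of_mem _ (hnorm ▸ mem_top (⟨g, hg⟩ : M)))
    have := card_le_of_le hle
    rw [hN11 _ (by rw [Subgroup.orderOf_coe, hx]), hM] at this
    norm_num at this
  -- the normaliser of `R`
  set NR := normalizer (R₀ : Set L) with hNR
  have hidxR := card_mul_index NR
  have hmod3 := card_sylow_modEq_one 3 L
  rw [Sylow.card_eq_index_normalizer R, ← R.coe_coe, ← hR₀, ← hNR] at hmod3
  have h81 : 81 ∣ Nat.card NR := hRc ▸ card_dvd_of_le le_normalizer
  have hNR' : Nat.card NR = 81 ∨ Nat.card NR = 2025 ∨ 11 ∣ Nat.card NR := by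
    obtain ⟨d, hd⟩ := h81
    rw [hd, hL] at hidxR
    have hd' : d ∣ 1375 := ⟨NR.index, by nlinarith⟩
    have hdd : d ∈ Nat.divisors 1375 := Nat.mem_divisors.2 ⟨hd', by norm_num⟩
    have e : NR.index = 1375 / d := by
      refine (Nat.div_eq_of_eq_mul_left (Nat.pos_of_dvd_of_pos hd' (by norm_num)) ?_).symm
      nlinarith
    have key : ∀ d ∈ Nat.divisors 1375, 1375 / d % 3 = 1 → d = 1 ∨ d = 25 ∨ 11 ∣ d := by
      decide +kernel
    unfold Nat.ModEq at hmod3
    rw [e] at hmod3
    rcases key d hdd hmod3 with rfl | rfl | h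
    · left; omega
    · right; left; omega
    · right; right; rw [hd]; exact dvd_mul_of_dvd_right h _
  rcases hNR' with h | h | h
  · refine False.elim (hburn ?_)
    have e : R₀ = NR := eq_of_le_of_card_ge le_normalizer (by rw [h, hRc])
    rw [← e]
    exact fun g hg => mem_centralizer_iff.2 fun w hw => hRab w hw g hg
  swap
  · obtain ⟨x, hx⟩ := exists_prime_orderOf_dvd_card' (G := NR) 11 h
    have := X.no_act (x := (x : L)) (by rw [Subgroup.orderOf_coe, hx]) x.2 (S := R₀)
      (by rw [hRc]; norm_num)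
    rw [hRc] at this
    norm_num at this
  -- some element of order five centralises `R`
  obtain ⟨W, hW⟩ := Sylow.exists_subgroup_card_pow_prime (G := NR) 5 (n := 2) (by rw [h]; norm_num)
  set W' : Subgroup L := W.map NR.subtype with hW'
  have hW'c : Nat.card W' = 25 := by rw [hW', card_subtype, hW]; norm_num
  have hW'N : W' ≤ NR := map_subtype_le W
  obtain ⟨s₀, hs₀W, hs₀1, hs₀R⟩ : ∃ s ∈ W', s ≠ 1 ∧ ∀ r ∈ R₀, s * r = r * s := by
    by_contra hno
    push Not at hno
    have hd := free_dvd (W := W') (R := R₀) hW'N (by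
      intro w hw hw1 r hr hwr
      by_contra hr1
      obtain ⟨r', hr', hne⟩ := hno w hw hw1
      set T := R₀ ⊓ centralizer ({w} : Set L) with hT
      have hTlt : Nat.card T < 81 := by
        refine lt_of_le_of_ne (hRc ▸ card_le_of_le inf_le_left) fun e => hne ?_
        have : T = R₀ := eq_of_le_of_card_ge inf_le_left (by rw [e, hRc])
        exact (mem_centralizer_singleton_iff.1 ((this ▸ hr' : r' ∈ T).2)).symm
      have hwp : IsPGroup 5 (zpowers w) :=
        (IsPGroup.of_card (n := 2) (by rw [hW'c]; norm_num : Nat.card W' = 5 ^ 2)).to_le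
          (zpowers_le.2 hw)
      have hmodw := modEq_fixed hwp (R := R₀) (zpowers_le.2 (hW'N hw))
      have eT : Nat.card {r : R₀ // ∀ v ∈ zpowers w, v * (r : L) = (r : L) * v} = Nat.card T :=
        Nat.card_congr
          { toFun := fun r => ⟨r.1.1, r.1.2,
              mem_centralizer_singleton_iff.2 (r.2 w (mem_zpowers w)).symm⟩
            invFun := fun r => ⟨⟨r.1, r.2.1⟩, fun v hv =>
              pow_eq_of_comm (mem_centralizer_singleton_iff.1 r.2.2).symm hv⟩
            left_inv := fun _ => rfl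
            right_inv := fun _ => rfl }
      rw [eT, hRc] at hmodw
      have hTd : Nat.card T ∣ 3 ^ 4 := by
        rw [show (3 : ℕ) ^ 4 = 81 by norm_num, ← hRc]
        exact card_dvd_of_le inf_le_left
      obtain ⟨k, hk, hke⟩ := (Nat.dvd_prime_pow (by norm_num)).1 hTd
      have hT1 : 1 < Nat.card T := Finite.one_lt_card_iff_nontrivial.2
        ⟨⟨r, hr, mem_centralizer_singleton_iff.2 hwr.symm⟩, 1,
          fun e => hr1 (congrArg Subtype.val e)⟩
      unfold Nat.ModEq at hmodw
      rw [hke] at hmodw hTlt hT1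
      interval_cases k <;> simp_all)
    have h80 : Nat.card {r : R₀ // r ≠ 1} = 80 := by
      classical
      haveI : Fintype R₀ := Fintype.ofFinite _
      rw [Nat.card_eq_fintype_card, Fintype.card_subtype_compl, Fintype.card_subtype_eq,
        ← Nat.card_eq_fintype_card, hRc]
    rw [hW'c, h80] at hd
    norm_num at hd
  -- the centraliser of `R`
  set CR := centralizer (R₀ : Set L) with hCR
  have hs₀C : s₀ ∈ CR := mem_centralizer_iff.2 fun r hr => (hs₀R r hr).symm
  have hRCR : R₀ ≤ CR := fun g hg => mem_centralizer_iff.2 fun w hw => hRab w hw g hg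
  have hfC : f ∉ CR := fun hf => by
    have := hsmall R₀ fun x hx => mem_centralizer_iff.1 hf x hx
    omega
  have hτCR : ∀ x ∈ CR, τ x ∈ CR := fun x hx => mem_centralizer_iff.2 fun r hr => by
    have e := congrArg τ (mem_centralizer_iff.1 hx (τ r) (hR r hr))
    rwa [map_mul, map_mul, hinv] at e
  have hCab := comm_of_fpf hinv hτCR (hfree CR hfC)
  have hCinv := inverted_of_fpf hinv hτCR (hfree CR hfC)
  have hCN : CR ≤ NR := centralizer_le_normalizer _
  obtain ⟨q, hq⟩ : 81 ∣ Nat.card CR := hRc ▸ card_dvd_of_le hRCR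
  have hqd : q ∣ 25 := Nat.dvd_of_mul_dvd_mul_left (by norm_num : 0 < 81)
    (by rw [← hq]; exact (card_dvd_of_le hCN).trans (dvd_of_eq (h.trans (by norm_num))))
  have hs₀5 : orderOf s₀ = 5 ∨ orderOf s₀ = 25 := by
    obtain ⟨k, hk, hke⟩ := (Nat.dvd_prime_pow (by norm_num : Nat.Prime 5)).1
      (by rw [show (5 : ℕ) ^ 2 = 25 by norm_num, ← hW'c]
          exact Subgroup.orderOf_dvd_natCard _ hs₀W : orderOf s₀ ∣ 5 ^ 2)
    interval_cases k
    · exact absurd (orderOf_eq_one_iff.1 (by simpa using hke)) hs₀1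
    · left; simpa using hke
    · right; simpa using hke
  have hord : orderOf s₀ ∣ 81 * q := hq ▸ Subgroup.orderOf_dvd_natCard _ hs₀C
  have hq5 : q = 5 := by
    have hle := Nat.le_of_dvd (by norm_num) hqd
    rcases (Nat.dvd_prime_pow (by norm_num : Nat.Prime 5)).1
      (by rw [show (5 : ℕ) ^ 2 = 25 by norm_num]; exact hqd : q ∣ 5 ^ 2) with ⟨k, hk, rfl⟩
    interval_cases k
    · exfalso
      rcases hs₀5 with e | e <;> rw [e] at hord <;> norm_num at hord
    · norm_num
    · exfalso
      refine hburn ?_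
      have e : CR = NR := eq_of_le_of_card_ge hCN (by rw [h, hq]; norm_num)
      exact e ▸ le_refl CR
  have hs5 : orderOf s₀ = 5 := by
    rcases hs₀5 with e | e
    · exact e
    · rw [e, hq5] at hord; norm_num at hord
  have huniq : ∀ x ∈ CR, x ^ 5 = 1 → x ∈ zpowers s₀ := by
    intro x hx hx5
    by_contra hxs
    have hx1 : x ≠ 1 := fun e => hxs (e ▸ one_mem _)
    have hxo : orderOf x = 5 := orderOf_eq_prime hx5 hx1
    set U := closure ({s₀, x} : Set L) with hU
    have hUle : U ≤ CR := (closure_le _).2 (Set.insert_subset hs₀C (Set.singleton_subset_iff.2 hx))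
    have hUp : IsPGroup 5 U := by
      intro u
      refine ⟨1, Subtype.ext ?_⟩
      rw [SubgroupClass.coe_pow, OneMemClass.coe_one, pow_one]
      obtain ⟨u, hu⟩ := u
      induction hu using closure_induction with
      | mem y hy =>
        rcases hy with rfl | rfl
        · exact hs5 ▸ pow_orderOf_eq_one _
        · exact hx5
      | one => exact one_pow 5
      | mul y z hy hz h1 h2 =>
        rw [Commute.mul_pow (hCab y (hUle hy) z (hUle hz)), h1, h2, one_mul]
      | inv y _ h1 => rw [inv_pow, h1, inv_one]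
    obtain ⟨k, hk⟩ := IsPGroup.iff_card.1 hUp
    have hdvd : 5 ^ k ∣ 81 * 5 := hk ▸ (hq5 ▸ hq) ▸ card_dvd_of_le hUle
    have hk1 : k ≤ 1 := by
      by_contra hk1
      have h25 : (5 : ℕ) ^ 2 ∣ 81 * 5 := (pow_dvd_pow 5 (by omega)).trans hdvd
      norm_num at h25
    have hlt : zpowers s₀ < U := lt_of_le_of_ne (zpowers_le.2 (subset_closure (by simp)))
      fun e => hxs (e ▸ subset_closure (by simp))
    have hcl : Nat.card (zpowers s₀) < Nat.card U :=
      lt_of_le_of_ne (card_le_of_le hlt.le) fun e => hlt.ne (eq_of_le_of_card_ge hlt.le e.ge)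
    rw [Nat.card_zpowers, hs5, hk] at hcl
    interval_cases k <;> omega
  set D := centralizer ({s₀} : Set L) with hD
  -- the normaliser of `R` centralises `s₀`
  have hND : NR ≤ D := by
    intro g hg
    have hgs : g * s₀ * g⁻¹ ∈ CR := mem_centralizer_iff.2 fun r hr => by
      have hr' : g⁻¹ * r * g ∈ R₀ := by
        have h2 := (mem_normalizer_iff.1 (inv_mem hg) r).1 hr
        rwa [inv_inv] at h2
      calc r * (g * s₀ * g⁻¹) = g * ((g⁻¹ * r * g) * s₀) * g⁻¹ := by group
        _ = g * (s₀ * (g⁻¹ * r * g)) * g⁻¹ := by rw [mem_centralizer_iff.1 hs₀C _ hr']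
        _ = g * s₀ * g⁻¹ * r := by group
    have hgn : g ∈ normalizer (zpowers s₀ : Set L) := by
      have hle : (zpowers s₀).map (MulAut.conj g).toMonoidHom = zpowers s₀ := by
        refine eq_of_le_of_card_ge ?_ (le_of_eq (card_map_of_injective (MulAut.conj g).injective).symm)
        rw [MonoidHom.map_zpowers, zpowers_le]
        exact huniq _ hgs (by
          show (g * s₀ * g⁻¹) ^ 5 = 1
          rw [conj_pow, ← hs5, pow_orderOf_eq_one, mul_one, mul_inv_cancel])
      refine mem_normalizer_iff.2 fun y => ?_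
      constructor
      · intro hy
        rw [← hle]
        exact ⟨y, hy, rfl⟩
      · intro hy
        rw [← hle] at hy
        obtain ⟨z, hz, e⟩ := hy
        have : z = y := (MulAut.conj g).injective e
        exact this ▸ hz
    set φ := (zpowers s₀).normalizerMonoidHom with hφ
    have h1 : φ ⟨g, hgn⟩ = 1 := by
      haveI : IsCyclic (zpowers s₀) := isCyclic_zpowers s₀
      have h4 : Nat.card (MulAut (zpowers s₀)) = 4 := by
        rw [IsCyclic.card_mulAut, Nat.card_zpowers, hs5, Nat.totient_prime (by norm_num)]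
      have ho : Odd (orderOf (φ ⟨g, hgn⟩)) := by
        refine (X.odd.of_dvd_nat (orderOf_dvd_natCard g)).of_dvd_nat ?_
        refine (orderOf_map_dvd φ _).trans (dvd_of_eq ?_)
        exact (Subgroup.orderOf_coe _).symm
      have hd : orderOf (φ ⟨g, hgn⟩) ∣ 4 := h4 ▸ orderOf_dvd_natCard _
      refine orderOf_eq_one_iff.1 (Nat.eq_one_of_dvd_coprimes ?_ dvd_rfl hd)
      exact (((Nat.coprime_two_right).2 ho).pow_right 2)
    have hk : (⟨g, hgn⟩ : normalizer (zpowers s₀ : Set L)) ∈ φ.ker := h1
    rw [hφ, normalizerMonoidHom_ker, mem_subgroupOf] at hk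
    exact mem_centralizer_singleton_iff.2 (mem_centralizer_iff.1 hk s₀ (mem_zpowers s₀)).symm
  have hτD : ∀ x ∈ D, τ x ∈ D := fun x hx => mem_centralizer_singleton_iff.2 (by
    have e := congrArg τ (mem_centralizer_singleton_iff.1 hx)
    rw [map_mul, map_mul, hCinv s₀ hs₀C] at e
    exact (Commute.inv_right_iff.1 e))
  have hfD : f ∈ D := by
    by_contra hfD
    have hab := comm_of_fpf hinv hτD (hfree D hfD)
    exact hburn fun g hg => mem_centralizer_iff.2 fun r hr =>
      hab r (hND (le_normalizer hr)) g (hND hg)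
  have hcomm : f * s₀ = s₀ * f := mem_centralizer_singleton_iff.1 hfD
  have hs₀f : s₀ ∉ zpowers f := fun hs => by
    have e : zpowers s₀ = zpowers f := eq_of_le_of_card_ge (zpowers_le.2 hs)
      (by rw [Nat.card_zpowers, Nat.card_zpowers, hs5, hf5])
    exact hfC (zpowers_le.2 hs₀C (e ▸ mem_zpowers f))
  have hDbig : 2025 ≤ Nat.card D := h ▸ card_le_of_le hND
  exact ⟨s₀, R₀, hs5, hcomm, hs₀f, hRc, hND, h⟩

end CfsgLib.McLThree.Census
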