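import Cfsg.Agent.Lib.McLThree.CentYCubeFrame
import Cfsg.Agent.Lib.Transfer.HallWielandt
import Cfsg.Agent.Lib.ThreeLocalChars.CubeByFour

/-!
# The case of even permutations
-/

set_option autoImplicit false
set_option linter.style.haveILetI false

namespace CfsgLib.McLThree.CubeAux

open Subgroup

universe u

variable {M : Type u} [Group M] {c : CubeConfig M} (F : Fours c)

theorem mem_J_iff {h : normalizer (c.J : Set M)} : (h : M) ∈ c.J ↔ (aff F h).1 = lone := by
  constructor
  · intro hh
    obtain ⟨v, hv⟩ := (c.mem_J _).1 hh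
    rw [aff_E F h v hv.symm]
  · intro e
    obtain ⟨-, ha, -⟩ := aff_spec F h
    rw [e] at ha
    exact (c.mem_J _).2 (eq_E_of_acts_lone c ha)

theorem aff_one : aff F 1 = (lone, 0) := aff_E F 1 0 (E_zero c).symm

theorem aff_pow (h : normalizer (c.J : Set M)) : ∀ n : ℕ,
    (aff F (h ^ n)).1 = (fun l => lmul (aff F h).1 l)^[n] lone
  | 0 => by rw [pow_zero, aff_one, Function.iterate_zero_apply]
  | n + 1 => by
    rw [pow_succ', aff_mul, Function.iterate_succ_apply', ← aff_pow h n]
    rfl

theorem cube_fixes : ∀ l : Lin, dtm l → l.1 = 1 → lmul l (lmul l (lmul l lone)) = lone → l = lone := by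
  decide +kernel

/-- An element with trivial cube fixing the three lines lies in the cube. -/
theorem mem_J_of_cube {h : normalizer (c.J : Set M)} (h3 : (h : M) ^ 3 = 1)
    (hp : (aff F h).1.1 = 1) : (h : M) ∈ c.J := by
  refine (mem_J_iff F).2 (cube_fixes _ (aff_spec F h).1 hp ?_)
  have e : h ^ 3 = 1 := Subtype.ext h3
  have := aff_pow F h 3
  rw [e, aff_one] at this
  exact this.symm

theorem self_eq_neg_sub : ∀ a : ZMod 3, a = -a - a := by decide

theorem kl_facts : ∀ i : Fin 3, ∀ v : Cube3, lact (dl i) v = ThreeLocalChars.flipOff i v := by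
  decide +kernel

variable (heven : ∀ h : normalizer (c.J : Set M), Equiv.Perm.sign (aff F h).1.1 = 1)

/-- The action on the three lines as a translation. -/
noncomputable def shift : normalizer (c.J : Set M) →* Multiplicative (ZMod 3) :=
  MonoidHom.mk' (fun h => Multiplicative.ofAdd ((aff F h).1.1 0 : ZMod 3)) fun g h => by
    show Multiplicative.ofAdd ((aff F (g * h)).1.1 0 : ZMod 3) = _
    rw [aff_mul]
    exact congrArg Multiplicative.ofAdd (even_shift _ _ (heven g) (heven h)).1

theorem perm_of_shift {h : normalizer (c.J : Set M)} (e : shift F heven h = 1) :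
    (aff F h).1.1 = 1 :=
  (even_shift _ 1 (heven h) (map_one _)).2 (Multiplicative.ofAdd.injective e)

variable [Finite M]

/-- Abelian subgroups of order 27 in a three-subgroup of the normalizer are the cube. -/
theorem eq_J_of_comm {A R : Subgroup M} (_hR : IsPGroup 3 R)
    (hRN : R ≤ normalizer (c.J : Set M)) (hA : A ≤ R) (hcard : Nat.card A = 27)
    (hexp : ∀ a ∈ A, a ^ 3 = 1) (hcomm : ∀ a ∈ A, ∀ b ∈ A, a * b = b * a)
    (heven : ∀ h : normalizer (c.J : Set M), Equiv.Perm.sign (aff F h).1.1 = 1) : A = c.J := by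
  have hJcard : Nat.card c.J = 27 := by
    rw [← Nat.card_congr (Equiv.ofBijective (fun v : Cube3 => (⟨c.E v, E_mem c v⟩ : c.J))
      ⟨fun v w e => c.inj (congrArg Subtype.val e),
        fun x => (c.mem_J _).1 x.2 |>.imp fun v hv => Subtype.ext hv⟩)]
    simp
  by_cases hall : ∀ a ∈ A, a ∈ c.J
  · exact eq_of_le_of_card_ge hall (by rw [hJcard, hcard])
  exfalso
  push Not at hall
  obtain ⟨x, hx, hxJ⟩ := hall
  let inc : A →* normalizer (c.J : Set M) := inclusion (hA.trans hRN)
  have hp : ¬ (aff F (inc ⟨x, hx⟩)).1.1 0 = 0 := fun e =>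
    hxJ (mem_J_of_cube F (h := inc ⟨x, hx⟩) (hexp x hx) ((even_shift _ 1 (heven _) (map_one _)).2 e))
  let θ : A →* Multiplicative (ZMod 3) := (shift F heven).comp inc
  have hker : ∀ a : θ.ker, ∃ v, c.E v = ((a : A) : M) ∧ lact (aff F (inc ⟨x, hx⟩)).1 v = v := by
    intro a
    have ha : ((a : A) : M) ∈ c.J :=
      mem_J_of_cube F (h := inc (a : A)) (hexp _ (a : A).2)
        (perm_of_shift F heven (MonoidHom.mem_ker.1 a.2))
    obtain ⟨v, hv⟩ := (c.mem_J _).1 ha
    refine ⟨v, hv, c.inj ?_⟩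
    rw [← (aff_spec F (inc ⟨x, hx⟩)).2.1 v, hv]
    show x * ((a : A) : M) * x⁻¹ = _
    rw [hcomm x hx _ (a : A).2, mul_inv_cancel_right]
  choose f hf hfix using hker
  have hinj : Function.Injective fun a : θ.ker => f a 0 := by
    intro a b e
    have hd : f a - f b = 0 := fixed_one_dim _ (aff_spec F _).1 (heven _) hp _
      (by rw [sub_eq_add_neg, lact_add, lact_neg, hfix, hfix]) (by simp [show f a 0 = f b 0 from e])
    refine Subtype.ext (Subtype.ext ?_)
    rw [← hf, ← hf, sub_eq_zero.1 hd]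
  have h1 : Nat.card θ.ker ≤ 3 :=
    (Nat.card_le_card_of_injective _ hinj).trans (le_of_eq (Nat.card_zmod 3))
  have h2 : θ.ker.index ≤ 3 := by
    rw [index_ker]
    exact (Finite.card_subtype_le _).trans (le_of_eq (Nat.card_zmod 3))
  have h3 := θ.ker.card_mul_index
  rw [hcard] at h3
  nlinarith

include heven in
/-- With even permutations only the normalizer is everything. -/
theorem top_of_even : normalizer (c.J : Set M) = ⊤ := by
  classical
  haveI : Fact (Nat.Prime 3) := ⟨Nat.prime_three⟩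
  set H := normalizer (c.J : Set M) with hH
  have hJH : c.J ≤ H := le_normalizer
  have hJcard : Nat.card c.J = 27 := by
    rw [← Nat.card_congr (Equiv.ofBijective (fun v : Cube3 => (⟨c.E v, E_mem c v⟩ : c.J))
      ⟨fun v w e => c.inj (congrArg Subtype.val e),
        fun x => (c.mem_J _).1 x.2 |>.imp fun v hv => Subtype.ext hv⟩)]
    simp
  have hJp : IsPGroup 3 c.J := IsPGroup.of_card (n := 3) (by rw [hJcard]; norm_num)
  obtain ⟨R₀, hR₀⟩ := (hJp.comap_of_injective H.subtype H.subtype_injective).exists_le_sylow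
  set R := (R₀ : Subgroup H).map H.subtype with hR
  have hRp : IsPGroup 3 R := R₀.isPGroup'.map _
  have hRH : R ≤ H := map_subtype_le _
  have hJR : c.J ≤ R := fun x hx => ⟨⟨x, hJH hx⟩, hR₀ hx, rfl⟩
  have huniq : ∀ g : M, c.J.map (MulAut.conj g).toMonoidHom ≤ R →
      c.J.map (MulAut.conj g).toMonoidHom = c.J := by
    intro g hg
    refine eq_J_of_comm F hRp hRH hg ?_ ?_ ?_ heven
    · rw [card_map_of_injective (MulEquiv.injective _), hJcard]
    · rintro _ ⟨a, ha, rfl⟩
      obtain ⟨v, rfl⟩ := (c.mem_J _).1 ha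
      rw [← map_pow, E_cube, map_one]
    · rintro _ ⟨a, ha, rfl⟩ _ ⟨b, hb, rfl⟩
      obtain ⟨v, rfl⟩ := (c.mem_J _).1 ha
      obtain ⟨w, rfl⟩ := (c.mem_J _).1 hb
      rw [← map_mul, ← map_mul, E_comm]
  obtain ⟨P, hP⟩ := hRp.exists_le_sylow
  have hPR : (P : Subgroup M) = R := by
    refine le_antisymm ?_ hP
    have hin : (P : Subgroup M) ⊓ H ≤ R := by
      have hp : IsPGroup 3 ↥((P : Subgroup M) ⊓ H : Subgroup M) := P.isPGroup'.to_le inf_le_left
      have := R₀.3 (hp.comap_of_injective H.subtype H.subtype_injective) fun x hx =>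
        ⟨hP ⟨x, hx, rfl⟩, x.2⟩
      intro x hx
      exact ⟨⟨x, hx.2⟩, this.le hx, rfl⟩
    have hnc : NormalizerCondition ↥(P : Subgroup M) :=
      haveI := P.isPGroup'.isNilpotent
      Group.normalizerCondition_of_isNilpotent
    have htop : R.subgroupOf (P : Subgroup M) = ⊤ := by
      by_contra hne
      obtain ⟨-, g, hgn, hg⟩ :=
        SetLike.lt_iff_le_and_exists.1 (hnc _ (lt_top_iff_ne_top.2 hne))
      refine hg (mem_subgroupOf.2 (hin ⟨g.2, ?_⟩))
      have hgR : ∀ x ∈ R, (g : M) * x * (g : M)⁻¹ ∈ R := fun x hx => by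
        have := (mem_normalizer_iff.1 hgn ⟨x, hP hx⟩).1 (mem_subgroupOf.2 hx)
        exact mem_subgroupOf.1 this
      have hgJ := huniq g (by rintro _ ⟨x, hx, rfl⟩; exact hgR x (hJR hx))
      refine mem_normalizer_fintype fun x hx => ?_
      exact hgJ.le ⟨x, hx, rfl⟩
    exact subgroupOf_eq_top.1 htop
  have hwc : Cfsg.IsWeaklyClosed c.J (P : Subgroup M) :=
    ⟨hPR ▸ hJR, fun g hg => huniq g (hPR ▸ hg)⟩
  have hPH : (P : Subgroup M) ≤ H := hPR ▸ hRH
  let θ := shift F heven
  have hnw : ∀ L : Subgroup M, c.J ≤ L → L ≤ (P : Subgroup M) →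
      CfsgLib.Transfer.NoWitness 3 (c.J.subgroupOf L) := by
    intro L hJL hLP M' z ψ hM hz hzM x hx h
    have hn : (c.J.subgroupOf L).Normal := ⟨fun a ha g => mem_subgroupOf.2 (by
      simpa using (mem_normalizer_iff.1 (hPH (hLP g.2)) (a : M)).1 (mem_subgroupOf.1 ha))⟩
    have h1 : CfsgLib.Transfer.engel z x ∈ c.J.subgroupOf L := by
      show x⁻¹ * z⁻¹ * x * z ∈ _
      refine mul_mem ?_ hz
      have := hn.conj_mem _ (inv_mem hz) x⁻¹
      simpa using this
    have e : (CfsgLib.Transfer.engel z)^[3 - 1] x = 1 := by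
      show CfsgLib.Transfer.engel z (CfsgLib.Transfer.engel z x) = 1
      obtain ⟨v, hv⟩ := (c.mem_J _).1 (mem_subgroupOf.1 h1)
      obtain ⟨w, hw⟩ := (c.mem_J _).1 (mem_subgroupOf.1 hz)
      refine Subtype.ext ?_
      show ((CfsgLib.Transfer.engel z x : L) : M)⁻¹ * (z : M)⁻¹ *
        ((CfsgLib.Transfer.engel z x : L) : M) * (z : M) = 1
      rw [← hv, ← hw, ← E_neg c, ← E_neg c, ← c.add, ← c.add, ← c.add, ← E_zero c]
      congr 1
      abel
    have : (⟨_, h⟩ : M') = 1 := Subtype.ext e
    rw [this, map_one]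
  have hres := CfsgLib.Transfer.hom_eq_one_on_residual P (Q := c.J) (H := H) rfl hwc hPH hnw θ
  set K := Cfsg.pResidual 3 M
  haveI hKn : K.Normal := CfsgLib.Transfer.pResidual_normal
  -- the elements of `K` in the normalizer fix the three lines
  have hK1 : ∀ h : H, (h : M) ∈ K → (aff F h).1.1 = 1 := by
    intro h hK
    refine perm_of_shift F heven ?_
    obtain ⟨n, b, hb, hn⟩ := Nat.exists_eq_pow_mul_and_not_dvd (orderOf_pos h).ne' 3 (by norm_num)
    have hbs : shift F heven (h ^ b) = 1 := by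
      have hp : IsPGroup 3 (zpowers (h ^ b)) := by
        refine IsPGroup.of_card (n := n) ?_
        rw [Nat.card_zpowers, orderOf_pow, hn, Nat.gcd_mul_left_left,
          Nat.mul_div_cancel _ (Nat.pos_of_ne_zero fun e => hb (by rw [e]; exact dvd_zero 3))]
      obtain ⟨S', hS'⟩ := hp.exists_le_sylow
      obtain ⟨g, hg⟩ := MulAction.exists_smul_eq H S' R₀
      have hm : g * h ^ b * g⁻¹ ∈ (R₀ : Subgroup H) := by
        rw [← hg, Sylow.smul_def]
        exact ⟨h ^ b, hS' (mem_zpowers _), rfl⟩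
      have hPm : ((g * h ^ b * g⁻¹ : H) : M) ∈ (P : Subgroup M) := hPR ▸ ⟨_, hm, rfl⟩
      have := hres _ hPm (by
        have := hKn.conj_mem _ (pow_mem hK b) (g : M)
        simpa using this)
      rw [show (⟨((g * h ^ b * g⁻¹ : H) : M), hPH hPm⟩ : H) = g * h ^ b * g⁻¹ from rfl,
        show θ = shift F heven from rfl, map_mul, map_mul, map_inv, mul_right_comm,
        mul_inv_cancel, one_mul] at this
      exact this
    rw [map_pow] at hbs
    have h3 : shift F heven h ^ 3 = 1 := by
      have hc : Nat.card (Multiplicative (ZMod 3)) = 3 := Nat.card_zmod 3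
      simpa only [hc] using pow_card_eq_one' (x := shift F heven h)
    have hco : Nat.Coprime b 3 := ((Nat.prime_three.coprime_iff_not_dvd).2 hb).symm
    have := pow_gcd_eq_one.2 ⟨hbs, h3⟩
    rwa [hco, pow_one] at this
  -- the four-group and the cube lie in `K`
  have huK : ∀ i, F.u i ∈ K := fun i => subset_closure (show Nat.Coprime (orderOf (F.u i)) 3 from
    Nat.Coprime.coprime_dvd_left (orderOf_dvd_of_pow_eq_one (by rw [pow_two, F.sq i]))
      (by norm_num))
  have hEK : ∀ v, c.E v ∈ K := by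
    have key : ∀ i w, c.E (lact (dl i) w - w) ∈ K := fun i w => by
      rw [sub_eq_add_neg, c.add, E_neg, ← F.acts i]
      have h1 : F.u i * c.E w * (F.u i)⁻¹ * (c.E w)⁻¹ =
          F.u i * (c.E w * (F.u i)⁻¹ * (c.E w)⁻¹) := by group
      rw [h1]
      exact mul_mem (huK i) (hKn.conj_mem _ (inv_mem (huK i)) _)
    intro v
    have : v = (lact (dl 0) (fun j => if j = 0 then 0 else v j) - fun j => if j = 0 then 0 else v j) +
        (lact (dl 1) (fun j => if j = 0 then v j else 0) - fun j => if j = 0 then v j else 0) := by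
      funext j
      simp only [Pi.add_apply, Pi.sub_apply, lact_dl]
      fin_cases j <;> simp <;> exact self_eq_neg_sub _
    rw [this, c.add]
    exact mul_mem (key 0 _) (key 1 _)
  -- the subgroup `3³ : 2²` of `K`
  set H₁ : Subgroup K := H.subgroupOf K with hH₁
  have huH : ∀ i, F.u i ∈ H := fun i => (F.acts i).mem_norm c
  let cube : ThreeLocalChars.FourOnCube H₁ :=
    { E := fun v => ⟨c.E v, hEK v⟩
      U := fun i => ⟨F.u i, huK i⟩
      E_mem := fun v => mem_subgroupOf.2 (hJH (E_mem c v))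
      U_mem := fun i => mem_subgroupOf.2 (huH i)
      E_add := fun v w => Subtype.ext (c.add v w)
      U_sq := fun i => Subtype.ext (F.sq i)
      U_conj := fun i v => Subtype.ext (by
        show F.u i * c.E v * F.u i = c.E (ThreeLocalChars.flipOff i v)
        rw [← kl_facts, ← F.acts i, inv_eq_of_mul_eq_one_right (F.sq i)])
      U_mul := fun i j h => Subtype.ext (F.mul i j h)
      exhaust := fun x hx => by
        have hp := hK1 ⟨x, hx⟩ x.2
        obtain ⟨hd, ha, hs⟩ := aff_spec F ⟨(x : M), hx⟩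
        refine ⟨(aff F ⟨(x : M), hx⟩).2, ?_⟩
        rcases perm_one _ hd hp with e | ⟨i, e⟩
        · left
          obtain ⟨w, hw⟩ := eq_E_of_acts_lone c (e ▸ ha)
          refine Subtype.ext ?_
          rw [aff_E F ⟨(x : M), hx⟩ w hw.symm]
          exact hw.symm
        · right
          refine ⟨i, Subtype.ext ?_⟩
          show (x : M) = c.E _ * F.u i
          have h1 : Acts c ((c.E (aff F ⟨(x : M), hx⟩).2)⁻¹ * (x : M) * F.u i) lone := by
            rw [← (dl_facts i i).2.2.1]
            exact (e ▸ hs.1 : Acts c _ (dl i)).mul c (F.acts i)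
          obtain ⟨w, hw⟩ := eq_E_of_acts_lone c h1
          have hst : Stab F (c.E w) (lmul (aff F ⟨(x : M), hx⟩).1 (dl i)) := by
            rw [hw]
            refine hs.mul F ⟨F.acts i, fun j => ?_⟩
            show F.u i * F.u j * (F.u i)⁻¹ = F.u j
            rw [inv_eq_of_mul_eq_one_right (F.sq i)]
            by_cases hij : i = j
            · subst hij; rw [F.sq, one_mul]
            · rw [F.mul i j hij]
              have := F.mul (-(i + j)) i ((by decide : ∀ a b : Fin 3, ¬ a = b → -(a + b) ≠ a) i j hij)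
              rw [this]
              exact congrArg F.u ((by decide : ∀ a b : Fin 3, -(-(a + b) + a) = b) i j)
          rw [stab_E F hst, E_zero] at hw
          rw [← mul_inv_eq_iff_eq_mul, inv_eq_of_mul_eq_one_right (F.sq i)]
          rw [mul_assoc] at hw
          exact (inv_mul_eq_one.1 hw.symm).symm
      E_inj := fun v w e => c.inj (congrArg Subtype.val e)
      U_not := fun i v e => by
        refine (dl_facts i i).2.1 ((F.acts i).unique c ?_)
        rw [show F.u i = c.E v from congrArg Subtype.val e]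
        exact acts_E c v }
  have hemb : ThreeLocalChars.Embedded cube := by
    refine ⟨fun g hg => mem_subgroupOf.2 (mem_normalizer_fintype fun x hx => ?_),
      fun v g hv hg => mem_subgroupOf.2 (c.cent v hv (mem_centralizer_singleton_iff.2
        (congrArg Subtype.val hg)))⟩
    obtain ⟨v, rfl⟩ := (c.mem_J _).1 hx
    obtain ⟨w, hw⟩ := hg v
    have e : (g : M) * c.E v * (g : M)⁻¹ = c.E w := congrArg Subtype.val hw
    show (g : M) * c.E v * (g : M)⁻¹ ∈ c.J
    rw [e]
    exact E_mem c w
  haveI : Fintype ↥K := Fintype.ofFinite _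
  have hKH : K ≤ H := subgroupOf_eq_top.1 (cube.eq_top hemb)
  rw [eq_top_iff]
  intro g _
  refine mem_normalizer_fintype fun x hx => ?_
  obtain ⟨v, rfl⟩ := (c.mem_J _).1 hx
  have hmem : g * c.E v * g⁻¹ ∈ K := hKn.conj_mem _ (hEK v) g
  exact mem_J_of_cube F (h := ⟨_, hKH hmem⟩)
    (by show (g * c.E v * g⁻¹) ^ 3 = 1; rw [conj_pow, E_cube, mul_one, mul_inv_cancel])
    (hK1 _ hmem)

end CfsgLib.McLThree.CubeAux
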