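import Cfsg.Agent.Lib.McLThree.CentYDefs
import Cfsg.Agent.Lib.ANineThree.Basic

/-!
# Affine monomial maps of the cube and their action on nine points

The point `(i, r)` stands for the plane where coordinate `i` equals `r`.
-/

set_option autoImplicit false
set_option maxRecDepth 100000
set_option synthInstance.maxSize 4000
set_option synthInstance.maxHeartbeats 400000

namespace CfsgLib.McLThree.CubeAux

open Equiv

/-- A permutation of the coordinates with signs. -/
abbrev Lin : Type := Perm (Fin 3) × (Fin 3 → Bool)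

/-- A linear part with a translation. -/
abbrev Aff : Type := Lin × Cube3

/-- The sign. -/
def sg (b : Bool) : ZMod 3 := if b then -1 else 1

theorem sg_xor : ∀ a b, sg (xor a b) = sg a * sg b := by decide

theorem sg_mul_self : ∀ a, sg a * sg a = 1 := by decide

/-- The linear action. -/
def lact (l : Lin) (v : Cube3) : Cube3 := fun i => sg (l.2 i) * v (l.1.symm i)

/-- Composition. -/
def lmul (a b : Lin) : Lin := (a.1 * b.1, fun i => xor (a.2 i) (b.2 (a.1.symm i)))

/-- The identity. -/
def lone : Lin := (1, fun _ => false)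

/-- The map keeping one coordinate and negating the others. -/
def dl (i : Fin 3) : Lin := (1, fun j => decide (j ≠ i))

/-- The determinant is one. -/
def dtm (l : Lin) : Prop :=
  ((Perm.sign l.1 : ℤˣ) : ℤ) * ∏ i, (if l.2 i then (-1 : ℤ) else 1) = 1

instance : DecidablePred dtm := fun _ => inferInstanceAs (Decidable (_ = _))

theorem lact_mul (a b : Lin) (v : Cube3) : lact (lmul a b) v = lact a (lact b v) := by
  funext i
  show sg (xor (a.2 i) (b.2 (a.1.symm i))) * v ((a.1 * b.1).symm i) = _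
  rw [sg_xor, show (a.1 * b.1).symm i = b.1.symm (a.1.symm i) from rfl, mul_assoc]
  rfl

theorem lact_lone (v : Cube3) : lact lone v = v := by
  funext i
  simp [lact, lone, sg, Perm.one_symm]

theorem lact_add (l : Lin) (v w : Cube3) : lact l (v + w) = lact l v + lact l w := by
  funext i
  simp [lact, mul_add]

theorem lact_neg (l : Lin) (v : Cube3) : lact l (-v) = -lact l v := by
  funext i
  simp [lact]

theorem lact_zero (l : Lin) : lact l 0 = 0 := by
  funext i
  simp [lact]

theorem lact_inj : ∀ a b : Lin,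
    (∀ i : Fin 3, lact a (Pi.single i 1) = lact b (Pi.single i 1)) → a = b := by decide +kernel

theorem lin_ext {a b : Lin} (h : ∀ v, lact a v = lact b v) : a = b :=
  lact_inj a b fun _ => h _

theorem lact_dl (i : Fin 3) (v : Cube3) (j : Fin 3) :
    lact (dl i) v j = if j = i then v j else -v j := by
  by_cases h : j = i <;> simp [lact, dl, sg, h, Perm.one_symm]

theorem dl_facts : ∀ i j : Fin 3, dtm (dl i) ∧ dl i ≠ lone ∧ lmul (dl i) (dl i) = lone ∧
    (dl i = dl j → i = j) ∧ (i ≠ j → lmul (dl i) (dl j) = dl (-(i + j))) := by decide +kernel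

theorem dl_conj : ∀ (l : Lin) (i : Fin 3), lmul l (dl i) = lmul (dl (l.1 i)) l := by decide +kernel

theorem perm_one : ∀ l : Lin, dtm l → l.1 = 1 → l = lone ∨ ∃ i, l = dl i := by decide +kernel

theorem lmul_lone : ∀ l : Lin, lmul l lone = l ∧ lmul lone l = l := by decide +kernel

theorem exists_lquot : ∀ a b : Lin, dtm a → dtm b → Perm.sign a.1 = -1 → Perm.sign b.1 = -1 →
    ∃ c : Lin, dtm c ∧ Perm.sign c.1 = 1 ∧ lmul a c = b := by decide +kernel

theorem even_shift : ∀ a b : Perm (Fin 3), Perm.sign a = 1 → Perm.sign b = 1 →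
    (a * b) 0 = a 0 + b 0 ∧ (a 0 = 0 → a = 1) := by decide +kernel

theorem exists_shift : ∃ l : Lin, dtm l ∧ Perm.sign l.1 = 1 ∧ ¬ l.1 0 = 0 := by decide +kernel

theorem fixed_one_dim : ∀ l : Lin, dtm l → Perm.sign l.1 = 1 → ¬ l.1 0 = 0 →
    ∀ v : Cube3, lact l v = v → v 0 = 0 → v = 0 := by decide +kernel

/-- An affine map of a block. -/
def blockPerm (b : Bool) (c : ZMod 3) : Perm (ZMod 3) where
  toFun r := sg b * r + c
  invFun r := sg b * (r - c)
  left_inv r := by
    show sg b * (sg b * r + c - c) = r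
    rw [add_sub_cancel_right, ← mul_assoc, sg_mul_self, one_mul]
  right_inv r := by
    show sg b * (sg b * (r - c)) + c = r
    rw [← mul_assoc, sg_mul_self, one_mul, sub_add_cancel]

/-- The numbering of the points. -/
abbrev pt : Fin 3 × ZMod 3 ≃ Fin 9 := finProdFinEquiv

/-- The permutation of the nine points. -/
def pf (d : Aff) : ANineThree.P9 :=
  pt.permCongr
    ((Equiv.prodCongrRight fun i => blockPerm (d.1.2 (d.1.1 i)) (d.2 (d.1.1 i))).trans
      (d.1.1.prodCongr (Equiv.refl _)))

theorem pf_apply (d : Aff) (i : Fin 3) (r : ZMod 3) :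
    pf d (pt (i, r)) = pt (d.1.1 i, sg (d.1.2 (d.1.1 i)) * r + d.2 (d.1.1 i)) := by
  simp [pf, Equiv.permCongr_apply, Equiv.prodCongrRight, blockPerm]

/-- Composition of affine maps. -/
def amul (a b : Aff) : Aff := (lmul a.1 b.1, a.2 + lact a.1 b.2)

theorem pf_mul (a b : Aff) : pf (amul a b) = pf a * pf b := by
  refine Equiv.ext fun k => ?_
  obtain ⟨⟨i, r⟩, rfl⟩ := pt.surjective k
  rw [Perm.mul_apply, pf_apply b i r, pf_apply a, pf_apply (amul a b)]
  refine congrArg _ (Prod.ext rfl ?_)
  show sg (xor (a.1.2 (a.1.1 (b.1.1 i))) (b.1.2 (a.1.1.symm (a.1.1 (b.1.1 i))))) * r +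
      (a.2 (a.1.1 (b.1.1 i)) + sg (a.1.2 (a.1.1 (b.1.1 i))) * b.2 (a.1.1.symm (a.1.1 (b.1.1 i))))
    = _
  rw [Equiv.symm_apply_apply, sg_xor]
  ring

theorem pf_facts : ∀ d : Aff, dtm d.1 → pf d ∈ ANineThree.Hm ∧ (pf d = 1 → d = (lone, 0)) := by
  decide +kernel

theorem pf_InJ : ∀ d : Aff, dtm d.1 →
    (((pf d) ^ 3 = 1 ∧ ∀ i : Fin 9, (pf d i).1 / 3 = i.1 / 3) ↔ d.1 = lone) := by
  decide +kernel

theorem pf_gens : pf (lone, Pi.single 0 1) = ANineThree.z ∧
    pf (lone, Pi.single 1 1) = ANineThree.z2 ∧ pf (lone, Pi.single 2 1) = ANineThree.z3 := by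
  decide +kernel

theorem card_aff : Fintype.card {d : Aff // dtm d.1} = 648 := by decide +kernel

end CfsgLib.McLThree.CubeAux
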