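import Cfsg.Agent.Lib.McLThree.CentYCubeFour
import Cfsg.Agent.Lib.ANineThree.Local
import Cfsg.Agent.Lib.ANineThree.CaseB
import Cfsg.Agent.Lib.ANineThree.CaseC
import Cfsg.Agent.Lib.ANineThree.CaseCModel

/-!
# The case of an odd permutation
-/

set_option autoImplicit false
set_option linter.style.haveILetI false

namespace CfsgLib.McLThree.CubeAux

open Subgroup CfsgLib.ANineThree

universe u

variable {M : Type u} [Group M] [Finite M] {c : CubeConfig M} (F : Fours c)

theorem aff_surjective (hodd : ∃ h : normalizer (c.J : Set M),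
    Equiv.Perm.sign (aff F h).1.1 = -1) (d : Aff) (hd : dtm d.1) : ∃ h, aff F h = d := by
  have h0 : ∃ h : M, Acts c h d.1 := by
    rcases Int.units_eq_one_or (Equiv.Perm.sign d.1.1) with e | e
    · exact exists_even c hd e
    · obtain ⟨h, hh⟩ := hodd
      obtain ⟨l, hl, hle, hmul⟩ := exists_lquot _ _ (aff_spec F h).1 hd hh e
      obtain ⟨g, hg⟩ := exists_even c hl hle
      exact ⟨(h : M) * g, hmul ▸ (aff_spec F h).2.1.mul c hg⟩
  obtain ⟨h, hh⟩ := h0
  obtain ⟨t, ht⟩ := exists_split F hh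
  have hk : Acts c (c.E d.2 * ((c.E t)⁻¹ * h)) d.1 := by
    have := (acts_E c d.2).mul c ht.1
    rwa [(lmul_lone d.1).2] at this
  exact ⟨⟨_, hk.mem_norm c⟩, aff_eq F (by rw [inv_mul_cancel_left]; exact ht)⟩

/-- The map onto the model. -/
noncomputable def toModel : normalizer (c.J : Set M) →* Hm :=
  (points F).codRestrict Hm (points_mem F)

theorem toModel_bijective (hodd : ∃ h : normalizer (c.J : Set M),
    Equiv.Perm.sign (aff F h).1.1 = -1) : Function.Bijective (toModel F) := by
  have hinj : Function.Injective (toModel F) := fun g h e =>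
    points_injective F (congrArg Subtype.val e)
  refine ⟨hinj, ?_⟩
  let ψ : {d : Aff // dtm d.1} → Hm := fun d => ⟨pf d.1, (pf_facts _ d.2).1⟩
  have hψ : Function.Injective ψ := by
    rintro ⟨d, hd⟩ ⟨d', hd'⟩ e
    obtain ⟨g, rfl⟩ := aff_surjective F hodd d hd
    obtain ⟨g', rfl⟩ := aff_surjective F hodd d' hd'
    obtain rfl := points_injective F (show points F g = points F g' from congrArg Subtype.val e)
    rfl
  have hc : Nat.card {d : Aff // dtm d.1} = Nat.card Hm := by
    rw [Nat.card_eq_fintype_card, card_aff, LocalAux.card_Hm]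
  intro σ
  obtain ⟨⟨d, hd⟩, rfl⟩ := ((Nat.bijective_iff_injective_and_card ψ).2 ⟨hψ, hc⟩).2 σ
  obtain ⟨g, rfl⟩ := aff_surjective F hodd d hd
  exact ⟨g, rfl⟩

theorem toModel_InJ (h : normalizer (c.J : Set M)) : InJ (toModel F h) ↔ (h : M) ∈ c.J := by
  rw [mem_J_iff F]
  exact pf_InJ _ (aff_spec F h).1

theorem toModel_E {h : normalizer (c.J : Set M)} {i : Fin 3}
    (e : (h : M) = c.E (Pi.single i 1)) : toModel F h = ![zH, z2H, z3H] i := by
  refine Subtype.ext ?_
  show pf (aff F h) = _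
  rw [aff_E F h _ e]
  fin_cases i
  · exact pf_gens.1
  · exact pf_gens.2.1
  · exact pf_gens.2.2

/-- A subgroup of order prime to three normalised by the cube inside the normalizer is trivial. -/
theorem signalizer_eq_bot {W : Subgroup M} (hW : (Nat.card W).Coprime 3)
    (hle : W ≤ normalizer (c.J : Set M)) (hn : ∀ x ∈ c.J, ∀ w ∈ W, x * w * x⁻¹ ∈ W) : W = ⊥ := by
  haveI : Fact (Nat.Prime 3) := ⟨Nat.prime_three⟩
  have hdis : ∀ y ∈ W, y ∈ c.J → y = 1 := by
    intro y hy hyJ
    obtain ⟨v, rfl⟩ := (c.mem_J _).1 hyJ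
    have h1 : orderOf (c.E v) ∣ 1 := by
      rw [← hW]
      exact Nat.dvd_gcd (orderOf_dvd_natCard _ hy) (orderOf_dvd_of_pow_eq_one (E_cube c v))
    exact orderOf_eq_one_iff.1 (Nat.dvd_one.1 h1)
  refine eq_bot_iff.2 fun w hw => Subgroup.mem_bot.2 ?_
  have hwJ : w ∈ c.J := c.selfc (mem_centralizer_iff.2 fun x hx => by
    have h2 := hdis (x * w * x⁻¹ * w⁻¹) (W.mul_mem (hn x hx w hw) (inv_mem hw)) (by
      have h3 := (mem_normalizer_iff.1 (hle hw) x⁻¹).1 (inv_mem hx)
      have h4 := mul_mem hx h3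
      simpa [mul_assoc] using h4)
    rwa [mul_inv_eq_one, mul_inv_eq_iff_eq_mul] at h2)
  exact hdis w hw hwJ

/-- The core of the centralizer of a conjugate of a cube element is trivial. -/
theorem core_eq_bot {x g : M} {v : Cube3} (hv : v ≠ 0) (hx : g * x * g⁻¹ = c.E v) :
    Cfsg.pPrimeCore 3 (centralizer ({x} : Set M)) = ⊥ := by
  set C := centralizer ({x} : Set M) with hC
  set W₀ := Cfsg.pPrimeCore 3 C
  haveI : W₀.Normal := Cfsg.pPrimeCore_normal 3 C
  set W := (W₀.map C.subtype).map (MulAut.conj g).toMonoidHom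
  have hcop : (Nat.card W).Coprime 3 := by
    rw [card_map_of_injective (MulEquiv.injective _),
      card_map_of_injective C.subtype_injective]
    exact CfsgLib.Base.pPrimeCore_coprime 3 C
  have hmem : ∀ y, y ∈ centralizer ({c.E v} : Set M) → g⁻¹ * y * g ∈ C := by
    intro y hy
    rw [hC, mem_centralizer_singleton_iff]
    have e : x = g⁻¹ * c.E v * g := by rw [← hx]; group
    rw [mem_centralizer_singleton_iff] at hy
    rw [e]
    calc g⁻¹ * y * g * (g⁻¹ * c.E v * g) = g⁻¹ * (y * c.E v) * g := by group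
      _ = g⁻¹ * (c.E v * y) * g := by rw [hy]
      _ = g⁻¹ * c.E v * g * (g⁻¹ * y * g) := by group
  have hle : W ≤ normalizer (c.J : Set M) := by
    refine le_trans ?_ (c.cent v hv)
    rintro _ ⟨_, ⟨⟨y, hy⟩, -, rfl⟩, rfl⟩
    rw [hC, mem_centralizer_singleton_iff] at hy
    refine mem_centralizer_singleton_iff.2 ?_
    show g * y * g⁻¹ * c.E v = c.E v * (g * y * g⁻¹)
    rw [← hx]
    calc g * y * g⁻¹ * (g * x * g⁻¹) = g * (y * x) * g⁻¹ := by group
      _ = g * (x * y) * g⁻¹ := by rw [hy]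
      _ = g * x * g⁻¹ * (g * y * g⁻¹) := by group
  have hn : ∀ j ∈ c.J, ∀ w ∈ W, j * w * j⁻¹ ∈ W := by
    rintro j hj _ ⟨_, ⟨y, hy, rfl⟩, rfl⟩
    obtain ⟨u, rfl⟩ := (c.mem_J _).1 hj
    have hjC : g⁻¹ * c.E u * g ∈ C := hmem _ (mem_centralizer_singleton_iff.2 (E_comm c u v))
    refine ⟨_, ⟨⟨_, hjC⟩ * y * ⟨_, hjC⟩⁻¹, Subgroup.Normal.conj_mem inferInstance y hy _, rfl⟩, ?_⟩
    show g * (g⁻¹ * c.E u * g * (y : M) * (g⁻¹ * c.E u * g)⁻¹) * g⁻¹ =
      c.E u * (g * (y : M) * g⁻¹) * (c.E u)⁻¹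
    group
  have hW := signalizer_eq_bot hcop hle hn
  rw [map_eq_bot_iff_of_injective _ (MulEquiv.injective _),
    map_eq_bot_iff_of_injective _ C.subtype_injective] at hW
  exact hW

open CfsgLib.CubeSFour (cconj idc KL) in
open Cfsg.Agent.S3702 (enc) in
theorem outside_conj_p {b : Hm} (h3 : (b : P9) ^ 3 = 1) (hb : ¬ InJ b) :
    ∃ d : Hm, d * b * d⁻¹ = pH := by
  have hbJ : ¬ CfsgLib.CubeSFour.inJ (enc (b : P9)) = true := fun e =>
    hb ((CaseB.inJ_iff_InJ b).1 e)
  have h := List.all_eq_true.mp CaseB.out_reps _ (CaseB.enc_mem_KL b.2)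
  rw [← Cfsg.Agent.S3702.enc_pow, h3, Cfsg.Agent.S3702.enc_one, beq_self_eq_true,
    Bool.not_true, Bool.false_or, Bool.eq_false_iff.2 hbJ, Bool.false_or] at h
  obtain ⟨k, hk, hk'⟩ := List.any_eq_true.mp h
  obtain ⟨d, hd⟩ := CaseB.exists_conj_code (a := b) hk
  exact ⟨d, Subtype.ext (Cfsg.Agent.S3702.enc_injective (hd.trans (beq_iff_eq.mp hk')))⟩

theorem zH_ne_one : zH ≠ 1 := decide_eq_true_iff.1 (by decide +kernel)

/-- With an odd permutation only the normalizer is everything. -/
theorem top_of_odd (hodd : ∃ h : normalizer (c.J : Set M),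
    Equiv.Perm.sign (aff F h).1.1 = -1) : normalizer (c.J : Set M) = ⊤ := by
  set H := normalizer (c.J : Set M) with hH
  let φ : H ≃* Hm := MulEquiv.ofBijective (toModel F) (toModel_bijective F hodd)
  let e : Hm →* M := H.subtype.comp φ.symm.toMonoidHom
  have hinj : Function.Injective e := H.subtype_injective.comp φ.symm.injective
  have hrange : e.range = H := by
    rw [MonoidHom.range_comp, MonoidHom.range_eq_top.2 φ.symm.surjective, ← MonoidHom.range_eq_map,
      Subgroup.range_subtype]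
  have he : ∀ h : Hm, e h ∈ c.J ↔ InJ h := fun h => by
    have := toModel_InJ F (φ.symm h)
    rw [show toModel F (φ.symm h) = h from φ.apply_symm_apply h] at this
    exact this.symm
  have hEg : ∀ i, e (![zH, z2H, z3H] i) = c.E (Pi.single i 1) := by
    intro i
    have hm : c.E (Pi.single i 1) ∈ H := le_normalizer (E_mem c _)
    rw [← toModel_E F (h := ⟨_, hm⟩) rfl]
    exact congrArg Subtype.val (φ.symm_apply_apply ⟨_, hm⟩)
  have hJ : closure ({e zH, e z2H, e z3H} : Set M) = c.J := by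
    refine le_antisymm ((closure_le _).2 ?_) ?_
    · rintro x (rfl | rfl | rfl)
      exacts [hEg 0 ▸ E_mem c _, hEg 1 ▸ E_mem c _, hEg 2 ▸ E_mem c _]
    · intro x hx
      obtain ⟨v, rfl⟩ := (c.mem_J _).1 hx
      have hn : ∀ i (a : ZMod 3), c.E (Pi.single i a) ∈ closure ({e zH, e z2H, e z3H} : Set M) := by
        intro i a
        have h1 : c.E (Pi.single i 1) ∈ closure ({e zH, e z2H, e z3H} : Set M) := by
          rw [← hEg]
          refine subset_closure ?_
          fin_cases i <;> simp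
        have : (Pi.single i a : Cube3) = a.val • Pi.single i 1 := by
          funext j
          by_cases hij : j = i
          · subst hij; simp
          · simp [hij]
        rw [this]
        clear this
        induction a.val with
        | zero => rw [zero_smul, E_zero]; exact one_mem _
        | succ n ih => rw [succ_nsmul, c.add]; exact mul_mem ih h1
      rw [show v = Pi.single 0 (v 0) + Pi.single 1 (v 1) + Pi.single 2 (v 2) by
        funext j; fin_cases j <;> simp, c.add, c.add]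
      exact mul_mem (mul_mem (hn _ _) (hn _ _)) (hn _ _)
  have hne : ∀ {h : Hm}, h ≠ 1 → e h ∈ c.J → ∃ v, v ≠ 0 ∧ c.E v = e h := fun {h} h1 hm => by
    obtain ⟨v, hv⟩ := (c.mem_J _).1 hm
    refine ⟨v, fun e0 => h1 (hinj ?_), hv⟩
    rw [map_one, ← hv, e0, E_zero]
  by_cases hp : ∃ g, g * e pH * g⁻¹ ∈ c.J
  · -- the data of the alternating group of degree nine
    have hcores : ∀ h : Hm, orderOf h = 3 →
        Cfsg.pPrimeCore 3 (centralizer ({e h} : Set M)) = ⊥ := by
      intro h hh
      have h1 : h ≠ 1 := fun e1 => by rw [e1, orderOf_one] at hh; omega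
      by_cases hJm : e h ∈ c.J
      · obtain ⟨v, hv, hv'⟩ := hne h1 hJm
        exact core_eq_bot (g := 1) hv (by rw [one_mul, inv_one, mul_one, hv'])
      · obtain ⟨d, hd⟩ := outside_conj_p (b := h)
          (by rw [← Subgroup.coe_pow, ← hh, pow_orderOf_eq_one]; rfl) (fun hi => hJm ((he h).2 hi))
        obtain ⟨g, hg⟩ := hp
        obtain ⟨v, hv⟩ := (c.mem_J _).1 hg
        have hd' : g * e d * e h * (g * e d)⁻¹ = c.E v := by
          rw [hv, ← hd, map_mul, map_mul, map_inv]; group
        refine core_eq_bot (g := g * e d) (fun e0 => h1 (hinj ?_)) hd'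
        rw [e0, E_zero, mul_inv_eq_one, mul_eq_left] at hd'
        rw [hd', map_one]
    let S : Data M := ⟨e, hinj, by rw [hrange, hJ], hcores⟩
    have L : Local S := local_facts S
    have hz : centralizer ({S.e zH} : Set M) ≤ S.e.range := by
      obtain ⟨v, hv, hv'⟩ := hne (h := zH)
        zH_ne_one
        (hEg 0 ▸ E_mem c _)
      show centralizer ({e zH} : Set M) ≤ e.range
      rw [← hv', hrange]
      exact c.cent v hv
    by_cases hf : IsConj (S.e pH) (S.e xH)
    · exact (case_c_of CaseC.model S L hz hf).elim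
    · exact hrange.symm.trans (case_b S L hz hf)
  · -- the cube is strongly closed
    classical
    haveI := Fintype.ofFinite M
    push Not at hp
    obtain ⟨code, hcode⟩ : ∃ code : M → ℕ, ∀ h : Hm, code (e h) =
        Cfsg.Agent.S3702.enc (h : P9) :=
      ⟨fun g => Cfsg.Agent.S3702.enc ((Function.invFun e g : Hm) : P9), fun h => by
        show Cfsg.Agent.S3702.enc ((Function.invFun e (e h) : Hm) : P9) = _
        rw [Function.leftInverse_invFun hinj h]⟩
    rw [← hrange]
    refine CfsgLib.CubeSFour.Config.eq_top (H := e.range)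
      { code := code
        mem_KL := by
          rintro _ ⟨h, rfl⟩
          rw [hcode]; exact CaseB.enc_mem_KL h.2
        surj := fun a ha => by
          obtain ⟨q, hq, eq⟩ := Cfsg.Agent.S3702.enc_surj ha
          exact ⟨_, ⟨⟨q, CaseB.gen_mem_Hm hq⟩, rfl⟩, (hcode _).trans eq⟩
        inj := by
          rintro _ ⟨a, rfl⟩ _ ⟨b, rfl⟩ h
          rw [hcode, hcode] at h
          rw [Subtype.ext (Cfsg.Agent.S3702.enc_injective h)]
        code_mul := by
          rintro _ ⟨a, rfl⟩ _ ⟨b, rfl⟩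
          rw [← map_mul, hcode, hcode, hcode, Subgroup.coe_mul, Cfsg.Agent.S3702.enc_mul]
        cent := ?_
        closed := ?_ }
    · rintro g _ ⟨a, rfl⟩ hm ha1 hga
      rw [hcode] at hm
      obtain ⟨v, hv, hv'⟩ := hne (h := a) (fun e1 => ha1 (by rw [e1, map_one]))
        ((he a).2 ((CaseB.inJ_iff_InJ a).1 hm))
      rw [hrange]
      exact c.cent v hv (mem_centralizer_singleton_iff.2 (hv' ▸ hga))
    · rintro g _ ⟨a, rfl⟩ hm ⟨b, hb⟩
      rw [hcode] at hm
      rw [← hb, hcode]
      have haJ := (CaseB.inJ_iff_InJ a).1 hm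
      by_contra hbJ
      have hb3 : (b : P9) ^ 3 = 1 := by
        have h3 : b ^ 3 = 1 := hinj (by
          rw [map_pow, hb, conj_pow, ← map_pow, show a ^ 3 = 1 from Subtype.ext haJ.1, map_one,
            mul_one, mul_inv_cancel])
        exact congrArg Subtype.val h3
      obtain ⟨d, hd⟩ := outside_conj_p hb3 fun hi => hbJ ((CaseB.inJ_iff_InJ b).2 hi)
      refine hp (g⁻¹ * (e d)⁻¹) ?_
      have : g⁻¹ * (e d)⁻¹ * e pH * (g⁻¹ * (e d)⁻¹)⁻¹ = e a := by
        rw [← hd, map_mul, map_mul, map_inv, hb]; group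
      rw [this]
      exact (he a).2 haJ

end CfsgLib.McLThree.CubeAux
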