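import Cfsg.Agent.Lib.McLThree.Defs

/-!
# The centraliser of a diagonal element: interface

Modulo `⟨z a⟩` the subgroup `J` becomes `3³` with its normalizer acting monomially with determinant
one, and the centralizers of its nontrivial elements normalise it: then it is normal.
-/

set_option autoImplicit false

namespace CfsgLib.McLThree

open Subgroup

universe u

/-- Vectors of the cube. -/
abbrev Cube3 : Type := Fin 3 → ZMod 3

/-- A monomial map of determinant one. -/
structure Mono where
  perm : Equiv.Perm (Fin 3)
  sgn : Fin 3 → ZMod 3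
  unit : ∀ i, sgn i ≠ 0
  det : ((Equiv.Perm.sign perm : ℤˣ) : ℤ) * ∏ i, (if sgn i = 1 then (1 : ℤ) else -1) = 1

/-- The action of a monomial map. -/
def Mono.act (m : Mono) (v : Cube3) : Cube3 := fun i => m.sgn i * v (m.perm.symm i)

/-- An elementary abelian subgroup of order 27 with monomial automiser, even permutations
realised, containing the centralizers in its normalizer. -/
structure CubeConfig (M : Type u) [Group M] where
  E : Cube3 → M
  J : Subgroup M
  mem_J : ∀ x, x ∈ J ↔ ∃ v, E v = x
  add : ∀ v w, E (v + w) = E v * E w
  inj : Function.Injective E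
  upper : ∀ h ∈ normalizer (J : Set M), ∃ m : Mono, ∀ v, h * E v * h⁻¹ = E (m.act v)
  lower : ∀ m : Mono, Equiv.Perm.sign m.perm = 1 →
    ∃ h : M, ∀ v, h * E v * h⁻¹ = E (m.act v)
  selfc : centralizer (J : Set M) ≤ J
  cent : ∀ v, v ≠ 0 → centralizer ({E v} : Set M) ≤ normalizer (J : Set M)

/-- The cube with local centralizers is normal. -/
def StmtCubeTop : Prop := ∀ (M : Type u) [Group M] [Finite M] (c : CubeConfig M),
  normalizer (c.J : Set M) = ⊤

end CfsgLib.McLThree
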