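import Cfsg.Agent.Lib.McLThree.Six.Finite

/-!
Finite facts on permutations of six and of five letters used for the centraliser of a diagonal
element.
-/

set_option autoImplicit false
set_option maxRecDepth 100000

namespace CfsgLib.McLThree.CentY

open Equiv CfsgLib.McLThree.Six

attribute [local instance 2000] List.decidableBAll List.decidableBEx

theorem six_cosets : ∀ x : Perm (Fin 6), Perm.sign x = 1 →
    IsBlock x ∨ ∃ p ∈ pList, IsBlock ((p * sr)⁻¹ * x) := by
  decide +kernel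

theorem block_three : ∀ x : Perm (Fin 6), IsBlock x → x ^ 9 = 1 → x ∈ pList := by
  decide +kernel

theorem five_stab : ∀ p : Perm (Fin 5), Perm.sign p = 1 →
    (∀ q ∈ [p, fa * p, fa⁻¹ * p, fa * p * fa * p, fa⁻¹ * p * fa * p, fa * p⁻¹ * fa * p,
        fa * p * fa⁻¹ * p⁻¹, fa⁻¹ * p * p * fa * p, fa * p * p * fa⁻¹ * p],
      ¬ (q * q = 1 ∧ q ≠ 1)) →
    p = 1 ∨ p = fa ∨ p = fa * fa := by
  decide +kernel

theorem five_norm : ∀ p : Perm (Fin 5),
    (p * fa * p⁻¹ = 1 ∨ p * fa * p⁻¹ = fa ∨ p * fa * p⁻¹ = fa * fa) →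
    p * fa * p⁻¹ = fa ∨ p * fa * p⁻¹ = fa⁻¹ := by
  decide +kernel

theorem five_shift : ∀ p q : Perm (Fin 5), p * fa = fa * p → q * fa * q⁻¹ = fa⁻¹ → q * q = 1 →
    ∃ s ∈ [1, fa, fa * fa], q * (s * p) = s * p * q := by
  decide +kernel

end CfsgLib.McLThree.CentY
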