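import Cfsg.Agent.Lib.McLThree.CentYFrameDefs

/-!
# The frame exists

A lift `u` of an element of order three cycles the three lines `⟨z⟩`, `⟨w₂⟩`, `⟨w₃⟩` modulo
`⟨y⟩`; with uniqueness of the `Q`-conjugates of `b` this determines all conjugates of `z` in `J`.
-/

set_option autoImplicit false
set_option linter.unusedSectionVars false
set_option maxRecDepth 20000

namespace CfsgLib.McLThree.CentY

open Subgroup Equiv CfsgLib.McLThree.Six

universe u

/-- The cyclic shift of the coordinates. -/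
def rot (p : ZMod 3 × Cube3) : ZMod 3 × Cube3 :=
  (p.1 - p.2 0 + p.2 2, ![p.2 2, p.2 0, p.2 1])

/-- The action of `t` on the coordinates. -/
def flip0 (p : ZMod 3 × Cube3) : ZMod 3 × Cube3 := (p.1, ![p.2 0, -p.2 1, -p.2 2])

/-- The points known to be conjugates of `z`. -/
def base : List (ZMod 3 × Cube3) := [(0, ![1, 0, 0]), (1, ![-1, 0, 0]), (1, ![1, 1, 1])]

theorem reach : ∀ k v, InZ k v → ∃ p ∈ base, ∃ p' ∈ [p, flip0 p],
    ∃ p'' ∈ [p', rot p', rot (rot p')], (k, v) = p'' ∨ (k, v) = -p'' := by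
  decide +kernel

theorem inZ_some : ∀ v : Cube3, (v 1 ≠ 0 ∨ v 2 ≠ 0) → ∃ a, InZ 1 ![a, v 1, v 2] := by
  decide +kernel

theorem inZ_neg : ∀ k v, InZ k v → InZ (-k) (-v) := by decide +kernel

theorem inZ_base : InZ 0 ![1, 0, 0] ∧ InZ 0 ![-1, 0, 0] ∧ InZ 1 ![-1, 0, 0] ∧
    InZ (-1) ![1, 0, 0] := by
  decide +kernel

theorem point_rot : ∀ (k : ZMod 3) (v : Cube3),
    (k.val • ((1 : ZMod 3), (0 : Cube3)) + ((v 0).val • ((-1 : ZMod 3), (![0, 1, 0] : Cube3)) +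
      (v 1).val • ((0 : ZMod 3), (![0, 0, 1] : Cube3)) +
      (v 2).val • ((1 : ZMod 3), (![1, 0, 0] : Cube3)))) = rot (k, v) := by
  decide +kernel

theorem point_swap : ∀ (k : ZMod 3) (v : Cube3),
    (k.val • ((1 : ZMod 3), (0 : Cube3)) + ((v 0).val • ((1 : ZMod 3), (![-1, 0, 0] : Cube3)) +
      (v 1).val • ((0 : ZMod 3), (![0, 1, 0] : Cube3)) +
      (v 2).val • ((0 : ZMod 3), (![0, 0, -1] : Cube3)))) = (k + v 0, ![-v 0, v 1, -v 2]) := by
  decide +kernel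

theorem point_flip : ∀ (k : ZMod 3) (v : Cube3),
    (k.val • ((1 : ZMod 3), (0 : Cube3)) + ((v 0).val • ((0 : ZMod 3), (![1, 0, 0] : Cube3)) +
      (v 1).val • ((0 : ZMod 3), (![0, -1, 0] : Cube3)) +
      (v 2).val • ((0 : ZMod 3), (![0, 0, -1] : Cube3)))) = flip0 (k, v) := by
  decide +kernel

theorem rel_sk : su * sk = sk * (su * sr) ∧ sr * sk = sk * su ∧ sk * (sk * sk) = 1 := by
  decide +kernel

variable {G : Type u} [Group G] [Finite G] {D : Top G} {P : Model D} (S : Swap P)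

theorem Swap.form {c w : G} (hc : c ∈ zpowers D.z) (hw : InW D w) (hw1 : w ≠ 1)
    (h : ZC D (c * S.b * w)) : ∃ q ∈ D.Q, q * S.b * q⁻¹ = c * S.b * w := by
  have hcb := S.cb_t hc
  have hfix : ∀ d : G, d ∈ D.J → Commute D.t d → c * S.b * w ≠ d := fun d hd hdt e => hw1
    (split_unique hcb.1 hd hcb.2 hdt hw InW.one (e.trans (mul_one d).symm)).2
  rcases S.zc_cases h with e | e | ⟨q, hq, e | e⟩
  · exact absurd e (hfix _ (z_mem_J D) D.tz)
  · exact absurd e (hfix _ (inv_mem (z_mem_J D)) D.tz.inv_right)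
  · exact ⟨q, hq, e.symm⟩
  · exfalso
    rw [← conj_inv] at e
    rcases S.conj_b hq with e' | ⟨d, hd, w', hw', -, e'⟩
    · exact hfix _ (inv_mem S.bJ) S.bt.inv_right (by rw [e, e'])
    · have hdb := S.cb_t hd
      have e2 : c * S.b * w = (d * S.b)⁻¹ * w'⁻¹ := by
        rw [e, e', mul_inv_rev, (J_comm D (inv_mem hw'.1) (inv_mem hdb.1)).eq]
      have e3 := (split_unique hcb.1 (inv_mem hdb.1) hcb.2 hdb.2.inv_right hw hw'.inv e2).1
      refine S.b_notQ ?_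
      have h1 : S.b * S.b ∈ D.Q := by
        rw [show S.b * S.b = c⁻¹ * (c * S.b) * S.b by group, e3, mul_inv_rev,
          show c⁻¹ * (S.b⁻¹ * d⁻¹) * S.b = c⁻¹ * (S.b⁻¹ * d⁻¹ * S.b) by group,
          (J_comm D (inv_mem S.bJ) (zp_J (inv_mem hd))).eq, inv_mul_cancel_right]
        exact mul_mem (zp_le D (inv_mem hc)) (zp_le D (inv_mem hd))
      have h2 : S.b = (S.b * S.b)⁻¹ := eq_inv_of_mul_eq_one_left (by
        rw [← mul_assoc, ← pow_two, ← pow_succ]; exact cube_J S.bJ)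
      rw [h2]; exact inv_mem h1

theorem Swap.form_unique {c c' w : G} (hc : c ∈ zpowers D.z) (hc' : c' ∈ zpowers D.z)
    (hw : InW D w) (hw1 : w ≠ 1) (h : ZC D (c * S.b * w)) (h' : ZC D (c' * S.b * w)) : c = c' := by
  obtain ⟨q, hq, e⟩ := S.form hc hw hw1 h
  obtain ⟨q', hq', e'⟩ := S.form hc' hw hw1 h'
  exact mul_inv_eq_one.1 (S.conj_b_unique hq hq' (mul_mem hc (inv_mem hc'))
    (by rw [e, e']; group))

theorem Swap.zc_fix {x : G} (h : ZC D x) (ht : Commute D.t x) :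
    x = D.z ∨ x = D.z⁻¹ ∨ x = S.b ∨ x = S.b⁻¹ := by
  rcases S.zc_cases h with e | e | ⟨q, hq, e⟩
  · exact Or.inl e
  · exact Or.inr (Or.inl e)
  · refine Or.inr (Or.inr ?_)
    rcases S.conj_b hq with e' | ⟨d, hd, w, hw, hw1, e'⟩
    · rw [← conj_inv, e'] at e
      exact e
    · exfalso
      rw [← conj_inv, e'] at e
      have hxt : Commute D.t (d * S.b * w) := by
        rcases e with e | e <;> rw [e] at ht
        exacts [ht, Commute.inv_right_iff.1 ht]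
      exact hw1 (hw.eq_one (by
        simpa [mul_assoc] using (S.cb_t hd).2.inv_right.mul_right hxt))

theorem Swap.y_not_zc : ¬ ZC D (D.z * S.b) := by
  intro h
  have hbQ := S.b_notQ
  rcases S.zc_fix h (D.tz.mul_right S.bt) with e | e | e | e
  · exact hbQ (mul_eq_left.1 e ▸ one_mem _)
  · refine hbQ ?_
    rw [show S.b = D.z⁻¹ * (D.z * S.b) by group, e]
    exact mul_mem (inv_mem D.zQ) (inv_mem D.zQ)
  · exact z_ne D (mul_eq_right.1 e)
  · refine hbQ ?_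
    have h1 : D.z⁻¹ = S.b * S.b := by
      calc D.z⁻¹ = D.z⁻¹ * (D.z * S.b) * S.b := by rw [e]; group
        _ = S.b * S.b := by group
    rw [show S.b = (S.b * S.b)⁻¹ from eq_inv_of_mul_eq_one_left (by
        rw [← mul_assoc, ← pow_two, ← pow_succ]; exact cube_J S.bJ), ← h1, inv_inv]
    exact D.zQ

theorem Swap.no_plain {w : G} (hw : InW D w) (h : ZC D (S.b * w)) : w = 1 := by
  by_contra hw1
  set r : G := (S.r : G) with hr
  have hrJ : r ∈ normalizer (D.J : Set G) := P.MN S.r.2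
  have hw' : InW D (r * w * r⁻¹) := by
    refine ⟨conj_memJ hrJ hw.1, ?_⟩
    have e : D.t * r = r * D.t := S.rt.symm.eq
    rw [show D.t * (r * w * r⁻¹) * D.t⁻¹ = D.t * r * w * (D.t * r)⁻¹ by group, e,
      show r * D.t * w * (r * D.t)⁻¹ = r * (D.t * w * D.t⁻¹) * r⁻¹ by group, hw.2, ← conj_inv]
  have h1 := h.conj hrJ
  rw [cmul, show r * S.b * r⁻¹ = D.z from S.rb] at h1
  have hne : r * w * r⁻¹ ≠ 1 := fun e => hw1 (conj_eq_one_iff.1 e)
  have hfix : ∀ d : G, d ∈ D.J → Commute D.t d → D.z * (r * w * r⁻¹) ≠ d := fun d hd hdt e => hne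
    (split_unique (z_mem_J D) hd D.tz hdt hw' InW.one (e.trans (mul_one d).symm)).2
  rcases S.zc_cases h1 with e | e | ⟨q, hq, e⟩
  · exact hfix _ (z_mem_J D) D.tz e
  · exact hfix _ (inv_mem (z_mem_J D)) D.tz.inv_right e
  · rcases S.conj_b hq with e' | ⟨d, hd, v, hv, -, e'⟩ <;> rw [← conj_inv, e'] at e
    · rcases e with e | e
      exacts [hfix _ S.bJ S.bt e, hfix _ (inv_mem S.bJ) S.bt.inv_right e]
    · obtain ⟨hdJ, hdt⟩ := S.cb_t hd
      have hbd : S.b ∈ D.Q := by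
        rcases e with e | e
        · have e2 := (split_unique (z_mem_J D) hdJ D.tz hdt hw' hv e).1
          rw [show S.b = d⁻¹ * (d * S.b) by group, ← e2]
          exact mul_mem (inv_mem (zp_le D hd)) D.zQ
        · rw [mul_inv_rev, (J_comm D (inv_mem hv.1) (inv_mem hdJ)).eq] at e
          have e2 := (split_unique (z_mem_J D) (inv_mem hdJ) D.tz hdt.inv_right hw' hv.inv e).1
          rw [show S.b = d⁻¹ * (d * S.b)⁻¹⁻¹ by group, ← e2]
          exact mul_mem (inv_mem (zp_le D hd)) (inv_mem D.zQ)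
      exact S.b_notQ hbd

/-- The three lines. -/
structure Axes where
  u : G
  w₂ : G
  w₃ : G
  uJ : u ∈ normalizer (D.J : Set G)
  hw₂ : InW D w₂
  hw₃ : InW D w₃
  ne₂ : w₂ ≠ 1
  uy : u * (D.z * S.b) * u⁻¹ = D.z * S.b
  uz : u * D.z * u⁻¹ = (D.z * S.b)⁻¹ * w₂
  u2 : u * w₂ * u⁻¹ = w₃
  u3 : u * w₃ * u⁻¹ = D.z * S.b * D.z
  r2 : (S.r : G) * w₂ * (S.r : G)⁻¹ = w₂
  r3 : (S.r : G) * w₃ * (S.r : G)⁻¹ = w₃⁻¹

theorem exists_axes : Nonempty (Axes S) := by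
  obtain ⟨um, hum⟩ := P.surj sk sign_facts.2.2.2.2.2.1
  set u : G := (um : G) with hu
  set r : G := (S.r : G) with hr
  have huJ : u ∈ normalizer (D.J : Set G) := P.MN um.2
  set y := D.z * S.b with hy
  have hyJ : y ∈ D.J := mul_mem (z_mem_J D) S.bJ
  have hy3 : y ^ 3 = 1 := cube_J hyJ
  have hty : D.t * y * D.t⁻¹ = y := fix_of_commute (D.tz.mul_right S.bt)
  have hry : r * y * r⁻¹ = y := by
    rw [hy, cmul, S.rz, show r * S.b * r⁻¹ = D.z from S.rb, (J_comm D S.bJ (z_mem_J D)).eq]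
  have htu : ∀ j ∈ D.J, D.t * (u * j * u⁻¹) * D.t⁻¹ = u * (D.t * (r * j * r⁻¹) * D.t⁻¹) * u⁻¹ := by
    intro j hj
    have h := P.toPre.act (m := ⟨D.t, P.tM⟩ * um) (n := um * (⟨D.t, P.tM⟩ * S.r)) (by
      rw [map_mul, map_mul, map_mul, P.tu, hum, S.hr]; exact rel_sk.1) hj
    simpa [hu, hr, mul_assoc] using h
  have hru : ∀ j ∈ D.J, r * (u * j * u⁻¹) * r⁻¹ = u * (D.t * j * D.t⁻¹) * u⁻¹ := by
    intro j hj
    have h := P.toPre.act (m := S.r * um) (n := um * ⟨D.t, P.tM⟩) (by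
      rw [map_mul, map_mul, P.tu, hum, S.hr]; exact rel_sk.2.1) hj
    simpa [hu, hr, mul_assoc] using h
  have hu3 : ∀ j ∈ D.J, u * (u * (u * j * u⁻¹) * u⁻¹) * u⁻¹ = j := by
    intro j hj
    have h := P.toPre.act (m := um * (um * um)) (n := 1) (by
      rw [map_mul, map_mul, hum, map_one]; exact rel_sk.2.2) hj
    simpa [hu, mul_assoc] using h
  have hvy : u * y * u⁻¹ = y := by
    set v := u * y * u⁻¹ with hv
    have hvJ : v ∈ D.J := conj_memJ huJ hyJ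
    have hvt : D.t * v * D.t⁻¹ = v := by rw [hv, htu y hyJ, hry, hty]
    have hvr : r * v * r⁻¹ = v := by rw [hv, hru y hyJ, hty]
    obtain ⟨c, hc, hvc⟩ := mem_J_t D hvJ (mul_inv_eq_iff_eq_mul.1 hvt)
    have haz : D.a ∈ zpowers S.b := by
      rcases S.a_cases with h | h <;> rw [h]
      exacts [mem_zpowers _, inv_mem (mem_zpowers _)]
    obtain ⟨n, rfl⟩ := mem_zpowers_iff.1 hc
    obtain ⟨j, hvj⟩ : ∃ j : ℤ, v = D.z ^ n * S.b ^ j := by
      obtain ⟨i, hi⟩ := mem_zpowers_iff.1 haz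
      rcases hvc with h | h | h
      · exact ⟨0, by simp [h]⟩
      · refine ⟨i, ?_⟩
        rw [h, ← hi]
        exact (J_comm D (zpow_mem S.bJ i) (zpow_mem (z_mem_J D) n)).eq
      · refine ⟨-i, ?_⟩
        rw [h, ← hi, zpow_neg]
        exact (J_comm D (inv_mem (zpow_mem S.bJ i)) (zpow_mem (z_mem_J D) n)).eq
    have hrv : S.b ^ n * D.z ^ j = D.z ^ n * S.b ^ j := by
      rw [hvj, cmul, ← conj_zpow, ← conj_zpow, S.rz, show r * S.b * r⁻¹ = D.z from S.rb] at hvr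
      exact hvr
    have hbn : S.b ^ n = S.b ^ j := by
      have e : S.b ^ (n - j) = D.z ^ (n - j) := by
        rw [zpow_sub, zpow_sub]
        calc S.b ^ n * (S.b ^ j)⁻¹ = S.b ^ n * D.z ^ j * ((D.z ^ j)⁻¹ * (S.b ^ j)⁻¹) := by group
          _ = D.z ^ n * S.b ^ j * ((S.b ^ j)⁻¹ * (D.z ^ j)⁻¹) := by
            rw [hrv, ((J_comm D (zpow_mem (z_mem_J D) j) (zpow_mem S.bJ j)).inv_inv).eq]
          _ = _ := by group
      have hQ : S.b ^ (n - j) ∈ D.Q := e ▸ zp_le D (zpow_mem (mem_zpowers _) _)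
      rcases zp_cases (cube_J S.bJ) (zpow_mem (mem_zpowers S.b) (n - j)) with h | h | h
      · rwa [zpow_sub, mul_inv_eq_one] at h
      · exact absurd (h ▸ hQ) S.b_notQ
      · exact absurd (inv_mem_iff.1 (h ▸ hQ)) S.b_notQ
    have hvn : v = y ^ n := by rw [hvj, ← hbn, hy, (J_comm D (z_mem_J D) S.bJ).mul_zpow]
    rcases zp_cases hy3 (mem_zpowers_iff.2 ⟨n, hvn.symm⟩ : v ∈ zpowers y) with h | h | h
    · exfalso
      have h1 : S.b = D.z⁻¹ := eq_inv_of_mul_eq_one_right (conj_eq_one_iff.1 h)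
      exact S.b_notQ (h1 ▸ inv_mem D.zQ)
    · exact h
    · exfalso
      have e := hu3 y hyJ
      rw [← hv, h, ← conj_inv, ← hv, h, inv_inv, ← hv, h] at e
      have h2 : y = 1 := by
        rw [pow_succ, pow_two] at hy3
        have : y * y = 1 := by nth_rw 1 [← e]; exact inv_mul_cancel y
        rwa [this, one_mul] at hy3
      have h1 : S.b = D.z⁻¹ := eq_inv_of_mul_eq_one_right h2
      exact S.b_notQ (h1 ▸ inv_mem D.zQ)
  set p := u * D.z * u⁻¹ with hp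
  have hpJ : p ∈ D.J := conj_memJ huJ (z_mem_J D)
  have hub : u * S.b * u⁻¹ = p⁻¹ * y := by
    rw [← hvy, hp, hy]; group
  have htz : D.t * D.z * D.t⁻¹ = D.z := fix_of_commute D.tz
  have htp : D.t * p * D.t⁻¹ = p⁻¹ * y := by
    rw [hp, htu _ (z_mem_J D), S.rz, fix_of_commute S.bt, hub]
  have hrp : r * p * r⁻¹ = p := by rw [hp, hru _ (z_mem_J D), htz]
  have hW : ∀ q ∈ D.J, D.t * q * D.t⁻¹ = q⁻¹ * y → InW D (y * q) := fun q hq e =>
    ⟨mul_mem hyJ hq, by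
      have h3 : y * y = y⁻¹ := eq_inv_of_mul_eq_one_left (by rw [← pow_two, ← pow_succ]; exact hy3)
      rw [cmul, hty, e, mul_inv_rev, (J_comm D (inv_mem hq) hyJ).eq, ← mul_assoc, h3,
        (J_comm D (inv_mem hyJ) (inv_mem hq)).eq]⟩
  set p₂ := u * p * u⁻¹ with hp₂
  have hp₂J : p₂ ∈ D.J := conj_memJ huJ hpJ
  have hupy : u * (p⁻¹ * y) * u⁻¹ = p₂⁻¹ * y := by rw [cmul, ← conj_inv, ← hp₂, hvy]
  have htr : D.t * (r * p * r⁻¹) * D.t⁻¹ = p⁻¹ * y := by rw [hrp, htp]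
  have htp₂ : D.t * p₂ * D.t⁻¹ = p₂⁻¹ * y := by rw [hp₂, htu _ hpJ, htr, hupy]
  have hrp₂ : r * p₂ * r⁻¹ = p₂⁻¹ * y := by rw [hp₂, hru _ hpJ, htp, hupy]
  refine ⟨⟨u, y * p, y * p₂, huJ, hW p hpJ htp, hW p₂ hp₂J htp₂, fun e => S.y_not_zc ?_, hvy,
    ?_, by rw [cmul, hvy, ← hp₂], ?_, by rw [cmul, hry, hrp], ?_⟩⟩
  · have hzc : ZC D p := zc_z.conj huJ
    rw [eq_inv_of_mul_eq_one_right e] at hzc
    simpa using zc_inv P hzc
  · show p = y⁻¹ * (y * p)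
    group
  · rw [cmul, hvy, hp₂, hp, hu3 _ (z_mem_J D)]
  · have h3 : y * y = y⁻¹ := eq_inv_of_mul_eq_one_left (by rw [← pow_two, ← pow_succ]; exact hy3)
    rw [cmul, hry, hrp₂, mul_inv_rev y p₂, (J_comm D (inv_mem hp₂J) hyJ).eq, ← mul_assoc, h3,
      (J_comm D (inv_mem hyJ) (inv_mem hp₂J)).eq]

namespace Axes

variable {S} (A : Axes S)

/-- The point with the given coordinates. -/
def pt (p : ZMod 3 × Cube3) : G := point D.z (D.z * S.b) A.w₂ A.w₃ p.1 p.2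

theorem yJ (S : Swap P) : D.z * S.b ∈ D.J := mul_mem (z_mem_J D) S.bJ

theorem pt_mem (p : ZMod 3 × Cube3) : A.pt p ∈ D.J :=
  mul_mem (pow_mem (yJ S) _)
    (mul_mem (mul_mem (pow_mem (z_mem_J D) _) (pow_mem A.hw₂.1 _)) (pow_mem A.hw₃.1 _))

theorem pt_add (p q : ZMod 3 × Cube3) : A.pt (p + q) = A.pt p * A.pt q := by
  have h4 : ∀ {a b c d : G}, a ∈ D.J → b ∈ D.J → c ∈ D.J → d ∈ D.J →
      a * b * (c * d) = a * c * (b * d) := by
    intro a b c d _ hb hc _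
    rw [mul_assoc, ← mul_assoc b, (J_comm D hb hc).eq]
    simp only [mul_assoc]
  have m0 : ∀ i : ℕ, D.z ^ i ∈ D.J := fun i => pow_mem (z_mem_J D) i
  have m2 : ∀ i : ℕ, A.w₂ ^ i ∈ D.J := fun i => pow_mem A.hw₂.1 i
  have m3 : ∀ i : ℕ, A.w₃ ^ i ∈ D.J := fun i => pow_mem A.hw₃.1 i
  obtain ⟨k, v⟩ := p
  obtain ⟨l, w⟩ := q
  simp only [pt, point, Prod.fst_add, Prod.snd_add, Pi.add_apply]
  rw [Frame.pow_add_val (yJ S), Frame.pow_add_val (z_mem_J D), Frame.pow_add_val A.hw₂.1,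
    Frame.pow_add_val A.hw₃.1,
    h4 (pow_mem (yJ S) _) (mul_mem (mul_mem (m0 _) (m2 _)) (m3 _)) (pow_mem (yJ S) _)
      (mul_mem (mul_mem (m0 _) (m2 _)) (m3 _)),
    h4 (m0 (v 0).val) (m0 (w 0).val) (m2 (v 1).val) (m2 (w 1).val),
    h4 (mul_mem (m0 (v 0).val) (m2 (v 1).val)) (mul_mem (m0 (w 0).val) (m2 (w 1).val)) (m3 _) (m3 _)]

theorem pt_zero : A.pt 0 = 1 := by simp [pt, point]

theorem pt_pow (p : ZMod 3 × Cube3) : ∀ n : ℕ, A.pt p ^ n = A.pt (n • p)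
  | 0 => by rw [pow_zero, zero_smul, pt_zero]
  | n + 1 => by rw [pow_succ, pt_pow p n, succ_nsmul, pt_add]

theorem pt_neg (p : ZMod 3 × Cube3) : A.pt (-p) = (A.pt p)⁻¹ :=
  eq_inv_of_mul_eq_one_left (by rw [← pt_add, neg_add_cancel, pt_zero])

theorem pt_y : A.pt (1, 0) = D.z * S.b := by simp [pt, point, ZMod.val_one]
theorem pt_z : A.pt (0, ![1, 0, 0]) = D.z := by simp [pt, point, ZMod.val_one]
theorem pt_w₂ : A.pt (0, ![0, 1, 0]) = A.w₂ := by simp [pt, point, ZMod.val_one]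
theorem pt_w₃ : A.pt (0, ![0, 0, 1]) = A.w₃ := by simp [pt, point, ZMod.val_one]

theorem pt_b : A.pt (1, ![-1, 0, 0]) = S.b := by
  rw [show ((1 : ZMod 3), (![-1, 0, 0] : Cube3)) = (1, 0) + (-((0 : ZMod 3), (![1, 0, 0] : Cube3)))
    by decide +kernel, pt_add, pt_y, pt_neg, pt_z, (J_comm D (z_mem_J D) S.bJ).eq]
  group

theorem conj_pt {h : G} (py pz p2 p3 : ZMod 3 × Cube3)
    (hy : h * (D.z * S.b) * h⁻¹ = A.pt py) (hz : h * D.z * h⁻¹ = A.pt pz)
    (h2 : h * A.w₂ * h⁻¹ = A.pt p2) (h3 : h * A.w₃ * h⁻¹ = A.pt p3) (k : ZMod 3) (v : Cube3) :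
    h * A.pt (k, v) * h⁻¹ =
      A.pt (k.val • py + ((v 0).val • pz + (v 1).val • p2 + (v 2).val • p3)) := by
  rw [pt_add, pt_add, pt_add, ← pt_pow, ← pt_pow, ← pt_pow, ← pt_pow, ← hy, ← hz, ← h2, ← h3,
    conj_pow, conj_pow, conj_pow, conj_pow, pt, point]
  group

theorem u_act (p : ZMod 3 × Cube3) : A.u * A.pt p * A.u⁻¹ = A.pt (rot p) := by
  obtain ⟨k, v⟩ := p
  rw [A.conj_pt (1, 0) (-1, ![0, 1, 0]) (0, ![0, 0, 1]) (1, ![1, 0, 0]) (by rw [A.uy, pt_y]) ?_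
    (by rw [A.u2, pt_w₃]) ?_ k v, point_rot]
  · rw [A.uz, show ((-1 : ZMod 3), (![0, 1, 0] : Cube3)) = -((1 : ZMod 3), (0 : Cube3)) +
      ((0 : ZMod 3), (![0, 1, 0] : Cube3)) by decide +kernel, pt_add, pt_neg, pt_y, pt_w₂]
  · rw [A.u3, show ((1 : ZMod 3), (![1, 0, 0] : Cube3)) = ((1 : ZMod 3), (0 : Cube3)) +
      ((0 : ZMod 3), (![1, 0, 0] : Cube3)) by decide +kernel, pt_add, pt_y, pt_z]

theorem r_act (k : ZMod 3) (v : Cube3) :
    (S.r : G) * A.pt (k, v) * (S.r : G)⁻¹ = A.pt (k + v 0, ![-v 0, v 1, -v 2]) := by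
  rw [A.conj_pt (1, 0) (1, ![-1, 0, 0]) (0, ![0, 1, 0]) (0, ![0, 0, -1]) ?_
    (by rw [S.rz, pt_b]) (by rw [A.r2, pt_w₂]) ?_ k v, point_swap]
  · rw [pt_y, cmul, S.rz, S.rb, (J_comm D S.bJ (z_mem_J D)).eq]
  · rw [A.r3, show ((0 : ZMod 3), (![0, 0, -1] : Cube3)) = -((0 : ZMod 3), (![0, 0, 1] : Cube3))
      by decide +kernel, pt_neg, pt_w₃]

theorem t_act (p : ZMod 3 × Cube3) : D.t * A.pt p * D.t⁻¹ = A.pt (flip0 p) := by
  obtain ⟨k, v⟩ := p
  rw [A.conj_pt (1, 0) (0, ![1, 0, 0]) (0, ![0, -1, 0]) (0, ![0, 0, -1]) ?_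
    (by rw [fix_of_commute D.tz, pt_z]) ?_ ?_ k v, point_flip]
  · rw [pt_y, fix_of_commute (D.tz.mul_right S.bt)]
  · rw [A.hw₂.2, show ((0 : ZMod 3), (![0, -1, 0] : Cube3)) = -((0 : ZMod 3), (![0, 1, 0] : Cube3))
      by decide +kernel, pt_neg, pt_w₂]
  · rw [A.hw₃.2, show ((0 : ZMod 3), (![0, 0, -1] : Cube3)) = -((0 : ZMod 3), (![0, 0, 1] : Cube3))
      by decide +kernel, pt_neg, pt_w₃]

/-- The part inverted by `t`. -/
def wp (v : Cube3) : G := A.w₂ ^ (v 1).val * A.w₃ ^ (v 2).val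

theorem wp_W (v : Cube3) : InW D (A.wp v) := by
  have hp : ∀ {w : G}, InW D w → ∀ n : ℕ, InW D (w ^ n) := by
    intro w hw n
    induction n with
    | zero => rw [pow_zero]; exact InW.one
    | succ n ih => rw [pow_succ]; exact ih.mul hw
  exact (hp A.hw₂ _).mul (hp A.hw₃ _)

theorem pt_split (k : ZMod 3) (v : Cube3) :
    A.pt (k, v) = (D.z * S.b) ^ k.val * D.z ^ (v 0).val * A.wp v := by
  simp only [pt, point, wp]; group

theorem fix_part (k a : ZMod 3) : (D.z * S.b) ^ k.val * D.z ^ a.val ∈ D.J ∧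
    Commute D.t ((D.z * S.b) ^ k.val * D.z ^ a.val) :=
  ⟨mul_mem (pow_mem (yJ S) _) (pow_mem (z_mem_J D) _),
    ((D.tz.mul_right S.bt).pow_right _).mul_right (D.tz.pow_right _)⟩

theorem ne₃ : A.w₃ ≠ 1 := fun e => A.ne₂ (conj_eq_one_iff.1 (A.u2.trans e))

theorem pow_val_eq_one {x : G} (hx : x ∈ D.J) (h1 : x ≠ 1) {i : ZMod 3} (h : x ^ i.val = 1) :
    i = 0 := by
  rcases (by decide : ∀ j : ZMod 3, j = 0 ∨ j = 1 ∨ j = 2) i with rfl | rfl | rfl
  · rfl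
  · exact absurd (by simpa [ZMod.val_one] using h) h1
  · refine absurd (eq_one_of_sq hx ?_) h1
    rwa [show ((2 : ZMod 3)).val = 2 from rfl, pow_two] at h

theorem wp_eq_one {v : Cube3} (h : A.wp v = 1) : v 1 = 0 ∧ v 2 = 0 := by
  set r : G := (S.r : G)
  have h2 : A.w₂ ^ (v 1).val * A.w₃ ^ (v 2).val = 1 := h
  have h' : A.w₂ ^ (v 1).val * (A.w₃⁻¹) ^ (v 2).val = 1 := by
    rw [← A.r2, ← A.r3, conj_pow, conj_pow, ← cmul, h2]; group
  have h3 : A.w₃ ^ (v 2).val = 1 := by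
    refine eq_one_of_sq (pow_mem A.hw₃.1 _) ?_
    have e : (A.w₃⁻¹) ^ (v 2).val = A.w₃ ^ (v 2).val := mul_left_cancel (h'.trans h2.symm)
    rw [inv_pow] at e
    nth_rw 1 [← e]
    exact inv_mul_cancel _
  rw [h3, mul_one] at h2
  exact ⟨pow_val_eq_one A.hw₂.1 A.ne₂ h2, pow_val_eq_one A.hw₃.1 A.ne₃ h3⟩

theorem fix_part_eq {k a : ZMod 3} {c : G} (hc : c ∈ zpowers D.z)
    (h : (D.z * S.b) ^ k.val * D.z ^ a.val = c * S.b) : k = 1 := by
  have e : D.z ^ k.val * S.b ^ k.val * D.z ^ a.val = c * S.b := by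
    rw [← (J_comm D (z_mem_J D) S.bJ).mul_pow]; exact h
  have hz : ∀ n : ℕ, D.z ^ n ∈ D.Q := fun n => pow_mem D.zQ n
  rcases (by decide : ∀ j : ZMod 3, j = 0 ∨ j = 1 ∨ j = 2) k with rfl | rfl | rfl
  · exfalso
    rw [ZMod.val_zero, pow_zero, pow_zero, one_mul, one_mul] at e
    refine S.b_notQ ?_
    rw [show S.b = c⁻¹ * (c * S.b) by group, ← e]
    exact mul_mem (inv_mem (zp_le D hc)) (hz _)
  · rfl
  · exfalso
    refine S.b_notQ ?_
    rw [show ((2 : ZMod 3)).val = 2 from rfl, mul_assoc,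
      (J_comm D (pow_mem S.bJ 2) (pow_mem (z_mem_J D) a.val)).eq, pow_two S.b, ← mul_assoc,
      ← mul_assoc] at e
    have e' := mul_right_cancel e
    rw [show S.b = (D.z ^ 2 * D.z ^ a.val)⁻¹ * (D.z ^ 2 * D.z ^ a.val * S.b) by group, e']
    exact mul_mem (inv_mem (mul_mem (hz _) (hz _))) (zp_le D hc)

theorem pt_inj : Function.Injective A.pt := by
  intro p q h
  have h1 : A.pt (p - q) = 1 := by rw [sub_eq_add_neg, pt_add, pt_neg, h, mul_inv_cancel]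
  refine sub_eq_zero.1 ?_
  revert h1
  generalize p - q = x
  obtain ⟨k, v⟩ := x
  intro h1
  rw [pt_split] at h1
  obtain ⟨hf, hw⟩ := split_unique (fix_part k (v 0)).1 (one_mem _) (fix_part k (v 0)).2
    (Commute.one_right _) (A.wp_W v) InW.one (h1.trans (one_mul 1).symm)
  obtain ⟨h11, h22⟩ := A.wp_eq_one hw
  have hk : k = 0 := by
    rw [(J_comm D (z_mem_J D) S.bJ).mul_pow] at hf
    have hbQ : S.b ^ k.val ∈ D.Q := by
      rw [show S.b ^ k.val = (D.z ^ k.val)⁻¹ * (D.z ^ k.val * S.b ^ k.val * D.z ^ (v 0).val) *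
        (D.z ^ (v 0).val)⁻¹ by group, hf, mul_one]
      exact mul_mem (inv_mem (pow_mem D.zQ _)) (inv_mem (pow_mem D.zQ _))
    rcases zp_cases (cube_J S.bJ) (pow_mem (mem_zpowers S.b) k.val) with e | e | e
    · exact pow_val_eq_one S.bJ (fun e' => S.b_notQ (e' ▸ one_mem _)) e
    · exact absurd (e ▸ hbQ) S.b_notQ
    · exact absurd (inv_mem_iff.1 (e ▸ hbQ)) S.b_notQ
  rw [hk, ZMod.val_zero, pow_zero, one_mul] at hf
  have h00 := pow_val_eq_one (z_mem_J D) (z_ne D) hf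
  refine Prod.ext hk (funext fun i => ?_)
  fin_cases i
  exacts [h00, h11, h22]

theorem pt_surj {x : G} (hx : x ∈ D.J) : ∃ p, A.pt p = x := by
  let f : ZMod 3 × Cube3 → D.J := fun p => ⟨A.pt p, A.pt_mem p⟩
  have hf : Function.Injective f := fun p q h => A.pt_inj (congrArg Subtype.val h)
  have hb : Function.Bijective f := (Nat.bijective_iff_injective_and_card f).2
    ⟨hf, by rw [P.cardJ]; simp⟩
  obtain ⟨p, hp⟩ := hb.2 ⟨x, hx⟩
  exact ⟨p, congrArg Subtype.val hp⟩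

theorem zc_neg {p : ZMod 3 × Cube3} (h : ZC D (A.pt p)) : ZC D (A.pt (-p)) := by
  rw [pt_neg]; exact zc_inv P h

theorem zc_rot {p : ZMod 3 × Cube3} (h : ZC D (A.pt p)) : ZC D (A.pt (rot p)) := by
  rw [← A.u_act]; exact h.conj A.uJ

theorem zc_flip {p : ZMod 3 × Cube3} (h : ZC D (A.pt p)) : ZC D (A.pt (flip0 p)) := by
  rw [← A.t_act]; exact h.conj Pre.t_normJ

/-- The product of the two lines gives a conjugate. -/
theorem zc_diag : ZC D (A.pt (1, ![1, 1, 1])) := by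
  have hz2 : ZC D (A.pt (1, ![0, 1, 0])) := by
    have h := A.zc_flip (A.zc_neg (A.zc_rot (show ZC D (A.pt (0, ![1, 0, 0])) from
      A.pt_z.symm ▸ zc_z)))
    rwa [show flip0 (-rot ((0 : ZMod 3), (![1, 0, 0] : Cube3))) = (1, ![0, 1, 0]) by
      decide +kernel] at h
  have hz3 : ZC D (A.pt (1, ![0, 0, 1])) := by
    have h := A.zc_rot hz2
    rwa [show rot ((1 : ZMod 3), (![0, 1, 0] : Cube3)) = (1, ![0, 0, 1]) by decide +kernel] at h
  have e2 : A.pt (1, ![0, 1, 0]) = D.z * S.b * A.w₂ := by simp [pt, point, ZMod.val_one]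
  have e3 : A.pt (1, ![0, 0, 1]) = D.z * S.b * A.w₃ := by simp [pt, point, ZMod.val_one]
  rw [e2] at hz2
  rw [e3] at hz3
  obtain ⟨q, hq, eq2⟩ := S.form (mem_zpowers _) A.hw₂ A.ne₂ hz2
  obtain ⟨q', hq', eq3⟩ := S.form (mem_zpowers _) A.hw₃ A.ne₃ hz3
  obtain ⟨d, hd, e⟩ := S.conj_b_mul hq (mem_zpowers _) (mem_zpowers _) A.hw₃ eq2 eq3 A.hw₂
  have hzc : ZC D (d * S.b * (A.w₂ * A.w₃)) := e ▸ S.zc_b.conj (Q_normJ D (mul_mem hq hq'))
  have hww : A.w₂ * A.w₃ ≠ 1 := fun e' => by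
    have := (A.wp_eq_one (v := ![0, 1, 1]) (by simpa [wp, ZMod.val_one] using e')).1
    exact absurd this (by decide +kernel)
  rcases zp_cases (z3 D) hd with rfl | rfl | rfl
  · exact absurd (S.no_plain (A.hw₂.mul A.hw₃) (by simpa using hzc)) hww
  · exfalso
    have h1 : ZC D (A.pt (1, ![0, 1, 1])) := by
      convert hzc using 1
      simp [pt, point, ZMod.val_one]
    have h2 := A.zc_flip (A.zc_rot h1)
    rw [show flip0 (rot ((1 : ZMod 3), (![0, 1, 1] : Cube3))) = (2, ![1, 0, -1]) by decide +kernel]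
      at h2
    have h3 := A.zc_neg h2
    rw [show -((2 : ZMod 3), (![1, 0, -1] : Cube3)) = (1, ![-1, 0, 0]) + (0, ![0, 0, 1]) by
      decide +kernel, pt_add, pt_b, pt_w₃] at h3
    exact A.ne₃ (S.no_plain A.hw₃ h3)
  · convert hzc using 1
    rw [show ((1 : ZMod 3), (![1, 1, 1] : Cube3)) = (1, 0) + (0, ![1, 0, 0]) +
      ((0, ![0, 1, 0]) + (0, ![0, 0, 1])) by decide +kernel]
    simp only [pt_add, pt_y, pt_z, pt_w₂, pt_w₃]
    congr 1
    rw [mul_assoc, (J_comm D S.bJ (z_mem_J D)).eq, ← mul_assoc,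
      show D.z * D.z = D.z⁻¹ from eq_inv_of_mul_eq_one_left (by
        rw [← pow_two, ← pow_succ]; exact z3 D)]

theorem zc_of_inZ {k : ZMod 3} {v : Cube3} (h : InZ k v) : ZC D (A.pt (k, v)) := by
  obtain ⟨p, hp, p', hp', p'', hp'', e⟩ := reach k v h
  have h0 : ZC D (A.pt p) := by
    simp only [base, List.mem_cons, List.not_mem_nil, or_false] at hp
    rcases hp with rfl | rfl | rfl
    · rw [pt_z]; exact zc_z
    · rw [pt_b]; exact S.zc_b
    · exact A.zc_diag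
  have h1 : ZC D (A.pt p') := by
    simp only [List.mem_cons, List.not_mem_nil, or_false] at hp'
    rcases hp' with rfl | rfl
    exacts [h0, A.zc_flip h0]
  have h2 : ZC D (A.pt p'') := by
    simp only [List.mem_cons, List.not_mem_nil, or_false] at hp''
    rcases hp'' with rfl | rfl | rfl
    exacts [h1, A.zc_rot h1, A.zc_rot (A.zc_rot h1)]
  rcases e with e | e <;> rw [e]
  exacts [h2, A.zc_neg h2]

theorem inZ_of_zc {k : ZMod 3} {v : Cube3} (h : ZC D (A.pt (k, v))) : InZ k v := by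
  have neg_case : ∀ q : ZMod 3 × Cube3, InZ q.1 q.2 → InZ (-q).1 (-q).2 := fun q hq =>
    inZ_neg _ _ hq
  have hpos : ∀ (l : ZMod 3) (w : Cube3), ZC D (A.pt (l, w)) → ∀ {c x : G}, c ∈ zpowers D.z →
      InW D x → x ≠ 1 → A.pt (l, w) = c * S.b * x → InZ l w := by
    intro l w hl c x hc hx hx1 e
    rw [pt_split] at e
    obtain ⟨hf, hxw⟩ := split_unique (fix_part l (w 0)).1 (S.cb_t hc).1 (fix_part l (w 0)).2
      (S.cb_t hc).2 (A.wp_W w) hx e
    have hl1 := fix_part_eq hc hf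
    subst hl1
    obtain ⟨a', ha⟩ := inZ_some w (by
      by_contra hcon
      push Not at hcon
      exact hx1 (by rw [← hxw]; simp [wp, hcon.1, hcon.2]))
    have h' := A.zc_of_inZ ha
    have e1 : ∀ v' : Cube3, A.pt (1, v') = D.z * D.z ^ (v' 0).val * S.b * A.wp v' := fun v' => by
      rw [pt_split, ZMod.val_one, pow_one, mul_assoc D.z S.b,
        (J_comm D S.bJ (pow_mem (z_mem_J D) _)).eq, ← mul_assoc]
    have hw' : A.wp ![a', w 1, w 2] = A.wp w := rfl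
    rw [e1, hw'] at h'
    rw [e1] at hl
    have huq := S.form_unique (mul_mem (mem_zpowers _) (pow_mem (mem_zpowers _) _))
      (mul_mem (mem_zpowers _) (pow_mem (mem_zpowers _) _)) (A.wp_W w) (hxw ▸ hx1) hl h'
    have ha' : w 0 = a' := by
      have := pow_injOn_Iio_orderOf (by rw [D.ord_z]; exact ZMod.val_lt _)
        (by rw [D.ord_z]; exact ZMod.val_lt _) (mul_left_cancel huq)
      exact ZMod.val_injective 3 this
    convert ha using 1
    funext i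
    fin_cases i
    · exact ha'
    · rfl
    · rfl
  have hfix : ∀ q : ZMod 3 × Cube3, A.pt (k, v) = A.pt q → InZ q.1 q.2 → InZ k v := by
    intro q e hq
    rw [← A.pt_inj e] at hq
    exact hq
  rcases S.zc_cases h with e | e | ⟨q, hq, e⟩
  · exact hfix _ (e.trans A.pt_z.symm) inZ_base.1
  · refine hfix (-((0 : ZMod 3), (![1, 0, 0] : Cube3))) ?_ (neg_case _ inZ_base.1)
    rw [pt_neg, pt_z]; exact e
  · rcases S.conj_b hq with e' | ⟨c, hc, x, hx, hx1, e'⟩ <;> rw [← conj_inv, e'] at e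
    · rcases e with e | e
      · exact hfix _ (e.trans A.pt_b.symm) inZ_base.2.2.1
      · refine hfix (-((1 : ZMod 3), (![-1, 0, 0] : Cube3))) ?_ (neg_case _ inZ_base.2.2.1)
        rw [pt_neg, pt_b]; exact e
    · rcases e with e | e
      · exact hpos k v h hc hx hx1 e
      · have h' := hpos (-k) (-v) (show ZC D (A.pt (-(k, v))) from A.zc_neg h) hc hx hx1
          (show A.pt (-(k, v)) = _ by rw [pt_neg, e, inv_inv])
        simpa using neg_case (-k, -v) h'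

end Axes

/-- The frame exists. -/
theorem frame : StmtFrame.{u} := by
  intro G _ _ D P S
  obtain ⟨A⟩ := exists_axes S
  refine ⟨⟨A.w₂, A.w₃, A.hw₂, A.hw₃, A.u, A.uJ, fun k l v w e => ?_, fun x hx => ?_,
    fun k v => A.u_act (k, v), fun k v => A.r_act k v,
    fun k v => ⟨A.inZ_of_zc, A.zc_of_inZ⟩⟩⟩
  · exact Prod.ext_iff.1 (A.pt_inj (a₁ := (k, v)) (a₂ := (l, w)) e)
  · obtain ⟨⟨k, v⟩, e⟩ := A.pt_surj hx
    exact ⟨k, v, e⟩

end CfsgLib.McLThree.CentY
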