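import Cfsg.Agent.Lib.McLThree.CentYDefs

/-!
# The vectors of weight two: interface

The centraliser of a vector with exactly one vanishing coordinate follows from the others.
-/

set_option autoImplicit false

namespace CfsgLib.McLThree

open Subgroup

universe u

/-- The number of nonzero coordinates is one or three. -/
def OddWeight (v : Cube3) : Prop := (Finset.univ.filter fun i => v i ≠ 0).card % 2 = 1

instance : DecidablePred OddWeight := fun _ => inferInstanceAs (Decidable (_ = _))

/-- A cube configuration with the centralisers known only for vectors of odd weight. -/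
structure CubePre (M : Type u) [Group M] where
  E : Cube3 → M
  J : Subgroup M
  mem_J : ∀ x, x ∈ J ↔ ∃ v, E v = x
  add : ∀ v w, E (v + w) = E v * E w
  inj : Function.Injective E
  upper : ∀ h ∈ normalizer (J : Set M), ∃ m : Mono, ∀ v, h * E v * h⁻¹ = E (m.act v)
  lower : ∀ m : Mono, Equiv.Perm.sign m.perm = 1 →
    ∃ h : M, ∀ v, h * E v * h⁻¹ = E (m.act v)
  selfc : centralizer (J : Set M) ≤ J
  cent : ∀ v, OddWeight v → centralizer ({E v} : Set M) ≤ normalizer (J : Set M)

/-- The centralisers of the vectors of weight two normalise the cube too. -/
def StmtCubeTwo : Prop := ∀ (M : Type u) [Group M] [Finite M] (c : CubePre M) (v : Cube3),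
  v ≠ 0 → centralizer ({c.E v} : Set M) ≤ normalizer (c.J : Set M)

end CfsgLib.McLThree
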