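import Cfsg.Agent.Lib.McLThree.CentYLocal
import Cfsg.Agent.Lib.McLThree.CentYTwoDefs

/-!
# The frame for the centraliser of `y = z b`: interface

`pt k v` stands for `y ^ k * z ^ v 0 * w₂ ^ v 1 * w₃ ^ v 2`. The conjugates of `z` in `J` are the
points with `InZ k v`.
-/

set_option autoImplicit false
set_option linter.unusedSectionVars false

namespace CfsgLib.McLThree.CentY

open Subgroup CfsgLib.McLThree.Six

universe u

variable {G : Type u} [Group G] [Finite G] {D : Top G}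

/-- The conjugates of `z` among the points. -/
def InZ (k : ZMod 3) (v : Cube3) : Prop :=
  ((Finset.univ.filter fun i => v i ≠ 0).card = 1 ∧ k ≠ v 0) ∨
    ((Finset.univ.filter fun i => v i ≠ 0).card = 3 ∧ k = v 0)

instance (k : ZMod 3) (v : Cube3) : Decidable (InZ k v) :=
  inferInstanceAs (Decidable (_ ∨ _))

/-- The point with the given coordinates. -/
def point (z y w₂ w₃ : G) (k : ZMod 3) (v : Cube3) : G :=
  y ^ k.val * (z ^ (v 0).val * w₂ ^ (v 1).val * w₃ ^ (v 2).val)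

/-- The frame. -/
structure Frame {P : Model D} (S : Swap P) where
  w₂ : G
  w₃ : G
  hw₂ : InW D w₂
  hw₃ : InW D w₃
  u : G
  uJ : u ∈ normalizer (D.J : Set G)
  inj : ∀ k l v w, point D.z (D.z * S.b) w₂ w₃ k v = point D.z (D.z * S.b) w₂ w₃ l w →
    k = l ∧ v = w
  surj : ∀ x ∈ D.J, ∃ k v, point D.z (D.z * S.b) w₂ w₃ k v = x
  u_act : ∀ k v, u * point D.z (D.z * S.b) w₂ w₃ k v * u⁻¹ =
    point D.z (D.z * S.b) w₂ w₃ (k - v 0 + v 2) ![v 2, v 0, v 1]
  r_act : ∀ k v, (S.r : G) * point D.z (D.z * S.b) w₂ w₃ k v * (S.r : G)⁻¹ =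
    point D.z (D.z * S.b) w₂ w₃ (k + v 0) ![-v 0, v 1, -v 2]
  table : ∀ k v, ZC D (point D.z (D.z * S.b) w₂ w₃ k v) ↔ InZ k v

namespace Frame

variable {P : Model D} {S : Swap P} (F : Frame S)

/-- The point with the given coordinates. -/
def pt (k : ZMod 3) (v : Cube3) : G := point D.z (D.z * S.b) F.w₂ F.w₃ k v

theorem pow_add_val {x : G} (hx : x ∈ D.J) (i j : ZMod 3) :
    x ^ (i + j).val = x ^ i.val * x ^ j.val := by
  rw [← pow_add, ZMod.val_add, ← pow_eq_pow_mod _ (cube_J hx)]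

theorem pt_mem (k : ZMod 3) (v : Cube3) : F.pt k v ∈ D.J :=
  mul_mem (pow_mem (mul_mem (z_mem_J D) S.bJ) _)
    (mul_mem (mul_mem (pow_mem (z_mem_J D) _) (pow_mem F.hw₂.1 _)) (pow_mem F.hw₃.1 _))

theorem pt_add (k l : ZMod 3) (v w : Cube3) : F.pt (k + l) (v + w) = F.pt k v * F.pt l w := by
  have hy : D.z * S.b ∈ D.J := mul_mem (z_mem_J D) S.bJ
  have h4 : ∀ {a b c d : G}, a ∈ D.J → b ∈ D.J → c ∈ D.J → d ∈ D.J →
      a * b * (c * d) = a * c * (b * d) := by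
    intro a b c d _ hb hc _
    rw [mul_assoc, ← mul_assoc b, (J_comm D hb hc).eq]
    simp only [mul_assoc]
  have m0 : ∀ i : ℕ, D.z ^ i ∈ D.J := fun i => pow_mem (z_mem_J D) i
  have m2 : ∀ i : ℕ, F.w₂ ^ i ∈ D.J := fun i => pow_mem F.hw₂.1 i
  have m3 : ∀ i : ℕ, F.w₃ ^ i ∈ D.J := fun i => pow_mem F.hw₃.1 i
  simp only [pt, point, Pi.add_apply]
  rw [pow_add_val hy, pow_add_val (z_mem_J D), pow_add_val F.hw₂.1, pow_add_val F.hw₃.1,
    h4 (pow_mem hy _) (mul_mem (mul_mem (m0 _) (m2 _)) (m3 _)) (pow_mem hy _)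
      (mul_mem (mul_mem (m0 _) (m2 _)) (m3 _)),
    h4 (m0 (v 0).val) (m0 (w 0).val) (m2 (v 1).val) (m2 (w 1).val),
    h4 (mul_mem (m0 (v 0).val) (m2 (v 1).val)) (mul_mem (m0 (w 0).val) (m2 (w 1).val)) (m3 _) (m3 _)]

theorem pt_zero : F.pt 0 0 = 1 := by simp [pt, point]

theorem pt_y : F.pt 1 0 = D.z * S.b := by simp [pt, point, ZMod.val_one]

theorem pt_z : F.pt 0 ![1, 0, 0] = D.z := by simp [pt, point, ZMod.val_one]

theorem pt_b : F.pt 1 ![-1, 0, 0] = S.b := by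
  have h : (-1 : ZMod 3).val = 2 := rfl
  have h0 : (![-1, 0, 0] : Cube3) 0 = -1 := rfl
  have h1 : (![-1, 0, 0] : Cube3) 1 = 0 := rfl
  have h2 : (![-1, 0, 0] : Cube3) 2 = 0 := rfl
  rw [pt, point, h0, h1, h2, h, ZMod.val_zero, pow_zero, pow_zero, mul_one, mul_one,
    ZMod.val_one, pow_one, mul_assoc, (J_comm D S.bJ (pow_mem (z_mem_J D) 2)).eq, ← mul_assoc,
    ← pow_succ', z3, one_mul]

theorem zc_pt (k : ZMod 3) (v : Cube3) : ZC D (F.pt k v) ↔ InZ k v := F.table k v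

end Frame

/-- The frame exists. -/
def StmtFrame : Prop := ∀ (G : Type u) [Group G] [Finite G] (D : Top G) (P : Model D) (S : Swap P),
  Nonempty (Frame S)

/-- The elements of the normalizer of `J` fixing `y` act monomially with determinant one. -/
def StmtMono : Prop := ∀ (G : Type u) [Group G] [Finite G] (D : Top G) (P : Model D) (S : Swap P)
  (F : Frame S) (h : G), h ∈ normalizer (D.J : Set G) → h * (D.z * S.b) * h⁻¹ = D.z * S.b →
  ∃ m : Mono, ∀ k v, ∃ l, h * F.pt k v * h⁻¹ = F.pt l (m.act v)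

/-- The centralisers of the vectors of odd weight. -/
def StmtOddLines : Prop := ∀ (G : Type u) [Group G] [Finite G] (D : Top G) (P : Model D)
  (S : Swap P) (F : Frame S) (v : Cube3) (m : G), OddWeight v → Commute m (D.z * S.b) →
  (∃ k, m * F.pt 0 v * m⁻¹ = F.pt k v) → m ∈ normalizer (D.J : Set G)

end CfsgLib.McLThree.CentY
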