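import Cfsg.Agent.Lib.McLThree.Six.Select
import Cfsg.Agent.Lib.McLThree.CentYFinite

/-!
# The conjugates of `z` in `J`

Every conjugate of `z` lying in `J` is conjugate to it in the normalizer of `J`, so it is `z`,
its inverse or a conjugate of `b ∈ {a, a⁻¹}` under `Q`.
-/

set_option autoImplicit false
set_option linter.unusedSectionVars false

namespace CfsgLib.McLThree.CentY

open Subgroup Equiv CfsgLib.McLThree.Six
open scoped Pointwise

universe u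

variable {G : Type u} [Group G] [Finite G] {D : Top G}

theorem t_inv : D.t⁻¹ = D.t := inv_eq_of_mul_eq_one_right (tt D)

theorem t_conj_J {x : G} (hx : x ∈ D.J) : D.t * x * D.t⁻¹ ∈ D.J := conj_memJ Pre.t_normJ hx

theorem fix_of_commute {x : G} (h : Commute D.t x) : D.t * x * D.t⁻¹ = x :=
  mul_inv_eq_iff_eq_mul.2 h.eq

/-- The elements of `J` inverted by `t`. -/
def InW (D : Top G) (x : G) : Prop := x ∈ D.J ∧ D.t * x * D.t⁻¹ = x⁻¹

theorem InW.one : InW D 1 := ⟨one_mem _, by group⟩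

theorem InW.inv {x : G} (h : InW D x) : InW D x⁻¹ :=
  ⟨inv_mem h.1, by rw [← conj_inv, h.2]⟩

theorem InW.mul {x y : G} (hx : InW D x) (hy : InW D y) : InW D (x * y) :=
  ⟨mul_mem hx.1 hy.1, by
    rw [cmul, hx.2, hy.2, mul_inv_rev, (J_comm D (inv_mem hx.1) (inv_mem hy.1)).eq]⟩

theorem eq_one_of_sq {x : G} (hx : x ∈ D.J) (h : x * x = 1) : x = 1 := by
  have h3 := cube_J hx
  rwa [pow_succ, pow_two, h, one_mul] at h3

theorem InW.eq_one {w : G} (hw : InW D w) (h : Commute D.t w) : w = 1 := by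
  refine eq_one_of_sq hw.1 ?_
  have e := hw.2
  rw [fix_of_commute h] at e
  nth_rw 2 [e]
  exact mul_inv_cancel w

theorem split_unique {c c' w w' : G} (hcJ : c ∈ D.J) (hc'J : c' ∈ D.J) (hc : Commute D.t c)
    (hc' : Commute D.t c') (hw : InW D w) (hw' : InW D w') (h : c * w = c' * w') :
    c = c' ∧ w = w' := by
  have e : c'⁻¹ * c = w' * w⁻¹ := by
    rw [eq_mul_inv_iff_mul_eq, mul_assoc, h, inv_mul_cancel_left]
  have h1 : w' * w⁻¹ = 1 := (hw'.mul hw.inv).eq_one (e ▸ hc'.inv_right.mul_right hc)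
  rw [h1, inv_mul_eq_one] at e
  exact ⟨e.symm, (mul_inv_eq_one.1 h1).symm⟩

theorem exists_split {x : G} (hx : x ∈ D.J) :
    ∃ c w, c ∈ D.J ∧ Commute D.t c ∧ InW D w ∧ x = c * w := by
  set d := D.t * x * D.t⁻¹ with hd
  have hdJ : d ∈ D.J := t_conj_J hx
  have hdd : D.t * d * D.t⁻¹ = x := by
    rw [hd, show D.t * (D.t * x * D.t⁻¹) * D.t⁻¹ = D.t * D.t * x * (D.t * D.t)⁻¹ by group, tt,
      one_mul, inv_one, mul_one]
  refine ⟨x * x * d⁻¹, d * x⁻¹, mul_mem (mul_mem hx hx) (inv_mem hdJ), ?_,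
    ⟨mul_mem hdJ (inv_mem hx), ?_⟩, by group⟩
  · refine mul_inv_eq_iff_eq_mul.1 ?_
    rw [cmul, cmul, ← conj_inv, hdd, ← hd]
    have h3 : d * d = d⁻¹ := eq_inv_of_mul_eq_one_left (by
      rw [← pow_two, ← pow_succ]; exact cube_J hdJ)
    have hx3 : x * x = x⁻¹ := eq_inv_of_mul_eq_one_left (by
      rw [← pow_two, ← pow_succ]; exact cube_J hx)
    rw [h3, hx3]
    exact (J_comm D (inv_mem hdJ) (inv_mem hx)).eq
  · rw [cmul, ← conj_inv, hdd]
    simp only [hd]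
    group

theorem InW.mem_FF {w : G} (hw : InW D w) : w ∈ FF D := by
  obtain ⟨f, hf, b, hb, he⟩ := mem_J D hw.1
  have htb : Commute D.t b := by
    obtain ⟨n, rfl⟩ := mem_zpowers_iff.1 hb
    exact D.ta.zpow_right n
  have htf : D.t * f * D.t⁻¹ ∈ FF D :=
    mem_FF_of_commJ D (t_conj_J (FF_le_J D hf))
      (conj_memQ D (normQ D (Or.inl (fix_of_commute D.tz))) (FF_le D hf))
  have hbJ : b ∈ D.J := le_sup_right (a := D.Q ⊓ centralizer ({D.a} : Set G)) hb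
  have e1 : D.t * w * D.t⁻¹ * w⁻¹ = D.t * f * D.t⁻¹ * f⁻¹ := by
    rw [he, cmul, fix_of_commute htb]
    group
  rw [hw.2] at e1
  have e2 : w = w⁻¹ * w⁻¹ := by
    have h3 := cube_J hw.1
    rw [pow_succ, pow_two] at h3
    rw [← mul_inv_rev]
    exact eq_inv_of_mul_eq_one_left (by rw [← mul_assoc]; exact h3)
  rw [e2, e1]
  exact mul_mem htf (inv_mem hf)

theorem exists_split_FF {f : G} (hf : f ∈ FF D) :
    ∃ c ∈ zpowers D.z, ∃ w, InW D w ∧ f = c * w := by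
  obtain ⟨c, w, hcJ, hct, hw, he⟩ := exists_split (FF_le_J D hf)
  refine ⟨c, t_commQz D ?_ hct, w, hw, he⟩
  rw [show c = f * w⁻¹ by rw [he, mul_inv_cancel_right]]
  exact mul_mem hf (inv_mem hw.mem_FF)

theorem zp_t {c : G} (hc : c ∈ zpowers D.z) : Commute D.t c := by
  obtain ⟨n, rfl⟩ := mem_zpowers_iff.1 hc
  exact D.tz.zpow_right n

theorem zp_J {c : G} (hc : c ∈ zpowers D.z) : c ∈ D.J := FF_le_J D (zp_FF D hc)

/-- The conjugates of `z` in `J`. -/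
def ZC (D : Top G) (x : G) : Prop := x ∈ D.J ∧ ∃ h : G, h * D.z * h⁻¹ = x

theorem ZC.conj {x n : G} (h : ZC D x) (hn : n ∈ normalizer (D.J : Set G)) :
    ZC D (n * x * n⁻¹) := by
  obtain ⟨hx, g, hg⟩ := h
  exact ⟨conj_memJ hn hx, n * g, by rw [← hg]; group⟩

theorem zc_z : ZC D D.z := ⟨z_mem_J D, 1, by group⟩

theorem zc_inv (P : Model D) {x : G} (h : ZC D x) : ZC D x⁻¹ := by
  obtain ⟨hx, g, hg⟩ := h
  obtain ⟨S⟩ := exists_sel P
  refine ⟨inv_mem hx, g * S.c, ?_⟩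
  rw [← hg, show g * S.c * D.z * (g * S.c)⁻¹ = g * (S.c * D.z * S.c⁻¹) * g⁻¹ by group, S.cz,
    ← conj_inv]

/-- A conjugate of `z` in `J` is conjugate to it in the normalizer of `J`. -/
theorem exists_normJ (P : Model D) {x : G} (hx : ZC D x) :
    ∃ n ∈ normalizer (D.J : Set G), n * D.z * n⁻¹ = x := by
  have _ : Fact (Nat.Prime 3) := ⟨Nat.prime_three⟩
  obtain ⟨hyJ, h, hy⟩ := hx
  set J' : Subgroup G := D.J.map (MulAut.conj h⁻¹).toMonoidHom with hJ'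
  have hJ'C : J' ≤ centralizer ({D.z} : Set G) := by
    rintro _ ⟨j, hj, rfl⟩
    rw [mem_centralizer_singleton_iff]
    have h1 := (J_comm D hj hyJ).map (MulAut.conj h⁻¹)
    have e : (MulAut.conj h⁻¹) x = D.z := by rw [← hy, MulAut.conj_apply]; group
    rw [e] at h1
    exact h1.eq
  have hJ'p : IsPGroup 3 ↥J' := (IsPGroup.of_card (n := 4) (by rw [P.cardJ]; rfl)).map _
  set C : Subgroup G := centralizer ({D.z} : Set G) with hC
  have hSC : SS D ≤ C := sup_le D.cQ (zpowers_le.2 (mem_centralizer_singleton_iff.2 D.za.symm.eq))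
  obtain ⟨A, hA⟩ := ((SS_pgroup D).of_equiv (subgroupOfEquivOfLe hSC).symm).exists_le_sylow
  obtain ⟨B, hB⟩ := (hJ'p.of_equiv (subgroupOfEquivOfLe hJ'C).symm).exists_le_sylow
  have eA : SS D = (A : Subgroup ↥C).map C.subtype := by
    refine eq_of_le_of_card_ge (fun s hs => ⟨⟨s, hSC hs⟩, hA hs, rfl⟩) ?_
    rw [card_SS]
    exact p_le_729 D (A.2.map _)
  obtain ⟨c, hc⟩ := MulAction.exists_smul_eq ↥C B A
  have hsub : J'.map (MulAut.conj (c : G)).toMonoidHom ≤ SS D := by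
    rintro _ ⟨j, hj, rfl⟩
    rw [eA, ← hc, Sylow.coe_subgroup_smul]
    exact ⟨c * ⟨j, hJ'C hj⟩ * c⁻¹, ⟨⟨j, hJ'C hj⟩, hB hj, rfl⟩, rfl⟩
  have hmap : (D.J.map (MulAut.conj ((c : G) * h⁻¹)).toMonoidHom) = D.J := by
    refine unique_abelian D ?_ ?_ ?_ P.cardJ
    · refine le_trans (le_of_eq ?_) hsub
      rw [hJ', map_map]
      congr 1
      ext v
      simp [MulAut.conj_apply, mul_assoc]
    · rintro _ ⟨u, hu, rfl⟩ _ ⟨v, hv, rfl⟩
      exact (J_comm D hu hv).map _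
    · refine Eq.trans ?_ P.cardJ
      exact (Nat.card_congr (D.J.equivMapOfInjective _
        (MulAut.conj ((c : G) * h⁻¹)).injective).toEquiv).symm
  refine ⟨((c : G) * h⁻¹)⁻¹, inv_mem (mem_normalizer_iff_map_conj_eq.2 hmap), ?_⟩
  have hcz : (c : G)⁻¹ * D.z * (c : G) = D.z := by
    have := mem_centralizer_singleton_iff.1 c.2
    rw [mul_assoc, ← this]; group
  calc ((c : G) * h⁻¹)⁻¹ * D.z * ((c : G) * h⁻¹)⁻¹⁻¹ = h * ((c : G)⁻¹ * D.z * (c : G)) * h⁻¹ := by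
        group
    _ = x := by rw [hcz, hy]

/-- The lift of the exchange of the two lines, with the image `b` of `z`. -/
structure Swap (P : Model D) where
  r : ↥P.M
  b : G
  hr : P.ψ r = sr
  rt : Commute (r : G) D.t
  rz : (r : G) * D.z * (r : G)⁻¹ = b

theorem exists_swap (P : Model D) : Nonempty (Swap P) := by
  obtain ⟨r, hr, hrt⟩ := lift P sr sign_facts.2.2.2.1 rel_facts.2.2.2.2.2.1
  exact ⟨⟨r, _, hr, hrt, rfl⟩⟩

namespace Swap

variable {P : Model D} (S : Swap P)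

theorem b_cases : S.b = D.a ∨ S.b = D.a⁻¹ := by
  rw [← S.rz]
  exact swap_image P S.hr S.rt

theorem bJ : S.b ∈ D.J := by
  rcases S.b_cases with h | h <;> rw [h]
  exacts [a_mem_J D, inv_mem (a_mem_J D)]

theorem bt : Commute D.t S.b := by
  rcases S.b_cases with h | h <;> rw [h]
  exacts [D.ta, D.ta.inv_right]

theorem b_notQ : S.b ∉ D.Q := by
  rcases S.b_cases with h | h <;> rw [h]
  exacts [D.a_notQ, a_inv_notQ D]

theorem a_cases : D.a = S.b ∨ D.a = S.b⁻¹ := by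
  rcases S.b_cases with h | h
  · exact Or.inl h.symm
  · exact Or.inr (by rw [h, inv_inv])

theorem zc_b : ZC D S.b := ⟨S.bJ, (S.r : G), S.rz⟩

theorem rb : (S.r : G) * S.b * (S.r : G)⁻¹ = D.z := by
  have h := P.toPre.act (m := S.r * S.r) (n := 1) (by rw [map_mul, S.hr, rel_facts.2.1, map_one])
    (z_mem_J D)
  nth_rw 1 [← S.rz]
  simpa [mul_assoc] using h

/-- The classification of the conjugates of `z` in `J`. -/
theorem zc_cases {x : G} (hx : ZC D x) :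
    x = D.z ∨ x = D.z⁻¹ ∨ ∃ q ∈ D.Q, x = q * S.b * q⁻¹ ∨ x = q * S.b⁻¹ * q⁻¹ := by
  obtain ⟨h, hh, hx⟩ := exists_normJ P hx
  obtain ⟨n, hn⟩ := orbit P hh
  rw [hx] at hn
  obtain ⟨ζ, hζ, hxn⟩ : ∃ ζ, (ζ = D.z ∨ ζ = D.z⁻¹) ∧ x = (n : G) * ζ * (n : G)⁻¹ := by
    rcases hn with e | e
    exacts [⟨_, Or.inl rfl, e⟩, ⟨_, Or.inr rfl, e⟩]
  have hblk : ∀ m : ↥P.M, IsBlock (P.ψ m) →
      (m : G) * ζ * (m : G)⁻¹ = D.z ∨ (m : G) * ζ * (m : G)⁻¹ = D.z⁻¹ := by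
    intro m hm
    rcases hζ with rfl | rfl
    · exact P.toPre.block_z hm
    · rcases P.toPre.block_z hm with e | e <;> rw [← conj_inv, e]
      · exact Or.inr rfl
      · exact Or.inl (inv_inv _)
  rcases six_cosets _ (P.even n) with hb | ⟨p, hp, hb⟩
  · rcases hblk n hb with e | e
    exacts [Or.inl (hxn.trans e), Or.inr (Or.inl (hxn.trans e))]
  · refine Or.inr (Or.inr ?_)
    obtain ⟨s, hs⟩ := P.surj p (pList_closed.2.2.2.2.2 p hp)
    have hsS : (s : G) ∈ SS D := (P.memS s).2 (hs ▸ hp)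
    obtain ⟨q, hq, c, hc, hqc⟩ := mem_SS D hsS
    have hcJ : c ∈ D.J := le_sup_right (a := D.Q ⊓ centralizer ({D.a} : Set G)) hc
    rw [← hs, ← S.hr, ← map_mul, ← map_inv, ← map_mul] at hb
    have key : ∀ β : G, β ∈ D.J → x = (s : G) * β * (s : G)⁻¹ → x = q * β * q⁻¹ := by
      intro β hβ e
      rw [e, hqc, show q * c * β * (q * c)⁻¹ = q * (c * β * c⁻¹) * q⁻¹ by group,
        (J_comm D hcJ hβ).eq, mul_inv_cancel_right]
    set m := (s * S.r)⁻¹ * n with hm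
    have hxm : x = (s : G) * ((S.r : G) * ((m : G) * ζ * (m : G)⁻¹) * (S.r : G)⁻¹) * (s : G)⁻¹ := by
      rw [hxn, hm]; simp only [Subgroup.coe_mul, Subgroup.coe_inv]; group
    refine ⟨q, hq, ?_⟩
    rcases hblk m hb with e | e <;> rw [e] at hxm
    · rw [S.rz] at hxm
      exact Or.inl (key _ S.bJ hxm)
    · rw [← conj_inv, S.rz] at hxm
      exact Or.inr (key _ (inv_mem S.bJ) hxm)

/-- A conjugate of `b` under `Q` differs from it by an element of `R`. -/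
theorem conj_b {q : G} (hq : q ∈ D.Q) : q * S.b * q⁻¹ = S.b ∨
    ∃ c ∈ zpowers D.z, ∃ w, InW D w ∧ w ≠ 1 ∧ q * S.b * q⁻¹ = c * S.b * w := by
  have hfF := fa_memFF D hq
  obtain ⟨f, hf, hfz, hfb⟩ : ∃ f ∈ FF D, (f ∈ zpowers D.z → fa' D q ∈ zpowers D.z) ∧
      q * S.b * q⁻¹ = f * S.b := by
    rcases S.b_cases with h | h
    · refine ⟨(fa' D q)⁻¹, inv_mem hfF, fun h' => by simpa using inv_mem h', ?_⟩
      rw [h, fa', com]; group
    · refine ⟨fa' D q, hfF, id, ?_⟩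
      have e : D.a⁻¹ * fa' D q * D.a = q * D.a⁻¹ * q⁻¹ * D.a := by rw [fa', com]; group
      rw [(a_comm_FF D hfF).inv_left.eq, inv_mul_cancel_right] at e
      rw [h, e, mul_inv_cancel_right]
  obtain ⟨c, hc, w, hw, he⟩ := exists_split_FF hf
  by_cases hw1 : w = 1
  · left
    rw [hw1, mul_one] at he
    have hqF := fa_fix D hq (hfz (he ▸ hc))
    rw [(J_comm D (FF_le_J D hqF) S.bJ).eq, mul_inv_cancel_right]
  · right
    refine ⟨c, hc, w, hw, hw1, ?_⟩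
    rw [hfb, he, mul_assoc c w, (J_comm D hw.1 S.bJ).eq, mul_assoc c S.b]

theorem cb_t {c : G} (hc : c ∈ zpowers D.z) : c * S.b ∈ D.J ∧ Commute D.t (c * S.b) :=
  ⟨mul_mem (zp_J hc) S.bJ, (zp_t hc).mul_right S.bt⟩

/-- A conjugate of `b` is determined by its class modulo the centre. -/
theorem conj_b_unique {q q' d : G} (hq : q ∈ D.Q) (hq' : q' ∈ D.Q) (hd : d ∈ zpowers D.z)
    (h : q * S.b * q⁻¹ = d * (q' * S.b * q'⁻¹)) : d = 1 := by
  have hr : q'⁻¹ * q ∈ D.Q := mul_mem (inv_mem hq') hq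
  have e : q'⁻¹ * q * S.b * (q'⁻¹ * q)⁻¹ = d * S.b := by
    calc q'⁻¹ * q * S.b * (q'⁻¹ * q)⁻¹ = q'⁻¹ * (q * S.b * q⁻¹) * q' := by group
      _ = q'⁻¹ * (d * q') * S.b := by rw [h]; group
      _ = d * S.b := by rw [(zp_commQ D hd hq').eq]; group
  rcases S.conj_b hr with e' | ⟨c, hc, w, hw, hw1, e'⟩
  · rw [e] at e'
    exact mul_eq_right.1 e'
  · rw [e, ← mul_one (d * S.b)] at e'
    exact absurd (split_unique (S.cb_t hd).1 (S.cb_t hc).1 (S.cb_t hd).2 (S.cb_t hc).2 InW.one hw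
      e').2.symm hw1

/-- The `W`-parts of the conjugates of `b` form a subgroup. -/
theorem conj_b_mul {q q' c c' w w' : G} (hq : q ∈ D.Q) (hc : c ∈ zpowers D.z)
    (hc' : c' ∈ zpowers D.z) (hw' : InW D w') (e : q * S.b * q⁻¹ = c * S.b * w)
    (e' : q' * S.b * q'⁻¹ = c' * S.b * w') (hw : InW D w) :
    ∃ d ∈ zpowers D.z, q * q' * S.b * (q * q')⁻¹ = d * S.b * (w * w') := by
  have h1 : q * w' * q⁻¹ = com q w' * w' := conjQ_eq D hq (FF_le D hw'.mem_FF)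
  have hk : com q w' ∈ zpowers D.z := com_mem D hq (FF_le D hw'.mem_FF)
  refine ⟨c' * (c * com q w'), mul_mem hc' (mul_mem hc hk), ?_⟩
  calc q * q' * S.b * (q * q')⁻¹ = q * (q' * S.b * q'⁻¹) * q⁻¹ := by group
    _ = (q * c' * q⁻¹) * (q * S.b * q⁻¹) * (q * w' * q⁻¹) := by rw [e']; group
    _ = c' * (c * S.b * w) * (com q w' * w') := by
      rw [(zp_commQ D hc' hq).symm.eq, mul_inv_cancel_right, e, h1]
    _ = c' * (c * (S.b * w * com q w')) * w' := by group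
    _ = c' * (c * (com q w' * (S.b * w))) * w' := by
      rw [(J_comm D (mul_mem S.bJ hw.1) (zp_J hk)).eq]
    _ = c' * (c * com q w') * S.b * (w * w') := by group

end Swap

/-- `J` is its own centraliser. -/
theorem centJ (P : Model D) : centralizer (D.J : Set G) ≤ D.J := by
  intro m hm
  have hc : ∀ j ∈ D.J, Commute m j := fun j hj => ((mem_centralizer_iff.1 hm) j hj).symm
  obtain ⟨k, l, hl, hkl⟩ : ∃ k l, ¬ 3 ∣ l ∧ orderOf m = 3 ^ k * l :=
    Nat.exists_eq_pow_mul_and_not_dvd (orderOf_pos _).ne' 3 (by norm_num)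
  have hm1 : m ^ 3 ^ k = 1 := by
    refine centJ_coprime D (fun j hj => (hc j hj).pow_left _) ?_
    rwa [orderOf_pow_of_dvd (by positivity) ⟨l, hkl⟩, hkl, Nat.mul_div_cancel_left _ (by positivity)]
  have hmp : IsPGroup 3 ↥(zpowers m) := by
    rintro ⟨x, hx⟩
    obtain ⟨n, rfl⟩ := mem_zpowers_iff.1 hx
    refine ⟨k, Subtype.ext ?_⟩
    show (m ^ n) ^ 3 ^ k = 1
    rw [← zpow_natCast, ← zpow_mul, mul_comm, zpow_mul, zpow_natCast, hm1, one_zpow]
  have hmJ : m ∈ normalizer (D.J : Set G) := mem_normalizer_fintype fun x hx => by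
    show m * x * m⁻¹ ∈ D.J
    rw [(hc x hx).eq, mul_inv_cancel_right]; exact hx
  have hmM : m ∈ P.M := P.three _ hmp (zpowers_le.2 hmJ) (mem_zpowers _)
  have hmz : m * D.z * m⁻¹ = D.z := mul_inv_eq_iff_eq_mul.2 (hc _ (z_mem_J D)).eq
  have hb : IsBlock (P.ψ ⟨m, hmM⟩) :=
    P.toPre.normSS_iff.1 (normSS_of hmJ (normQ D (Or.inl hmz)))
  have h9 : P.ψ ⟨m, hmM⟩ ^ 9 = 1 := by
    refine orderOf_dvd_iff_pow_eq_one.1 ?_
    have h1 : orderOf (P.ψ ⟨m, hmM⟩) ∣ 3 ^ k := orderOf_dvd_of_pow_eq_one (by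
      rw [← map_pow, show (⟨m, hmM⟩ : ↥P.M) ^ 3 ^ k = 1 from Subtype.ext hm1, map_one])
    have h2 : orderOf (P.ψ ⟨m, hmM⟩) ∣ 720 := by
      have := _root_.orderOf_dvd_natCard (P.ψ ⟨m, hmM⟩)
      rwa [Nat.card_eq_fintype_card, Fintype.card_perm] at this
    obtain ⟨i, hi, hio⟩ := (Nat.dvd_prime_pow Nat.prime_three).1 h1
    rw [hio] at h2 ⊢
    refine pow_dvd_pow (n := 2) 3 ?_
    by_contra h3
    exact absurd ((pow_dvd_pow 3 (show 3 ≤ i by omega)).trans h2) (by norm_num)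
  have hS : m ∈ SS D := (P.memS ⟨m, hmM⟩).2 (block_three _ hb h9)
  obtain ⟨q, hq, c, hcz, rfl⟩ := mem_SS D hS
  refine mul_mem (FF_le_J D (mem_FF_of_comm D hq fun f hf => ?_))
    (le_sup_right (a := D.Q ⊓ centralizer ({D.a} : Set G)) hcz)
  have hcJ : c ∈ D.J := le_sup_right (a := D.Q ⊓ centralizer ({D.a} : Set G)) hcz
  simpa using (hc f (FF_le_J D hf)).mul_left (J_comm D hcJ (FF_le_J D hf)).inv_left

/-- The centraliser in `C(z)` of an element inverted by `t` normalises `J`. -/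
theorem centW {w m : G} (hw : InW D w) (hw1 : w ≠ 1) (hmz : Commute m D.z) (hmw : Commute m w) :
    m ∈ normalizer (D.J : Set G) := by
  set K := centralizer ({D.z} : Set G) ⊓ centralizer ({D.t} : Set G) with hK
  have hwQ : w ∈ D.Q := FF_le D hw.mem_FF
  have hmC : m ∈ centralizer ({D.z} : Set G) := mem_centralizer_singleton_iff.2 hmz.eq
  have hKQ : K ≤ normalizer (D.Q : Set G) := fun x hx =>
    normQ D (Or.inl (mul_inv_eq_iff_eq_mul.2 (mem_centralizer_singleton_iff.1 hx.1)))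
  rw [D.gen_z] at hmC
  obtain ⟨q, hq, x, hx, rfl⟩ : ∃ q ∈ D.Q, ∃ x ∈ K, m = q * x := by
    have h : m ∈ ((D.Q : Set G) * (K : Set G)) := by
      rw [← coe_mul_of_right_le_normalizer_left _ _ hKQ]; exact hmC
    obtain ⟨q, hq, x, hx, e⟩ := Set.mem_mul.1 h
    exact ⟨q, hq, x, hx, e.symm⟩
  have hzc : ∀ x ∈ K, ∀ c ∈ zpowers D.z, x * c * x⁻¹ = c := by
    intro x hx c hc
    obtain ⟨n, rfl⟩ := mem_zpowers_iff.1 hc
    exact mul_inv_eq_iff_eq_mul.2
      ((show Commute x D.z from mem_centralizer_singleton_iff.1 hx.1).zpow_right n).eq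
  let St : Subgroup ↥K :=
    { carrier := {x | (x : G) * w * (x : G)⁻¹ * w⁻¹ ∈ zpowers D.z}
      one_mem' := by simp
      mul_mem' := fun {u v} hu hv => by
        show ((u * v : ↥K) : G) * w * ((u * v : ↥K) : G)⁻¹ * w⁻¹ ∈ zpowers D.z
        rw [show ((u * v : ↥K) : G) * w * ((u * v : ↥K) : G)⁻¹ * w⁻¹ =
          (u : G) * ((v : G) * w * (v : G)⁻¹ * w⁻¹) * (u : G)⁻¹ *
            ((u : G) * w * (u : G)⁻¹ * w⁻¹) by simp [mul_assoc]]
        exact mul_mem (by rw [hzc u u.2 _ hv]; exact hv) hu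
      inv_mem' := fun {u} hu => by
        show (u : G)⁻¹ * w * (u : G)⁻¹⁻¹ * w⁻¹ ∈ zpowers D.z
        rw [show (u : G)⁻¹ * w * (u : G)⁻¹⁻¹ * w⁻¹ =
          (u : G)⁻¹ * ((u : G) * w * (u : G)⁻¹ * w⁻¹)⁻¹ * (u : G)⁻¹⁻¹ by group,
          hzc _ (inv_mem u.2) _ (inv_mem hu)]
        exact inv_mem hu }
  have hxS : (⟨x, hx⟩ : ↥K) ∈ St := by
    show x * w * x⁻¹ * w⁻¹ ∈ zpowers D.z
    have e : x * w * x⁻¹ = q⁻¹ * (q * x * w * (q * x)⁻¹) * q := by group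
    rw [e, mul_inv_eq_iff_eq_mul.2 hmw.eq]
    simpa [com] using com_mem D (inv_mem hq) hwQ
  obtain ⟨haK, h3, hne⟩ := phi_a (D := D)
  obtain ⟨σ, hσ⟩ := five_conj _ h3 hne
  let φ' : ↥K →* Perm (Fin 5) := (MulAut.conj σ).toMonoidHom.comp D.φ
  have hsign : ∀ v : ↥K, Perm.sign (φ' v) = Perm.sign (D.φ v) := fun v => by
    show Perm.sign (σ * D.φ v * σ⁻¹) = _
    rw [map_mul, map_mul, map_inv, mul_right_comm, mul_inv_cancel, one_mul]
  have haS : (⟨D.a, haK⟩ : ↥K) ∈ St := by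
    show D.a * w * D.a⁻¹ * w⁻¹ ∈ zpowers D.z
    rw [(a_comm_FF D hw.mem_FF).eq, mul_inv_cancel_right, mul_inv_cancel]
    exact one_mem _
  have hφa : φ' ⟨D.a, haK⟩ = fa := hσ
  -- no involution in the even part
  have hinv : ∀ v ∈ St, Perm.sign (φ' v) = 1 → ¬ (φ' v * φ' v = 1 ∧ φ' v ≠ 1) := by
    rintro v hv hev ⟨h2, h1⟩
    have h1' : D.φ v ≠ 1 := fun e => h1 (by show σ * D.φ v * σ⁻¹ = 1; rw [e]; group)
    have h2' : D.φ v * D.φ v = 1 := by
      have e : σ * D.φ v * σ⁻¹ * (σ * D.φ v * σ⁻¹) = 1 := h2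
      rw [← cmul] at e
      exact conj_eq_one_iff.1 e
    obtain ⟨n, hn⟩ := mem_zpowers_iff.1
      (D.φ_quat v (Perm.mem_alternatingGroup.2 (by rw [← hsign]; exact hev)) h1' h2')
    have hvv : (v : G) * (v : G) = D.z ^ n * D.t := by rw [hn, mul_assoc, tt, mul_one]
    have hvS : (v : G) * (v : G) * w * ((v : G) * (v : G))⁻¹ * w⁻¹ ∈ zpowers D.z :=
      St.mul_mem hv hv
    rw [hvv, show D.z ^ n * D.t * w * (D.z ^ n * D.t)⁻¹ = D.z ^ n * (D.t * w * D.t⁻¹) * (D.z ^ n)⁻¹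
      by group, hw.2, (J_comm D (zp_J (zpow_mem (mem_zpowers _) n)) (inv_mem hw.1)).eq,
      mul_inv_cancel_right] at hvS
    have hwz : w⁻¹ * w⁻¹ = w := by
      rw [← mul_inv_rev]
      exact inv_eq_of_mul_eq_one_left (by rw [← mul_assoc, ← pow_two, ← pow_succ]; exact cube_J hw.1)
    rw [hwz] at hvS
    exact hw1 (hw.eq_one (zp_t hvS))
  set T : Subgroup (Perm (Fin 5)) := St.map φ' with hT
  have hfaT : fa ∈ T := ⟨_, haS, hφa⟩
  have heven : ∀ p ∈ T, Perm.sign p = 1 → p = 1 ∨ p = fa ∨ p = fa * fa := by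
    intro p hp hev
    have hfe := five_facts.1
    refine five_stab p hev fun q hq => ?_
    have hqT : q ∈ T ∧ Perm.sign q = 1 := by
      simp only [List.mem_cons, List.not_mem_nil, or_false] at hq
      rcases hq with rfl | rfl | rfl | rfl | rfl | rfl | rfl | rfl | rfl <;>
        exact ⟨by repeat' (first | exact hp | exact hfaT | exact inv_mem hfaT | exact inv_mem hp |
            apply mul_mem),
          by simp [hev, hfe]⟩
    obtain ⟨⟨v, hv, rfl⟩, hqe⟩ := hqT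
    exact hinv v hv hqe
  set X : ↥K := ⟨x, hx⟩
  have hpn : φ' X * fa * (φ' X)⁻¹ = fa ∨ φ' X * fa * (φ' X)⁻¹ = fa⁻¹ := by
    refine five_norm _ (heven _ ?_ (by simp [five_facts.1]))
    exact mul_mem (mul_mem ⟨_, hxS, rfl⟩ hfaT) (inv_mem ⟨_, hxS, rfl⟩)
  have hxa : x * D.a * x⁻¹ = D.a ∨ x * D.a * x⁻¹ = D.a⁻¹ := by
    have back : D.φ X * D.φ ⟨D.a, haK⟩ * (D.φ X)⁻¹ = σ⁻¹ * (φ' X * fa * (φ' X)⁻¹) * σ := by
      rw [← hφa]
      show _ = σ⁻¹ * (σ * D.φ X * σ⁻¹ * (σ * D.φ ⟨D.a, haK⟩ * σ⁻¹) * (σ * D.φ X * σ⁻¹)⁻¹) * σ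
      group
    have hσa : D.φ ⟨D.a, haK⟩ = σ⁻¹ * fa * σ := by rw [← hσ]; group
    rcases hpn with e | e <;> rw [e] at back
    · exact Or.inl (kt_a (x := X) (Or.inl rfl) haK haK (by rw [back, hσa]))
    · refine Or.inr (kt_a (x := X) (Or.inr rfl) (inv_mem haK) haK (back.trans ?_))
      rw [show (⟨D.a⁻¹, inv_mem haK⟩ : ↥K) = (⟨D.a, haK⟩ : ↥K)⁻¹ from rfl, map_inv, hσa]
      group
  exact mul_mem (Q_normJ D hq) (normJ_of (hKQ hx) hxa)

end CfsgLib.McLThree.CentY
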