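import Cfsg.Agent.Lib.McLThree.CentYDefs

/-!
# The centraliser of a diagonal element: linear maps of `J`

Coordinates `(x₀, x₁, u₁, u₂)` for `z^x₀ a^x₁ w₁^u₁ w₂^u₂`; four maps induced by elements of the
normal subgroup with quotient the alternating group of degree six generate its image of order 360.
-/

set_option autoImplicit false
set_option maxRecDepth 100000
set_option maxHeartbeats 1000000
set_option synthInstance.maxSize 4000
set_option synthInstance.maxHeartbeats 400000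

namespace CfsgLib.McLThree.CentY

-- membership quantifiers over the finite type of maps would otherwise enumerate all maps
attribute [local instance 100000] List.decidableBAll List.decidableBEx

/-- The coordinates. -/
abbrev V4 : Type := ZMod 3 × ZMod 3 × ZMod 3 × ZMod 3

/-- A linear map, by the images of the basis. -/
abbrev Lin : Type := V4 × V4 × V4 × V4

/-- A vector times a scalar. -/
def smulV (k : ZMod 3) (x : V4) : V4 := (k * x.1, k * x.2.1, k * x.2.2.1, k * x.2.2.2)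

/-- The value of a linear map. -/
def app (l : Lin) (x : V4) : V4 :=
  smulV x.1 l.1 + smulV x.2.1 l.2.1 + smulV x.2.2.1 l.2.2.1 + smulV x.2.2.2 l.2.2.2

/-- The composition. -/
def comp (l m : Lin) : Lin := (app l m.1, app l m.2.1, app l m.2.2.1, app l m.2.2.2)

/-- The identity. -/
def one : Lin := ((1, 0, 0, 0), (0, 1, 0, 0), (0, 0, 1, 0), (0, 0, 0, 1))

/-- The maps induced by the four elements. -/
def gen : Fin 4 → Lin :=
  ![((1, 0, 0, 0), (1, 1, 1, 0), (2, 0, 1, 0), (0, 0, 0, 1)),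
    ((1, 0, 0, 0), (1, 1, 0, 1), (0, 0, 1, 0), (2, 0, 0, 1)),
    ((1, 1, 1, 0), (0, 1, 0, 0), (0, 2, 1, 0), (0, 0, 0, 1)),
    ((1, 1, 0, 2), (0, 1, 0, 0), (0, 0, 1, 0), (0, 1, 0, 1))]

/-- The map of a word. -/
def wlin (w : List (Fin 4)) : Lin := w.foldr (fun k l => comp (gen k) l) one

/-- A transversal of the stabiliser of `z`. -/
def orbWords : List (List (Fin 4)) := [
    [1, 3],
    [1, 2, 1, 2],
    [],
    [3, 3],
    [3],
    [2],
    [0, 2],
    [1, 3, 2],
    [3, 2],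
    [1, 3, 0, 2],
    [3, 0, 2],
    [3, 0, 3, 2],
    [1, 2],
    [0, 3],
    [1, 0, 2],
    [0, 0, 3],
    [2, 1, 2],
    [0, 3, 2],
    [3, 0, 3],
    [3, 0, 0, 3]]

/-- The stabiliser of `z`. -/
def stWords : List (List (Fin 4)) := [
    [],
    [0],
    [1],
    [0, 0],
    [1, 0],
    [1, 1],
    [1, 0, 0],
    [1, 1, 0],
    [1, 1, 0, 0],
    [3, 1, 0, 0, 2],
    [3, 1, 0, 2, 2],
    [2, 1, 0, 0, 3],
    [2, 2, 1, 0, 3],
    [3, 1, 0, 2, 2, 0],
    [2, 1, 0, 0, 3, 0],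
    [2, 1, 0, 0, 3, 1],
    [2, 2, 1, 0, 3, 1],
    [2, 1, 0, 0, 3, 1, 0]]

/-- The centraliser of `y = z a`. -/
def syWords : List (List (Fin 4)) := [
    [],
    [1, 3, 1],
    [0, 2, 2, 0],
    [3, 0, 3, 1, 0],
    [3, 1, 1, 2, 0],
    [0, 3, 2, 1, 1],
    [2, 0, 3, 1, 1],
    [0, 3, 3, 2, 1],
    [2, 0, 3, 3, 1],
    [3, 1, 1, 0, 2],
    [3, 3, 1, 0, 2],
    [2, 1, 0, 0, 3, 1, 0]]

/-- The quadratic form. -/
def qf (x : V4) : ZMod 3 := x.2.2.1 * x.2.2.1 + x.2.2.2 * x.2.2.2 - x.1 * x.2.1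

/-- A singular vector. -/
def Sing (x : V4) : Prop := x ≠ 0 ∧ qf x = 0

instance : DecidablePred Sing := fun _ => inferInstanceAs (Decidable (_ ∧ _))

/-- The 360 maps. -/
def words : List (List (Fin 4)) := orbWords.flatMap fun o => stWords.map fun s => o ++ s

/-- The maps of the words. -/
def maps : List Lin := words.map wlin

/-- `z` -/
def zV : V4 := (1, 0, 0, 0)

/-- `a` -/
def aV : V4 := (0, 1, 0, 0)

/-- `y = z a` -/
def yV : V4 := (1, 1, 0, 0)

theorem app_add : ∀ (l : Lin) (x x' : V4), app l (x + x') = app l x + app l x' := by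
  intro l x x'
  simp only [app, smulV, Prod.ext_iff, Prod.fst_add, Prod.snd_add]
  refine ⟨?_, ?_, ?_, ?_⟩ <;> ring

theorem app_smul : ∀ (l : Lin) (k : ZMod 3) (x : V4), app l (smulV k x) = smulV k (app l x) := by
  intro l k x
  simp only [app, smulV, Prod.ext_iff, Prod.fst_add, Prod.snd_add]
  refine ⟨?_, ?_, ?_, ?_⟩ <;> ring

theorem app_one : ∀ x : V4, app one x = x := by decide +kernel

theorem app_comp (l m : Lin) (x : V4) : app (comp l m) x = app l (app m x) := by
  obtain ⟨x0, x1, x2, x3⟩ := x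
  show app (comp l m) _ = app l (smulV x0 m.1 + smulV x1 m.2.1 + smulV x2 m.2.2.1 + smulV x3 m.2.2.2)
  rw [app_add, app_add, app_add, app_smul, app_smul, app_smul, app_smul]
  rfl

theorem lin_ext {l m : Lin} (h : ∀ x, app l x = app m x) : l = m := by
  have key : ∀ n : Lin, n = (app n (1, 0, 0, 0), app n (0, 1, 0, 0), app n (0, 0, 1, 0),
      app n (0, 0, 0, 1)) := by
    intro n
    obtain ⟨a, b, c, d⟩ := n
    simp [app, smulV, Prod.ext_iff]
  rw [key l, key m, h, h, h, h]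

/-- The code of a vector. -/
def vcode (x : V4) : ℕ := 27 * x.1.val + 9 * x.2.1.val + 3 * x.2.2.1.val + x.2.2.2.val

/-- The code of a map. -/
def lcode (l : Lin) : ℕ :=
  531441 * vcode l.1 + 6561 * vcode l.2.1 + 81 * vcode l.2.2.1 + vcode l.2.2.2

theorem maps_length : maps.length = 360 ∧ words.length = 360 := by decide +kernel

theorem maps_nodup : (maps.map lcode).Nodup := by decide +kernel

theorem gen_sing : ∀ x, Sing x → ∀ k, Sing (app (gen k) x) := by decide +kernel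

theorem wlin_sing (w : List (Fin 4)) : ∀ x, Sing x → Sing (app (wlin w) x) := by
  induction w with
  | nil => intro x hx; show Sing (app one x); rwa [app_one]
  | cons k l ih =>
    intro x hx
    show Sing (app (comp (gen k) (wlin l)) x)
    rw [app_comp]
    exact gen_sing _ (ih x hx) k

theorem maps_sing : ∀ l ∈ maps, Sing (app l zV) := by
  intro l hl
  obtain ⟨w, -, rfl⟩ := List.mem_map.1 hl
  exact wlin_sing w zV ⟨by decide, by decide⟩

theorem sing_orbit : ∀ x, Sing x → ∃ w ∈ orbWords, app (wlin w) zV = x := by decide +kernel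

/-- Eighteen maps fix `z`, twelve fix a nonsingular vector. -/
theorem st_count : (stWords.map fun w => lcode (wlin w)).Nodup ∧ stWords.length = 18 ∧
    (∀ w ∈ stWords, app (wlin w) zV = zV) ∧
    ∀ x, x ≠ 0 → ¬ Sing x → (maps.filter fun l => decide (app l x = x)).length < 18 := by
  decide +kernel

/-- The six vectors that go to `z`. -/
theorem sy_orbit : ∀ x, Sing x → Sing (yV - x) →
    ∃ w ∈ syWords, app (wlin w) yV = yV ∧ app (wlin w) x = zV := by decide +kernel

theorem sy_fix : ∀ w ∈ syWords, app (wlin w) yV = yV := by decide +kernel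

/-- The map with the given values on `w₁, w₂`, fixing `z` and `a`. -/
def fixLin (p r : V4) : Lin := (zV, aV, p, r)

/-- The eight orthogonal maps of the plane. -/
def plane8 : List Lin := [one, ((1, 0, 0, 0), (0, 1, 0, 0), (0, 0, 2, 0), (0, 0, 0, 2)),
  ((1, 0, 0, 0), (0, 1, 0, 0), (0, 0, 0, 1), (0, 0, 2, 0)),
  ((1, 0, 0, 0), (0, 1, 0, 0), (0, 0, 0, 2), (0, 0, 1, 0)),
  ((1, 0, 0, 0), (0, 1, 0, 0), (0, 0, 1, 0), (0, 0, 0, 2)),
  ((1, 0, 0, 0), (0, 1, 0, 0), (0, 0, 2, 0), (0, 0, 0, 1)),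
  ((1, 0, 0, 0), (0, 1, 0, 0), (0, 0, 0, 1), (0, 0, 1, 0)),
  ((1, 0, 0, 0), (0, 1, 0, 0), (0, 0, 0, 2), (0, 0, 2, 0))]

/-- The rotations. -/
def rot4 : List Lin := plane8.take 4

theorem fix_sing_aux : ∀ p : V4, Sing (zV + aV + p) → Sing (zV + aV - p) →
    ∀ r : V4, Sing (zV + aV + r) → Sing (zV + aV - r) → Sing (zV - aV + p + r) →
      fixLin p r ∈ plane8 := by decide +kernel

theorem fix_sing (p r : V4) (h : ∀ x, Sing x → Sing (app (fixLin p r) x)) :
    fixLin p r ∈ plane8 := by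
  obtain ⟨h1, h2, h3, h4, h5⟩ : Sing (1, 1, 1, 0) ∧ Sing (1, 1, 2, 0) ∧ Sing (1, 1, 0, 1) ∧
      Sing (1, 1, 0, 2) ∧ Sing (1, 2, 1, 1) := by decide +kernel
  have e : ∀ p r : V4, ∀ x : V4, app (fixLin p r) x =
      smulV x.1 zV + smulV x.2.1 aV + smulV x.2.2.1 p + smulV x.2.2.2 r := fun _ _ _ => rfl
  have e1 : ∀ v : V4, smulV 1 v = v ∧ smulV 0 v = 0 ∧ smulV 2 v = -v := by decide +kernel
  refine fix_sing_aux p ?_ ?_ r ?_ ?_ ?_
  · simpa [e, e1] using h _ h1
  · simpa [e, e1, sub_eq_add_neg] using h _ h2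
  · simpa [e, e1] using h _ h3
  · simpa [e, e1, sub_eq_add_neg] using h _ h4
  · simpa [e, e1, sub_eq_add_neg] using h _ h5

/-- The map with `z ↦ -z`, `a ↦ a` and given values on `w₁, w₂`. -/
def flipLin (p r : V4) : Lin := (-zV, aV, p, r)

/-- The eight anti-similitudes. -/
def flip8 : List Lin :=
  ([((0, 0, 1, 1), (0, 0, 1, 2)), ((0, 0, 1, 1), (0, 0, 2, 1)), ((0, 0, 1, 2), (0, 0, 1, 1)),
    ((0, 0, 1, 2), (0, 0, 2, 2)), ((0, 0, 2, 1), (0, 0, 1, 1)), ((0, 0, 2, 1), (0, 0, 2, 2)),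
    ((0, 0, 2, 2), (0, 0, 1, 2)), ((0, 0, 2, 2), (0, 0, 2, 1))] : List (V4 × V4)).map
      fun pr => flipLin pr.1 pr.2

theorem flip_sing_aux : ∀ p : V4, Sing (aV - zV + p) → Sing (aV - zV - p) →
    ∀ r : V4, Sing (aV - zV + r) → Sing (aV - zV - r) → Sing (-zV - aV + p + r) →
      flipLin p r ∈ flip8 := by decide +kernel

/-- A reflection and an anti-similitude give more than four maps: four rotation-closed maps
cannot contain both. -/
theorem refl_flip_table : ∀ F ∈ flip8, ∀ R ∈ plane8, R ∉ rot4 → ∀ R' ∈ plane8,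
      comp F R = comp R' F →
      (([one, plane8[1], R, R', comp R R'] : List Lin).map lcode).Nodup := by decide +kernel

theorem refl_flip (p r : V4) (h : ∀ x, Sing x → Sing (app (flipLin p r) x)) :
    ∀ R ∈ plane8, R ∉ rot4 → ∀ R' ∈ plane8,
      comp (flipLin p r) R = comp R' (flipLin p r) →
      (([one, plane8[1], R, R', comp R R'] : List Lin).map lcode).Nodup := by
  obtain ⟨h1, h2, h3, h4, h5⟩ : Sing (1, 1, 1, 0) ∧ Sing (1, 1, 2, 0) ∧ Sing (1, 1, 0, 1) ∧
      Sing (1, 1, 0, 2) ∧ Sing (1, 2, 1, 1) := by decide +kernel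
  have e : ∀ p r : V4, ∀ x : V4, app (flipLin p r) x =
      smulV x.1 (-zV) + smulV x.2.1 aV + smulV x.2.2.1 p + smulV x.2.2.2 r := fun _ _ _ => rfl
  have e1 : ∀ v : V4, smulV 1 v = v ∧ smulV 0 v = 0 ∧ smulV 2 v = -v := by decide +kernel
  refine fun R => refl_flip_table _ (flip_sing_aux p ?_ ?_ r ?_ ?_ ?_) R
  · simpa [e, e1, sub_eq_add_neg, add_comm, add_left_comm] using h _ h1
  · simpa [e, e1, sub_eq_add_neg, add_comm, add_left_comm] using h _ h2
  · simpa [e, e1, sub_eq_add_neg, add_comm, add_left_comm] using h _ h3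
  · simpa [e, e1, sub_eq_add_neg, add_comm, add_left_comm] using h _ h4
  · simpa [e, e1, sub_eq_add_neg, add_comm, add_left_comm] using h _ h5

/-- The quarter turn. -/
def turn : Lin := ((1, 0, 0, 0), (0, 1, 0, 0), (0, 0, 0, 1), (0, 0, 2, 0))

theorem rot4_cases : ∀ R ∈ rot4, (∃ w ∈ syWords, wlin w = R) ∨ ∃ w ∈ syWords, comp (wlin w) turn = R := by
  decide +kernel

theorem sy_inv : ∀ w ∈ syWords, ∃ w' ∈ syWords, comp (wlin w') (wlin w) = one := by decide +kernel

theorem sy_mul : ∀ w ∈ syWords, ∀ w' ∈ syWords, ∃ u ∈ syWords, wlin u = comp (wlin w) (wlin w') := by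
  decide +kernel

/-- The twenty-four maps fixing `y`. -/
def stab24 : List Lin := syWords.map wlin ++ syWords.map fun w => comp (wlin w) turn

theorem stab24_cases : ∀ w ∈ syWords, ∀ R ∈ rot4, comp (wlin w) R ∈ stab24 := by decide +kernel

/-- A representative of the planes through `y` without singular vectors. -/
def wV : V4 := (0, 0, 1, 1)

/-- The involution centralising the representative plane. -/
def tauLin : Lin := ((0, 1, 0, 0), (1, 0, 0, 0), (0, 0, 0, 1), (0, 0, 1, 0))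

theorem plane_stab : ∀ l ∈ stab24, app l wV = wV → l = one ∨ l = tauLin := by decide +kernel

theorem plane_stab_word : ∀ w ∈ syWords, app (wlin w) wV = wV → wlin w = one := by decide +kernel

/-- Every plane through `y` has a singular vector or is an image of the representative plane. -/
theorem plane_cases : ∀ x : V4, (∀ k : ZMod 3, x ≠ smulV k yV) →
    (∃ i j : ZMod 3, Sing (smulV i yV + smulV j x)) ∨
      ∃ w ∈ syWords, ∃ k j : ZMod 3, app (wlin w) x = smulV k yV + smulV j wV ∧ j ≠ 0 := by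
  decide +kernel

/-- The coordinates in `J / ⟨y⟩`. -/
def cubeOf (x : V4) : Cube3 := ![x.2.2.1, x.2.2.2, x.2.1 - x.1]

/-- A representative of a vector of the cube. -/
def liftV (v : Cube3) : V4 := (v 2, 2 * v 2, v 0, v 1)

theorem cube_facts : (∀ x, ∃ k : ZMod 3, x = smulV k yV + liftV (cubeOf x)) ∧
    (∀ v, cubeOf (liftV v) = v) ∧ (∀ k : ZMod 3, cubeOf (smulV k yV) = 0) ∧
    (∀ x x', cubeOf (x + x') = cubeOf x + cubeOf x') := by decide +kernel

/-- The monomial determinant test. -/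
def monoOk (π : Equiv.Perm (Fin 3)) (s : Fin 3 → ZMod 3) : Prop :=
  (∀ i, s i ≠ 0) ∧
    ((Equiv.Perm.sign π : ℤˣ) : ℤ) * ∏ i, (if s i = 1 then (1 : ℤ) else -1) = 1

instance (π : Equiv.Perm (Fin 3)) (s : Fin 3 → ZMod 3) : Decidable (monoOk π s) :=
  inferInstanceAs (Decidable (_ ∧ _))

theorem stab24_mono_aux : ∀ l ∈ stab24, ∃ π : Equiv.Perm (Fin 3),
    (∀ v : Cube3, cubeOf (app l (liftV v)) =
      fun i => cubeOf (app l (liftV 1)) i * v (π.symm i)) ∧
    monoOk π (cubeOf (app l (liftV 1))) := by decide +kernel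

theorem stab24_mono : ∀ l ∈ stab24, ∃ π : Equiv.Perm (Fin 3), ∃ s : Fin 3 → ZMod 3, monoOk π s ∧
    ∀ v : Cube3, cubeOf (app l (liftV v)) = fun i => s i * v (π.symm i) := fun l hl =>
  let ⟨π, h1, h2⟩ := stab24_mono_aux l hl
  ⟨π, _, h2, h1⟩

theorem even_mono : ∀ (π : Equiv.Perm (Fin 3)) (s : Fin 3 → ZMod 3), monoOk π s →
    Equiv.Perm.sign π = 1 →
    ∃ w ∈ syWords, ∀ v : Cube3, cubeOf (app (wlin w) (liftV v)) = fun i => s i * v (π.symm i) := by
  decide +kernel

end CfsgLib.McLThree.CentY
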