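import Cfsg.Agent.Lib.McLThree.SixOdd

/-!
# Centralisers of planes through a singular line

An element centralising `z` and another element `x` of `J` normalises `J`.
-/

set_option autoImplicit false
set_option linter.style.haveILetI false
set_option linter.unusedSectionVars false

namespace CfsgLib.McLThree.CentYPlane

open Subgroup Equiv SixOdd
open scoped Pointwise

universe u

theorem perm_pair_rep : ∀ s : Perm (Fin 5), s * (s * s) = 1 → s ≠ 1 →
    let r : Perm (Fin 5) := swap 0 1 * swap 1 2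
    s = r ∨ s = r * r ∨
      (r * s * r⁻¹ * s⁻¹ ≠ 1 ∧ r * s * r⁻¹ * s⁻¹ * (r * s * r⁻¹ * s⁻¹) = 1) ∨
      (r * s * r * s⁻¹ ≠ 1 ∧ r * s * r * s⁻¹ * (r * s * r * s⁻¹) = 1) := by
  decide +kernel

theorem perm_rep : ∀ r : Perm (Fin 5), r * (r * r) = 1 → r ≠ 1 →
    ∃ g : Perm (Fin 5), g * r * g⁻¹ = swap 0 1 * swap 1 2 := by
  decide +kernel

theorem perm_pair (r : Perm (Fin 5)) (h3 : r * (r * r) = 1) (h1 : r ≠ 1) (s : Perm (Fin 5))
    (hs3 : s * (s * s) = 1) (hs1 : s ≠ 1) : s = r ∨ s = r * r ∨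
      (r * s * r⁻¹ * s⁻¹ ≠ 1 ∧ r * s * r⁻¹ * s⁻¹ * (r * s * r⁻¹ * s⁻¹) = 1) ∨
      (r * s * r * s⁻¹ ≠ 1 ∧ r * s * r * s⁻¹ * (r * s * r * s⁻¹) = 1) := by
  obtain ⟨g, hg⟩ := perm_rep r h3 h1
  set f : Perm (Fin 5) ≃* Perm (Fin 5) := MulAut.conj g with hf
  have hfr : f r = swap 0 1 * swap 1 2 := hg
  have h := perm_pair_rep (f s) (by rw [← map_mul, ← map_mul, hs3, map_one])
    (fun e => hs1 (f.injective (e.trans (map_one f).symm)))
  simp only [← hfr, ← map_mul, ← map_inv, EmbeddingLike.apply_eq_iff_eq,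
    EmbeddingLike.map_eq_one_iff, ne_eq] at h
  exact h

variable {G : Type u} [Group G] [Finite G] (D : Top G)

/-- An element of `Q` commuting with `t` lies in `⟨z⟩`. -/
theorem Q_comm_t {q : G} (hq : q ∈ D.Q) (h : Commute q D.t) : q ∈ zpowers D.z := by
  refine mem_of_sq (D.expQ q hq) ?_
  have := D.tQ q hq
  rwa [← h.eq, mul_inv_cancel_right] at this

theorem Q_le_norm : D.Q ≤ normalizer (D.J : Set G) := by
  have key : ∀ q ∈ D.Q, ∀ x ∈ D.J, q * x * q⁻¹ ∈ D.J := by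
    intro q hq
    have hqR : ∀ r ∈ R D, q * r * q⁻¹ ∈ R D := fun r hr => by
      rw [show q * r * q⁻¹ = q * r * q⁻¹ * r⁻¹ * r by group]
      exact mul_mem (zR D (D.commQ q hq r hr.1)) hr
    have ha : q * D.a * q⁻¹ * D.a⁻¹ ∈ R D := by
      have haz : D.a * D.z * D.a⁻¹ ∈ zpowers D.z := by
        rw [D.za.symm.eq, mul_inv_cancel_right]; exact mem_zpowers _
      refine selfcent D ?_ fun x hx => ?_
      · rw [show q * D.a * q⁻¹ * D.a⁻¹ = q * (D.a * q⁻¹ * D.a⁻¹) by group]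
        exact mul_mem hq (conj_Q D haz (inv_mem hq))
      · have hx' : q⁻¹ * x * q ∈ R D := by
          rw [show q⁻¹ * x * q = q⁻¹ * x * q⁻¹⁻¹ * x⁻¹ * x by group]
          exact mul_mem (zR D (D.commQ q⁻¹ (inv_mem hq) x hx.1)) hx
        have h : Commute (q * D.a * q⁻¹) (q * (q⁻¹ * x * q) * q⁻¹) :=
          (R_a D hx').symm.map (MulAut.conj q).toMonoidHom
        rw [show q * (q⁻¹ * x * q) * q⁻¹ = x by group] at h
        exact h.mul_left (R_a D hx).symm.inv_left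
    intro x hx
    have hle : D.J ≤ D.J.comap (MulAut.conj q).toMonoidHom := by
      refine sup_le (fun r hr => mem_sup_left (hqR r hr)) (zpowers_le.2 ?_)
      show q * D.a * q⁻¹ ∈ D.J
      rw [show q * D.a * q⁻¹ = q * D.a * q⁻¹ * D.a⁻¹ * D.a by group]
      exact mul_mem (mem_sup_left ha) (mem_sup_right (mem_zpowers _))
    exact hle hx
  intro q hq
  refine mem_normalizer_iff.2 fun x => ⟨key q hq x, fun hx => ?_⟩
  have h := key q⁻¹ (inv_mem hq) _ hx
  rwa [show q⁻¹ * (q * x * q⁻¹) * q⁻¹⁻¹ = x by group] at h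

/-- Elements of `K` sending `a` to itself or its inverse normalise `J`. -/
theorem norm_of_fix_a {c : G} (hc : c ∈ K D)
    (ha : c * D.a * c⁻¹ = D.a ∨ c * D.a * c⁻¹ = D.a⁻¹) : c ∈ normalizer (D.J : Set G) := by
  obtain ⟨hcz, -⟩ := (mem_K D).1 hc
  have key : ∀ d : G, Commute d D.z → (d * D.a * d⁻¹ = D.a ∨ d * D.a * d⁻¹ = D.a⁻¹) →
      ∀ x ∈ D.J, d * x * d⁻¹ ∈ D.J := by
    intro d hdz hda x hx
    have hle : D.J ≤ D.J.comap (MulAut.conj d).toMonoidHom := by
      refine sup_le (fun r hr => mem_sup_left ?_) (zpowers_le.2 ?_)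
      · exact conj_R D (by rw [hdz.eq, mul_inv_cancel_right]; exact mem_zpowers _) hda hr
      · show d * D.a * d⁻¹ ∈ D.J
        rcases hda with e | e <;> rw [e]
        · exact mem_sup_right (mem_zpowers _)
        · exact mem_sup_right (inv_mem (mem_zpowers _))
    exact hle hx
  refine mem_normalizer_iff.2 fun x => ⟨key c hcz ha x, fun hx => ?_⟩
  have ha' : c⁻¹ * D.a * c⁻¹⁻¹ = D.a ∨ c⁻¹ * D.a * c⁻¹⁻¹ = D.a⁻¹ := by
    rcases ha with e | e
    · exact Or.inl (by nth_rewrite 1 [← e]; group)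
    · refine Or.inr ?_
      have e' : D.a = c * D.a⁻¹ * c⁻¹ := by rw [← conj_inv, e, inv_inv]
      nth_rewrite 1 [e']
      group
  have h := key c⁻¹ hcz.inv_left ha' _ hx
  rwa [show c⁻¹ * (c * x * c⁻¹) * c⁻¹⁻¹ = x by group] at h

/-- An element commuting with `x ∈ R \ Z` and with `t`, `z` is not a lift of a double
transposition. -/
theorem no_double {x : G} (hx : x ∈ R D) (hxZ : x ∉ zpowers D.z) {u : K D}
    (h : Commute (u : G) x) (hA : Perm.sign (D.φ u) = 1) (h1 : D.φ u ≠ 1)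
    (h2 : D.φ u * D.φ u = 1) : False := by
  have hq := D.φ_quat u hA h1 h2
  obtain ⟨k, hk⟩ := mem_zpowers_iff.1 hq
  have hxz : Commute x D.z := mem_centralizer_singleton_iff.1 (D.cQ hx.1)
  have ht : Commute x D.t := by
    have h3 : Commute x (D.z ^ k) := hxz.zpow_right k
    rw [hk] at h3
    have h4 := (h.symm.mul_right h.symm).inv_right.mul_right h3
    rwa [show ((u : G) * u)⁻¹ * ((u : G) * u * D.t) = D.t by group] at h4
  exact hxZ (Q_comm_t D hx.1 ht)

/-- An element of `C(z)` commuting with an element of `J` outside `⟨z⟩` normalises `J`. -/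
theorem plane_le {x : G} (hx : x ∈ D.J) (hxZ : x ∉ zpowers D.z) :
    centralizer ({D.z} : Set G) ⊓ centralizer ({x} : Set G) ≤ normalizer (D.J : Set G) := by
  rintro c ⟨hcz, hcx⟩
  have hgen := hcz
  rw [SetLike.mem_coe, D.gen_z] at hgen
  have hKQ : K D ≤ normalizer (D.Q : Set G) := inf_le_left.trans fun y hy => D.nQ (by
    refine mem_normalizer_iff_map_conj_eq.2 ?_
    rw [MonoidHom.map_zpowers]
    show zpowers (y * D.z * y⁻¹) = _
    rw [mem_centralizer_singleton_iff.1 hy, mul_inv_cancel_right])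
  have hset := Subgroup.coe_mul_of_right_le_normalizer_left D.Q (K D) hKQ
  have hmem : c ∈ (D.Q : Set G) * (K D : Set G) := by rw [← hset]; exact hgen
  obtain ⟨q, hq, k, hk, hqk⟩ := Set.mem_mul.1 hmem
  suffices hkN : k ∈ normalizer (D.J : Set G) by
    rw [← hqk]
    exact mul_mem (Q_le_norm D hq) hkN
  have hcx' : Commute c x := mem_centralizer_singleton_iff.1 hcx
  have hzQ : zpowers D.z ≤ D.Q := zpowers_le.2 D.zQ
  have hkz : Commute k D.z := ((mem_K D).1 hk).1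
  have hconjQ : ∀ {y : G}, y ∈ D.Q → k * y * k⁻¹ ∈ D.Q := fun {y} hy =>
    (mem_normalizer_iff.1 (hKQ hk) y).1 hy
  have hkx : k * x * k⁻¹ = q⁻¹ * x * q := by
    rw [show k = q⁻¹ * c by rw [← hqk]; group]
    calc q⁻¹ * c * x * (q⁻¹ * c)⁻¹ = q⁻¹ * (c * x * c⁻¹) * q := by group
      _ = q⁻¹ * x * q := by rw [hcx'.eq, mul_inv_cancel_right]
  by_cases hxR : x ∈ R D
  · -- a conjugate of `a` commuting with `x`
    set a' : K D := ⟨k, hk⟩ * aK D * (⟨k, hk⟩ : K D)⁻¹ with ha'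
    have hxk : k * x * k⁻¹ * x⁻¹ ∈ zpowers D.z := by
      rw [hkx]
      have := D.commQ q⁻¹ (inv_mem hq) x hxR.1
      rwa [inv_inv] at this
    have hax : Commute (a' : G) x := by
      have h1 : Commute (k * D.a * k⁻¹) (k * x * k⁻¹) :=
        (R_a D hxR).symm.map (MulAut.conj k).toMonoidHom
      obtain ⟨i, hi⟩ := mem_zpowers_iff.1 hxk
      have h2 : Commute (k * D.a * k⁻¹) (D.z ^ i) := by
        refine ((Commute.mul_left ?_ hkz.inv_left)).zpow_right i
        exact hkz.mul_left D.za.symm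
      have h3 := h2.inv_right.mul_right h1
      rw [hi, show (k * x * k⁻¹ * x⁻¹)⁻¹ * (k * x * k⁻¹) = x by group] at h3
      exact h3
    have hcyc : ∀ b : K D, (b : G) ^ 3 = 1 → D.φ b * (D.φ b * D.φ b) = 1 := by
      intro b hb
      rw [← map_mul, ← map_mul, show b * (b * b) = 1 from Subtype.ext (by
        show (b : G) * ((b : G) * b) = 1
        rwa [← sq, ← pow_succ']), map_one]
    have ha3 : D.a ^ 3 = 1 := by rw [← D.ord_a]; exact pow_orderOf_eq_one _
    have ha'3 : (a' : G) ^ 3 = 1 := by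
      show (k * D.a * k⁻¹) ^ 3 = 1
      rw [conj_pow, ha3, mul_one, mul_inv_cancel]
    obtain ⟨h3, hne⟩ := φa_facts D
    have hne' : D.φ a' ≠ 1 := by
      rw [ha', map_mul, map_mul, map_inv]
      exact fun h => hne (conj_eq_one_iff.1 h)
    have hmul : D.φ ⟨k, hk⟩ * D.φ (aK D) = D.φ a' * D.φ ⟨k, hk⟩ := by
      rw [ha', map_mul, map_mul, map_inv, inv_mul_cancel_right]
    have hxa : Commute (aK D : G) x := (R_a D hxR).symm
    rcases perm_pair _ h3 hne _ (hcyc a' ha'3) hne' with e | e | ⟨e1, e2⟩ | ⟨e1, e2⟩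
    · rw [e] at hmul
      exact norm_of_fix_a D hk (Or.inl (conj_a_self D hmul))
    · rw [e] at hmul
      exact norm_of_fix_a D hk (Or.inr (conj_a_inv D hmul))
    · exfalso
      refine no_double D hxR hxZ (u := aK D * a' * (aK D)⁻¹ * a'⁻¹) ?_ ?_ ?_ ?_
      · exact ((hxa.mul_left hax).mul_left hxa.inv_left).mul_left hax.inv_left
      all_goals simp only [map_mul, map_inv]
      · rw [mul_comm (Perm.sign (D.φ (aK D))), mul_assoc (Perm.sign (D.φ a')), mul_inv_cancel, mul_one,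
          mul_inv_cancel]
      · exact e1
      · exact e2
    · exfalso
      refine no_double D hxR hxZ (u := aK D * a' * aK D * a'⁻¹) ?_ ?_ ?_ ?_
      · exact ((hxa.mul_left hax).mul_left hxa).mul_left hax.inv_left
      all_goals simp only [map_mul, map_inv]
      · rw [mul_comm _ (Perm.sign (D.φ a')), mul_assoc (Perm.sign (D.φ a')), Int.units_mul_self,
          mul_one, mul_inv_cancel]
      · exact e1
      · exact e2
  · -- `x` involves `a`
    obtain ⟨r, hr, b, hb, hrb⟩ : ∃ r ∈ R D, ∃ b ∈ zpowers D.a, r * b = x := by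
      have hN : zpowers D.a ≤ normalizer (R D : Set G) := by
        rw [zpowers_le]
        refine mem_normalizer_iff.2 fun r => ⟨fun hr => ?_, fun hr => ?_⟩
        · rw [(R_a D hr).symm.eq, mul_inv_cancel_right]; exact hr
        · have h : Commute (D.a * r * D.a⁻¹) D.a := R_a D hr
          have e : D.a⁻¹ * (D.a * r * D.a⁻¹) * D.a = D.a * r * D.a⁻¹ := by
            rw [mul_assoc, h.eq, inv_mul_cancel_left]
          rw [show r = D.a⁻¹ * (D.a * r * D.a⁻¹) * D.a by group, e]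
          exact hr
      have hset' := Subgroup.coe_mul_of_right_le_normalizer_left (R D) (zpowers D.a) hN
      have : x ∈ ((R D : Subgroup G) : Set G) * (zpowers D.a : Set G) := by
        rw [← hset']; exact hx
      exact Set.mem_mul.1 this
    have haz : ∀ b ∈ zpowers D.a, b * D.z * b⁻¹ ∈ zpowers D.z := by
      intro b hb
      obtain ⟨i, rfl⟩ := mem_zpowers_iff.1 hb
      rw [(D.za.symm.zpow_left i).eq, mul_inv_cancel_right]
      exact mem_zpowers _
    have hbK : b ∈ K D := by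
      obtain ⟨i, rfl⟩ := mem_zpowers_iff.1 hb
      exact zpow_mem (aK D).2 i
    have hdQ : k * b * k⁻¹ * b⁻¹ ∈ D.Q := by
      have e : k * b * k⁻¹ * b⁻¹ =
          (k * r * k⁻¹)⁻¹ * (q⁻¹ * r) * (b * q * b⁻¹) := by
        calc k * b * k⁻¹ * b⁻¹ = (k * r * k⁻¹)⁻¹ * (k * (r * b) * k⁻¹) * b⁻¹ := by group
          _ = (k * r * k⁻¹)⁻¹ * (q⁻¹ * (r * b) * q) * b⁻¹ := by rw [hrb, hkx]
          _ = _ := by group
      rw [e]
      exact mul_mem (mul_mem (inv_mem (hconjQ hr.1)) (mul_mem (inv_mem hq) hr.1))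
        (conj_Q D (haz b hb) hq)
    have hdK : k * b * k⁻¹ * b⁻¹ ∈ K D :=
      mul_mem (mul_mem (mul_mem hk hbK) (inv_mem hk)) (inv_mem hbK)
    obtain ⟨i, hi⟩ := mem_zpowers_iff.1 (Q_comm_t D hdQ ((mem_K D).1 hdK).2)
    -- `χ` removes the power of `z`
    have hi1 : D.z ^ i = 1 := by
      have hχ : D.χ (zK D ^ i) = 1 := by
        rw [show zK D ^ i = ⟨k, hk⟩ * ⟨b, hbK⟩ * (⟨k, hk⟩ : K D)⁻¹ * (⟨b, hbK⟩ : K D)⁻¹ from
          Subtype.ext (by push_cast; exact hi), map_mul, map_mul, map_mul, map_inv, map_inv]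
        obtain ⟨j, hj⟩ := mem_zpowers_iff.1 hb
        rw [show (⟨b, hbK⟩ : K D) = aK D ^ j from Subtype.ext (by push_cast; exact hj.symm),
          map_zpow, D.χ_a (aK D) rfl]
        simp
      rw [map_zpow] at hχ
      have hd := orderOf_dvd_iff_zpow_eq_one.2 hχ
      have ho : orderOf (D.χ (zK D)) = 3 :=
        orderOf_eq_prime (by rw [pow_succ', sq]; exact mult_cube _) (D.χ_z _ rfl)
      rw [ho] at hd
      rw [← orderOf_dvd_iff_zpow_eq_one, D.ord_z]
      exact hd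
    rw [hi1] at hi
    have hkb : k * b * k⁻¹ = b := by
      rw [show k * b * k⁻¹ = k * b * k⁻¹ * b⁻¹ * b by group, ← hi, one_mul]
    refine norm_of_fix_a D hk (Or.inl ?_)
    obtain ⟨j, hj⟩ := mem_zpowers_iff.1 hb
    have hbne : b ≠ 1 := fun h => hxR (by rw [← hrb, h, mul_one]; exact hr)
    have hcyc : D.a ∈ zpowers b := by
      haveI : Fact (Nat.Prime 3) := ⟨Nat.prime_three⟩
      have hc : Nat.card (zpowers D.a) = 3 := by rw [Nat.card_zpowers, D.ord_a]
      have hb1 : (⟨b, hb⟩ : zpowers D.a) ≠ 1 := fun h => hbne (congrArg Subtype.val h)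
      have : (⟨D.a, mem_zpowers _⟩ : zpowers D.a) ∈ zpowers (⟨b, hb⟩ : zpowers D.a) := by
        rw [zpowers_eq_top_of_prime_card hc hb1]; trivial
      obtain ⟨l, hl⟩ := mem_zpowers_iff.1 this
      exact mem_zpowers_iff.2 ⟨l, by simpa using congrArg Subtype.val hl⟩
    obtain ⟨l, hl⟩ := mem_zpowers_iff.1 hcyc
    rw [← hl, ← conj_zpow, hkb]

/-- The same for the conjugates of `z` under the normalizer of `J`. -/
theorem plane_le_conj {n x : G} (hn : n ∈ normalizer (D.J : Set G)) (hx : x ∈ D.J)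
    (hxZ : x ∉ zpowers (n * D.z * n⁻¹)) :
    centralizer ({n * D.z * n⁻¹} : Set G) ⊓ centralizer ({x} : Set G) ≤
      normalizer (D.J : Set G) := by
  rintro c ⟨hcz, hcx⟩
  have hx' : n⁻¹ * x * n ∈ D.J := by
    have h := (mem_normalizer_iff.1 (inv_mem hn) x).1 hx
    rwa [inv_inv] at h
  have hxZ' : n⁻¹ * x * n ∉ zpowers D.z := fun h => hxZ (by
    obtain ⟨i, hi⟩ := mem_zpowers_iff.1 h
    exact mem_zpowers_iff.2 ⟨i, by rw [conj_zpow, hi]; group⟩)
  have h1 : Commute c (n * D.z * n⁻¹) := mem_centralizer_singleton_iff.1 hcz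
  have h2 : Commute c x := mem_centralizer_singleton_iff.1 hcx
  have h1' : Commute (n⁻¹ * c * n⁻¹⁻¹) (n⁻¹ * (n * D.z * n⁻¹) * n⁻¹⁻¹) :=
    h1.map (MulAut.conj n⁻¹).toMonoidHom
  have h2' : Commute (n⁻¹ * c * n⁻¹⁻¹) (n⁻¹ * x * n⁻¹⁻¹) :=
    h2.map (MulAut.conj n⁻¹).toMonoidHom
  rw [show n⁻¹ * (n * D.z * n⁻¹) * n⁻¹⁻¹ = D.z by group] at h1'
  rw [inv_inv] at h1' h2'
  have := plane_le D hx' hxZ' ⟨mem_centralizer_singleton_iff.2 h1'.eq,
    mem_centralizer_singleton_iff.2 h2'.eq⟩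
  have h3 := mul_mem (mul_mem hn this) (inv_mem hn)
  rwa [show n * (n⁻¹ * c * n) * n⁻¹ = c by group] at h3

end CfsgLib.McLThree.CentYPlane
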