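import Cfsg.Agent.Lib.McLThree.CoverWords

/-!
# The order of a group on six letters with the relators of the cover
-/

set_option autoImplicit false
set_option maxRecDepth 100000

namespace CfsgLib.McLThree

open Subgroup

universe u

/-- Six letters with the relators of the cover generate at most `40320` elements. -/
theorem cover_closure_card {H : Type u} [Group H] (L : Fin 7 → H)
    (hL : ∀ w ∈ coverRels, val L w = 1) :
    Finite ↥(closure (Set.range fun i : Fin 6 => L i.castSucc)) ∧
      Nat.card ↥(closure (Set.range fun i : Fin 6 => L i.castSucc)) ≠ 0 ∧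
      Nat.card ↥(closure (Set.range fun i : Fin 6 => L i.castSucc)) ≤ 40320 := by
  obtain ⟨hfin, hcard⟩ := cover_pres_card
  haveI := hfin
  let L' : Fin 7 → H := Function.update L 6 1
  have hsame : ∀ v : List (Fin 14), (∀ k ∈ v, k ≠ 6 ∧ k ≠ 13) → val L' v = val L v := by
    intro v
    induction v with
    | nil => intro _; rfl
    | cons k v ih =>
      intro hv
      rw [val_cons, val_cons, ih fun x hx => hv x (List.mem_cons_of_mem _ hx)]
      obtain ⟨h6, h13⟩ := hv k List.mem_cons_self
      have h6' : k.1 ≠ 6 := fun e => h6 (Fin.ext e)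
      have h13' : k.1 ≠ 13 := fun e => h13 (Fin.ext e)
      congr 1
      split_ifs with h <;> simp [L', Function.update, Fin.ext_iff] <;> omega
  have hav : ∀ v ∈ coverRels, ∀ k ∈ v, k ≠ 6 ∧ k ≠ 13 := by decide
  let ψ : CoverPres →* H := PresentedGroup.toGroup (f := L') (cover_lift L'
    (by simp [L']) fun v hv => (hsame v (hav v hv)).trans (hL v hv))
  have hle : closure (Set.range fun i : Fin 6 => L i.castSucc) ≤ ψ.range := by
    rw [closure_le]
    rintro _ ⟨i, rfl⟩
    refine ⟨cg i.castSucc, ?_⟩
    show ψ (PresentedGroup.of i.castSucc) = L i.castSucc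
    rw [PresentedGroup.toGroup.of]
    exact Function.update_of_ne (fun e => by
      have := congrArg Fin.val e
      simp at this
      omega) _ _
  haveI : Finite ψ.range := Finite.of_surjective _ ψ.rangeRestrict_surjective
  haveI := Finite.of_injective _ (inclusion_injective hle)
  refine ⟨inferInstance, Nat.card_pos.ne', ?_⟩
  exact (Nat.card_le_card_of_injective _ (inclusion_injective hle)).trans
    ((Nat.card_le_card_of_surjective _ ψ.rangeRestrict_surjective).trans hcard)

end CfsgLib.McLThree
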