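import Cfsg.Agent.Lib.McLThree.Main
import Cfsg.Agent.Lib.McLThree.Adaptors

/-!
# Recognition from the common hypotheses
-/

set_option autoImplicit false
set_option linter.style.haveILetI false

namespace CfsgLib.McLThree

open Subgroup

universe u

/-- The pieces that produce the data and the double cover from the hypotheses. -/
structure Builders : Prop where
  top : StmtTop.{u}
  six : StmtSix.{u}
  centT : StmtCentT.{u}
  centY : StmtCentY.{u}

variable {G : Type u} [Group G] [Finite G]

/-- The common hypotheses identify the group. -/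
theorem recognise_hyp (P : Pieces.{u}) (B : Builders.{u}) {Z J Q : Subgroup G}
    (h : Hyp G Z J Q) :
    Nonempty (G ≃* Cfsg.Spor.McL) ∨ Nonempty (G ≃* MulAut Cfsg.Spor.McL) :=
  recognise P B.top B.six B.centT h (fun D hz hQ hJ => B.centY G Z J Q h D hz hQ hJ)

/-- The common hypotheses identify the generalised Fitting subgroup. -/
theorem fstar_recognise_hyp (P : Pieces.{u}) (B : Builders.{u}) {Z J Q : Subgroup G}
    (h : Hyp G Z J Q) :
    Cfsg.Spor.IsoMcL ↥(Cfsg.generalizedFittingSubgroup G) := by
  obtain ⟨D, hz, hQ, hJ⟩ := B.top G Z J Q h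
  obtain ⟨E, hE⟩ := B.six G Z J Q h D hz hQ hJ
  subst hE
  obtain ⟨C⟩ := B.centT G E (B.centY G Z J Q h E hz hQ hJ)
  exact fstar_recognise P E C

omit [Finite G] in
/-- The condition imposed at every nontrivial element of `J` gives it for the centre of the
Sylow subgroup. -/
theorem weak_of_strong {Z J : Subgroup G} (x : G) (hx : zpowers x = Z) (hxJ : x ∈ J) (hx1 : x ≠ 1)
    (hiii : ∀ x ∈ J, x ≠ 1 →
      centralizer (((Cfsg.pCore 3 (centralizer ({x} : Set G))).map
        (centralizer ({x} : Set G)).subtype : Subgroup G) : Set G)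
        ≤ (Cfsg.pCore 3 (centralizer ({x} : Set G))).map (centralizer ({x} : Set G)).subtype) :
    centralizer (((Cfsg.pCore 3 (centralizer (Z : Set G))).map
        (centralizer (Z : Set G)).subtype : Subgroup G) : Set G)
        ≤ (Cfsg.pCore 3 (centralizer (Z : Set G))).map (centralizer (Z : Set G)).subtype := by
  have hc : centralizer (Z : Set G) = centralizer ({x} : Set G) := by
    subst hx
    ext y
    rw [mem_centralizer_singleton_iff, mem_centralizer_iff]
    refine ⟨fun h => (h x (mem_zpowers x)).symm, fun h w hw => ?_⟩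
    obtain ⟨k, rfl⟩ := mem_zpowers_iff.1 hw
    exact ((Commute.symm h).zpow_left k).eq
  rw [hc]
  exact hiii x hxJ hx1

end CfsgLib.McLThree
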