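import Cfsg.Agent.Lib.McLThree.GlueCm

/-!
# A basis of `Q` modulo its centre
-/

set_option autoImplicit false

namespace CfsgLib.McLThree.Glue

open Subgroup

universe u

variable {G : Type u} [Group G] {D : Loc G}

/-- A nontrivial element of `Q` inverted by `t` and centralised by `a`, with two commutators. -/
structure Base (F : Frame D) where
  q : G
  wm : Wm D q
  ne : q ≠ 1
  α : ZMod 3
  β : ZMod 3
  c13 : Cm D q (cj F.W q) α
  c14 : Cm D q (cj F.W (cj F.S q)) β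

variable {F : Frame D} (B : Base F)

theorem exists_base (F : Frame D) {q : G} (h : Wm D q) (h1 : q ≠ 1) : ∃ B : Base F, B.q = q := by
  obtain ⟨α, hα⟩ := exists_Cm h.1.1 (cjQ (Or.inl F.cWz) h.1.1)
  obtain ⟨β, hβ⟩ := exists_Cm h.1.1 (cjQ (Or.inl F.cWz) (F.wm_S h).1.1)
  exact ⟨⟨q, h, h1, α, β, hα, hβ⟩, rfl⟩

namespace Base

/-- The second element. -/
def q2 : G := cj F.S B.q

/-- The third element. -/
def q3 : G := cj F.W B.q

/-- The fourth element. -/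
def q4 : G := cj F.W B.q2

/-- A product of powers of the first two elements. -/
def lo (a b : ZMod 3) : G := pw B.q a * pw B.q2 b

/-- A product of powers of the last two elements. -/
def hi (c d : ZMod 3) : G := pw B.q3 c * pw B.q4 d

/-- A normal form. -/
def elt (a b c d m : ZMod 3) : G := B.lo a b * B.hi c d * pw D.z m

theorem wm2 : Wm D B.q2 := F.wm_S B.wm

theorem qQ : B.q ∈ D.Q := B.wm.1.1

theorem q2Q : B.q2 ∈ D.Q := B.wm2.1.1

theorem q3Q : B.q3 ∈ D.Q := cjQ (Or.inl F.cWz) B.qQ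

theorem q4Q : B.q4 ∈ D.Q := cjQ (Or.inl F.cWz) B.q2Q

theorem comm12 : Commute B.q B.q2 := B.wm.comm B.wm2

theorem comm34 : Commute B.q3 B.q4 := by
  have := B.comm12.map (MulAut.conj F.W)
  rwa [MulAut.conj_apply, MulAut.conj_apply] at this

theorem cube1 : B.q ^ 3 = 1 := cube D B.qQ

theorem cube2 : B.q2 ^ 3 = 1 := cube D B.q2Q

theorem cube3 : B.q3 ^ 3 = 1 := cube D B.q3Q

theorem cube4 : B.q4 ^ 3 = 1 := cube D B.q4Q

theorem t_q : cj D.t B.q = B.q⁻¹ := B.wm.1.2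

theorem t_q2 : cj D.t B.q2 = B.q2⁻¹ := B.wm2.1.2

theorem S_q : cj F.S B.q = B.q2 := rfl

theorem S_q2 : cj F.S B.q2 = B.q⁻¹ := by rw [q2, cj_cj, F.SS, t_q]

theorem W_q : cj F.W B.q = B.q3 := rfl

theorem W_q2 : cj F.W B.q2 = B.q4 := rfl

theorem W_q3 : cj F.W B.q3 = B.q⁻¹ := by rw [q3, cj_cj, F.WW, t_q]

theorem W_q4 : cj F.W B.q4 = B.q2⁻¹ := by rw [q4, cj_cj, F.WW, t_q2]

theorem S_q3 : cj F.S B.q3 = B.q4⁻¹ := by
  rw [q3, cj_cj, F.SW, ← cj_cj, t_q, ← cj_cj, cj_inv, cj_inv, S_q, W_q2]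

theorem S_q4 : cj F.S B.q4 = B.q3 := by
  rw [q4, cj_cj, F.SW, ← cj_cj, t_q2, ← cj_cj, cj_inv, cj_inv, S_q2, cj_inv, inv_inv, W_q]

theorem wm_lo (a b : ZMod 3) : Wm D (B.lo a b) := (B.wm.pw' a).mul (B.wm2.pw' b)

theorem lo_add (a b a' b' : ZMod 3) : B.lo a b * B.lo a' b' = B.lo (a + a') (b + b') := by
  rw [lo, lo, lo, pw_add B.cube1, pw_add B.cube2]
  exact (pw_commute B.comm12 a' b).symm.mul_mul_mul_comm _ _

theorem lo_zero : B.lo 0 0 = 1 := by rw [lo, pw_zero, pw_zero, one_mul]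

theorem lo_inv (a b : ZMod 3) : (B.lo a b)⁻¹ = B.lo (-a) (-b) := by
  apply inv_eq_of_mul_eq_one_right
  rw [lo_add, add_neg_cancel, add_neg_cancel, lo_zero]

theorem cj_W_lo (a b : ZMod 3) : cj F.W (B.lo a b) = B.hi a b := by
  rw [lo, cj_mul, cj_pw, cj_pw, W_q, W_q2, hi]

theorem cj_S_lo (a b : ZMod 3) : cj F.S (B.lo a b) = B.lo (-b) a := by
  rw [lo, cj_mul, cj_pw, cj_pw, S_q, S_q2, inv_pw, ← pw_neg B.cube1, lo]
  exact (pw_commute B.comm12 (-b) a).eq.symm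

theorem lo_eq_one {a b : ZMod 3} (h : B.lo a b = 1) : a = 0 ∧ b = 0 := by
  have h' : B.lo (-b) a = 1 := by rw [← cj_S_lo, h, cj_one_right]
  have h2 : pw (B.lo a b) a * pw (B.lo (-b) a) (-b) = 1 := by rw [h, h', one_pw, one_pw, one_mul]
  have e : ∀ i j k : ZMod 3, pw (B.lo i j) k = B.lo (i * k) (j * k) := fun i j k ↦ by
    rw [lo, pw_mul_base (pw_commute B.comm12 i j), pw_pw B.cube1, pw_pw B.cube2, lo]
  rw [e, e, lo_add] at h2
  have hz : b * a + a * -b = 0 := by ring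
  rw [hz, lo, pw_zero, mul_one] at h2
  have h3 := pw_eq_one B.cube1 B.ne h2
  exact (by decide : ∀ a b : ZMod 3, a * a + -b * -b = 0 → a = 0 ∧ b = 0) a b h3

theorem hi_add (c d c' d' : ZMod 3) : B.hi c d * B.hi c' d' = B.hi (c + c') (d + d') := by
  rw [← cj_W_lo, ← cj_W_lo, ← cj_W_lo, ← cj_mul, lo_add]

theorem lo_mem (a b : ZMod 3) : B.lo a b ∈ D.Q := (B.wm_lo a b).1.1

theorem hi_mem (c d : ZMod 3) : B.hi c d ∈ D.Q := by
  rw [← cj_W_lo]; exact cjQ (Or.inl F.cWz) (B.lo_mem c d)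

theorem elt_mem (a b c d m : ZMod 3) : B.elt a b c d m ∈ D.Q :=
  mul_mem (mul_mem (B.lo_mem a b) (B.hi_mem c d)) (zp_mem D m)

theorem elt_injective {a b c d m a' b' c' d' m' : ZMod 3}
    (h : B.elt a b c d m = B.elt a' b' c' d' m') :
    a = a' ∧ b = b' ∧ c = c' ∧ d = d' ∧ m = m' := by
  have e1 : B.lo (-a') (-b') * (B.lo a b * B.hi c d * pw D.z m) * pw D.z (-m) * B.hi (-c) (-d) =
      B.lo (a - a') (b - b') := by
    have hh : B.hi c d * B.hi (-c) (-d) = 1 := by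
      rw [hi_add, add_neg_cancel, add_neg_cancel, hi, pw_zero, pw_zero, mul_one]
    have hzz : pw D.z m * pw D.z (-m) = 1 := by rw [← pw_add (z3 D), add_neg_cancel, pw_zero]
    calc _ = B.lo (-a') (-b') * B.lo a b *
          (B.hi c d * (pw D.z m * pw D.z (-m)) * B.hi (-c) (-d)) := by simp only [mul_assoc]
      _ = _ := by rw [hzz, mul_one, hh, mul_one, lo_add, neg_add_eq_sub, neg_add_eq_sub]
  have e2 : B.lo (-a') (-b') * (B.lo a' b' * B.hi c' d' * pw D.z m') * pw D.z (-m) *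
      B.hi (-c) (-d) = B.hi (c' - c) (d' - d) * pw D.z (m' - m) := by
    rw [← mul_assoc, ← mul_assoc, lo_add, neg_add_cancel, neg_add_cancel, lo_zero, one_mul,
      mul_assoc (B.hi c' d'), ← pw_add (z3 D), mul_assoc, (zp_comm D (B.hi_mem _ _) _).eq,
      ← mul_assoc, hi_add, ← sub_eq_add_neg, ← sub_eq_add_neg, ← sub_eq_add_neg]
  rw [elt, elt] at h
  rw [h, e2] at e1
  rw [← cj_W_lo] at e1
  obtain ⟨h1, h2, h3⟩ := F.wm_inter (B.wm_lo _ _) (B.wm_lo _ _) e1.symm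
  obtain ⟨ha, hb⟩ := B.lo_eq_one h1
  obtain ⟨hc, hd⟩ := B.lo_eq_one h2
  exact ⟨sub_eq_zero.1 ha, sub_eq_zero.1 hb, (sub_eq_zero.1 hc).symm, (sub_eq_zero.1 hd).symm,
    (sub_eq_zero.1 h3).symm⟩

theorem exists_elt [Finite G] {p : G} (hp : p ∈ D.Q) :
    ∃ a b c d m, p = B.elt a b c d m := by
  let f : ZMod 3 × ZMod 3 × ZMod 3 × ZMod 3 × ZMod 3 → D.Q := fun v ↦
    ⟨B.elt v.1 v.2.1 v.2.2.1 v.2.2.2.1 v.2.2.2.2, B.elt_mem _ _ _ _ _⟩
  have hf : Function.Injective f := by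
    rintro ⟨a, b, c, d, m⟩ ⟨a', b', c', d', m'⟩ h
    obtain ⟨rfl, rfl, rfl, rfl, rfl⟩ := B.elt_injective (congrArg Subtype.val h)
    rfl
  have hc : Nat.card (ZMod 3 × ZMod 3 × ZMod 3 × ZMod 3 × ZMod 3) = Nat.card D.Q := by
    rw [D.cardQ]
    simp
  obtain ⟨v, hv⟩ := ((Nat.bijective_iff_injective_and_card f).2 ⟨hf, hc⟩).2 ⟨p, hp⟩
  exact ⟨_, _, _, _, _, (congrArg Subtype.val hv).symm⟩

theorem exists_lo [Finite G] {p : G} (hp : Wm D p) : ∃ a b, p = B.lo a b := by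
  obtain ⟨a, b, c, d, m, h⟩ := B.exists_elt hp.1.1
  refine ⟨a, b, ?_⟩
  have h' : (B.lo a b)⁻¹ * p = cj F.W (B.lo c d) * pw D.z m := by
    rw [h, elt, cj_W_lo, mul_assoc (B.lo a b), inv_mul_cancel_left]
  exact (inv_mul_eq_one.1 (F.wm_inter ((B.wm_lo a b).inv.mul hp) (B.wm_lo c d) h').1).symm

theorem c24 : Cm D B.q2 B.q4 (-B.α) := by
  have h := B.c13.conj F.cSz
  have := h.inv_right
  rw [show cj F.S (cj F.W B.q) = B.q4⁻¹ from B.S_q3, inv_inv] at this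
  exact this

theorem c23 : Cm D B.q2 B.q3 B.β := by
  have h := B.c14.conj F.cSz
  rw [show cj F.S (cj F.W (cj F.S B.q)) = B.q3 from B.S_q4] at h
  exact h

theorem nondeg [Finite G] : ¬ (B.α = 0 ∧ B.β = 0) := by
  rintro ⟨hα, hβ⟩
  apply B.ne
  have h1 : Commute B.q B.q3 := (B.c13.cast hα).commute
  have h2 : Commute B.q B.q4 := (B.c14.cast hβ).commute
  have hz : B.q ∈ zpowers D.z := by
    refine D.centerQ _ B.qQ fun x hx ↦ ?_
    obtain ⟨a, b, c, d, m, rfl⟩ := B.exists_elt hx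
    exact (((Commute.refl B.q).pow_right _).mul_right (B.comm12.pow_right _)).mul_right
      ((h1.pow_right _).mul_right (h2.pow_right _)) |>.mul_right (zp_comm D B.qQ m).symm
  obtain ⟨i, hi⟩ := mem_zpowers_pw D.ord_z hz
  exact (Inv.unique B.wm.1 Inv.one (by rw [one_mul]; exact hi)).2

/-- The coordinates modulo `Z`, read off the pairing. -/
def Co (p : G) (a b c d : ZMod 3) : Prop :=
  Cm D p B.q (-(B.α * c + B.β * d)) ∧ Cm D p B.q2 (B.α * d - B.β * c) ∧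
    Cm D p B.q3 (B.α * a + B.β * b) ∧ Cm D p B.q4 (B.β * a - B.α * b)

theorem co_mem {p : G} {a b c d : ZMod 3} (h : B.Co p a b c d) : p ∈ D.Q := h.1.1

theorem co_cast {p : G} {a b c d a' b' c' d' : ZMod 3} (h : B.Co p a b c d) (ha : a = a')
    (hb : b = b') (hc : c = c') (hd : d = d') : B.Co p a' b' c' d' := by
  subst ha hb hc hd; exact h

theorem co_zp (i : ZMod 3) : B.Co (pw D.z i) 0 0 0 0 := by
  simpa [Co] using And.intro (Cm.zp_left B.qQ i) (And.intro (Cm.zp_left B.q2Q i)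
    (And.intro (Cm.zp_left B.q3Q i) (Cm.zp_left B.q4Q i)))

theorem co_one : B.Co 1 0 0 0 0 := by
  have := B.co_zp 0
  rwa [pw_zero] at this

theorem co_mul {p r : G} {a b c d a' b' c' d' : ZMod 3} (h : B.Co p a b c d)
    (h' : B.Co r a' b' c' d') : B.Co (p * r) (a + a') (b + b') (c + c') (d + d') :=
  ⟨(h.1.mul_left h'.1).cast (by ring), (h.2.1.mul_left h'.2.1).cast (by ring),
    (h.2.2.1.mul_left h'.2.2.1).cast (by ring), (h.2.2.2.mul_left h'.2.2.2).cast (by ring)⟩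

theorem co_pw {p : G} {a b c d : ZMod 3} (h : B.Co p a b c d) (i : ZMod 3) :
    B.Co (pw p i) (i * a) (i * b) (i * c) (i * d) :=
  ⟨(h.1.pw_left i).cast (by ring), (h.2.1.pw_left i).cast (by ring),
    (h.2.2.1.pw_left i).cast (by ring), (h.2.2.2.pw_left i).cast (by ring)⟩

theorem co_inv {p : G} {a b c d : ZMod 3} (h : B.Co p a b c d) :
    B.Co p⁻¹ (-a) (-b) (-c) (-d) :=
  ⟨h.1.inv_left.cast (by ring), h.2.1.inv_left.cast (by ring),
    h.2.2.1.inv_left.cast (by ring), h.2.2.2.inv_left.cast (by ring)⟩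

theorem co1 : B.Co B.q 1 0 0 0 :=
  ⟨(Cm.of_commute B.qQ B.qQ (Commute.refl _)).cast (by ring),
    (Cm.of_commute B.qQ B.q2Q B.comm12).cast (by ring), B.c13.cast (by ring),
    B.c14.cast (by ring)⟩

theorem co2 : B.Co B.q2 0 1 0 0 :=
  ⟨(Cm.of_commute B.q2Q B.qQ B.comm12.symm).cast (by ring),
    (Cm.of_commute B.q2Q B.q2Q (Commute.refl _)).cast (by ring), B.c23.cast (by ring),
    B.c24.cast (by ring)⟩

theorem co3 : B.Co B.q3 0 0 1 0 :=
  ⟨B.c13.symm.cast (by simp), B.c23.symm.cast (by simp),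
    (Cm.of_commute B.q3Q B.q3Q (Commute.refl _)).cast (by ring),
    (Cm.of_commute B.q3Q B.q4Q B.comm34).cast (by ring)⟩

theorem co4 : B.Co B.q4 0 0 0 1 :=
  ⟨B.c14.symm.cast (by simp), B.c24.symm.cast (by simp),
    (Cm.of_commute B.q4Q B.q3Q B.comm34.symm).cast (by ring),
    (Cm.of_commute B.q4Q B.q4Q (Commute.refl _)).cast (by ring)⟩

theorem co_lo (a b : ZMod 3) : B.Co (B.lo a b) a b 0 0 :=
  B.co_cast (B.co_mul (B.co_pw B.co1 a) (B.co_pw B.co2 b)) (by ring) (by ring) (by ring) (by ring)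

theorem co_hi (c d : ZMod 3) : B.Co (B.hi c d) 0 0 c d :=
  B.co_cast (B.co_mul (B.co_pw B.co3 c) (B.co_pw B.co4 d)) (by ring) (by ring) (by ring) (by ring)

theorem co_elt (a b c d m : ZMod 3) : B.Co (B.elt a b c d m) a b c d :=
  B.co_cast (B.co_mul (B.co_mul (B.co_lo a b) (B.co_hi c d)) (B.co_zp m))
    (by ring) (by ring) (by ring) (by ring)

theorem co_unique [Finite G] {p : G} {a b c d a' b' c' d' : ZMod 3} (h : B.Co p a b c d)
    (h' : B.Co p a' b' c' d') : a = a' ∧ b = b' ∧ c = c' ∧ d = d' := by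
  have e := h.1.unique h'.1
  have e2 := h.2.1.unique h'.2.1
  have e3 := h.2.2.1.unique h'.2.2.1
  have e4 := h.2.2.2.unique h'.2.2.2
  have key : ∀ x y : ZMod 3, ¬ (x = 0 ∧ y = 0) → ∀ c d : ZMod 3,
      x * c + y * d = 0 → x * d - y * c = 0 → c = 0 ∧ d = 0 := by decide
  obtain ⟨hc, hd⟩ := key _ _ B.nondeg (c - c') (d - d') (by linear_combination -e)
    (by linear_combination e2)
  obtain ⟨hb, ha⟩ := key _ _ B.nondeg (b - b') (-(a - a')) (by linear_combination -e4)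
    (by linear_combination -e3)
  exact ⟨sub_eq_zero.1 (neg_eq_zero.1 ha), sub_eq_zero.1 hb, sub_eq_zero.1 hc, sub_eq_zero.1 hd⟩

/-- Conjugation is linear in the coordinates. -/
theorem co_cj [Finite G] {k p : G} {a b c d a₁ b₁ c₁ d₁ a₂ b₂ c₂ d₂ a₃ b₃ c₃ d₃ a₄ b₄ c₄ d₄ : ZMod 3}
    (hk : cj k D.z = D.z ∨ cj k D.z = D.z⁻¹) (h : B.Co p a b c d)
    (h1 : B.Co (cj k B.q) a₁ b₁ c₁ d₁) (h2 : B.Co (cj k B.q2) a₂ b₂ c₂ d₂)
    (h3 : B.Co (cj k B.q3) a₃ b₃ c₃ d₃) (h4 : B.Co (cj k B.q4) a₄ b₄ c₄ d₄) :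
    B.Co (cj k p) (a * a₁ + b * a₂ + c * a₃ + d * a₄) (a * b₁ + b * b₂ + c * b₃ + d * b₄)
      (a * c₁ + b * c₂ + c * c₃ + d * c₄) (a * d₁ + b * d₂ + c * d₃ + d * d₄) := by
  obtain ⟨a', b', c', d', m, rfl⟩ := B.exists_elt (B.co_mem h)
  obtain ⟨rfl, rfl, rfl, rfl⟩ := B.co_unique (B.co_elt a' b' c' d' m) h
  have hz : B.Co (cj k (pw D.z m)) 0 0 0 0 := by
    rcases hk with hk | hk <;> rw [cj_pw, hk]
    · exact B.co_zp m
    · rw [inv_pw, ← pw_neg (z3 D)]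
      exact B.co_zp (-m)
  rw [elt, lo, hi, cj_mul, cj_mul, cj_mul, cj_mul, cj_pw k B.q, cj_pw k B.q2, cj_pw k B.q3,
    cj_pw k B.q4]
  exact B.co_cast (B.co_mul (B.co_mul (B.co_mul (B.co_pw h1 _) (B.co_pw h2 _))
    (B.co_mul (B.co_pw h3 _) (B.co_pw h4 _))) hz) (by ring) (by ring) (by ring) (by ring)

end Base

end CfsgLib.McLThree.Glue
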