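import Cfsg.Agent.Lib.McLThree.GlueBase

/-!
# The action on the basis
-/

set_option autoImplicit false

namespace CfsgLib.McLThree.Glue

open Subgroup

universe u

variable {G : Type u} [Group G] {D : Loc G}

set_option synthInstance.maxSize 4000 in
set_option maxRecDepth 4000 in
private theorem e_data : ∀ α β x y p r : ZMod 3, ¬ (α = 0 ∧ β = 0) → ¬ y = 0 →
    x * x + y * p = -1 → x * y + y * r = 0 →
    α * (x * -y) + β * (x * x) + (β * (y * -y) - α * (y * x)) = -α →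
    α * (x * -r) + β * (x * p) + (β * (y * -r) - α * (y * p)) = -β →
    (x = 0 → False) ∧ (x * (1 + y) = 0 → y = -1 ∧ p = -1 ∧ r = -x ∧
      (x = 1 ∧ β = 0 ∧ ¬ α = 0 ∨ x = -1 ∧ α = 0 ∧ ¬ β = 0)) := by
  decide

/-- The effect of `a * W` on coordinates. -/
private def step (i j : ZMod 3) (v : ZMod 3 × ZMod 3 × ZMod 3 × ZMod 3) :
    ZMod 3 × ZMod 3 × ZMod 3 × ZMod 3 :=
  (v.1 * i + v.2.1 * -j - v.2.2.1, v.1 * j + v.2.1 * i - v.2.2.2, v.1, v.2.1)

set_option synthInstance.maxSize 4000 in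
set_option maxRecDepth 4000 in
private theorem a_data : ∀ i j x : ZMod 3, ¬ x = 0 →
    x * i - j = i + x * -j → -i - x * j = j + x * i →
    step i j (step i j (step i j (step i j (step i j (1, 0, 0, 0))))) = (1, 0, 0, 0) →
    i = 1 ∧ j = -1 := by
  decide

namespace Base

variable {F : Frame D} (B : Base F)

/-- The commutator of the two halves. -/
theorem cm_lo_hi (a b c d : ZMod 3) :
    Cm D (B.lo a b) (B.hi c d)
      (B.α * (a * c) + B.β * (a * d) + (B.β * (b * c) - B.α * (b * d))) :=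
  ((((B.c13 : Cm D B.q B.q3 B.α).pw_right c).mul_right ((B.c14 : Cm D B.q B.q4 B.β).pw_right d)
    |>.pw_left a).mul_left ((B.c23.pw_right c).mul_right (B.c24.pw_right d) |>.pw_left b)).cast
    (by ring)

theorem pw_lo (a b i : ZMod 3) : pw (B.lo a b) i = B.lo (a * i) (b * i) := by
  rw [lo, pw_mul_base (pw_commute B.comm12 a b), pw_pw B.cube1, pw_pw B.cube2, lo]

theorem lo_10 : B.lo 1 0 = B.q := by rw [lo, pw_one, pw_zero, mul_one]

theorem lo_01 : B.lo 0 1 = B.q2 := by rw [lo, pw_one, pw_zero, one_mul]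

theorem hi_10 : B.hi 1 0 = B.q3 := by rw [hi, pw_one, pw_zero, mul_one]

theorem hi_01 : B.hi 0 1 = B.q4 := by rw [hi, pw_one, pw_zero, one_mul]

theorem lo_inj {a b a' b' : ZMod 3} (h : B.lo a b = B.lo a' b') : a = a' ∧ b = b' := by
  obtain ⟨ha, hb⟩ := B.lo_eq_one (a := a - a') (b := b - b') (by
    rw [sub_eq_add_neg, sub_eq_add_neg, ← lo_add, ← lo_inv, h, mul_inv_cancel])
  exact ⟨sub_eq_zero.1 ha, sub_eq_zero.1 hb⟩

theorem cj_a_lo (a b : ZMod 3) : cj D.a (B.lo a b) = B.lo a b := cj_eq_self.2 (B.wm_lo a b).2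

theorem E_hi_of {x y p r : ZMod 3} (h1 : cj F.E B.q = B.lo x y)
    (h2 : cj F.E B.q2 = B.lo p r) :
    cj F.E B.q3 = B.hi (-y) x ∧ cj F.E B.q4 = B.hi (-r) p := by
  have key : ∀ u, cj F.E (cj F.W u) = cj F.W (cj F.S (cj F.E u)) := fun u ↦ by
    rw [cj_cj, cj_cj, cj_cj, ← F.EW]
    congr 1
    simp [cj]
  constructor
  · rw [q3, key, h1, cj_S_lo, cj_W_lo]
  · rw [q4, key, h2, cj_S_lo, cj_W_lo]

/-- The equations given by `E`. -/
theorem E_equations [Finite G] : ∃ x y p r : ZMod 3, cj F.E B.q = B.lo x y ∧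
    cj F.E B.q2 = B.lo p r ∧ ¬ y = 0 ∧ x * x + y * p = -1 ∧ x * y + y * r = 0 ∧
    B.α * (x * -y) + B.β * (x * x) + (B.β * (y * -y) - B.α * (y * x)) = -B.α ∧
    B.α * (x * -r) + B.β * (x * p) + (B.β * (y * -r) - B.α * (y * p)) = -B.β := by
  obtain ⟨x, y, h1⟩ := B.exists_lo (F.wm_E B.wm)
  obtain ⟨p, r, h2⟩ := B.exists_lo (F.wm_E B.wm2)
  have h3 : B.lo (x * x + y * p) (x * y + y * r) = B.lo (-1) 0 := by
    have e : cj F.E (B.lo x y) = B.lo (-1) 0 := by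
      rw [← h1, cj_cj, F.EE, t_q, lo, pw_zero, mul_one, pw_neg_one B.cube1]
    rw [← e]
    conv_rhs => rw [lo, cj_mul, cj_pw, cj_pw, h1, h2, pw_lo, pw_lo, lo_add]
    congr 1 <;> ring
  obtain ⟨e1, e2⟩ := B.lo_inj h3
  obtain ⟨h4, h5⟩ := B.E_hi_of h1 h2
  have c1 : Cm D (cj F.E B.q) (cj F.E B.q3) (-B.α) := B.c13.conj_neg F.Ez
  have c2 : Cm D (cj F.E B.q) (cj F.E B.q4) (-B.β) := B.c14.conj_neg F.Ez
  rw [h1, h4] at c1
  rw [h1, h5] at c2
  refine ⟨x, y, p, r, h1, h2, ?_, e1, e2, (B.cm_lo_hi _ _ _ _).unique c1,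
    (B.cm_lo_hi _ _ _ _).unique c2⟩
  intro hy
  exact (by decide : ∀ x y p : ZMod 3, y = 0 → ¬ x * x + y * p = -1) x y p hy e1

end Base

/-- What the relators need. -/
structure Sol {F : Frame D} (B : Base F) where
  x : ZMod 3
  sign : x = 1 ∧ B.β = 0 ∧ ¬ B.α = 0 ∨ x = -1 ∧ B.α = 0 ∧ ¬ B.β = 0
  R_q : cj F.R B.q = B.q⁻¹
  E_q : cj F.E B.q = B.lo x (-1)
  E_q2 : cj F.E B.q2 = B.lo (-1) (-x)
  E_q3 : cj F.E B.q3 = B.hi 1 x
  E_q4 : cj F.E B.q4 = B.hi x (-1)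
  a_q3 : cj D.a B.q3 = B.lo 1 (-1) * B.q3 * pw D.z (B.α - B.β)
  a_q4 : cj D.a B.q4 = B.lo 1 1 * B.q4 * pw D.z (B.β - B.α)

variable (F : Frame D)

/-- There is a vector negated by `R`. -/
theorem exists_eigen [Finite G] : ∃ B : Base F, cj F.R B.q = B.q⁻¹ := by
  obtain ⟨x, hx, hxz⟩ : ∃ x, Wm D x ∧ x ≠ 1 := by
    by_contra hall
    push Not at hall
    have hle : D.Q ⊓ centralizer ({D.a} : Set G) ≤ zpowers D.z := by
      rintro c ⟨hc, hca⟩
      obtain ⟨i, hi⟩ := lift_inv hc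
      have hac : Commute D.a c := (mem_centralizer_iff.1 hca) D.a rfl
      have h := hall _ ⟨hi, hac.mul_right (D.za.symm.pow_right _)⟩
      rw [mul_eq_one_iff_eq_inv] at h
      rw [h]
      exact inv_mem (pw_mem (mem_zpowers _) _)
    have h27 := Subgroup.card_le_of_le hle
    rw [D.fix_a.1, Nat.card_zpowers, D.ord_z] at h27
    omega
  by_cases hfix : ∀ y, Wm D y → cj F.R y = y
  · exfalso
    obtain ⟨B, -⟩ := exists_base F hx hxz
    obtain ⟨x', y, p, r, h1, h2, hy, e1, e2, e3, e4⟩ := B.E_equations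
    have hS : cj F.E B.q = B.q2 := by
      have h := hfix _ (F.wm_E B.wm)
      have hR : F.R⁻¹ = F.R := inv_eq_of_mul_eq_one_left F.RR
      rw [← h, Base.q2, ← F.RE]
      conv_rhs => rw [show cj F.R F.E = F.R * F.E * F.R⁻¹ from rfl, ← cj_cj, ← cj_cj, hR,
        hfix _ B.wm]
    rw [h1, ← B.lo_01] at hS
    exact (e_data _ _ _ _ _ _ B.nondeg hy e1 e2 e3 e4).1 (B.lo_inj hS).1
  · push Not at hfix
    obtain ⟨y, hy, hne⟩ := hfix
    have hq : Wm D (y⁻¹ * cj F.R y) := hy.inv.mul (F.wm_R hy)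
    obtain ⟨B, hB⟩ := exists_base F hq (fun h ↦ hne (inv_mul_eq_one.1 h).symm)
    refine ⟨B, ?_⟩
    rw [hB, cj_mul, cj_inv, cj_cj, F.RR, cj_one, mul_inv_rev, inv_inv]

/-- The action on the basis. -/
theorem exists_sol [Finite G] : ∃ B : Base F, Nonempty (Sol B) := by
  obtain ⟨B, hR⟩ := exists_eigen F
  refine ⟨B, ?_⟩
  obtain ⟨x, y, p, r, h1, h2, hy, e1, e2, e3, e4⟩ := B.E_equations
  have hR' : F.R⁻¹ = F.R := inv_eq_of_mul_eq_one_left F.RR
  have hR2 : cj F.R B.q2 = B.lo (-x) (-y) := by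
    have e : F.R * F.S = F.E * F.R := by
      rw [← F.RE]
      simp only [cj, hR', ← mul_assoc, F.RR, one_mul]
    rw [Base.q2, cj_cj, e, ← cj_cj, hR, cj_inv, h1, B.lo_inv]
  have hq : B.q2 = B.lo (x + x * y) (y * y) := by
    have e : cj F.R (cj F.R B.q2) = B.q2 := by rw [cj_cj, F.RR, cj_one]
    rw [hR2, Base.lo, cj_mul, cj_pw, cj_pw, hR, hR2, B.pw_lo, inv_pw, ← pw_neg B.cube1] at e
    conv_lhs => rw [← e]
    rw [show pw B.q (- -x) = B.lo x 0 from by rw [neg_neg, Base.lo, pw_zero, mul_one], B.lo_add]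
    congr 1 <;> ring
  have hx1 : x * (1 + y) = 0 := by
    have := (B.lo_inj (B.lo_01.trans hq)).1
    rw [mul_add, mul_one]
    exact this.symm
  obtain ⟨hy1, hp1, hr1, hsign⟩ := (e_data _ _ _ _ _ _ B.nondeg hy e1 e2 e3 e4).2 hx1
  subst hy1 hp1 hr1
  obtain ⟨h3, h4⟩ := B.E_hi_of h1 h2
  rw [neg_neg] at h3 h4
  have hx0 : ¬ x = 0 := (e_data _ _ _ _ _ _ B.nondeg hy e1 e2 e3 e4).1
  have haz : cj D.a D.z = D.z := cj_eq_self.2 D.za.symm
  -- the image of the third element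
  obtain ⟨i, j, c, d, m, hA⟩ := B.exists_elt (cjQ (Or.inl haz) B.q3Q)
  have hcd : c = 1 ∧ d = 0 := by
    have k1 := (B.co_elt i j c d m).1
    have k2 := (B.co_elt i j c d m).2.1
    rw [← hA] at k1 k2
    have g1 := (B.c13.conj haz).symm
    have g2 := (B.c23.conj haz).symm
    rw [cj_eq_self.2 B.wm.2] at g1
    rw [cj_eq_self.2 B.wm2.2] at g2
    exact (by decide : ∀ α β c d : ZMod 3, ¬ (α = 0 ∧ β = 0) → -(α * c + β * d) = -α →
      α * d - β * c = -β → c = 1 ∧ d = 0) _ _ _ _ B.nondeg (k1.unique g1) (k2.unique g2)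
  obtain ⟨rfl, rfl⟩ := hcd
  rw [Base.elt, B.hi_10] at hA
  have hcm : Cm D (B.lo i j) B.q3 (B.α * i + B.β * j) := (B.co_lo i j).2.2.1
  have hm : m = B.α * i + B.β * j := by
    have hinv : Inv D (cj D.a B.q3) :=
      ⟨cjQ (Or.inl haz) B.q3Q, by
        rw [cj_t_cj D D.ta.symm, Base.q3, cj_t_cj D F.Wt, B.t_q, cj_inv, cj_inv]⟩
    rw [hA] at hinv
    have h' := hinv.2
    rw [cj_mul, cj_mul, (B.wm_lo i j).1.2, cj_zp D D.tz,
      show cj D.t B.q3 = B.q3⁻¹ from by rw [Base.q3, cj_t_cj D F.Wt, B.t_q, cj_inv],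
      mul_inv_rev, mul_inv_rev, hcm.inv_left.inv_right.2.2] at h'
    have hP : B.q3⁻¹ * (B.lo i j)⁻¹ ∈ D.Q := mul_mem (inv_mem B.q3Q) (inv_mem (B.lo_mem i j))
    rw [mul_assoc, ← (zp_comm D hP m).eq, ← mul_assoc, ← pw_add (z3 D), ← pw_neg (z3 D)] at h'
    have h'' := zp_inj D (mul_right_cancel h')
    exact (by decide : ∀ η m : ZMod 3, - -η + m = -m → m = η) _ _ h''
  have haq : cj D.a B.q = B.q := cj_eq_self.2 B.wm.2
  have haq2 : cj D.a B.q2 = B.q2 := cj_eq_self.2 B.wm2.2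
  -- the image of the fourth element
  have hA4 : cj D.a B.q4 = B.lo (-j) i * B.q4 * pw D.z (-m) := by
    have hinv : cj D.a⁻¹ B.q3 = (B.lo i j)⁻¹ * B.q3 * pw D.z (-m) := by
      have e := congrArg (cj D.a⁻¹) hA
      rw [cj_inv_self, cj_mul, cj_mul,
        show cj D.a⁻¹ (B.lo i j) = B.lo i j from cj_eq_self.2 (B.wm_lo i j).2.inv_left,
        show cj D.a⁻¹ (pw D.z m) = pw D.z m from cj_zp D D.za.symm.inv_left m] at e
      conv_rhs => arg 1; arg 2; rw [e]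
      rw [pw_neg (z3 D), mul_assoc (B.lo i j), inv_mul_cancel_left, mul_assoc, mul_inv_cancel,
        mul_one]
    have hS : D.a * F.S = F.S * D.a⁻¹ := by
      have h2 : F.S * D.a = D.a⁻¹ * F.S := mul_inv_eq_iff_eq_mul.1 F.Sa
      calc D.a * F.S = D.a * (F.S * D.a) * D.a⁻¹ := by group
        _ = F.S * D.a⁻¹ := by rw [h2, mul_inv_cancel_left]
    have e4 : B.q4 = cj F.S B.q3⁻¹ := by rw [cj_inv, B.S_q3, inv_inv]
    calc cj D.a B.q4 = cj F.S (cj D.a⁻¹ B.q3⁻¹) := by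
          conv_lhs => rw [e4, cj_cj, hS]
          rw [cj_cj]
      _ = pw D.z m * B.q4 * B.lo (-j) i := by
          rw [cj_inv D.a⁻¹, hinv, mul_inv_rev, mul_inv_rev, inv_inv, ← pw_neg (z3 D), neg_neg,
            ← mul_assoc, cj_mul, cj_mul, cj_zp D F.Sz, ← e4, B.cj_S_lo]
      _ = _ := by
          have hc : Cm D B.q4 (B.lo (-j) i) (B.α * i + B.β * j) :=
            ((B.co_lo (-j) i).2.2.2.symm).cast (by ring)
          rw [mul_assoc, hc.2.2, ← hm, ← mul_assoc, ← pw_add (z3 D),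
            (by decide : ∀ m : ZMod 3, m + m = -m) m]
          exact (zp_comm D (mul_mem (B.lo_mem _ _) B.q4Q) _).eq
  have co3 : B.Co (cj D.a B.q3) i j 1 0 := by
    rw [hA]
    exact B.co_cast (B.co_mul (B.co_mul (B.co_lo i j) B.co3) (B.co_zp m)) (by ring) (by ring)
      (by ring) (by ring)
  have co4 : B.Co (cj D.a B.q4) (-j) i 0 1 := by
    rw [hA4]
    exact B.co_cast (B.co_mul (B.co_mul (B.co_lo (-j) i) B.co4) (B.co_zp (-m))) (by ring)
      (by ring) (by ring) (by ring)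
  have eqE : x * i - j = i + x * -j ∧ -i - x * j = j + x * i := by
    have l := B.co_cj (k := F.E) (Or.inr F.Ez) co3 (by rw [h1]; exact B.co_lo _ _)
      (by rw [h2]; exact B.co_lo _ _) (by rw [h3]; exact B.co_hi _ _)
      (by rw [h4]; exact B.co_hi _ _)
    have r := B.co_cj (k := D.a) (Or.inl haz) (by rw [h3]; exact B.co_hi 1 x : B.Co (cj F.E B.q3) 0 0 1 x)
      (by rw [haq]; exact B.co1) (by rw [haq2]; exact B.co2) co3 co4
    rw [cj_cj, F.Ea.eq, ← cj_cj] at l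
    obtain ⟨u1, u2, -, -⟩ := B.co_unique l r
    exact ⟨by linear_combination u1, by linear_combination u2⟩
  have haW : cj (D.a * F.W) D.z = D.z := by rw [← cj_cj, F.cWz, haz]
  have hstep : ∀ (u : G) (v : ZMod 3 × ZMod 3 × ZMod 3 × ZMod 3),
      B.Co u v.1 v.2.1 v.2.2.1 v.2.2.2 → B.Co (cj (D.a * F.W) u) (step i j v).1 (step i j v).2.1
        (step i j v).2.2.1 (step i j v).2.2.2 := by
    intro u v hu
    have m1 : B.Co (cj (D.a * F.W) B.q) i j 1 0 := by rw [← cj_cj, B.W_q]; exact co3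
    have m2 : B.Co (cj (D.a * F.W) B.q2) (-j) i 0 1 := by rw [← cj_cj, B.W_q2]; exact co4
    have m3 : B.Co (cj (D.a * F.W) B.q3) (-1) 0 0 0 := by
      rw [← cj_cj, B.W_q3, cj_inv, haq]
      exact B.co_cast (B.co_inv B.co1) rfl neg_zero neg_zero neg_zero
    have m4 : B.Co (cj (D.a * F.W) B.q4) 0 (-1) 0 0 := by
      rw [← cj_cj, B.W_q4, cj_inv, haq2]
      exact B.co_cast (B.co_inv B.co2) neg_zero rfl neg_zero neg_zero
    refine B.co_cast (B.co_cj (Or.inl haW) hu m1 m2 m3 m4) ?_ ?_ ?_ ?_ <;> simp only [step] <;> ring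
  have h5 := hstep _ _ (hstep _ _ (hstep _ _ (hstep _ _ (hstep B.q (1, 0, 0, 0) B.co1))))
  have h5e : cj (D.a * F.W) (cj (D.a * F.W) (cj (D.a * F.W) (cj (D.a * F.W)
      (cj (D.a * F.W) B.q)))) = B.q := by
    have e : ∀ k v : G, cj k (cj k (cj k (cj k (cj k v)))) = cj (k ^ 5) v := by
      intro k v
      simp only [cj_cj, pow_succ, pow_zero, one_mul, mul_assoc]
    rw [e, F.AW, cj_one]
  rw [h5e] at h5
  obtain ⟨u1, u2, u3, u4⟩ := B.co_unique h5 B.co1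
  obtain ⟨hi1, hj1⟩ := a_data i j x hx0 eqE.1 eqE.2
    (Prod.ext u1 (Prod.ext u2 (Prod.ext u3 u4)))
  subst hi1 hj1
  refine ⟨⟨x, hsign, hR, h1, h2, h3, h4, ?_, ?_⟩⟩
  · rw [hA, hm]
    congr 2
    ring
  · rw [hA4, hm, neg_neg]
    congr 2
    ring

end CfsgLib.McLThree.Glue
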