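import Cfsg.Agent.Lib.McLThree.GlueQ

/-!
# The commutator pairing on `Q`
-/

set_option autoImplicit false

namespace CfsgLib.McLThree.Glue

open Subgroup

universe u

variable {G : Type u} [Group G] {D : Loc G}

theorem exists_Cm {x y : G} (hx : x ∈ D.Q) (hy : y ∈ D.Q) : ∃ i, Cm D x y i := by
  obtain ⟨i, hi⟩ := mem_zpowers_pw D.ord_z (D.commQ x hx y hy)
  exact ⟨i, hx, hy, by rw [← hi]; group⟩

theorem Cm.unique {x y : G} {i j : ZMod 3} (h : Cm D x y i) (h' : Cm D x y j) : i = j :=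
  zp_inj D (mul_right_cancel (h.2.2.symm.trans h'.2.2))

theorem Cm.cast {x y : G} {i j : ZMod 3} (h : Cm D x y i) (hij : i = j) : Cm D x y j := hij ▸ h

theorem Cm.symm {x y : G} {i : ZMod 3} (h : Cm D x y i) : Cm D y x (-i) := by
  refine ⟨h.2.1, h.1, ?_⟩
  rw [h.2.2, pw_neg (z3 D), inv_mul_cancel_left]

theorem Cm.of_commute {x y : G} (hx : x ∈ D.Q) (hy : y ∈ D.Q) (h : Commute x y) : Cm D x y 0 :=
  ⟨hx, hy, by rw [pw_zero, one_mul]; exact h.eq⟩

theorem Cm.commute {x y : G} (h : Cm D x y 0) : Commute x y := by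
  have := h.2.2
  rwa [pw_zero, one_mul] at this

theorem Cm.mul_left {x x' y : G} {i j : ZMod 3} (h : Cm D x y i) (h' : Cm D x' y j) :
    Cm D (x * x') y (i + j) := by
  refine ⟨mul_mem h.1 h'.1, h.2.1, ?_⟩
  rw [mul_assoc, h'.2.2, ← mul_assoc, ← (zp_comm D h.1 j).eq, mul_assoc, ← mul_assoc x, h.2.2,
    add_comm, pw_add (z3 D)]
  simp only [mul_assoc]

theorem Cm.mul_right {x y y' : G} {i j : ZMod 3} (h : Cm D x y i) (h' : Cm D x y' j) :
    Cm D x (y * y') (i + j) :=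
  ((h.symm.mul_left h'.symm).symm).cast (by ring)

theorem Cm.one_left {y : G} (hy : y ∈ D.Q) : Cm D 1 y 0 :=
  Cm.of_commute (one_mem _) hy (Commute.one_left _)

theorem Cm.pow_left {x y : G} {i : ZMod 3} (h : Cm D x y i) :
    ∀ n : ℕ, Cm D (x ^ n) y (n * i)
  | 0 => by simpa using Cm.one_left h.2.1
  | n + 1 => by
    rw [pow_succ]
    exact ((Cm.pow_left h n).mul_left h).cast (by push_cast; ring)

theorem Cm.pw_left {x y : G} {i : ZMod 3} (h : Cm D x y i) (a : ZMod 3) :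
    Cm D (pw x a) y (a * i) :=
  (h.pow_left a.val).cast (by rw [ZMod.natCast_zmod_val])

theorem Cm.pw_right {x y : G} {i : ZMod 3} (h : Cm D x y i) (a : ZMod 3) :
    Cm D x (pw y a) (a * i) :=
  ((h.symm.pw_left a).symm).cast (by ring)

theorem Cm.inv_left {x y : G} {i : ZMod 3} (h : Cm D x y i) : Cm D x⁻¹ y (-i) := by
  have := h.pw_left (-1)
  rw [pw_neg_one (cube D h.1)] at this
  exact this.cast (by ring)

theorem Cm.inv_right {x y : G} {i : ZMod 3} (h : Cm D x y i) : Cm D x y⁻¹ (-i) :=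
  ((h.symm.inv_left).symm).cast (by ring)

theorem Cm.zp_left {y : G} (hy : y ∈ D.Q) (i : ZMod 3) : Cm D (pw D.z i) y 0 :=
  Cm.of_commute (zp_mem D i) hy (zp_comm D hy i)

/-- Conjugation by an element that centralises `z`. -/
theorem Cm.conj {k x y : G} {i : ZMod 3} (h : Cm D x y i) (hk : cj k D.z = D.z) :
    Cm D (cj k x) (cj k y) i := by
  refine ⟨cjQ (Or.inl hk) h.1, cjQ (Or.inl hk) h.2.1, ?_⟩
  rw [← cj_mul, h.2.2, cj_mul, cj_mul, cj_pw, hk]

/-- Conjugation by an element that inverts `z`. -/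
theorem Cm.conj_neg {k x y : G} {i : ZMod 3} (h : Cm D x y i) (hk : cj k D.z = D.z⁻¹) :
    Cm D (cj k x) (cj k y) (-i) := by
  refine ⟨cjQ (Or.inr hk) h.1, cjQ (Or.inr hk) h.2.1, ?_⟩
  rw [← cj_mul, h.2.2, cj_mul, cj_mul, cj_pw, hk, inv_pw, pw_neg (z3 D)]

end CfsgLib.McLThree.Glue
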