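import Cfsg.Agent.Lib.McLThree.GlueCalc
import Cfsg.Agent.Lib.McLThree.CoverWords

/-!
# The elements of the double cover that the gluing uses
-/

set_option autoImplicit false
set_option maxRecDepth 100000

namespace CfsgLib.McLThree.Glue

open Subgroup

universe u

variable {G : Type u} [Group G]

/-- The inverse word. -/
def winv (w : List (Fin 14)) : List (Fin 14) := (w.map (· + 7)).reverse

theorem val_append (L : Fin 7 → G) (v w : List (Fin 14)) :
    val L (v ++ w) = val L v * val L w := by
  simp [val]

theorem val_letter (L : Fin 7 → G) (k : Fin 14) : val L [k + 7] = (val L [k])⁻¹ := by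
  rw [val_cons, val_cons, val_nil, mul_one, mul_one]
  fin_cases k <;> simp

theorem val_winv (L : Fin 7 → G) : ∀ w, val L (winv w) = (val L w)⁻¹
  | [] => by simp [winv, val_nil]
  | k :: w => by
    have ih := val_winv L w
    rw [show winv (k :: w) = winv w ++ [k + 7] from by simp [winv], val_append, ih, val_letter,
      show val L (k :: w) = val L [k] * val L w from val_append L [k] w, mul_inv_rev]

/-- Free reduction. -/
def fred : List (Fin 14) → List (Fin 14)
  | [] => []
  | k :: w => match fred w with
    | [] => [k]
    | j :: r => if j = k + 7 then r else k :: j :: r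

theorem val_fred (L : Fin 7 → G) : ∀ w, val L (fred w) = val L w
  | [] => rfl
  | k :: w => by
    have ih := val_fred L w
    rw [show val L (k :: w) = val L [k] * val L w from val_append L [k] w, ← ih]
    show val L (match fred w with
      | [] => [k]
      | j :: r => if j = k + 7 then r else k :: j :: r) = _
    split
    · next h0 => rw [h0, val_nil, mul_one]
    · next j r h0 =>
      rw [h0]
      split_ifs with h
      · rw [show val L (j :: r) = val L [j] * val L r from val_append L [j] r, h, val_letter,
          mul_inv_cancel_left]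
      · exact val_append L [k] (j :: r)

/-- A word is trivial when a conjugate of it reduces as a trivial word does. -/
theorem val_eq_one_of_fred (L : Fin 7 → G) {w w' c : List (Fin 14)}
    (h : fred (c ++ w ++ winv c) = fred w') (h' : val L w' = 1) : val L w = 1 := by
  have := congrArg (val L) h
  rw [val_fred, val_fred, h', val_append, val_append, val_winv] at this
  exact conj_eq_one_iff.1 this

/-- The relators of the cover before reduction. -/
def coverShapes : List (List (Fin 14)) :=
  (List.finRange 6).map (fun i => [Fin.castLE (by omega) i, Fin.castLE (by omega) i,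
    Fin.castLE (by omega) i]) ++
  (List.finRange 6).map (fun i => [Fin.castLE (by omega) i] ++ wordT ++
    winv [Fin.castLE (by omega) i] ++ winv wordT) ++
  ((List.finRange 6).flatMap fun i => ((List.finRange 6).filter (· != i)).flatMap fun j =>
    [[Fin.castLE (by omega) i, Fin.castLE (by omega) j, Fin.castLE (by omega) i,
      Fin.castLE (by omega) j] ++ winv [0, 1, 0, 1],
    [Fin.castLE (by omega) i, Fin.castLE (by omega) j, Fin.castLE (by omega) i,
      Fin.castLE (by omega) j] ++ winv [1, 0, 1, 0]]) ++
  [wordT ++ wordT]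

theorem coverRels_shapes : ∀ w ∈ coverRels, ∃ w' ∈ coverShapes, fred w = fred w' := by
  decide +kernel

variable {D : Loc G} (C : Cover G D)

/-- The letters, the seventh being `q`. -/
def letters (q : G) : Fin 7 → G := Fin.snoc C.T q

theorem letters_castLE (q : G) (i : Fin 6) :
    val (letters C q) [Fin.castLE (by omega) i] = C.T i := by
  rw [val_cons, val_nil, mul_one, dif_pos (show (Fin.castLE (m := 14) (by omega) i).1 < 7 by
    simp; omega)]
  exact Fin.snoc_castSucc (α := fun _ => G) q C.T i

theorem letters_pair (q : G) (i j : Fin 6) (h : i ≠ j) :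
    val (letters C q) [Fin.castLE (by omega) i, Fin.castLE (by omega) j, Fin.castLE (by omega) i,
      Fin.castLE (by omega) j] = D.t := by
  rw [show ([Fin.castLE _ i, Fin.castLE _ j, Fin.castLE _ i, Fin.castLE _ j] : List (Fin 14)) =
    [Fin.castLE (by omega) i] ++ [Fin.castLE (by omega) j] ++ [Fin.castLE (by omega) i] ++
      [Fin.castLE (by omega) j] from rfl, val_append, val_append, val_append, letters_castLE,
    letters_castLE, mul_assoc]
  exact C.quat i j h

theorem letters_T (q : G) : val (letters C q) wordT = D.t :=
  letters_pair C q 0 1 (by decide)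

theorem letters_coverRels (q : G) : ∀ w ∈ coverRels, val (letters C q) w = 1 := by
  intro w hw
  obtain ⟨w', hw', e⟩ := coverRels_shapes w hw
  rw [← val_fred, e, val_fred]
  simp only [coverShapes, List.mem_append, List.mem_map, List.mem_flatMap, List.mem_filter,
    List.mem_finRange, true_and, List.mem_cons, List.not_mem_nil, or_false, bne_iff_ne] at hw'
  rcases hw' with ((⟨i, rfl⟩ | ⟨i, rfl⟩) | ⟨i, j, hji, rfl | rfl⟩) | rfl
  · rw [show ([Fin.castLE _ i, Fin.castLE _ i, Fin.castLE _ i] : List (Fin 14)) =
      [Fin.castLE (by omega) i] ++ [Fin.castLE (by omega) i] ++ [Fin.castLE (by omega) i] from rfl,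
      val_append, val_append, letters_castLE, ← pow_two, ← pow_succ]
    exact C.cube i
  · rw [val_append, val_append, val_append, val_winv, val_winv, letters_castLE, letters_T,
      (C.comm i).eq, mul_inv_cancel_right, mul_inv_cancel]
  · rw [val_append, val_winv, letters_pair C q i j (Ne.symm hji),
      show val (letters C q) [0, 1, 0, 1] = D.t from letters_T C q, mul_inv_cancel]
  · rw [val_append, val_winv, letters_pair C q i j (Ne.symm hji),
      show val (letters C q) [1, 0, 1, 0] = D.t from letters_pair C q 1 0 (by decide),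
      mul_inv_cancel]
  · rw [val_append, letters_T]
    exact tt D

theorem letters_coverWord (q : G) (w : List (Fin 14)) (h : IsCoverRel w) :
    val (letters C q) w = 1 :=
  coverWords G _ (letters_coverRels C q) w h

theorem letters_indep (q q' : G) : ∀ w : List (Fin 14), (∀ k ∈ w, k ≠ 6 ∧ k ≠ 13) →
    val (letters C q) w = val (letters C q') w
  | [], _ => rfl
  | k :: w, h => by
    rw [val_cons, val_cons, letters_indep q q' w fun x hx => h x (List.mem_cons_of_mem _ hx)]
    obtain ⟨h6, h13⟩ := h k List.mem_cons_self
    have h6' : k.1 ≠ 6 := fun e => h6 (Fin.ext e)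
    have h13' : k.1 ≠ 13 := fun e => h13 (Fin.ext e)
    congr 1
    split_ifs with hk
    · simp [letters, Fin.snoc, show k.1 < 6 by omega]
    · simp [letters, Fin.snoc, show k.1 - 7 < 6 by omega]

theorem letters_z (q : G) : val (letters C q) [0] = D.z := (letters_castLE C q 0).trans C.Tz

theorem letters_A (q : G) : val (letters C q) wordA = D.a :=
  (letters_indep C q 1 wordA (by decide)).trans C.Ta

/-- The words that must be trivial in the cover. -/
def frameWords : List (List (Fin 14)) := [
  [0] ++ wordS ++ [7] ++ winv wordS,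
  [0] ++ wordW ++ [7] ++ winv wordW,
  wordE ++ [0] ++ winv wordE ++ [0],
  wordS ++ wordA ++ winv wordS ++ wordA,
  wordE ++ wordA ++ winv wordE ++ winv wordA,
  wordG ++ [0] ++ winv wordG ++ winv wordA,
  wordG ++ wordA ++ winv wordG ++ [7],
  wordS ++ wordS ++ winv wordT,
  wordW ++ wordW ++ winv wordT,
  wordE ++ wordE ++ winv wordT,
  wordG ++ wordG,
  wordG ++ wordE ++ winv wordG ++ winv wordS,
  wordS ++ wordW ++ winv (wordW ++ wordS ++ wordT),
  wordE ++ wordW ++ winv wordE ++ winv (wordW ++ wordS),
  wordA ++ wordW ++ wordA ++ wordW ++ wordA ++ wordW ++ wordA ++ wordW ++ wordA ++ wordW,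
  (wordA ++ wordA ++ (wordW ++ wordA ++ winv wordW) ++ wordA ++ (wordW ++ wordA ++ winv wordW)) ++
    (wordA ++ wordA ++ (wordW ++ wordA ++ winv wordW) ++ wordA ++
      (wordW ++ wordA ++ winv wordW)) ++ winv wordT,
  wordS ++ wordT ++ winv wordS ++ winv wordT,
  wordW ++ wordT ++ winv wordW ++ winv wordT,
  wordE ++ wordT ++ winv wordE ++ winv wordT,
  wordG ++ wordT ++ winv wordG ++ winv wordT]

theorem frameWords_ok : ∀ w ∈ frameWords, IsCoverRel w := by
  simp only [IsCoverRel]
  decide +kernel

/-- The frame given by the cover. -/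
theorem exists_frame : ∃ F : Frame D,
    F.S = val (letters C 1) wordS ∧ F.W = val (letters C 1) wordW ∧
    F.E = val (letters C 1) wordE ∧ F.R = val (letters C 1) wordG := by
  have H : ∀ w ∈ frameWords, val (letters C 1) w = 1 := fun w hw =>
    letters_coverWord C 1 w (frameWords_ok w hw)
  simp only [frameWords, List.forall_mem_cons, List.not_mem_nil, false_implies, implies_true,
    and_true, val_append, val_winv, letters_A, letters_T, letters_z,
    show val (letters C 1) [7] = D.z⁻¹ from
      (val_letter (letters C 1) 0).trans (congrArg _ (letters_z C 1))] at H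
  obtain ⟨hSz, hWz, hEz, hSa, hEa, hRz, hRa, hSS, hWW, hEE, hRR, hRE, hSW, hEW, hAW, huu, hSt, hWt,
    hEt, hRt⟩ := H
  have comm : ∀ {k x : G}, k * x * k⁻¹ * x⁻¹ = 1 → Commute k x := fun h =>
    mul_inv_eq_iff_eq_mul.1 (mul_inv_eq_one.1 h)
  exact ⟨⟨val (letters C 1) wordS, val (letters C 1) wordW, val (letters C 1) wordE,
    val (letters C 1) wordG, comm hSt, comm hWt, comm hEt, comm hRt, (comm hSz).symm,
    (comm hWz).symm, eq_inv_of_mul_eq_one_left hEz, eq_inv_of_mul_eq_one_left hSa, comm hEa,
    mul_inv_eq_one.1 hRz, eq_inv_of_mul_eq_one_left hRa |>.trans (inv_inv _),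
    mul_inv_eq_one.1 hSS, mul_inv_eq_one.1 hWW, mul_inv_eq_one.1 hEE, hRR, mul_inv_eq_one.1 hRE,
    mul_inv_eq_one.1 hSW, mul_inv_eq_one.1 hEW,
    by simpa [pow_succ, mul_assoc] using hAW,
    by simpa [pow_succ, cj, mul_assoc] using mul_inv_eq_one.1 huu⟩, rfl, rfl, rfl, rfl⟩

end CfsgLib.McLThree.Glue
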