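import Cfsg.Agent.Lib.McLThree.Defs

/-!
# Powers with exponents modulo three
-/

set_option autoImplicit false

namespace CfsgLib.McLThree.Glue

open Subgroup

universe u

variable {G : Type u} [Group G]

/-- Conjugation. -/
def cj (k x : G) : G := k * x * k⁻¹

theorem cj_mul (k x y : G) : cj k (x * y) = cj k x * cj k y := by simp [cj]

theorem cj_inv (k x : G) : cj k x⁻¹ = (cj k x)⁻¹ := by simp [cj, mul_assoc]

theorem cj_pow (k x : G) (n : ℕ) : cj k (x ^ n) = cj k x ^ n := (conj_pow).symm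

theorem cj_cj (k l x : G) : cj k (cj l x) = cj (k * l) x := by simp [cj, mul_assoc]

theorem cj_one (x : G) : cj 1 x = x := by simp [cj]

theorem cj_one_right (k : G) : cj k 1 = 1 := by simp [cj]

theorem cj_eq_one {k x : G} : cj k x = 1 ↔ x = 1 := conj_eq_one_iff

theorem cj_injective (k : G) : Function.Injective (cj k) := fun x y h ↦ by
  simpa [cj] using h

theorem cj_inv_self (k x : G) : cj k⁻¹ (cj k x) = x := by simp [cj, mul_assoc]

theorem cj_eq_self {k x : G} : cj k x = x ↔ Commute k x := mul_inv_eq_iff_eq_mul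

/-- The power with an exponent modulo three. -/
def pw (x : G) (i : ZMod 3) : G := x ^ i.val

theorem pw_zero (x : G) : pw x 0 = 1 := by simp [pw]

theorem pw_one (x : G) : pw x 1 = x := by simp [pw, ZMod.val_one]

theorem cj_pw (k x : G) (i : ZMod 3) : cj k (pw x i) = pw (cj k x) i := cj_pow k x _

theorem pw_mem {H : Subgroup G} {x : G} (hx : x ∈ H) (i : ZMod 3) : pw x i ∈ H := pow_mem hx _

theorem pw_commute {x y : G} (h : Commute x y) (i j : ZMod 3) : Commute (pw x i) (pw y j) :=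
  h.pow_pow _ _

theorem pw_mul_base {x y : G} (h : Commute x y) (i : ZMod 3) :
    pw (x * y) i = pw x i * pw y i := h.mul_pow _

theorem one_pw (i : ZMod 3) : pw (1 : G) i = 1 := one_pow _

variable {x : G} (hx : x ^ 3 = 1)

include hx

theorem pw_natCast (n : ℕ) : pw x (n : ZMod 3) = x ^ n := by
  rw [pw, ZMod.val_natCast, ← pow_eq_pow_mod n hx]

theorem pw_add (i j : ZMod 3) : pw x (i + j) = pw x i * pw x j := by
  rw [pw, pw, pw, ← pow_add, pow_eq_pow_mod (i.val + j.val) hx, ← ZMod.val_add]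

theorem pw_neg (i : ZMod 3) : pw x (-i) = (pw x i)⁻¹ := by
  apply eq_inv_of_mul_eq_one_left
  rw [← pw_add hx, neg_add_cancel, pw_zero]

theorem pw_neg_one : pw x (-1) = x⁻¹ := by rw [pw_neg hx, pw_one]

theorem pw_pw (i j : ZMod 3) : pw (pw x i) j = pw x (i * j) := by
  rw [pw, pw, pw, ← pow_mul, pow_eq_pow_mod (i.val * j.val) hx, ← ZMod.val_mul]

omit hx

theorem inv_pw (x : G) (i : ZMod 3) : pw x⁻¹ i = (pw x i)⁻¹ := inv_pow x _

/-- A nontrivial power with trivial third power generates. -/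
theorem pw_eq_one {x : G} (hx : x ^ 3 = 1) (h1 : x ≠ 1) {i : ZMod 3} (h : pw x i = 1) : i = 0 := by
  have h3 : orderOf x = 3 := orderOf_eq_prime hx h1
  have hd := orderOf_dvd_of_pow_eq_one h
  rw [h3] at hd
  have := ZMod.val_lt i
  have : i.val = 0 := by omega
  exact (ZMod.val_eq_zero i).1 this

theorem mem_zpowers_pw {x p : G} (hx : orderOf x = 3) (hp : p ∈ zpowers x) :
    ∃ i : ZMod 3, p = pw x i := by
  obtain ⟨n, rfl⟩ := Subgroup.mem_zpowers_iff.1 hp
  refine ⟨(n : ZMod 3), ?_⟩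
  rw [pw, ← zpow_natCast, ZMod.val_intCast, ← zpow_mod_orderOf x n, hx]

end CfsgLib.McLThree.Glue
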