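import Cfsg.Agent.Lib.McLThree.GluePow

/-!
# The elements of `Q` inverted by `t`
-/

set_option autoImplicit false

namespace CfsgLib.McLThree.Glue

open Subgroup
open scoped Pointwise

universe u

/-- The elements of the centraliser of `t` that the gluing uses. -/
structure Frame {G : Type u} [Group G] (D : Loc G) where
  S : G
  W : G
  E : G
  R : G
  St : Commute S D.t
  Wt : Commute W D.t
  Et : Commute E D.t
  Rt : Commute R D.t
  Sz : Commute S D.z
  Wz : Commute W D.z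
  Ez : cj E D.z = D.z⁻¹
  Sa : cj S D.a = D.a⁻¹
  Ea : Commute E D.a
  Rz : cj R D.z = D.a
  Ra : cj R D.a = D.z
  SS : S * S = D.t
  WW : W * W = D.t
  EE : E * E = D.t
  RR : R * R = 1
  RE : cj R E = S
  SW : S * W = W * S * D.t
  EW : cj E W = W * S
  AW : (D.a * W) ^ 5 = 1
  uu : (D.a * D.a * cj W D.a * D.a * cj W D.a) ^ 2 = D.t

variable {G : Type u} [Group G] (D : Loc G)

/-- An element of `Q` inverted by `t`. -/
def Inv (p : G) : Prop := p ∈ D.Q ∧ cj D.t p = p⁻¹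

/-- An element of `Q` inverted by `t` and centralised by `a`. -/
def Wm (p : G) : Prop := Inv D p ∧ Commute D.a p

/-- The commutator of two elements of `Q` is the power `i` of `z`. -/
def Cm (x y : G) (i : ZMod 3) : Prop := x ∈ D.Q ∧ y ∈ D.Q ∧ x * y = pw D.z i * (y * x)

theorem z3 : D.z ^ 3 = 1 := by
  simpa only [D.ord_z] using pow_orderOf_eq_one D.z

theorem z_ne : D.z ≠ 1 := fun h ↦ by
  have h1 := D.ord_z
  rw [h, orderOf_one] at h1
  omega

theorem a3 : D.a ^ 3 = 1 := by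
  simpa only [D.ord_a] using pow_orderOf_eq_one D.a

theorem tt : D.t * D.t = 1 := by
  simpa only [D.ord_t, sq] using pow_orderOf_eq_one D.t

theorem zp_mem (i : ZMod 3) : pw D.z i ∈ D.Q := pw_mem D.zQ i

theorem zp_inj {i j : ZMod 3} (h : pw D.z i = pw D.z j) : i = j := by
  refine sub_eq_zero.1 (pw_eq_one (z3 D) (z_ne D) ?_)
  rw [sub_eq_add_neg, pw_add (z3 D), pw_neg (z3 D), h, mul_inv_cancel]

theorem z_comm {p : G} (hp : p ∈ D.Q) : Commute D.z p :=
  (mem_centralizer_iff.1 (D.cQ hp)) D.z rfl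

theorem zp_comm {p : G} (hp : p ∈ D.Q) (i : ZMod 3) : Commute (pw D.z i) p :=
  (z_comm D hp).pow_left _

/-- Conjugation fixes the powers of `z` when it fixes `z`. -/
theorem cj_zp {k : G} (h : Commute k D.z) (i : ZMod 3) : cj k (pw D.z i) = pw D.z i :=
  cj_eq_self.2 (h.pow_right _)

theorem cube {p : G} (hp : p ∈ D.Q) : p ^ 3 = 1 := D.expQ p hp

theorem cj_t_cj {k : G} (hk : Commute k D.t) (p : G) : cj D.t (cj k p) = cj k (cj D.t p) := by
  rw [cj_cj, cj_cj, hk.eq]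

variable {D}

theorem cjQ {k p : G} (hk : cj k D.z = D.z ∨ cj k D.z = D.z⁻¹) (hp : p ∈ D.Q) : cj k p ∈ D.Q := by
  have h1 : k ∈ normalizer (zpowers D.z : Set G) := by
    rw [mem_normalizer_iff_map_conj_eq, MonoidHom.map_zpowers]
    show zpowers (cj k D.z) = zpowers D.z
    rcases hk with h | h <;> rw [h]
    exact zpowers_inv
  exact (Subgroup.mem_normalizer_iff.1 (D.nQ h1) p).1 hp

theorem Inv.mem {p : G} (h : Inv D p) : p ∈ D.Q := h.1

theorem Inv.one : Inv D (1 : G) := ⟨one_mem _, by simp [cj]⟩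

theorem Inv.inv {p : G} (h : Inv D p) : Inv D p⁻¹ :=
  ⟨inv_mem h.1, by rw [cj_inv, h.2]⟩

theorem Inv.pw' {p : G} (h : Inv D p) (i : ZMod 3) : Inv D (pw p i) :=
  ⟨pw_mem h.1 i, by rw [cj_pw, h.2, inv_pw]⟩

theorem Inv.conj {k p : G} (h : Inv D p) (hkt : Commute k D.t)
    (hk : cj k D.z = D.z ∨ cj k D.z = D.z⁻¹) : Inv D (cj k p) :=
  ⟨cjQ hk h.1, by rw [cj_t_cj D hkt, h.2, cj_inv]⟩

theorem Inv.mul {p r : G} (h : Inv D p) (h' : Inv D r) (hc : Commute p r) : Inv D (p * r) :=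
  ⟨mul_mem h.1 h'.1, by rw [cj_mul, h.2, h'.2, ← mul_inv_rev, hc.eq]⟩

/-- An element of `Q` inverted by `t` is alone in its coset of `Z`. -/
theorem Inv.unique {x y : G} {i : ZMod 3} (hx : Inv D x) (hy : Inv D y) (h : x = y * pw D.z i) :
    i = 0 ∧ x = y := by
  have ht := cj_zp D D.tz i
  have h1 : x⁻¹ = y⁻¹ * pw D.z i := by rw [← hx.2, h, cj_mul, hy.2, ht]
  have h2 : pw D.z i = pw D.z (-i) := by
    have : y⁻¹ * pw D.z i = y⁻¹ * pw D.z (-i) := by
      rw [← h1, h, mul_inv_rev, pw_neg (z3 D)]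
      exact ((zp_comm D hy.1 i).inv_inv).eq
    exact mul_left_cancel this
  have h3 := zp_inj D h2
  have h4 : i = 0 := (by decide : ∀ i : ZMod 3, i = -i → i = 0) i h3
  exact ⟨h4, by rw [h, h4, pw_zero, mul_one]⟩

theorem Inv.eq_one {x : G} (hx : Inv D x) (h : cj D.t x = x) : x = 1 := by
  have h1 : x * x = 1 := by
    have := hx.2.symm.trans h
    nth_rw 1 [← this]
    exact inv_mul_cancel x
  have h2 := cube D hx.1
  rw [pow_succ, sq, h1, one_mul] at h2
  exact h2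

/-- Every element of `Q` has a representative inverted by `t` in its coset. -/
theorem lift_inv {p : G} (hp : p ∈ D.Q) : ∃ i : ZMod 3, Inv D (p * pw D.z i) := by
  obtain ⟨j, hj⟩ := mem_zpowers_pw D.ord_z (D.tQ p hp)
  refine ⟨j, mul_mem hp (zp_mem D j), ?_⟩
  have h1 : cj D.t p = pw D.z j * p⁻¹ := by rw [eq_mul_inv_iff_mul_eq]; exact hj
  rw [cj_mul, h1, cj_zp D D.tz, mul_inv_rev, ← pw_neg (z3 D)]
  have h2 : pw D.z (-j) = pw D.z j * pw D.z j := by
    rw [← pw_add (z3 D)]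
    exact congrArg _ ((by decide : ∀ i : ZMod 3, -i = i + i) j)
  rw [h2, mul_assoc, mul_assoc]
  congr 1
  exact ((zp_comm D hp j).symm.inv_left).eq

theorem Wm.comm {x y : G} (hx : Wm D x) (hy : Wm D y) : Commute x y := by
  have h : ∀ {p : G}, Wm D p → p ∈ D.Q ⊓ centralizer ({D.a} : Set G) := fun hp ↦
    ⟨hp.1.1, mem_centralizer_iff.2 fun b hb ↦ by rw [Set.mem_singleton_iff.1 hb]; exact hp.2⟩
  have := D.fix_a.2
  exact setLike_mul_comm (h hx) (h hy)

theorem Wm.one : Wm D (1 : G) := ⟨Inv.one, Commute.one_right _⟩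

theorem Wm.inv {p : G} (h : Wm D p) : Wm D p⁻¹ := ⟨h.1.inv, h.2.inv_right⟩

theorem Wm.pw' {p : G} (h : Wm D p) (i : ZMod 3) : Wm D (pw p i) :=
  ⟨h.1.pw' i, h.2.pow_right _⟩

theorem Wm.mul {p r : G} (h : Wm D p) (h' : Wm D r) : Wm D (p * r) :=
  ⟨h.1.mul h'.1 (h.comm h'), h.2.mul_right h'.2⟩

/-- The elements of `J` inverted by `t`. -/
theorem wm_of_mem_J {p : G} (hp : p ∈ D.toTop.J) (ht : cj D.t p = p⁻¹) : Wm D p := by
  set C := D.Q ⊓ centralizer ({D.a} : Set G) with hC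
  have hn : zpowers D.a ≤ normalizer (C : Set G) := by
    refine le_trans ?_ (centralizer_le_normalizer _)
    rw [zpowers_le, mem_centralizer_iff]
    rintro c ⟨-, hc⟩
    exact ((mem_centralizer_iff.1 hc) D.a rfl).symm
  have hp' : p ∈ (C : Set G) * (zpowers D.a : Set G) := by
    rw [← coe_mul_of_right_le_normalizer_left C _ hn]
    exact hp
  obtain ⟨c, hc, b, hb, rfl⟩ := Set.mem_mul.1 hp'
  have hca : Commute D.a c := (mem_centralizer_iff.1 hc.2) D.a rfl
  obtain ⟨i, hi⟩ := mem_zpowers_pw D.ord_a hb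
  rw [hi] at ht ⊢
  have hcb : Commute c (Glue.pw D.a i) := (hca.pow_left _).symm
  have h1 : cj D.t c * Glue.pw D.a i = c⁻¹ * (Glue.pw D.a i)⁻¹ := by
    rw [cj_mul, cj_eq_self.2 (show Commute D.t (Glue.pw D.a i) from D.ta.pow_right _),
      mul_inv_rev] at ht
    rw [ht]
    exact (hcb.inv_inv).eq.symm
  have h2 : c * cj D.t c = (Glue.pw D.a i)⁻¹ * (Glue.pw D.a i)⁻¹ := by
    calc c * cj D.t c = c * (cj D.t c * Glue.pw D.a i) * (Glue.pw D.a i)⁻¹ := by group
      _ = _ := by rw [h1]; group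
  have h3 : Glue.pw D.a i ∈ D.Q := by
    have hm : c * cj D.t c ∈ D.Q := mul_mem hc.1 (cjQ (Or.inl (cj_eq_self.2 D.tz)) hc.1)
    rw [h2] at hm
    have e : Glue.pw D.a i = (Glue.pw D.a i)⁻¹ * (Glue.pw D.a i)⁻¹ := by
      rw [← pw_neg (a3 D), ← pw_add (a3 D)]
      exact congrArg _ ((by decide : ∀ i : ZMod 3, i = -i + -i) i)
    rw [e]; exact hm
  have hi0 : i = 0 := by
    by_contra hne
    apply D.a_notQ
    have := pw_mem h3 i
    rw [pw_pw (a3 D)] at this
    have hsq : i * i = 1 := (by decide : ∀ i : ZMod 3, i ≠ 0 → i * i = 1) i hne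
    rwa [hsq, pw_one] at this
  rw [hi0, pw_zero, mul_one] at ht ⊢
  exact ⟨⟨hc.1, ht⟩, hca⟩

theorem mem_J_of_wm {p : G} (h : Wm D p) : p ∈ D.toTop.J :=
  mem_sup_left ⟨h.1.1, mem_centralizer_iff.2 fun b hb ↦ by
    rw [Set.mem_singleton_iff.1 hb]; exact h.2⟩

namespace Frame

variable (F : Frame D)

theorem cSz : cj F.S D.z = D.z := cj_eq_self.2 F.Sz

theorem cWz : cj F.W D.z = D.z := cj_eq_self.2 F.Wz

theorem wm_S {p : G} (h : Wm D p) : Wm D (cj F.S p) := by
  refine ⟨h.1.conj F.St (Or.inl F.cSz), ?_⟩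
  have := h.2.map (MulAut.conj F.S)
  rw [MulAut.conj_apply, MulAut.conj_apply] at this
  change Commute (cj F.S D.a) (cj F.S p) at this
  rw [F.Sa] at this
  simpa using this.inv_left

theorem wm_E {p : G} (h : Wm D p) : Wm D (cj F.E p) := by
  refine ⟨h.1.conj F.Et (Or.inr F.Ez), ?_⟩
  have := h.2.map (MulAut.conj F.E)
  rw [MulAut.conj_apply, MulAut.conj_apply] at this
  change Commute (cj F.E D.a) (cj F.E p) at this
  rwa [cj_eq_self.2 F.Ea] at this

theorem wm_R {p : G} (h : Wm D p) : Wm D (cj F.R p) := by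
  set k := D.g⁻¹ * F.R with hk
  have hz : cj k D.z = D.z := by rw [hk, ← cj_cj, F.Rz, ← D.gz]; exact cj_inv_self _ _
  have ha : cj k D.a = D.a := by rw [hk, ← cj_cj, F.Ra, ← D.ga]; exact cj_inv_self _ _
  have hkJ : ∀ x ∈ D.toTop.J, cj k x ∈ D.toTop.J := by
    have hle : D.toTop.J ≤ D.toTop.J.comap (MulAut.conj k).toMonoidHom := by
      refine sup_le (fun c hc ↦ ?_) ?_
      · refine mem_sup_left ⟨cjQ (Or.inl hz) hc.1, mem_centralizer_iff.2 fun b hb ↦ ?_⟩
        rw [Set.mem_singleton_iff.1 hb]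
        have hac : Commute D.a c := (mem_centralizer_iff.1 hc.2) D.a rfl
        have := hac.map (MulAut.conj k)
        rw [MulAut.conj_apply, MulAut.conj_apply] at this
        change Commute (cj k D.a) (cj k c) at this
        rw [ha] at this
        exact this
      · rw [zpowers_le]
        refine mem_sup_right ?_
        show cj k D.a ∈ _
        rw [ha]
        exact mem_zpowers _
    exact fun x hx ↦ hle hx
  have hR : cj F.R p = cj D.g (cj k p) := by rw [hk, cj_cj, mul_inv_cancel_left]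
  refine wm_of_mem_J ?_ (by rw [cj_t_cj D F.Rt, h.1.2, cj_inv])
  rw [hR]
  exact (Subgroup.mem_normalizer_iff.1 D.gJ _).1 (hkJ p (mem_J_of_wm h))

/-- Only the trivial element of the intersection. -/
theorem wm_inter {x y : G} {m : ZMod 3} (hx : Wm D x) (hy : Wm D y)
    (h : x = cj F.W y * pw D.z m) : x = 1 ∧ y = 1 ∧ m = 0 := by
  obtain ⟨hm, he⟩ := Inv.unique hx.1 (Inv.conj hy.1 F.Wt (Or.inl F.cWz)) h
  have hA : Commute (cj F.W D.a) x := by
    rw [he]
    have := hy.2.map (MulAut.conj F.W)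
    rwa [MulAut.conj_apply, MulAut.conj_apply] at this
  have hu : Commute D.t x := by
    rw [← F.uu]
    exact ((((hx.2.mul_left hx.2).mul_left hA).mul_left hx.2).mul_left hA).pow_left _
  have hx1 := Inv.eq_one hx.1 (cj_eq_self.2 hu)
  refine ⟨hx1, ?_, hm⟩
  rw [he] at hx1
  exact cj_eq_one.1 hx1

end Frame

end CfsgLib.McLThree.Glue
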