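import Cfsg.Agent.Lib.McLThree.Defs

/-!
# Piece P2: interface

`Pair` is what the normalizer of `J` supplies before the element `e` is built.
-/

set_option autoImplicit false

namespace CfsgLib.McLThree

open Subgroup

universe u

/-- The elements of the normalizer of `J` attached to the pair of lines `⟨z⟩`, `⟨a⟩`. -/
structure Pair {G : Type u} [Group G] (D : Top G) where
  c : G
  g : G
  ct : Commute c D.t
  cz : c * D.z * c⁻¹ = D.z⁻¹
  ca : c * D.a * c⁻¹ = D.a⁻¹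
  cJ : c ∈ normalizer (D.J : Set G)
  cc : c * c * D.t ∈ D.J
  gt : Commute g D.t
  gz : g * D.z * g⁻¹ = D.a
  ga : g * D.a * g⁻¹ = D.z
  gJ : g ∈ normalizer (D.J : Set G)
  gg : g * g ∈ D.J
  gc : g * c * g⁻¹ * c ∈ D.J
  fusion : ∀ h : G, Commute h D.t →
    h * D.z * h⁻¹ ≠ D.z * D.a ∧ h * D.z * h⁻¹ ≠ D.z * D.a⁻¹ ∧
      h * D.z * h⁻¹ ≠ D.z⁻¹ * D.a ∧ h * D.z * h⁻¹ ≠ D.z⁻¹ * D.a⁻¹

/-- Sub-piece P2a: the pair of lines. -/
def StmtPair : Prop := ∀ (G : Type u) [Group G] [Finite G] (Z J Q : Subgroup G), Hyp G Z J Q →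
  ∀ D : Top G, zpowers D.z = Z → D.Q = Q → D.J = J → Nonempty (Pair D)

/-- Sub-piece P2b: the odd element. -/
def StmtOdd : Prop := ∀ (G : Type u) [Group G] [Finite G] (D : Top G), Pair D →
  ∃ E : Loc G, E.toTop = D

end CfsgLib.McLThree
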