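import Cfsg.Agent.Lib.McLThree.Defs

/-!
# Piece P2b: no element inverts `z` and fixes the module

An element `d` that inverts `z`, centralises `t`, `a` and an element `v` of order four inverting
`a`, with square in `J`, acts as a sign on `R/Z` and as the opposite sign on `Q/R`; as
`q ↦ [a, q]` maps `Q/R` equivariantly into `R/Z`, it would be trivial.
-/

set_option autoImplicit false
set_option linter.style.haveILetI false
set_option linter.unusedSectionVars false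

namespace CfsgLib.McLThree.SixOdd

open Subgroup

universe u

variable {G : Type u} [Group G] [Finite G] (D : Top G)

/-- The part of `J` in `Q`. -/
abbrev R : Subgroup G := D.Q ⊓ centralizer ({D.a} : Set G)

theorem z_cube : D.z ^ 3 = 1 := by rw [← D.ord_z]; exact pow_orderOf_eq_one _

theorem t_sq : D.t * D.t = 1 := by rw [← pow_two, ← D.ord_t]; exact pow_orderOf_eq_one _

theorem t_inv : D.t⁻¹ = D.t := inv_eq_of_mul_eq_one_right (t_sq D)

theorem R_comm {x y : G} (hx : x ∈ R D) (hy : y ∈ R D) : Commute x y :=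
  congrArg Subtype.val (D.fix_a.2.is_comm.comm (⟨x, hx⟩ : R D) ⟨y, hy⟩)

theorem R_a {x : G} (hx : x ∈ R D) : Commute x D.a := mem_centralizer_singleton_iff.1 hx.2

theorem J_comm_R {x j : G} (hx : x ∈ R D) (hj : j ∈ D.J) : Commute j x := by
  have h : D.J ≤ centralizer ({x} : Set G) :=
    sup_le (fun y hy => mem_centralizer_singleton_iff.2 (R_comm D hy hx).eq)
      (zpowers_le.2 (mem_centralizer_singleton_iff.2 (R_a D hx).symm.eq))
  exact mem_centralizer_singleton_iff.1 (h hj)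

theorem zpow_comm_Q {q w : G} (hq : q ∈ D.Q) (hw : w ∈ zpowers D.z) : Commute q w := by
  obtain ⟨k, rfl⟩ := mem_zpowers_iff.1 hw
  exact (show Commute q D.z from mem_centralizer_singleton_iff.1 (D.cQ hq)).zpow_right k

theorem zR : zpowers D.z ≤ R D :=
  zpowers_le.2 ⟨D.zQ, mem_centralizer_singleton_iff.2 D.za⟩

theorem cube_eq {x : G} (h : x ^ 3 = 1) : x = (x * x)⁻¹ := by
  refine eq_inv_of_mul_eq_one_left ?_
  rwa [pow_succ, sq, mul_assoc] at h

theorem mem_of_sq {S : Subgroup G} {x : G} (h3 : x ^ 3 = 1) (h : x * x ∈ S) : x ∈ S := by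
  rw [cube_eq h3]; exact inv_mem h

theorem conj_Q {h x : G} (hz : h * D.z * h⁻¹ ∈ zpowers D.z) (hx : x ∈ D.Q) :
    h * x * h⁻¹ ∈ D.Q := by
  refine (mem_normalizer_iff.1 (D.nQ (mem_normalizer_iff_map_conj_eq.2 ?_)) x).1 hx
  rw [MonoidHom.map_zpowers]
  refine eq_of_le_of_card_ge (zpowers_le.2 hz) ?_
  rw [Nat.card_zpowers, Nat.card_zpowers]
  exact (orderOf_injective (MulAut.conj h).toMonoidHom (MulAut.conj h).injective D.z).ge

theorem conj_R {h x : G} (hz : h * D.z * h⁻¹ ∈ zpowers D.z)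
    (ha : h * D.a * h⁻¹ = D.a ∨ h * D.a * h⁻¹ = D.a⁻¹) (hx : x ∈ R D) : h * x * h⁻¹ ∈ R D := by
  refine ⟨conj_Q D hz hx.1, mem_centralizer_singleton_iff.2 ?_⟩
  have hc : Commute (h * x * h⁻¹) (h * D.a * h⁻¹) :=
    (R_a D hx).map (MulAut.conj h).toMonoidHom
  rcases ha with e | e <;> rw [e] at hc
  · exact hc.eq
  · exact (Commute.inv_right_iff.1 hc).eq

/-- `R` is self-centralising in `Q`. -/
theorem selfcent {q : G} (hq : q ∈ D.Q) (h : ∀ x ∈ R D, Commute q x) : q ∈ R D := by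
  classical
  by_contra hn
  set A := R D ⊔ zpowers q with hA
  have hAQ : A ≤ D.Q := sup_le inf_le_left (zpowers_le.2 hq)
  have hcomm : ∀ x ∈ A, ∀ y ∈ A, Commute x y := by
    intro x hx y hy
    have h1 : ∀ w ∈ R D, A ≤ centralizer ({w} : Set G) := fun w hw =>
      sup_le (fun u hu => mem_centralizer_singleton_iff.2 (R_comm D hu hw).eq)
        (zpowers_le.2 (mem_centralizer_singleton_iff.2 (h w hw).eq))
    have h2 : A ≤ centralizer ({q} : Set G) :=
      sup_le (fun u hu => mem_centralizer_singleton_iff.2 (h u hu).symm.eq)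
        (zpowers_le.2 (mem_centralizer_singleton_iff.2 rfl))
    have h3 : A ≤ centralizer ({y} : Set G) := by
      refine sup_le (fun w hw => mem_centralizer_singleton_iff.2 ?_) (zpowers_le.2 ?_)
      · exact (mem_centralizer_singleton_iff.1 (h1 w hw hy)).symm
      · exact mem_centralizer_singleton_iff.2 (mem_centralizer_singleton_iff.1 (h2 hy)).symm
    exact mem_centralizer_singleton_iff.1 (h3 hx)
  have hcardA : 81 ≤ Nat.card A := by
    obtain ⟨k, -, hk⟩ := (Nat.dvd_prime_pow Nat.prime_three).1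
      (D.cardQ ▸ card_dvd_of_le hAQ : Nat.card A ∣ 3 ^ 5)
    have hlt : 27 < Nat.card A := by
      by_contra hh
      have := eq_of_le_of_card_ge (le_sup_left : R D ≤ A) (D.fix_a.1.symm ▸ not_lt.1 hh)
      exact hn (this.symm ▸ mem_sup_right (mem_zpowers q))
    rw [hk] at hlt ⊢
    have : 3 < k := (Nat.pow_lt_pow_iff_right (by norm_num : 1 < 3)).1 (by norm_num; omega)
    calc 81 = 3 ^ 4 := by norm_num
      _ ≤ 3 ^ k := Nat.pow_le_pow_right (by norm_num) this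
  obtain ⟨p, hpQ, hpA⟩ : ∃ p ∈ D.Q, p ∉ A := by
    by_contra hall
    push Not at hall
    have hle : D.Q ≤ zpowers D.z := fun x hx =>
      D.centerQ x hx fun y hy => hcomm x (hall x hx) y (hall y hy)
    have := card_le_of_le hle
    rw [D.cardQ, Nat.card_zpowers, D.ord_z] at this
    norm_num at this
  have htop : ∀ x : G, A ≤ centralizer ({x} : Set G) → Commute p x → ∀ y ∈ D.Q, Commute y x := by
    intro x hx hp y hy
    have he : A ⊔ zpowers p = D.Q := by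
      refine eq_of_le_of_card_ge (sup_le hAQ (zpowers_le.2 hpQ)) ?_
      obtain ⟨k, hk5, hk⟩ := (Nat.dvd_prime_pow Nat.prime_three).1
        (D.cardQ ▸ card_dvd_of_le (sup_le hAQ (zpowers_le.2 hpQ)) :
          Nat.card ↥(A ⊔ zpowers p) ∣ 3 ^ 5)
      have hlt : Nat.card A < Nat.card ↥(A ⊔ zpowers p) := by
        by_contra hh
        have := eq_of_le_of_card_ge (le_sup_left : A ≤ A ⊔ zpowers p) (not_lt.1 hh)
        exact hpA (this.symm ▸ mem_sup_right (mem_zpowers p))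
      rw [hk] at hlt
      have : 4 < k := (Nat.pow_lt_pow_iff_right (by norm_num : 1 < 3)).1
        (lt_of_le_of_lt (by norm_num; omega) hlt)
      rw [D.cardQ, hk, show k = 5 by omega]
    have : D.Q ≤ centralizer ({x} : Set G) :=
      he ▸ sup_le hx (zpowers_le.2 (mem_centralizer_singleton_iff.2 hp.eq))
    exact mem_centralizer_singleton_iff.1 (this hy)
  let f : A →* zpowers D.z :=
    { toFun := fun x => ⟨p * x * p⁻¹ * (x : G)⁻¹, D.commQ p hpQ x (hAQ x.2)⟩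
      map_one' := Subtype.ext (by simp)
      map_mul' := fun x y => Subtype.ext (by
        show p * ((x : G) * y) * p⁻¹ * ((x : G) * y)⁻¹ =
          p * x * p⁻¹ * (x : G)⁻¹ * (p * y * p⁻¹ * (y : G)⁻¹)
        have hc := zpow_comm_Q D (inv_mem (hAQ x.2)) (D.commQ p hpQ y (hAQ y.2))
        calc p * ((x : G) * y) * p⁻¹ * ((x : G) * y)⁻¹
            = p * x * p⁻¹ * ((p * y * p⁻¹ * (y : G)⁻¹) * (x : G)⁻¹) := by group
          _ = p * x * p⁻¹ * ((x : G)⁻¹ * (p * y * p⁻¹ * (y : G)⁻¹)) := by rw [hc.eq]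
          _ = _ := by group) }
  have hker : f.ker.map A.subtype ≤ zpowers D.z := by
    rintro _ ⟨x, hx, rfl⟩
    have hpx : Commute p (x : G) :=
      mul_inv_eq_iff_eq_mul.1 (mul_inv_eq_one.1 (congrArg Subtype.val hx))
    exact D.centerQ _ (hAQ x.2) fun y hy => (htop _
      (fun w hw => mem_centralizer_singleton_iff.2 (hcomm w hw _ x.2).eq) hpx y hy).symm
  have h1 : Nat.card f.ker ≤ 3 := by
    rw [← card_subtype, ← D.ord_z, ← Nat.card_zpowers]
    exact card_le_of_le hker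
  have h2 : Nat.card f.range ≤ 3 := by
    rw [← D.ord_z, ← Nat.card_zpowers]
    exact card_le_card_group _
  have h3 := f.ker.card_mul_index
  rw [index_ker] at h3
  have := Nat.mul_le_mul h1 h2
  omega

/-- Three cosets of the centre fill a group of order at most nine. -/
theorem three_cases {F : Subgroup G} (hF : zpowers D.z ≤ F) (hFR : F ≤ R D)
    (hcard : Nat.card F ≤ 9) {f y : G} (hf : f ∈ F) (hfZ : f ∉ zpowers D.z) (hy : y ∈ F) :
    y ∈ zpowers D.z ∨ y * f⁻¹ ∈ zpowers D.z ∨ y * f ∈ zpowers D.z := by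
  classical
  let T : Fin 3 → G := ![1, f, f⁻¹]
  have h3 : f ^ 3 = 1 := D.expQ f (hFR hf).1
  have hff : f * f ∉ zpowers D.z := fun h => hfZ (mem_of_sq h3 h)
  have hT : ∀ i, T i ∈ F := by
    intro i; fin_cases i <;> simp [T, one_mem, hf]
  let Φ : Fin 3 × zpowers D.z → F := fun p => ⟨T p.1 * p.2, mul_mem (hT _) (hF p.2.2)⟩
  have hinj : Function.Injective Φ := by
    rintro ⟨i, w⟩ ⟨j, w'⟩ e
    have e' : T i * (w : G) = T j * w' := congrArg Subtype.val e
    have hij : (T j)⁻¹ * T i ∈ zpowers D.z := by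
      rw [show (T j)⁻¹ * T i = (T j)⁻¹ * (T i * (w : G)) * (w : G)⁻¹ by group, e',
        inv_mul_cancel_left]
      exact mul_mem w'.2 (inv_mem w.2)
    have : i = j := by
      fin_cases i <;> fin_cases j <;> first
        | rfl
        | (exfalso; simp [T, ← mul_inv_rev, inv_mem_iff] at hij; first | exact hfZ hij | exact hff hij)
    subst this
    exact Prod.ext rfl (Subtype.ext (mul_left_cancel e'))
  have hb := hinj.bijective_of_nat_card_le (by
    rw [Nat.card_prod, Nat.card_fin, Nat.card_zpowers, D.ord_z]; exact hcard)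
  obtain ⟨⟨i, w⟩, e⟩ := hb.2 ⟨y, hy⟩
  have e' : T i * (w : G) = y := congrArg Subtype.val e
  have hc : Commute f (w : G) := R_comm D (hFR hf) (zR D w.2)
  fin_cases i
  · refine Or.inl ?_
    rw [← e']; simpa [T] using w.2
  · refine Or.inr (Or.inl ?_)
    have e'' : f * (w : G) = y := e'
    rw [← e'', hc.eq, mul_inv_cancel_right]
    exact w.2
  · refine Or.inr (Or.inr ?_)
    have e'' : f⁻¹ * (w : G) = y := e'
    rw [← e'', hc.inv_left.eq, inv_mul_cancel_right]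
    exact w.2

variable {d v : G}

/-- `d` acts on `R/Z` as a sign. -/
theorem sign_R (dz : d * D.z * d⁻¹ = D.z⁻¹) (da : Commute d D.a) (dJ : d * d ∈ D.J)
    (vz : Commute v D.z) (va : v * D.a * v⁻¹ = D.a⁻¹) (vv : v * v = D.t) (vd : Commute v d) :
    (∀ x ∈ R D, d * x * d⁻¹ * x⁻¹ ∈ zpowers D.z) ∨
      ∀ x ∈ R D, d * x * d⁻¹ * x ∈ zpowers D.z := by
  classical
  have hdz : d * D.z * d⁻¹ ∈ zpowers D.z := dz ▸ inv_mem (mem_zpowers _)
  have hdR : ∀ {x : G}, x ∈ R D → d * x * d⁻¹ ∈ R D := fun hx =>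
    conj_R D hdz (Or.inl (by rw [da.eq, mul_inv_cancel_right])) hx
  have hdd : ∀ {x : G}, x ∈ R D → d * (d * x * d⁻¹) * d⁻¹ = x := fun {x} hx => by
    rw [show d * (d * x * d⁻¹) * d⁻¹ = d * d * x * (d * d)⁻¹ by group, (J_comm_R D hx dJ).eq,
      mul_inv_cancel_right]
  have hdw : ∀ {w : G}, w ∈ zpowers D.z → d * w * d⁻¹ = w⁻¹ := fun {w} hw => by
    obtain ⟨k, rfl⟩ := mem_zpowers_iff.1 hw
    rw [← conj_zpow, dz, inv_zpow]
  let F : Subgroup G :=
    { carrier := {x | x ∈ R D ∧ d * x * d⁻¹ * x⁻¹ ∈ zpowers D.z}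
      one_mem' := ⟨one_mem _, by simp⟩
      mul_mem' := by
        rintro x y ⟨hx, hx'⟩ ⟨hy, hy'⟩
        refine ⟨mul_mem hx hy, ?_⟩
        have hc := R_comm D (inv_mem hx) (zR D hy')
        rw [show d * (x * y) * d⁻¹ * (x * y)⁻¹ =
          d * x * d⁻¹ * ((d * y * d⁻¹ * y⁻¹) * x⁻¹) by group, ← hc.eq,
          show d * x * d⁻¹ * (x⁻¹ * (d * y * d⁻¹ * y⁻¹)) =
          (d * x * d⁻¹ * x⁻¹) * (d * y * d⁻¹ * y⁻¹) by group]
        exact mul_mem hx' hy'
      inv_mem' := by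
        rintro x ⟨hx, hx'⟩
        refine ⟨inv_mem hx, ?_⟩
        have hc := R_comm D (hdR (inv_mem hx)) hx
        rw [inv_inv, hc.eq, show x * (d * x⁻¹ * d⁻¹) = (d * x * d⁻¹ * x⁻¹)⁻¹ by group]
        exact inv_mem hx' }
  let I : Subgroup G :=
    { carrier := {x | x ∈ R D ∧ d * x * d⁻¹ * x ∈ zpowers D.z}
      one_mem' := ⟨one_mem _, by simp⟩
      mul_mem' := by
        rintro x y ⟨hx, hx'⟩ ⟨hy, hy'⟩
        refine ⟨mul_mem hx hy, ?_⟩
        rw [show d * (x * y) * d⁻¹ * (x * y) =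
          d * x * d⁻¹ * ((d * y * d⁻¹) * x) * y by group, (R_comm D (hdR hy) hx).eq,
          show d * x * d⁻¹ * (x * (d * y * d⁻¹)) * y =
          (d * x * d⁻¹ * x) * (d * y * d⁻¹ * y) by group]
        exact mul_mem hx' hy'
      inv_mem' := by
        rintro x ⟨hx, hx'⟩
        refine ⟨inv_mem hx, ?_⟩
        rw [(R_comm D (hdR (inv_mem hx)) (inv_mem hx)).eq,
          show x⁻¹ * (d * x⁻¹ * d⁻¹) = (d * x * d⁻¹ * x)⁻¹ by group]
        exact inv_mem hx' }
  have hZF : zpowers D.z ≤ F := fun w hw => ⟨zR D hw, by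
    rw [hdw hw]; exact mul_mem (inv_mem hw) (inv_mem hw)⟩
  have hZI : zpowers D.z ≤ I := fun w hw => ⟨zR D hw, by
    rw [hdw hw, inv_mul_cancel]; exact one_mem _⟩
  by_cases hF1 : F ≤ zpowers D.z
  · refine Or.inr fun x hx => ?_
    have hm : x * (d * x * d⁻¹) ∈ F := ⟨mul_mem hx (hdR hx), by
      rw [show d * (x * (d * x * d⁻¹)) * d⁻¹ = (d * x * d⁻¹) * (d * (d * x * d⁻¹) * d⁻¹) by group,
        hdd hx, (R_comm D (hdR hx) hx).eq, mul_inv_cancel]
      exact one_mem _⟩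
    rw [(R_comm D (hdR hx) hx).eq]
    exact hF1 hm
  by_cases hI1 : I ≤ zpowers D.z
  · refine Or.inl fun x hx => ?_
    have hm : d * x * d⁻¹ * x⁻¹ ∈ I := ⟨mul_mem (hdR hx) (inv_mem hx), by
      rw [show d * (d * x * d⁻¹ * x⁻¹) * d⁻¹ * (d * x * d⁻¹ * x⁻¹) =
        (d * (d * x * d⁻¹) * d⁻¹) * x⁻¹ by group, hdd hx, mul_inv_cancel]
      exact one_mem _⟩
    exact hI1 hm
  exfalso
  obtain ⟨f, hfF, hfZ⟩ := SetLike.not_le_iff_exists.1 hF1
  obtain ⟨i₀, hiI, hiZ⟩ := SetLike.not_le_iff_exists.1 hI1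
  have hinter : ∀ {x : G}, x ∈ F → x ∈ I → x ∈ zpowers D.z := fun {x} hxF hxI => by
    refine mem_of_sq (D.expQ x hxF.1.1) ?_
    have := mul_mem (inv_mem hxF.2) hxI.2
    rwa [show (d * x * d⁻¹ * x⁻¹)⁻¹ * (d * x * d⁻¹ * x) = x * x by group] at this
  have hcard : Nat.card F * Nat.card I ≤ 27 * 3 := by
    let m : F × I → R D := fun p => ⟨p.1.1 * p.2.1, mul_mem p.1.2.1 p.2.2.1⟩
    choose g hg using fun r : Set.range m => r.2
    let ψ : F × I → R D × zpowers D.z := fun p =>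
      (m p, ⟨(g ⟨m p, p, rfl⟩).1.1⁻¹ * p.1.1, by
        set q := g ⟨m p, p, rfl⟩
        have e : q.1.1 * q.2.1 = p.1.1 * p.2.1 := congrArg Subtype.val (hg ⟨m p, p, rfl⟩)
        refine hinter (mul_mem (inv_mem q.1.2) p.1.2) ?_
        rw [show q.1.1⁻¹ * p.1.1 = q.1.1⁻¹ * (p.1.1 * p.2.1) * p.2.1⁻¹ by group, ← e,
          inv_mul_cancel_left]
        exact mul_mem q.2.2 (inv_mem p.2.2)⟩)
    have hψ : Function.Injective ψ := by
      intro p p' e
      obtain ⟨e1, e2⟩ := Prod.ext_iff.1 e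
      have e2' := congrArg Subtype.val e2
      simp only [ψ] at e2'
      have eg : g ⟨m p, p, rfl⟩ = g ⟨m p', p', rfl⟩ := by congr 1; exact Subtype.ext e1
      rw [eg] at e2'
      have h1 : p.1.1 = p'.1.1 := mul_left_cancel e2'
      have h2 : p.1.1 * p.2.1 = p'.1.1 * p'.2.1 := congrArg Subtype.val e1
      rw [h1] at h2
      exact Prod.ext (Subtype.ext h1) (Subtype.ext (mul_left_cancel h2))
    have := Nat.card_le_card_of_injective ψ hψ
    rwa [Nat.card_prod, Nat.card_prod, D.fix_a.1, Nat.card_zpowers, D.ord_z] at this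
  have hI9 : 9 ≤ Nat.card I := by
    obtain ⟨k, -, hk⟩ := (Nat.dvd_prime_pow Nat.prime_three).1
      (by have h := card_dvd_of_le (show I ≤ R D from fun x hx => hx.1)
          rwa [D.fix_a.1] at h : Nat.card I ∣ 3 ^ 3)
    have hlt : 3 < Nat.card I := by
      by_contra hh
      have := eq_of_le_of_card_ge hZI (by rw [Nat.card_zpowers, D.ord_z]; omega)
      exact hiZ (this.symm ▸ hiI)
    rw [hk] at hlt ⊢
    have : 1 < k := (Nat.pow_lt_pow_iff_right (by norm_num : 1 < 3)).1 (by simpa using hlt)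
    calc 9 = 3 ^ 2 := by norm_num
      _ ≤ 3 ^ k := Nat.pow_le_pow_right (by norm_num) this
  have hF9 : Nat.card F ≤ 9 := by
    have := Nat.mul_le_mul_left (Nat.card F) hI9
    omega
  have hvz : v * D.z * v⁻¹ ∈ zpowers D.z := by
    rw [vz.eq, mul_inv_cancel_right]; exact mem_zpowers _
  have hvw : ∀ {w : G}, w ∈ zpowers D.z → v * w * v⁻¹ = w := fun {w} hw => by
    obtain ⟨k, rfl⟩ := mem_zpowers_iff.1 hw
    rw [(vz.zpow_right k).eq, mul_inv_cancel_right]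
  have hvF : v * f * v⁻¹ ∈ F := ⟨conj_R D hvz (Or.inr va) hfF.1, by
    rw [show d * (v * f * v⁻¹) * d⁻¹ * (v * f * v⁻¹)⁻¹ =
      (d * v) * f * (d * v)⁻¹ * (v * f * v⁻¹)⁻¹ by group, vd.symm.eq,
      show v * d * f * (v * d)⁻¹ * (v * f * v⁻¹)⁻¹ = v * (d * f * d⁻¹ * f⁻¹) * v⁻¹ by group,
      hvw hfF.2]
    exact hfF.2⟩
  have htf : D.t * f * D.t⁻¹ = v * (v * f * v⁻¹) * v⁻¹ := by rw [← vv]; group
  have ht := D.tQ f hfF.1.1
  have hfix : D.t * f * D.t⁻¹ * f⁻¹ ∈ zpowers D.z → False := fun h => by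
    refine hfZ (mem_of_sq (D.expQ f hfF.1.1) ?_)
    have := mul_mem (inv_mem h) ht
    rwa [show (D.t * f * D.t⁻¹ * f⁻¹)⁻¹ * (D.t * f * D.t⁻¹ * f) = f * f by group] at this
  rcases three_cases D hZF (fun x hx => hx.1) hF9 hfF hfZ hvF with h | h | h
  · refine hfZ ?_
    have := hvw h
    rwa [show v * f * v⁻¹ = f from mul_left_cancel (mul_right_cancel this)] at h
  · refine hfix ?_
    have e := hvw h
    rw [show v * (v * f * v⁻¹ * f⁻¹) * v⁻¹ = (D.t * f * D.t⁻¹) * (v * f * v⁻¹)⁻¹ by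
      rw [htf]; group] at e
    rw [show D.t * f * D.t⁻¹ * f⁻¹ =
      (D.t * f * D.t⁻¹ * (v * f * v⁻¹)⁻¹) * (v * f * v⁻¹ * f⁻¹) by group, e]
    exact mul_mem h h
  · refine hfix ?_
    have e := hvw h
    rw [show v * (v * f * v⁻¹ * f) * v⁻¹ = (D.t * f * D.t⁻¹) * (v * f * v⁻¹) by
      rw [htf]; group] at e
    rw [show D.t * f * D.t⁻¹ * f⁻¹ =
      (D.t * f * D.t⁻¹ * (v * f * v⁻¹)) * (f * (v * f * v⁻¹))⁻¹ by group, e,
      (R_comm D hfF.1 hvF.1).eq, mul_inv_cancel]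
    exact one_mem _

/-- No element like `d` exists. -/
theorem false_of_elem (dz : d * D.z * d⁻¹ = D.z⁻¹) (da : Commute d D.a) (dJ : d * d ∈ D.J)
    (vz : Commute v D.z) (va : v * D.a * v⁻¹ = D.a⁻¹) (vv : v * v = D.t) (vd : Commute v d) :
    False := by
  classical
  have hs := sign_R D dz da dJ vz va vv vd
  have hdz : d * D.z * d⁻¹ ∈ zpowers D.z := dz ▸ inv_mem (mem_zpowers _)
  have hdw : ∀ {w : G}, w ∈ zpowers D.z → d * w * d⁻¹ = w⁻¹ := fun {w} hw => by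
    obtain ⟨k, rfl⟩ := mem_zpowers_iff.1 hw
    rw [← conj_zpow, dz, inv_zpow]
  have haz : ∀ {w : G}, w ∈ zpowers D.z → D.a * w * D.a⁻¹ = w := fun {w} hw => by
    obtain ⟨k, rfl⟩ := mem_zpowers_iff.1 hw
    rw [(D.za.symm.zpow_right k).eq, mul_inv_cancel_right]
  have haQ : ∀ {q : G}, q ∈ D.Q → D.a * q * D.a⁻¹ ∈ D.Q := fun hq =>
    conj_Q D (by rw [haz (mem_zpowers _)]; exact mem_zpowers _) hq
  -- `[a, q]` lies in `R`
  have hbR : ∀ {q : G}, q ∈ D.Q → D.a * q * D.a⁻¹ * q⁻¹ ∈ R D := fun {q} hq => by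
    refine selfcent D (mul_mem (haQ hq) (inv_mem hq)) fun x hx => ?_
    set w := q * x * q⁻¹ * x⁻¹ with hw
    have hwZ : w ∈ zpowers D.z := D.commQ q hq x hx.1
    have e1 : q * x * q⁻¹ = w * x := by rw [hw]; group
    have e2 : D.a * x * D.a⁻¹ = x := by rw [(R_a D hx).symm.eq, mul_inv_cancel_right]
    have e3 : (D.a * q * D.a⁻¹) * x * (D.a * q * D.a⁻¹)⁻¹ = w * x := by
      calc (D.a * q * D.a⁻¹) * x * (D.a * q * D.a⁻¹)⁻¹
          = (D.a * q * D.a⁻¹) * (D.a * x * D.a⁻¹) * (D.a * q * D.a⁻¹)⁻¹ := by rw [e2]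
        _ = D.a * (q * x * q⁻¹) * D.a⁻¹ := by group
        _ = (D.a * w * D.a⁻¹) * (D.a * x * D.a⁻¹) := by rw [e1]; group
        _ = w * x := by rw [haz hwZ, e2]
    have e4 : (D.a * q * D.a⁻¹)⁻¹ * (w * x) * (D.a * q * D.a⁻¹) = x := by rw [← e3]; group
    show D.a * q * D.a⁻¹ * q⁻¹ * x = x * (D.a * q * D.a⁻¹ * q⁻¹)
    have e5 : q⁻¹ * (w * x) * q = x := by rw [← e1]; group
    have e6 : q⁻¹ * x * q = w⁻¹ * x := by
      calc q⁻¹ * x * q = q⁻¹ * (w⁻¹ * (w * x)) * q := by group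
        _ = q⁻¹ * (w⁻¹ * (q * x * q⁻¹)) * q := by rw [e1]
        _ = w⁻¹ * x := by
          rw [← mul_assoc q⁻¹, (zpow_comm_Q D (inv_mem hq) (inv_mem hwZ)).eq]; group
    calc D.a * q * D.a⁻¹ * q⁻¹ * x
        = (D.a * q * D.a⁻¹) * (q⁻¹ * x * q) * (D.a * q * D.a⁻¹)⁻¹ *
            (D.a * q * D.a⁻¹ * q⁻¹) := by group
      _ = (D.a * q * D.a⁻¹) * (w⁻¹ * x) * (D.a * q * D.a⁻¹)⁻¹ *
            (D.a * q * D.a⁻¹ * q⁻¹) := by rw [e6]
      _ = w⁻¹ * ((D.a * q * D.a⁻¹) * x * (D.a * q * D.a⁻¹)⁻¹) *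
            (D.a * q * D.a⁻¹ * q⁻¹) := by
          rw [← mul_assoc _ w⁻¹, (zpow_comm_Q D (haQ hq) (inv_mem hwZ)).eq]; group
      _ = x * (D.a * q * D.a⁻¹ * q⁻¹) := by rw [e3]; group
  have hda : d * D.a * d⁻¹ = D.a := by rw [da.eq, mul_inv_cancel_right]
  -- `[a, q]` lies in the centre
  have hbZ : ∀ {q : G}, q ∈ D.Q → D.a * q * D.a⁻¹ * q⁻¹ ∈ zpowers D.z := fun {q} hq => by
    set b := D.a * q * D.a⁻¹ * q⁻¹ with hb
    set q' := d * q * d⁻¹ with hq'
    have hq'Q : q' ∈ D.Q := conj_Q D hdz hq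
    have hdb : d * b * d⁻¹ = D.a * q' * D.a⁻¹ * q'⁻¹ := by
      calc d * b * d⁻¹ = (d * D.a * d⁻¹) * q' * (d * D.a * d⁻¹)⁻¹ * q'⁻¹ := by
            rw [hb, hq']; group
        _ = _ := by rw [hda]
    refine mem_of_sq (D.expQ b (hbR hq).1) ?_
    -- how `d` acts on `Q/R`
    have key : ∀ x ∈ R D, ∃ w ∈ zpowers D.z, q * x * q⁻¹ = x * w ∧
        q' * (d * x * d⁻¹) * q'⁻¹ = (d * x * d⁻¹) * w⁻¹ := by
      intro x hx
      have hw := D.commQ q hq x hx.1
      set w := q * x * q⁻¹ * x⁻¹ with hwdef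
      have e1 : q * x * q⁻¹ = x * w := by
        rw [← (zpow_comm_Q D hx.1 hw).symm.eq, hwdef]; group
      refine ⟨w, hw, e1, ?_⟩
      calc q' * (d * x * d⁻¹) * q'⁻¹ = d * (q * x * q⁻¹) * d⁻¹ := by rw [hq']; group
        _ = (d * x * d⁻¹) * (d * w * d⁻¹) := by rw [e1]; group
        _ = _ := by rw [hdw hw]
    rcases hs with hpos | hneg
    · -- `d` inverts `Q/R`
      have hr : q' * q ∈ R D := by
        refine selfcent D (mul_mem hq'Q hq) fun x hx => ?_
        obtain ⟨w, hw, e1, e2⟩ := key x hx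
        set y := d * x * d⁻¹ * x⁻¹
        have hy : y ∈ zpowers D.z := hpos x hx
        have e3 : d * x * d⁻¹ = y * x := by simp [y]
        rw [e3, ← mul_assoc q', (zpow_comm_Q D hq'Q hy).eq, mul_assoc y, mul_assoc y,
          mul_assoc y] at e2
        have e4 : q' * x * q'⁻¹ = x * w⁻¹ := by
          exact mul_left_cancel e2
        refine mul_inv_eq_iff_eq_mul.1 ?_
        calc q' * q * x * (q' * q)⁻¹ = q' * (q * x * q⁻¹) * q'⁻¹ := by group
          _ = (q' * x * q'⁻¹) * (q' * w * q'⁻¹) := by rw [e1]; group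
          _ = x := by
            rw [e4, (zpow_comm_Q D hq'Q hw).eq, mul_inv_cancel_right, inv_mul_cancel_right]
      set r := q' * q with hrdef
      set w₁ := q⁻¹ * b⁻¹ * q * b with hw₁
      have hw₁Z : w₁ ∈ zpowers D.z := by
        have := D.commQ q⁻¹ (inv_mem hq) b⁻¹ (inv_mem (hbR hq).1)
        simpa [hw₁, mul_assoc] using this
      have e : d * b * d⁻¹ = r * (q⁻¹ * b⁻¹ * q) * r⁻¹ := by
        have har : D.a * r * D.a⁻¹ = r := by rw [(R_a D hr).symm.eq, mul_inv_cancel_right]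
        calc d * b * d⁻¹ = D.a * (r * q⁻¹) * D.a⁻¹ * (r * q⁻¹)⁻¹ := by
              rw [hdb, hrdef, mul_inv_cancel_right]
          _ = (D.a * r * D.a⁻¹) * (D.a * q⁻¹ * D.a⁻¹ * q) * r⁻¹ := by group
          _ = _ := by rw [har, hb]; group
      have hbr : r * (q⁻¹ * b⁻¹ * q) * r⁻¹ = q⁻¹ * b⁻¹ * q := by
        have hm : q⁻¹ * b⁻¹ * q ∈ R D := by
          rw [show q⁻¹ * b⁻¹ * q = w₁ * b⁻¹ by rw [hw₁]; group]
          exact mul_mem (zR D hw₁Z) (inv_mem (hbR hq))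
        rw [(R_comm D hr hm).eq, mul_inv_cancel_right]
      have h1 : d * b * d⁻¹ * b⁻¹ ∈ zpowers D.z := hpos b (hbR hq)
      rw [e, hbr, show q⁻¹ * b⁻¹ * q * b⁻¹ = w₁ * (b * b)⁻¹ by rw [hw₁]; group] at h1
      exact inv_mem_iff.1 ((mul_mem_cancel_left hw₁Z).1 h1)
    · -- `d` centralises `Q/R`
      have hr : q' * q⁻¹ ∈ R D := by
        refine selfcent D (mul_mem hq'Q (inv_mem hq)) fun x hx => ?_
        obtain ⟨w, hw, e1, e2⟩ := key x hx
        set y := d * x * d⁻¹ * x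
        have hy : y ∈ zpowers D.z := hneg x hx
        have e3 : d * x * d⁻¹ = y * x⁻¹ := by simp [y]
        rw [e3, ← mul_assoc q', (zpow_comm_Q D hq'Q hy).eq, mul_assoc y, mul_assoc y,
          mul_assoc y] at e2
        have e4 : q' * x⁻¹ * q'⁻¹ = x⁻¹ * w⁻¹ := by
          exact mul_left_cancel e2
        have e5 : q' * x * q'⁻¹ = w * x := by
          calc q' * x * q'⁻¹ = (q' * x⁻¹ * q'⁻¹)⁻¹ := by group
            _ = _ := by rw [e4]; group
        have e6 : q⁻¹ * x * q = x * w⁻¹ := by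
          have e7 : q⁻¹ * (x * w) * q = x := by rw [← e1]; group
          calc q⁻¹ * x * q = (q⁻¹ * (x * w) * q) * (q⁻¹ * w⁻¹ * q) := by group
            _ = x * w⁻¹ := by
              rw [e7, (zpow_comm_Q D (inv_mem hq) (inv_mem hw)).eq, inv_mul_cancel_right]
        refine mul_inv_eq_iff_eq_mul.1 ?_
        calc q' * q⁻¹ * x * (q' * q⁻¹)⁻¹ = q' * (q⁻¹ * x * q) * q'⁻¹ := by group
          _ = (q' * x * q'⁻¹) * (q' * w⁻¹ * q'⁻¹) := by rw [e6]; group
          _ = x := by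
            rw [e5, (zpow_comm_Q D hq'Q (inv_mem hw)).eq, mul_inv_cancel_right,
              (zpow_comm_Q D hx.1 hw).symm.eq, mul_inv_cancel_right]
      set r := q' * q⁻¹ with hrdef
      have e : d * b * d⁻¹ = r * b * r⁻¹ := by
        have har : D.a * r * D.a⁻¹ = r := by rw [(R_a D hr).symm.eq, mul_inv_cancel_right]
        calc d * b * d⁻¹ = D.a * (r * q) * D.a⁻¹ * (r * q)⁻¹ := by
              rw [hdb, hrdef, inv_mul_cancel_right]
          _ = (D.a * r * D.a⁻¹) * b * r⁻¹ := by rw [hb]; group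
          _ = _ := by rw [har]
      have h1 : d * b * d⁻¹ * b ∈ zpowers D.z := hneg b (hbR hq)
      rwa [e, (R_comm D hr (hbR hq)).eq, mul_inv_cancel_right] at h1
  let f : D.Q →* zpowers D.z :=
    { toFun := fun q => ⟨D.a * q * D.a⁻¹ * (q : G)⁻¹, hbZ q.2⟩
      map_one' := Subtype.ext (by simp)
      map_mul' := fun x y => Subtype.ext (by
        show D.a * ((x : G) * y) * D.a⁻¹ * ((x : G) * y)⁻¹ =
          D.a * x * D.a⁻¹ * (x : G)⁻¹ * (D.a * y * D.a⁻¹ * (y : G)⁻¹)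
        have hc := zpow_comm_Q D (inv_mem x.2) (hbZ y.2)
        calc D.a * ((x : G) * y) * D.a⁻¹ * ((x : G) * y)⁻¹
            = D.a * x * D.a⁻¹ * ((D.a * y * D.a⁻¹ * (y : G)⁻¹) * (x : G)⁻¹) := by group
          _ = D.a * x * D.a⁻¹ * ((x : G)⁻¹ * (D.a * y * D.a⁻¹ * (y : G)⁻¹)) := by rw [hc.eq]
          _ = _ := by group) }
  have hker : f.ker.map D.Q.subtype ≤ R D := by
    rintro _ ⟨x, hx, rfl⟩
    exact ⟨x.2, mem_centralizer_singleton_iff.2
      (mul_inv_eq_iff_eq_mul.1 (mul_inv_eq_one.1 (congrArg Subtype.val hx))).symm⟩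
  have h1 : Nat.card f.ker ≤ 27 := by
    rw [← card_subtype, ← D.fix_a.1]
    exact card_le_of_le hker
  have h2 : Nat.card f.range ≤ 3 := by
    rw [← D.ord_z, ← Nat.card_zpowers]
    exact card_le_card_group _
  have h3 := f.ker.card_mul_index
  rw [index_ker, D.cardQ] at h3
  have := Nat.mul_le_mul h1 h2
  omega

end CfsgLib.McLThree.SixOdd
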