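import Cfsg.Agent.Lib.McLThree.SixDefs
import Cfsg.Agent.Lib.McLThree.SixOddBase
import Cfsg.Agent.Lib.KnownA.AutAlt

/-!
# Piece P2b: the odd element
-/

set_option autoImplicit false
set_option linter.style.haveILetI false
set_option linter.unusedSectionVars false

namespace CfsgLib.McLThree.SixOdd

open Subgroup Equiv
open scoped commutatorElement

universe u

theorem perm_inverter : ∀ r : Perm (Fin 5), r * (r * r) = 1 → r ≠ 1 →
    ∃ s : Perm (Fin 5), Perm.sign s = 1 ∧ s * r = r * r * s := by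
  decide +kernel

theorem perm_transposition : ∀ r : Perm (Fin 5), r * (r * r) = 1 → r ≠ 1 →
    ∃ s : Perm (Fin 5), Perm.sign s = -1 ∧ s * r = r * s := by
  decide +kernel

theorem perm_inverts : ∀ r p : Perm (Fin 5), r * (r * r) = 1 → r ≠ 1 →
    Perm.sign p = 1 → p * r = r * r * p → p * p = 1 ∧ p ≠ 1 := by
  decide +kernel

theorem perm_center : ∀ p : Perm (Fin 5),
    (∀ q : alternatingGroup (Fin 5), p * q = q * p) → p = 1 := by
  intro p hp
  refine KnownA.conjNormal_injective (Ω := Fin 5) (by simp) ?_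
  rw [map_one]
  refine MulEquiv.ext fun q => Subtype.ext ?_
  rw [MulAut.conjNormal_apply, hp q, mul_inv_cancel_right]
  rfl

variable {G : Type u} [Group G] [Finite G] (D : Top G)

/-- The intersection of the centralisers of `z` and `t`. -/
abbrev K : Subgroup G := centralizer ({D.z} : Set G) ⊓ centralizer ({D.t} : Set G)

theorem mem_K {x : G} : x ∈ K D ↔ Commute x D.z ∧ Commute x D.t :=
  and_congr mem_centralizer_singleton_iff mem_centralizer_singleton_iff

theorem mem_zt {x : G} (hx : x ∈ closure ({D.z, D.t} : Set G)) :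
    ∃ i : ℤ, x = D.z ^ i ∨ x = D.z ^ i * D.t := by
  induction hx using closure_induction with
  | mem y hy =>
    rcases hy with rfl | rfl
    · exact ⟨1, Or.inl (zpow_one _).symm⟩
    · exact ⟨0, Or.inr (by simp)⟩
  | one => exact ⟨0, Or.inl (zpow_zero _).symm⟩
  | mul y w _ _ hy hw =>
    obtain ⟨i, hi⟩ := hy
    obtain ⟨j, hj⟩ := hw
    refine ⟨i + j, ?_⟩
    have hc : Commute D.t (D.z ^ j) := D.tz.zpow_right j
    rcases hi with rfl | rfl <;> rcases hj with rfl | rfl
    · exact Or.inl (zpow_add _ _ _).symm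
    · exact Or.inr (by rw [zpow_add, mul_assoc])
    · exact Or.inr (by rw [zpow_add, mul_assoc, hc.eq, ← mul_assoc])
    · refine Or.inl ?_
      rw [zpow_add, mul_assoc, ← mul_assoc D.t, hc.eq, mul_assoc (D.z ^ j), t_sq D, mul_one]
  | inv y _ hy =>
    obtain ⟨i, hi⟩ := hy
    refine ⟨-i, ?_⟩
    rcases hi with rfl | rfl
    · exact Or.inl (zpow_neg _ _).symm
    · refine Or.inr ?_
      rw [mul_inv_rev, t_inv D, ← zpow_neg, (D.tz.zpow_right (-i)).eq]

theorem zt_central {n x : G} (hn : n ∈ closure ({D.z, D.t} : Set G)) (hx : x ∈ K D) :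
    Commute x n := by
  obtain ⟨hxz, hxt⟩ := (mem_K D).1 hx
  obtain ⟨i, rfl | rfl⟩ := mem_zt D hn
  · exact hxz.zpow_right i
  · exact (hxz.zpow_right i).mul_right hxt

/-- `z` in `K`. -/
def zK : K D := ⟨D.z, (mem_K D).2 ⟨Commute.refl _, D.tz.symm⟩⟩

/-- `a` in `K`. -/
def aK : K D := ⟨D.a, (mem_K D).2 ⟨D.za.symm, D.ta.symm⟩⟩

/-- `t` in `K`. -/
def tK : K D := ⟨D.t, (mem_K D).2 ⟨D.tz, Commute.refl _⟩⟩

theorem mult_cube : ∀ y : Multiplicative (ZMod 3), y * (y * y) = 1 := by decide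

theorem mult_sq : ∀ y : Multiplicative (ZMod 3), y * y = 1 → y = 1 := by decide

theorem φa_facts : D.φ (aK D) * (D.φ (aK D) * D.φ (aK D)) = 1 ∧ D.φ (aK D) ≠ 1 := by
  have h3 : D.a ^ 3 = 1 := by rw [← D.ord_a]; exact pow_orderOf_eq_one _
  refine ⟨?_, fun h => ?_⟩
  · rw [← map_mul, ← map_mul, show aK D * (aK D * aK D) = 1 from Subtype.ext (by
      show D.a * (D.a * D.a) = 1
      rwa [← sq, ← pow_succ']), map_one]
  · obtain ⟨i, hi | hi⟩ := mem_zt D ((D.φ_ker _).1 h)
    · refine D.a_notQ ?_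
      rw [show D.a = D.z ^ i from hi]
      exact zpow_mem D.zQ i
    · have e : D.a = D.z ^ i * D.t := hi
      refine D.a_notQ (mem_of_sq h3 ?_)
      rw [show D.a * D.a = D.z ^ i * D.z ^ i * (D.t * D.t) by
        rw [e, mul_assoc, ← mul_assoc D.t, (D.tz.zpow_right i).eq]; group, t_sq D, mul_one]
      exact mul_mem (zpow_mem D.zQ i) (zpow_mem D.zQ i)

/-- An element of `K` is determined on `a` by the permutation it induces. -/
theorem conj_a {x : K D} {b : K D} (hb : D.χ b = 1) (hb3 : (b : G) ^ 3 = 1)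
    (h : D.φ x * D.φ (aK D) = D.φ b * D.φ x) : (x : G) * D.a * (x : G)⁻¹ = b := by
  set w : K D := x * aK D * x⁻¹ * b⁻¹ with hw
  have hφ : D.φ w = 1 := by rw [hw, map_mul, map_mul, map_mul, map_inv, map_inv, h]; group
  have hχ : D.χ w = 1 := by
    rw [hw, map_mul, map_mul, map_mul, map_inv, map_inv, D.χ_a (aK D) rfl, hb]; simp
  have key : (x : G) * D.a * (x : G)⁻¹ = (w : G) * b := by simp [hw, aK]
  obtain ⟨i, hi⟩ := mem_zt D ((D.φ_ker w).1 hφ)
  have hχt : D.χ (tK D) = 1 := mult_sq _ (by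
    rw [← map_mul, show tK D * tK D = 1 from Subtype.ext (t_sq D), map_one])
  have hzi : D.z ^ i = 1 := by
    have hcase : D.χ (zK D ^ i) = 1 := by
      rcases hi with hi | hi
      · rwa [show zK D ^ i = w from Subtype.ext (by push_cast; exact hi.symm)]
      · rw [show w = zK D ^ i * tK D from Subtype.ext (by push_cast; exact hi), map_mul, hχt,
          mul_one] at hχ
        exact hχ
    rw [map_zpow] at hcase
    have hne : D.χ (zK D) ≠ 1 := D.χ_z _ rfl
    have hd := orderOf_dvd_iff_zpow_eq_one.2 hcase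
    have ho : orderOf (D.χ (zK D)) = 3 :=
      orderOf_eq_prime (by rw [pow_succ', sq]; exact mult_cube _) hne
    rw [ho] at hd
    rw [← orderOf_dvd_iff_zpow_eq_one, D.ord_z]
    exact hd
  rcases hi with hi | hi <;> rw [key, hi, hzi]
  · rw [one_mul]
  · exfalso
    rw [hi, hzi, one_mul] at key
    have h3 : ((x : G) * D.a * (x : G)⁻¹) ^ 3 = 1 := by
      rw [conj_pow, show D.a ^ 3 = 1 by rw [← D.ord_a]; exact pow_orderOf_eq_one _, mul_one,
        mul_inv_cancel]
    rw [key, (show Commute D.t (b : G) from ((mem_K D).1 b.2).2.symm).mul_pow, hb3, mul_one,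
      pow_succ, sq, t_sq D, one_mul] at h3
    simpa [h3] using D.ord_t

/-- An element inverting `a`. -/
theorem conj_a_inv {x : K D} (h : D.φ x * D.φ (aK D) = D.φ (aK D) * D.φ (aK D) * D.φ x) :
    (x : G) * D.a * (x : G)⁻¹ = D.a⁻¹ := by
  have h3 : D.a ^ 3 = 1 := by rw [← D.ord_a]; exact pow_orderOf_eq_one _
  have e : D.a⁻¹ = D.a * D.a := inv_eq_of_mul_eq_one_right (by rwa [← sq, ← pow_succ'])
  rw [e]
  refine conj_a D (b := aK D * aK D) (by rw [map_mul, D.χ_a (aK D) rfl, one_mul]) ?_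
    (by rw [map_mul D.φ (aK D) (aK D)]; exact h)
  show (D.a * D.a) ^ 3 = 1
  rw [← sq, ← pow_mul, pow_mul', h3, one_pow]

theorem conj_a_self {x : K D} (h : D.φ x * D.φ (aK D) = D.φ (aK D) * D.φ x) :
    (x : G) * D.a * (x : G)⁻¹ = D.a :=
  conj_a D (b := aK D) (D.χ_a (aK D) rfl)
    (by show D.a ^ 3 = 1; rw [← D.ord_a]; exact pow_orderOf_eq_one _) h

variable (P : Pair D)

theorem conjc_mem {x : G} (hx : x ∈ K D) : P.c * x * P.c⁻¹ ∈ K D := by
  obtain ⟨h1, h2⟩ := (mem_K D).1 hx
  refine (mem_K D).2 ⟨?_, (P.ct.mul_left h2).mul_left P.ct.inv_left⟩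
  have hc : Commute (P.c * x * P.c⁻¹) (P.c * D.z⁻¹ * P.c⁻¹) :=
    h1.inv_right.map (MulAut.conj P.c).toMonoidHom
  rwa [← conj_inv, P.cz, inv_inv] at hc

/-- Conjugation by `c` on `K`. -/
def cC : K D →* K D where
  toFun x := ⟨P.c * x * P.c⁻¹, conjc_mem D P x.2⟩
  map_one' := Subtype.ext (by simp)
  map_mul' x y := Subtype.ext (by
    show P.c * ((x : G) * (y : G)) * P.c⁻¹ = P.c * x * P.c⁻¹ * (P.c * y * P.c⁻¹); group)

theorem φ_cC_eq_one {x : K D} : D.φ (cC D P x) = 1 ↔ D.φ x = 1 := by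
  have step : ∀ h : G, Commute h D.t → h * D.z * h⁻¹ ∈ zpowers D.z →
      ∀ y ∈ closure ({D.z, D.t} : Set G), h * y * h⁻¹ ∈ closure ({D.z, D.t} : Set G) := by
    intro h ht hz
    have : closure ({D.z, D.t} : Set G) ≤
        (closure ({D.z, D.t} : Set G)).comap (MulAut.conj h).toMonoidHom := by
      rw [closure_le]
      rintro y (rfl | rfl)
      · show h * D.z * h⁻¹ ∈ closure ({D.z, D.t} : Set G)
        exact (zpowers_le.2 (subset_closure (by simp))) hz
      · show h * D.t * h⁻¹ ∈ closure ({D.z, D.t} : Set G)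
        rw [ht.eq, mul_inv_cancel_right]
        exact subset_closure (by simp)
    exact fun y hy => this hy
  have hz' : P.c⁻¹ * D.z * P.c⁻¹⁻¹ ∈ zpowers D.z := by
    have : P.c⁻¹ * D.z⁻¹ * P.c = D.z := by rw [← P.cz]; group
    rw [inv_inv, show P.c⁻¹ * D.z * P.c = (P.c⁻¹ * D.z⁻¹ * P.c)⁻¹ by group, this]
    exact inv_mem (mem_zpowers _)
  rw [D.φ_ker, D.φ_ker]
  refine ⟨fun h => ?_, fun h => step P.c P.ct (P.cz ▸ inv_mem (mem_zpowers _)) _ h⟩
  have := step P.c⁻¹ P.ct.inv_left hz' _ h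
  simpa [cC, mul_assoc] using this

/-- The permutation induced by `c`. -/
theorem exists_perm : ∃ π : Perm (Fin 5), ∀ x : K D, D.φ (cC D P x) = π * D.φ x * π⁻¹ := by
  classical
  have hker : D.φ.rangeRestrict.ker ≤ (D.φ.comp (cC D P)).ker := fun x hx => by
    rw [MonoidHom.ker_rangeRestrict] at hx
    exact (φ_cC_eq_one D P).2 hx
  let f : D.φ.range →* Perm (Fin 5) :=
    D.φ.rangeRestrict.liftOfSurjective D.φ.rangeRestrict_surjective ⟨D.φ.comp (cC D P), hker⟩
  have hf : ∀ x : K D, f (D.φ.rangeRestrict x) = D.φ (cC D P x) := fun x =>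
    D.φ.rangeRestrict.liftOfRightInverse_comp_apply _ _ ⟨D.φ.comp (cC D P), hker⟩ x
  let fA : alternatingGroup (Fin 5) →* Perm (Fin 5) := f.comp (Subgroup.inclusion D.φ_range)
  have hsign : ∀ q, fA q ∈ alternatingGroup (Fin 5) := by
    have htop : closure {q : alternatingGroup (Fin 5) | (q : Perm (Fin 5)).IsThreeCycle} = ⊤ := by
      refine Subgroup.map_injective (f := (alternatingGroup (Fin 5)).subtype)
        Subtype.val_injective ?_
      rw [MonoidHom.map_closure, ← MonoidHom.range_eq_map, Subgroup.range_subtype]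
      refine Eq.trans ?_ Equiv.Perm.closure_three_cycles_eq_alternating
      congr 1
      ext σ
      constructor
      · rintro ⟨q, hq, rfl⟩; exact hq
      · exact fun hσ => ⟨⟨σ, hσ.mem_alternatingGroup⟩, hσ, rfl⟩
    intro q
    have hq : q ∈ closure {q : alternatingGroup (Fin 5) | (q : Perm (Fin 5)).IsThreeCycle} :=
      htop ▸ mem_top q
    refine (closure_le ((alternatingGroup (Fin 5)).comap fA)).2 ?_ hq
    intro r hr
    rw [SetLike.mem_coe, mem_comap, Perm.mem_alternatingGroup]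
    have h3 : r * (r * r) = 1 := by
      refine Subtype.ext ?_
      have := pow_orderOf_eq_one (r : Perm (Fin 5))
      rw [Perm.IsThreeCycle.orderOf hr, pow_succ', sq] at this
      exact this
    have h := congrArg (fun q => Perm.sign (fA q)) h3
    simp only [map_mul, map_one] at h
    rcases Int.units_eq_one_or (Perm.sign (fA r)) with e | e
    · exact e
    · rw [e] at h; exact absurd h (by decide)
  let gA : alternatingGroup (Fin 5) →* alternatingGroup (Fin 5) := fA.codRestrict _ hsign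
  have hinj : Function.Injective gA := by
    rw [injective_iff_map_eq_one]
    intro q hq
    obtain ⟨x, hx⟩ := D.φ_range q.2
    have e : Subgroup.inclusion D.φ_range q = D.φ.rangeRestrict x := Subtype.ext hx.symm
    have h1 : fA q = 1 := congrArg Subtype.val hq
    rw [show fA q = D.φ (cC D P x) by rw [← hf, ← e]; rfl, φ_cC_eq_one, hx] at h1
    exact Subtype.ext h1
  obtain ⟨π, hπ⟩ := KnownA.exists_conj_aut (Ω := Fin 5) (by simp) (by simp)
    (MulEquiv.ofBijective gA (Finite.injective_iff_bijective.1 hinj))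
  have hA : ∀ q : alternatingGroup (Fin 5), fA q = π * q * π⁻¹ := fun q => by
    have := congrArg Subtype.val (DFunLike.congr_fun hπ q)
    rw [MulAut.conjNormal_apply] at this
    exact this.symm
  refine ⟨π, fun x => ?_⟩
  set r := D.φ x with hr
  set s := D.φ (cC D P x) with hs
  suffices h : (π * r * π⁻¹)⁻¹ * s = 1 by
    have := inv_mul_eq_one.1 h
    exact this.symm
  refine perm_center _ fun q => ?_
  set q₀ : alternatingGroup (Fin 5) := ⟨π⁻¹ * q * π, by
    have := (inferInstance : (alternatingGroup (Fin 5)).Normal).conj_mem _ q.2 π⁻¹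
    rwa [inv_inv] at this⟩ with hq₀
  obtain ⟨y, hy⟩ := D.φ_range q₀.2
  have h0 : D.φ (cC D P y) = (q : Perm (Fin 5)) := by
    rw [← hf, show D.φ.rangeRestrict y = Subgroup.inclusion D.φ_range q₀ from Subtype.ext hy]
    show fA q₀ = _
    rw [hA, hq₀]
    group
  set q₁ : alternatingGroup (Fin 5) := ⟨r * q₀ * r⁻¹,
    (inferInstance : (alternatingGroup (Fin 5)).Normal).conj_mem _ q₀.2 r⟩ with hq₁
  have h1 : D.φ (cC D P (x * y * x⁻¹)) = π * (r * q₀ * r⁻¹) * π⁻¹ := by
    rw [← hf, show D.φ.rangeRestrict (x * y * x⁻¹) = Subgroup.inclusion D.φ_range q₁ from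
      Subtype.ext (by rw [MonoidHom.coe_rangeRestrict, map_mul, map_mul, map_inv, hy]; rfl)]
    exact hA q₁
  rw [map_mul, map_mul, map_inv, map_mul, map_mul, map_inv, h0, ← hs,
    show (q₀ : Perm (Fin 5)) = π⁻¹ * q * π from rfl] at h1
  calc (π * r * π⁻¹)⁻¹ * s * q = (π * r * π⁻¹)⁻¹ * (s * q * s⁻¹) * s := by group
    _ = (π * r * π⁻¹)⁻¹ * (π * (r * (π⁻¹ * q * π) * r⁻¹) * π⁻¹) * s := by rw [h1]
    _ = q * ((π * r * π⁻¹)⁻¹ * s) := by group

/-- In the even case the range is not only the alternating group. -/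
theorem exists_odd {π : Perm (Fin 5)} (hπ : ∀ x : K D, D.φ (cC D P x) = π * D.φ x * π⁻¹)
    (heven : Perm.sign π = 1) : ∃ x : K D, Perm.sign (D.φ x) = -1 := by
  by_contra hno
  push Not at hno
  have hA : ∀ x : K D, D.φ x ∈ alternatingGroup (Fin 5) := fun x =>
    (Int.units_eq_one_or _).resolve_right (hno x)
  obtain ⟨h3, hne⟩ := φa_facts D
  have hpa : π * D.φ (aK D) = D.φ (aK D) * D.φ (aK D) * π := by
    have h := hπ (aK D)
    rw [show cC D P (aK D) = (aK D)⁻¹ from Subtype.ext P.ca, map_inv,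
      inv_eq_of_mul_eq_one_right h3] at h
    exact mul_inv_eq_iff_eq_mul.1 h.symm
  obtain ⟨hpp, hp1⟩ := perm_inverts _ _ h3 hne heven hpa
  -- a lift of `π` in the derived group
  obtain ⟨v, hv, hvπ⟩ : ∃ v ∈ commutator (K D), D.φ v = π := by
    have hperf : ⁅alternatingGroup (Fin 5), alternatingGroup (Fin 5)⁆ =
        alternatingGroup (Fin 5) := by
      haveI : IsSimpleGroup (alternatingGroup (Fin 5)) :=
        alternatingGroup.isSimpleGroup (by simp)
      have h : commutator (alternatingGroup (Fin 5)) = ⊤ := by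
        rcases (inferInstance : (commutator (alternatingGroup (Fin 5))).Normal).eq_bot_or_eq_top
          with h | h
        · exfalso
          have h2 : ∀ p q : alternatingGroup (Fin 5), p * q = q * p := fun p q => by
            have hm : ⁅p, q⁆ ∈ commutator (alternatingGroup (Fin 5)) :=
              commutator_mem_commutator (mem_top p) (mem_top q)
            rw [h, mem_bot] at hm
            exact commutatorElement_eq_one_iff_mul_comm.1 hm
          exact hp1 (perm_center π fun q => congrArg Subtype.val (h2 ⟨π, heven⟩ q))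
        · exact h
      have := congrArg (Subgroup.map (alternatingGroup (Fin 5)).subtype) h
      rwa [_root_.commutator_def, map_commutator, ← MonoidHom.range_eq_map, Subgroup.range_subtype] at this
    have hm : alternatingGroup (Fin 5) ≤ (commutator (K D)).map D.φ := by
      rw [_root_.commutator_def, map_commutator, ← MonoidHom.range_eq_map, ← hperf]
      exact commutator_mono D.φ_range D.φ_range
    exact hm (show π ∈ alternatingGroup (Fin 5) from heven)
  set u : K D := v ^ 3 with hu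
  have hum : u ∈ commutator (K D) := pow_mem hv 3
  have huπ : D.φ u = π := by rw [hu, map_pow, hvπ, pow_succ, sq, hpp, one_mul]
  obtain ⟨i, hi⟩ := mem_zpowers_iff.1
    (D.φ_quat v (hA v) (by rw [hvπ]; exact hp1) (by rw [hvπ]; exact hpp))
  have hvv : (v : G) * v = D.z ^ i * D.t := by rw [hi, mul_assoc, t_sq D, mul_one]
  have huu : (u : G) * u = D.t := by
    have e : (u : G) * u = ((v : G) * v) ^ 3 := by
      simp only [hu, pow_succ, pow_zero, one_mul, Subgroup.coe_mul, mul_assoc]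
    have hz3 : (D.z ^ i) ^ 3 = 1 := by
      rw [← zpow_natCast, ← zpow_mul, mul_comm i, zpow_mul, zpow_natCast, z_cube D, one_zpow]
    rw [e, hvv, (D.tz.zpow_right i).symm.mul_pow, hz3, one_mul, pow_succ, sq, t_sq D, one_mul]
  set d : G := (u : G)⁻¹ * P.c with hd
  have hdK : ∀ x : K D, ∃ n ∈ closure ({D.z, D.t} : Set G), d * x * d⁻¹ = x * n := by
    intro x
    refine ⟨((x⁻¹ * (u⁻¹ * cC D P x * u) : K D) : G), (D.φ_ker _).1 ?_, ?_⟩
    · rw [map_mul, map_mul, map_mul, map_inv, map_inv, hπ, huπ]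
      group
    · show (u : G)⁻¹ * P.c * x * ((u : G)⁻¹ * P.c)⁻¹ =
        x * ((x : G)⁻¹ * ((u : G)⁻¹ * (P.c * x * P.c⁻¹) * u))
      group
  have hdc : ∀ x ∈ commutator (K D), Commute d (x : G) := by
    have : commutator (K D) ≤ (centralizer ({d} : Set G)).comap (K D).subtype := by
      rw [_root_.commutator_def, commutator_le]
      intro x _ y _
      rw [mem_comap, mem_centralizer_singleton_iff]
      obtain ⟨n, hn, e1⟩ := hdK x
      obtain ⟨m, hm, e2⟩ := hdK y
      have hxm := zt_central D hm x.2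
      have hyn := zt_central D hn y.2
      have hxn := zt_central D hn x.2
      have hym := zt_central D hm y.2
      have hnm : Commute n m := by
        obtain ⟨k, rfl | rfl⟩ := mem_zt D hn
        · exact zt_central D hm (zpow_mem (zK D).2 k)
        · exact zt_central D hm (mul_mem (zpow_mem (zK D).2 k) (tK D).2)
      have key : d * ((x : G) * y * (x : G)⁻¹ * (y : G)⁻¹) * d⁻¹ =
          (x : G) * y * (x : G)⁻¹ * (y : G)⁻¹ := by
        calc d * ((x : G) * y * (x : G)⁻¹ * (y : G)⁻¹) * d⁻¹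
            = (d * x * d⁻¹) * (d * y * d⁻¹) * (d * x * d⁻¹)⁻¹ * (d * y * d⁻¹)⁻¹ := by group
          _ = x * (n * y) * (m * n⁻¹) * (x : G)⁻¹ * m⁻¹ * (y : G)⁻¹ := by rw [e1, e2]; group
          _ = x * (y * n) * (n⁻¹ * m) * (x : G)⁻¹ * m⁻¹ * (y : G)⁻¹ := by
            rw [hyn.eq, hnm.inv_left.eq]
          _ = x * y * (m * (x : G)⁻¹) * m⁻¹ * (y : G)⁻¹ := by group
          _ = _ := by rw [← hxm.inv_left.eq]; group
      show (x * y * x⁻¹ * y⁻¹ : K D).1 * d = d * (x * y * x⁻¹ * y⁻¹ : K D).1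
      exact (mul_inv_eq_iff_eq_mul.1 key).symm
    exact fun x hx => (mem_centralizer_singleton_iff.1 (this hx)).symm
  have hvd : Commute (u : G) d := (hdc u hum).symm
  obtain ⟨huz, hut⟩ := (mem_K D).1 u.2
  have hua : (u : G) * D.a * (u : G)⁻¹ = D.a⁻¹ := conj_a_inv D (by rw [huπ]; exact hpa)
  refine false_of_elem D (d := d) (v := (u : G)) ?_ ?_ ?_ huz hua huu hvd
  · rw [hd, show (u : G)⁻¹ * P.c * D.z * ((u : G)⁻¹ * P.c)⁻¹ =
      (u : G)⁻¹ * (P.c * D.z * P.c⁻¹) * u by group, P.cz, huz.inv_left.inv_right.eq,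
      inv_mul_cancel_right]
  · refine mul_inv_eq_iff_eq_mul.1 ?_
    rw [hd, show (u : G)⁻¹ * P.c * D.a * ((u : G)⁻¹ * P.c)⁻¹ =
      (u : G)⁻¹ * (P.c * D.a * P.c⁻¹) * u by group, P.ca, ← hua]
    group
  · have hc : P.c = (u : G) * d := by rw [hd, mul_inv_cancel_left]
    have e : P.c * P.c * D.t = d * d := by
      have hdt : Commute d D.t := (hut.inv_left).mul_left P.ct
      rw [hc, mul_assoc (u : G) d, ← mul_assoc d, ← hvd.eq,
        show (u : G) * ((u : G) * d * d) * D.t = ((u : G) * u) * (d * d * D.t) by group, huu,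
        (hdt.mul_left hdt).eq, ← mul_assoc, t_sq D, one_mul]
    exact e ▸ P.cc

end SixOdd

universe u

open Subgroup Equiv SixOdd in
/-- Sub-piece P2b: the odd element. -/
theorem odd : StmtOdd.{u} := by
  intro G _ _ D P
  obtain ⟨π, hπ⟩ := exists_perm D P
  obtain ⟨h3, hne⟩ := φa_facts D
  obtain ⟨s, hs, hsa⟩ := perm_inverter _ h3 hne
  obtain ⟨v, hv⟩ := D.φ_range (show s ∈ alternatingGroup (Fin 5) from hs)
  have hva : (v : G) * D.a * (v : G)⁻¹ = D.a⁻¹ := conj_a_inv D (by rw [hv]; exact hsa)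
  obtain ⟨w, hw, hwa⟩ : ∃ w : K D, Perm.sign (D.φ w) * Perm.sign π = -1 ∧
      (w : G) * D.a * (w : G)⁻¹ = D.a := by
    rcases Int.units_eq_one_or (Perm.sign π) with e | e
    · obtain ⟨x, hx⟩ := exists_odd D P hπ e
      obtain ⟨τ, hτ, hτa⟩ := perm_transposition _ h3 hne
      obtain ⟨y, hy⟩ := D.φ_range (show τ * (D.φ x)⁻¹ ∈ alternatingGroup (Fin 5) by
        rw [Perm.mem_alternatingGroup, map_mul, map_inv, hτ, hx, inv_neg, inv_one, neg_mul_neg,
          one_mul])
      have hyx : D.φ (y * x) = τ := by rw [map_mul, hy, inv_mul_cancel_right]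
      exact ⟨y * x, by rw [hyx, hτ, e, mul_one], conj_a_self D (by rw [hyx]; exact hτa)⟩
    · exact ⟨1, by rw [map_one, map_one, one_mul, e], by simp⟩
  obtain ⟨hwz, hwt⟩ := (mem_K D).1 w.2
  obtain ⟨hvz, hvt⟩ := (mem_K D).1 v.2
  refine ⟨{ toTop := D
            e := (w : G) * v * P.c
            g := P.g
            et := (hwt.mul_left hvt).mul_left P.ct
            ez := ?_
            ea := ?_
            gt := P.gt
            gz := P.gz
            ga := P.ga
            e_odd := ⟨D.φ w * D.φ v * π, ?_, ?_⟩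
            gJ := P.gJ
            fusion := P.fusion
            c_g := ⟨P.c, P.ct, P.cz, P.ca, P.cc, P.gg, P.gc⟩ }, rfl⟩
  · calc (w : G) * v * P.c * D.z * ((w : G) * v * P.c)⁻¹
        = ((w : G) * v) * (P.c * D.z * P.c⁻¹) * ((w : G) * v)⁻¹ := by group
      _ = D.z⁻¹ := by rw [P.cz, (hwz.mul_left hvz).inv_right.eq, mul_inv_cancel_right]
  · calc (w : G) * v * P.c * D.a * ((w : G) * v * P.c)⁻¹
        = (w : G) * ((v : G) * (P.c * D.a * P.c⁻¹) * (v : G)⁻¹) * (w : G)⁻¹ := by group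
      _ = D.a := by rw [P.ca, ← conj_inv, hva, inv_inv, hwa]
  · rw [map_mul, map_mul, hv, hs, mul_one, hw]
  · intro x y hxy
    have e : y = w * v * cC D P x * (w * v)⁻¹ := Subtype.ext (by
      rw [hxy]
      show (w : G) * v * P.c * x * ((w : G) * v * P.c)⁻¹ =
        (w : G) * v * (P.c * x * P.c⁻¹) * ((w : G) * v)⁻¹
      group)
    rw [e, map_mul, map_mul, map_inv, map_mul, hπ]
    group

end CfsgLib.McLThree
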