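import Cfsg.Agent.Lib.McLThree.TopLetters

/-!
# S5523: Sylow order and the element `a`

`|C(z)| · 3 = 243 |C(z, t)|` gives the Sylow order 729; `J` meets `Q` in an abelian subgroup of
order 27 and has a further element `a` in `C(z, t)`, whose fixed points in `Q` are `J ∩ Q`.
-/

set_option autoImplicit false
set_option linter.style.haveILetI false
set_option linter.unusedSectionVars false

namespace CfsgLib.McLThree

open Subgroup

universe u

variable {G : Type u} [Group G] [Finite G] {Z J Q : Subgroup G}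

namespace Base

variable (B : Base G Z J Q)
include B

theorem card_L : Nat.card B.L = 243 * 120 := by
  have h := card_eq_card_quotient_mul_card_subgroup B.φ.ker
  rw [Nat.card_congr (QuotientGroup.quotientKerEquivOfSurjective B.φ B.surj).toEquiv,
    CfsgLib.Classical.card_SL_two, Nat.card_zmod, B.ker,
    Nat.card_congr (subgroupOfEquivOfLe B.QL).toEquiv, B.card_Q] at h
  rw [h]
  norm_num

theorem card_cZ : Nat.card (centralizer (Z : Set G)) * 3 = 243 * Nat.card B.C0 := by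
  set K := centralizer (Z : Set G)
  set Q' := Q.subgroupOf K with hQ'
  haveI : Q'.Normal := ⟨fun x hx c => by
    rw [hQ', mem_subgroupOf] at hx ⊢
    push_cast
    exact B.conj_Q c.2 hx⟩
  let f : B.C0 →* K ⧸ Q' := (QuotientGroup.mk' Q').comp (inclusion B.C0_le)
  have hf : Function.Surjective f := by
    intro g
    induction g using QuotientGroup.induction_on with | H c => ?_
    obtain ⟨q, hq, c', hc', e⟩ := B.exists_mul c.2
    refine ⟨⟨c', hc'⟩, (QuotientGroup.eq).2 ?_⟩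
    rw [hQ', mem_subgroupOf]
    show c'⁻¹ * (c : G) ∈ Q
    rw [e, ← mul_assoc]
    simpa using B.conj_Q (inv_mem (B.C0_le hc')) hq
  have hk : Nat.card f.ker = 3 := by
    rw [← B.hyp.cardZ]
    refine Nat.card_congr
      { toFun := fun c => ⟨c.1.1, B.C0_inf_Q c.1.2 ((QuotientGroup.eq_one_iff (N := Q') _).1 c.2)⟩
        invFun := fun w => ⟨⟨w.1, B.Z_le_C0 w.2⟩,
          (QuotientGroup.eq_one_iff (N := Q') _).2 (B.hyp.zQ w.2)⟩
        left_inv := fun c => rfl
        right_inv := fun w => rfl }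
  have h1 := card_eq_card_quotient_mul_card_subgroup f.ker
  rw [Nat.card_congr (QuotientGroup.quotientKerEquivOfSurjective f hf).toEquiv, hk] at h1
  have h2 := card_eq_card_quotient_mul_card_subgroup Q'
  rw [Nat.card_congr (subgroupOfEquivOfLe B.hyp.cQ).toEquiv, B.card_Q] at h2
  rw [h2, h1]
  ring

/-- The facts on orders that follow from the action on five letters. -/
structure Orders (B : Base G Z J Q) : Prop where
  cK : Nat.card (centralizer (Z : Set G)) ∣ 466560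
  dvd : 729 ∣ Nat.card (centralizer (Z : Set G))

theorem exists_orders (hy : (B.y : G) ∈ B.C0) : B.Orders := by
  obtain ⟨T⟩ := B.exists_letters
  have h1 := card_eq_card_quotient_mul_card_subgroup T.ψ.ker
  rw [Nat.card_congr (QuotientGroup.quotientKerEquivRange T.ψ).toEquiv] at h1
  have hk : Nat.card T.ker = Nat.card T.ψ.ker := card_map_of_injective B.C0.subtype_injective
  have h48 := T.card_ker_dvd hy
  have h3 : 3 ∣ Nat.card T.ker := B.hyp.cardZ ▸ card_dvd_of_le T.Z_le_ker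
  rw [hk] at h48 h3
  have h60 : 60 ∣ Nat.card T.ψ.range := by
    have h := card_dvd_of_le T.alt_le
    rwa [nat_card_alternatingGroup, Nat.card_fin, show Nat.factorial 5 / 2 = 60 from rfl] at h
  have h120 : Nat.card T.ψ.range ∣ 120 := by
    have h := T.ψ.range.card_subgroup_dvd_card
    rwa [Nat.card_perm, Nat.card_fin, show Nat.factorial 5 = 120 from rfl] at h
  have h2 := B.card_cZ
  constructor
  · have h4 : Nat.card B.C0 ∣ 120 * 48 := h1 ▸ Nat.mul_dvd_mul h120 h48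
    have h5 : Nat.card (centralizer (Z : Set G)) * 3 ∣ 466560 * 3 := by
      rw [h2]
      exact (Nat.mul_dvd_mul_left 243 h4).trans (by norm_num)
    exact Nat.dvd_of_mul_dvd_mul_right (by norm_num) h5
  · have h4 : 9 ∣ Nat.card B.C0 := h1 ▸ (by norm_num : 9 ∣ 60 * 3).trans (Nat.mul_dvd_mul h60 h3)
    have h5 : 729 * 3 ∣ Nat.card (centralizer (Z : Set G)) * 3 := by
      rw [h2]
      exact (by norm_num : 729 * 3 ∣ 243 * 9).trans (Nat.mul_dvd_mul_left _ h4)
    exact Nat.dvd_of_mul_dvd_mul_right (by norm_num) h5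

variable {B}

theorem Orders.sylow (O : B.Orders) (S : Sylow 3 G)
    (hS : (S : Subgroup G) ≤ centralizer (Z : Set G)) :
    Nat.card (S : Subgroup G) = 729 ∧ 729 ∣ Nat.card G ∧ ¬ 2187 ∣ Nat.card G := by
  haveI : Fact (Nat.Prime 3) := ⟨Nat.prime_three⟩
  have hG : 729 ∣ Nat.card G := O.dvd.trans (card_subgroup_dvd_card _)
  have h1 : 729 ∣ Nat.card (S : Subgroup G) :=
    S.pow_dvd_card_of_pow_dvd_card (n := 6) (by simpa using hG)
  obtain ⟨k, hk⟩ := IsPGroup.iff_card.1 S.2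
  have h2 : Nat.card (S : Subgroup G) ∣ 466560 := (card_dvd_of_le hS).trans O.cK
  have hk6 : k = 6 := by
    rw [hk] at h1 h2
    have a1 : 6 ≤ k := (Nat.pow_dvd_pow_iff_le_right (by norm_num : 1 < 3)).1
      (by simpa using h1)
    by_contra hne
    exact absurd ((pow_dvd_pow 3 (show 7 ≤ k by omega)).trans h2) (by norm_num)
  refine ⟨by rw [hk, hk6]; rfl, hG, fun h => ?_⟩
  have h3 : 2187 ∣ Nat.card (S : Subgroup G) :=
    S.pow_dvd_card_of_pow_dvd_card (n := 7) (by simpa using h)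
  rw [hk, hk6] at h3
  norm_num at h3

/-- Elements of exponent three of `C(Z)` lie in `L`. -/
theorem Orders.mem_L (O : B.Orders) {x : G} (hx : x ∈ centralizer (Z : Set G)) (h3 : x ^ 3 = 1) :
    x ∈ B.L := by
  set K := centralizer (Z : Set G) with hK
  set L' := B.L.subgroupOf K with hL'
  haveI : L'.Normal := ⟨fun y hy c => by
    rw [hL', mem_subgroupOf] at hy ⊢
    push_cast
    exact (mem_normalizer_iff.1 (B.LN (centralizer_le_normalizer _ c.2)) _).1 hy⟩
  have h1 := L'.card_mul_index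
  rw [Nat.card_congr (subgroupOfEquivOfLe B.LC).toEquiv, B.card_L] at h1
  have h2 : 243 * 120 * L'.index ∣ 243 * 120 * 16 := h1 ▸ O.cK.trans (by norm_num)
  obtain ⟨k, hk⟩ := Nat.dvd_of_mul_dvd_mul_left (by norm_num) h2
  have h4 : (⟨x, hx⟩ : K) ^ 16 ∈ L' := by
    rw [hk, pow_mul]
    exact pow_mem (L'.pow_index_mem _) _
  have h5 : x ^ 16 = x := by
    rw [show 16 = 3 * 5 + 1 from rfl, pow_succ, pow_mul, h3, one_pow, one_mul]
  have h6 : x ^ 16 ∈ B.L := h4
  rwa [h5] at h6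

variable (B)

/-- An abelian subgroup of `Q` has order at most 27. -/
theorem card_abelian_le {A : Subgroup G} (hA : A ≤ Q) (hc : ∀ x ∈ A, ∀ y ∈ A, Commute x y) :
    Nat.card A ≤ 27 := by
  haveI : Fact (Nat.Prime 3) := ⟨Nat.prime_three⟩
  have h := CfsgLib.PGroups.Extraspecial.card_le_of_abelian B.hyp.exQ (A := A.subgroupOf Q) (n := 2)
    (fun x hx y hy => Subtype.ext (hc y hy x hx).eq) (by rw [B.card_Q]; norm_num)
  rwa [Nat.card_congr (subgroupOfEquivOfLe hA).toEquiv] at h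

/-- An abelian subgroup of order 27 above `Z`. -/
structure Good (B : Base G Z J Q) (A : Subgroup G) : Prop where
  le : A ≤ Q
  zle : Z ≤ A
  card : Nat.card A = 27
  comm : ∀ x ∈ A, ∀ y ∈ A, Commute x y

theorem selfcent {A : Subgroup G} (hA : B.Good A) {q : G} (hq : q ∈ Q)
    (h : ∀ x ∈ A, Commute q x) : q ∈ A := by
  haveI : Fact (Nat.Prime 3) := ⟨Nat.prime_three⟩
  set A' := A.subgroupOf Q
  have hZA : center Q ≤ A' := fun x hx => hA.zle (B.center_Q.le ⟨x, hx, rfl⟩)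
  have e := CfsgLib.PGroups.Extraspecial.card_mul_card_centralizer B.hyp.exQ hZA
  rw [Nat.card_congr (subgroupOfEquivOfLe hA.le).toEquiv, hA.card, B.card_Q] at e
  have hle : A' ≤ centralizer (A' : Set Q) := fun x hx y hy =>
    Subtype.ext (hA.comm y hy x hx).eq
  have heq : A' = centralizer (A' : Set Q) := eq_of_le_of_card_ge hle (by
    rw [Nat.card_congr (subgroupOfEquivOfLe hA.le).toEquiv, hA.card]; omega)
  have : (⟨q, hq⟩ : Q) ∈ centralizer (A' : Set Q) := fun x hx => Subtype.ext (h x hx).eq.symm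
  rw [← heq] at this
  exact this

/-- A subgroup of index three invariant under an element with square in `tZ` does not exist. -/
theorem no_four {A M : Subgroup G} (hAQ : A ≤ Q) (hZM : Z ≤ M) (hMA : M ≤ A)
    (hidx : Nat.card A = 3 * Nat.card M) {u : G}
    (huA : ∀ q ∈ A, u * q * u⁻¹ ∈ A) (huM : ∀ q ∈ M, u * q * u⁻¹ ∈ M)
    (h2 : u * u * (B.t : G) ∈ Z) : False := by
  set M' := M.subgroupOf A with hM'
  haveI : M'.Normal := ⟨fun x hx c => by
    rw [hM', mem_subgroupOf] at hx ⊢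
    push_cast
    have h := B.commQ (hAQ c.2) (hAQ x.2)
    have h' := mul_mem (hZM h) hx
    rwa [show (c : G) * (x : G) * (c : G)⁻¹ * (x : G)⁻¹ * (x : G) = (c : G) * x * (c : G)⁻¹ by
      group] at h'⟩
  have hi : M'.index = 3 := by
    have h := M'.card_mul_index
    rw [Nat.card_congr (subgroupOfEquivOfLe hMA).toEquiv, hidx, mul_comm 3] at h
    exact Nat.eq_of_mul_eq_mul_left Nat.card_pos h
  obtain ⟨q, hq, hqM⟩ : ∃ q ∈ A, q ∉ M := by
    by_contra! h
    have := Subgroup.card_le_of_le (show A ≤ M from h)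
    have : 0 < Nat.card M := Nat.card_pos
    omega
  set r := u * q * u⁻¹ with hr
  have hrA : r ∈ A := huA q hq
  have hsq : u * r * u⁻¹ * q ∈ M := by
    have e : u * r * u⁻¹ = (u * u * (B.t : G)) * ((B.t : G) * q * (B.t : G)⁻¹) *
        (u * u * (B.t : G))⁻¹ := by
      rw [hr, B.t_inv]
      calc u * (u * q * u⁻¹) * u⁻¹ = (u * u) * ((B.t : G) * (B.t : G)) * q *
            (((B.t : G) * (B.t : G)) * (u * u)⁻¹) := by rw [B.t_sq]; group
        _ = u * u * (B.t : G) * ((B.t : G) * q * (B.t : G)) * ((B.t : G) * (u * u)⁻¹) := by group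
        _ = _ := by rw [mul_inv_rev (u * u), B.t_inv]
    rw [e, ← (B.Zc h2 (B.hyp.cQ (B.conj_Q B.t_cZ (hAQ hq)))).eq, mul_inv_cancel_right]
    exact hZM (B.t_inverts (hAQ hq))
  have h3 : ∀ a b : A ⧸ M', a ≠ 1 → (b = 1 ∨ b = a ∨ b = a⁻¹) := by
    intro a b ha
    haveI : Fact (Nat.Prime 3) := ⟨Nat.prime_three⟩
    have hc : Nat.card (A ⧸ M') = 3 := hi
    have hb : b ∈ zpowers a := by rw [zpowers_eq_top_of_prime_card hc ha]; trivial
    obtain ⟨k, rfl⟩ := mem_zpowers_iff.1 hb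
    have h31 : a ^ (3 : ℤ) = 1 := by
      rw [zpow_ofNat, ← hc]; exact pow_card_eq_one'
    rw [← Int.emod_add_mul_ediv k 3, zpow_add, zpow_mul, h31, one_zpow, mul_one]
    have h0 := Int.emod_nonneg k (by norm_num : (3 : ℤ) ≠ 0)
    have h1 := Int.emod_lt_of_pos k (by norm_num : (0 : ℤ) < 3)
    obtain h | h | h : k % 3 = 0 ∨ k % 3 = 1 ∨ k % 3 = 2 := by omega
    · left; rw [h, zpow_zero]
    · right; left; rw [h, zpow_one]
    · right; right
      refine eq_inv_of_mul_eq_one_left ?_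
      rw [h, ← zpow_add_one, show (2 : ℤ) + 1 = 3 from rfl, h31]
  rcases h3 (QuotientGroup.mk ⟨q, hq⟩) (QuotientGroup.mk ⟨r, hrA⟩)
      (fun e => hqM ((QuotientGroup.eq_one_iff (N := M') _).1 e)) with e | e | e
  · have hrM : r ∈ M := (QuotientGroup.eq_one_iff (N := M') _).1 e
    refine hqM ?_
    have h := mul_mem (inv_mem (huM r hrM)) hsq
    simpa [mul_assoc] using h
  · have hrM : r⁻¹ * q ∈ M := (QuotientGroup.eq (s := M')).1 e
    refine hqM ?_
    have h' := huM _ hrM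
    rw [show u * (r⁻¹ * q) * u⁻¹ = (u * r * u⁻¹)⁻¹ * r by simp [hr, mul_assoc]] at h'
    have h1 : (u * r * u⁻¹)⁻¹ * q ∈ M := by
      have := mul_mem h' hrM
      rwa [show (u * r * u⁻¹)⁻¹ * r * (r⁻¹ * q) = (u * r * u⁻¹)⁻¹ * q by group] at this
    have h2' := mul_mem hsq h1
    rw [show u * r * u⁻¹ * q * ((u * r * u⁻¹)⁻¹ * q) =
      (u * r * u⁻¹) * q * (u * r * u⁻¹)⁻¹ * q⁻¹ * (q * q) by group] at h2'
    have h5 := hZM (B.commQ (hAQ (huA r hrA)) (hAQ hq))
    have h6 := (M.mul_mem_cancel_left h5).1 h2'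
    have h7 := mul_mem h6 h6
    rwa [show q * q * (q * q) = q ^ 3 * q by simp [pow_succ, mul_assoc], B.hyp.expQ q (hAQ hq), one_mul] at h7
  · rw [← QuotientGroup.mk_inv] at e
    have hrM : r⁻¹ * q⁻¹ ∈ M := (QuotientGroup.eq (s := M')).1 e
    refine hqM ?_
    have h' := huM _ hrM
    rw [show u * (r⁻¹ * q⁻¹) * u⁻¹ = (u * r * u⁻¹)⁻¹ * r⁻¹ by simp [hr, mul_assoc]] at h'
    have h5 := mul_mem hsq h'
    rw [show u * r * u⁻¹ * q * ((u * r * u⁻¹)⁻¹ * r⁻¹) =
      (u * r * u⁻¹) * q * (u * r * u⁻¹)⁻¹ * q⁻¹ * (q * r⁻¹) by group] at h5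
    have h6 := (M.mul_mem_cancel_left (hZM (B.commQ (hAQ (huA r hrA)) (hAQ hq)))).1 h5
    have h8 := mul_mem (inv_mem hrM) h6
    -- `(q r)(q r⁻¹) ≡ q²`
    rw [show (r⁻¹ * q⁻¹)⁻¹ * (q * r⁻¹) = q * (r * q * r⁻¹ * q⁻¹) * q⁻¹ * (q * q) by group] at h8
    have h9 : q * (r * q * r⁻¹ * q⁻¹) * q⁻¹ ∈ M := by
      have hc := B.commQ (hAQ hrA) (hAQ hq)
      rw [(B.Qw hc (hAQ hq)).eq, mul_inv_cancel_right]
      exact hZM hc
    have h10 := (M.mul_mem_cancel_left h9).1 h8
    have h11 := mul_mem h10 h10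
    rwa [show q * q * (q * q) = q ^ 3 * q by simp [pow_succ, mul_assoc], B.hyp.expQ q (hAQ hq), one_mul] at h11

/-- The element `a`. -/
structure Elem (B : Base G Z J Q) where
  a : G
  a_C0 : a ∈ B.C0
  a_J : a ∈ J
  a_L : a ∈ B.L
  a_notQ : a ∉ Q
  a3 : a ^ 3 = 1
  good : B.Good (J ⊓ Q)
  inf_a : Q ⊓ centralizer ({a} : Set G) = J ⊓ Q

theorem J_le_cZ : J ≤ centralizer (Z : Set G) := by
  obtain ⟨S, hJS, hS⟩ := B.hyp.syl
  exact hJS.trans hS

theorem J_comm {x y : G} (hx : x ∈ J) (hy : y ∈ J) : Commute x y :=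
  haveI := B.hyp.commJ
  congrArg Subtype.val (mul_comm' (⟨x, hx⟩ : J) ⟨y, hy⟩)

theorem card_JQ (O : B.Orders) : B.Good (J ⊓ Q) := by
  obtain ⟨S, hJS, hS⟩ := B.hyp.syl
  obtain ⟨hScard, -, -⟩ := O.sylow S hS
  haveI : Fact (Nat.Prime 3) := ⟨Nat.prime_three⟩
  have hQS : Q ≤ S := by
    have hsup : IsPGroup 3 (S ⊔ Q : Subgroup G) := IsPGroup.to_sup_of_normal_right' S.2 B.hyp.exQ.1.1
      (hS.trans ((centralizer_le_normalizer _).trans B.hyp.nQ))
    exact le_sup_right.trans (S.3 hsup le_sup_left).le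
  have hc : ∀ x ∈ J ⊓ Q, ∀ y ∈ J ⊓ Q, Commute x y := fun x hx y hy => B.J_comm hx.1 hy.1
  have h1 : Q.relIndex (S : Subgroup G) = 3 := by
    have h := relIndex_mul_relIndex ⊥ Q (S : Subgroup G) bot_le hQS
    rw [relIndex_bot_left, relIndex_bot_left, B.card_Q, hScard] at h
    omega
  have h2 : Q.relIndex J ≤ 3 :=
    h1 ▸ relIndex_le_of_le_right hJS (by rw [h1]; norm_num)
  have h3 : (Q ⊓ J).relIndex J * Nat.card (Q ⊓ J : Subgroup G) = 81 := by
    have h := relIndex_mul_relIndex ⊥ (Q ⊓ J) J bot_le inf_le_right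
    rw [relIndex_bot_left, relIndex_bot_left, B.hyp.cardJ] at h
    rw [mul_comm]; exact h
  rw [inf_relIndex_right, inf_comm] at h3
  have hle : Nat.card (J ⊓ Q : Subgroup G) ≤ 27 := B.card_abelian_le inf_le_right hc
  have hcard : Nat.card (J ⊓ Q : Subgroup G) = 27 := by nlinarith
  refine ⟨inf_le_right, ?_, hcard, hc⟩
  have hle' : Nat.card ((J ⊓ Q) ⊔ Z : Subgroup G) ≤ 27 := by
    refine B.card_abelian_le (sup_le inf_le_right B.hyp.zQ) ?_
    have h' : (J ⊓ Q) ⊔ Z ≤ centralizer (((J ⊓ Q) ⊔ Z : Subgroup G) : Set G) := by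
      refine sup_le ?_ ?_
      · refine le_centralizer_iff.2 (sup_le ?_ ?_)
        · exact fun x hx y hy => (hc y hy x hx).eq
        · exact fun w hw x hx => (B.Qw hw hx.2).eq
      · refine le_centralizer_iff.2 (sup_le ?_ ?_)
        · exact fun x hx w hw => (B.Qw hw hx.2).eq.symm
        · exact fun x hx w hw => (B.Qw hw (B.hyp.zQ hx)).eq.symm
    exact fun x hx y hy => (h' hy x hx)
  have := eq_of_le_of_card_ge le_sup_left (hcard.symm ▸ hle' :
    Nat.card ((J ⊓ Q) ⊔ Z : Subgroup G) ≤ Nat.card (J ⊓ Q : Subgroup G))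
  exact le_sup_right.trans this.ge

theorem exists_elem (O : B.Orders) : Nonempty B.Elem := by
  have hI := B.card_JQ O
  obtain ⟨x, hxJ, hxQ⟩ : ∃ x ∈ J, x ∉ Q := by
    by_contra! h
    have h1 := Subgroup.card_le_of_le (le_inf le_rfl (show J ≤ Q from h))
    rw [hI.card, B.hyp.cardJ] at h1
    omega
  have hx3 := B.hyp.expJ x hxJ
  have hxL : x ∈ B.L := O.mem_L (B.J_le_cZ hxJ) hx3
  set y' := (B.t : G) * x * (B.t : G)⁻¹ with hy'
  have hy'L : y' ∈ B.L := mul_mem (mul_mem B.t.2 hxL) (inv_mem B.t.2)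
  have hφy : B.φ ⟨y', hy'L⟩ = B.φ ⟨x, hxL⟩ := by
    rw [show (⟨y', hy'L⟩ : B.L) = B.t * ⟨x, hxL⟩ * B.t⁻¹ from rfl, map_mul, map_mul, map_inv, B.φ_t,
      neg_one_central, mul_inv_cancel_right]
  have hconj : ∀ q ∈ J ⊓ Q, Commute y' q := by
    intro q hq
    obtain ⟨c, hc, e⟩ : ∃ c ∈ Z, (B.t : G) * q * (B.t : G)⁻¹ = c * q⁻¹ :=
      ⟨_, B.t_inverts hq.2, by group⟩
    have h1 : (B.t : G) * q * (B.t : G) ∈ J ⊓ Q := by
      rw [B.t_inv] at e
      rw [e]
      exact mul_mem (hI.zle hc) (inv_mem hq)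
    have h2 : Commute x ((B.t : G) * q * (B.t : G)) := B.J_comm hxJ h1.1
    have h3 := (Commute.conj_iff (B.t : G)).2 h2
    have h4 : (B.t : G) * ((B.t : G) * q * (B.t : G)) * (B.t : G)⁻¹ = q := by
      rw [B.t_inv]
      calc (B.t : G) * ((B.t : G) * q * (B.t : G)) * (B.t : G)
          = ((B.t : G) * (B.t : G)) * q * ((B.t : G) * (B.t : G)) := by group
        _ = q := by rw [B.t_sq, one_mul, mul_one]
    rwa [h4] at h3
  have hyJ : y' ∈ J := by
    have hQ : y' * x⁻¹ ∈ Q :=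
      (B.mem_Q_of_φ (u := ⟨y', hy'L⟩ * ⟨x, hxL⟩⁻¹)).2 (by rw [map_mul, map_inv, hφy, mul_inv_cancel])
    have h := B.selfcent hI hQ fun q hq =>
      (hconj q hq).mul_left (B.J_comm hxJ hq.1).inv_left
    have := mul_mem h.1 hxJ
    simpa using this
  set a := x * y' with ha
  have haJ : a ∈ J := mul_mem hxJ hyJ
  have haL : a ∈ B.L := mul_mem hxL hy'L
  have haQ : a ∉ Q := by
    intro h
    have h1 : B.φ (⟨x, hxL⟩ * ⟨y', hy'L⟩) = 1 :=
      (B.mem_Q_of_φ (u := ⟨x, hxL⟩ * ⟨y', hy'L⟩)).1 h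
    rw [map_mul, hφy, ← map_mul, ← B.mem_Q_of_φ] at h1
    have h2 : x * x ∈ Q := h1
    refine hxQ ?_
    have h3 := mul_mem h2 h2
    rwa [show x * x * (x * x) = x ^ 3 * x by simp [pow_succ, mul_assoc], hx3, one_mul] at h3
  have hat : Commute a (B.t : G) := by
    have e : (B.t : G) * y' * (B.t : G)⁻¹ = x := by
      rw [hy', B.t_inv]
      calc (B.t : G) * ((B.t : G) * x * (B.t : G)) * (B.t : G)
          = ((B.t : G) * (B.t : G)) * x * ((B.t : G) * (B.t : G)) := by group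
        _ = x := by rw [B.t_sq, one_mul, mul_one]
    have : (B.t : G) * a * (B.t : G)⁻¹ = a := by
      calc (B.t : G) * a * (B.t : G)⁻¹
          = ((B.t : G) * x * (B.t : G)⁻¹) * ((B.t : G) * y' * (B.t : G)⁻¹) := by rw [ha]; group
        _ = a := by rw [e, ← hy', (B.J_comm hyJ hxJ).eq]
    exact (mul_inv_eq_iff_eq_mul.1 this).symm
  have ha0 : a ∈ B.C0 := B.mem_C0.2 ⟨B.LC haL, hat⟩
  refine ⟨⟨a, ha0, haJ, haL, haQ, B.hyp.expJ a haJ, hI, ?_⟩⟩
  set F := Q ⊓ centralizer ({a} : Set G) with hF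
  have hle : J ⊓ Q ≤ F := fun q hq =>
    ⟨hq.2, mem_centralizer_singleton_iff.2 (B.J_comm hq.1 haJ).eq⟩
  have hFd : Nat.card F ∣ 3 ^ 5 := B.hyp.cardQ ▸ card_dvd_of_le inf_le_left
  obtain ⟨k, hk, hFk⟩ := (Nat.dvd_prime_pow Nat.prime_three).1 hFd
  have hge := Subgroup.card_le_of_le hle
  rw [hI.card, hFk] at hge
  have hk3 : k = 3 := by
    interval_cases k <;> try omega
    · exfalso
      -- order 81
      have hga : B.φ ⟨a, haL⟩ * B.φ ⟨a, haL⟩ * B.φ ⟨a, haL⟩ = 1 := by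
        rw [← map_mul, ← map_mul, ← B.mem_Q_of_φ]
        show a * a * a ∈ Q
        rw [show a * a * a = a ^ 3 by rw [pow_succ, sq], B.hyp.expJ a haJ]
        exact one_mem _
      obtain ⟨g, hg2, hgi⟩ := exists_inverter _ hga fun e => haQ (B.mem_Q_of_φ.2 e)
      obtain ⟨u, hu0, hu⟩ := B.exists_lift g
      have huu : (u : G) * u * (B.t : G) ∈ Z := by
        refine B.C0_inf_Q (mul_mem (mul_mem hu0 hu0) B.t_mem_C0) ?_
        rw [← MulMemClass.coe_mul, ← MulMemClass.coe_mul, B.mem_Q_of_φ, map_mul, map_mul, hu, B.φ_t,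
          hg2, neg_one_mul_self]
      have hua : (u : G) * a * (u : G)⁻¹ * a ∈ Z := by
        refine B.C0_inf_Q (mul_mem (mul_mem (mul_mem hu0 ha0) (inv_mem hu0)) ha0) ?_
        rw [show (u : G) * a * (u : G)⁻¹ * a = ((u * ⟨a, haL⟩ * u⁻¹ * ⟨a, haL⟩ : B.L) : G) from rfl,
          B.mem_Q_of_φ, map_mul, map_mul, map_mul, map_inv, hu, hgi, inv_mul_cancel]
      refine B.no_four (A := Q) (M := F) le_rfl (hI.zle.trans hle) inf_le_left
        (by rw [B.card_Q, hFk]; norm_num)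
        (fun q hq => B.conj_Q (B.C0_le hu0) hq) (fun q hq => ⟨B.conj_Q (B.C0_le hu0) hq.1, ?_⟩) huu
      have h2 : Commute q a := mem_centralizer_singleton_iff.1 hq.2
      have h3 := (Commute.conj_iff (u : G)).2 h2
      have hq' := B.conj_Q (B.C0_le hu0) hq.1
      refine mem_centralizer_singleton_iff.2 (Commute.eq ?_)
      have e : ((u : G) * a * (u : G)⁻¹)⁻¹ * ((u : G) * a * (u : G)⁻¹ * a) = a := by group
      rw [← e]
      exact h3.inv_right.mul_right (B.Qw hua hq')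
    · exfalso
      refine haQ (B.hyp.centQ fun q hq => ?_)
      have hq' : q ∈ F := by
        rw [eq_of_le_of_card_ge (show F ≤ Q from inf_le_left) (by rw [hFk, B.card_Q]; norm_num)]
        exact hq
      exact mem_centralizer_singleton_iff.1 hq'.2
  exact (eq_of_le_of_card_ge hle (by rw [hI.card, hFk, hk3]; norm_num)).symm

end Base

end CfsgLib.McLThree
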