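import Cfsg.Agent.S0253

/-!
# S5523: the facts on `SL(2,5)` used for the centraliser of `z`
-/

set_option autoImplicit false
set_option maxRecDepth 10000

namespace CfsgLib.McLThree

open Matrix

/-- `SL(2,5)`. -/
abbrev SL25 : Type := Matrix.SpecialLinearGroup (Fin 2) (ZMod 5)

instance fact_five : Fact (Nat.Prime 5) := ⟨by norm_num⟩

/-- The determinant in coordinates. -/
def det4 (a b c d : ZMod 5) : ZMod 5 := a * d - b * c

theorem sq_entries : ∀ a b c d : ZMod 5, det4 a b c d = 1 → a * a + b * c = 1 → a * b + b * d = 0 →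
    c * a + d * c = 0 → c * b + d * d = 1 →
    (a = 1 ∧ b = 0 ∧ c = 0 ∧ d = 1) ∨ (a = -1 ∧ b = 0 ∧ c = 0 ∧ d = -1) := by decide +kernel

theorem trace_three : ∀ a b c d : ZMod 5, det4 a b c d = 1 →
    (a * a + b * c) * a + (a * b + b * d) * c = 1 → (a * a + b * c) * b + (a * b + b * d) * d = 0 →
    (c * a + d * c) * a + (c * b + d * d) * c = 0 → (c * a + d * c) * b + (c * b + d * d) * d = 1 →
    ¬ (a = 1 ∧ b = 0 ∧ c = 0 ∧ d = 1) →
    ∃ x y w : ZMod 5, x * x + y * w = -1 ∧ x * a + y * c = d * x - b * w ∧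
      x * b + y * d = d * y + b * x ∧ w * a - x * c = -c * x + a * w ∧ w * b - x * d = -c * y - a * x := by
  decide +kernel

theorem entries (g : SL25) : det4 (g.1 0 0) (g.1 0 1) (g.1 1 0) (g.1 1 1) = 1 := by
  have h := g.2
  rwa [Matrix.det_fin_two] at h

/-- The only involution is `-1`. -/
theorem sq_one (g : SL25) (h : g * g = 1) : g = 1 ∨ g = -1 := by
  have h' : ∀ i j, (g.1 * g.1) i j = (1 : Matrix (Fin 2) (Fin 2) (ZMod 5)) i j := fun i j =>
    congrArg (fun x : SL25 => x.1 i j) h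
  have h00 := h' 0 0
  have h01 := h' 0 1
  have h10 := h' 1 0
  have h11 := h' 1 1
  simp [Matrix.mul_apply, Fin.sum_univ_two] at h00 h01 h10 h11
  rcases sq_entries _ _ _ _ (entries g) h00 h01 h10 h11 with ⟨e1, e2, e3, e4⟩ | ⟨e1, e2, e3, e4⟩
  · left; ext i j; fin_cases i <;> fin_cases j <;> simp [e1, e2, e3, e4]
  · right; ext i j; fin_cases i <;> fin_cases j <;> simp [e1, e2, e3, e4]

theorem neg_one_ne : (-1 : SL25) ≠ 1 := fun h => by
  have := congrArg (fun g : SL25 => g.1 0 0) h
  simp at this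
  exact absurd this (by decide)

theorem neg_one_mul_self : (-1 : SL25) * -1 = 1 := by rw [neg_mul_neg, one_mul]

theorem neg_one_central (g : SL25) : (-1 : SL25) * g = g * -1 := by
  rw [neg_one_mul, mul_neg_one]

/-- An element of order five. -/
theorem exists_five : ∃ g : SL25, orderOf g = 5 := by
  refine ⟨⟨!![1, 1; 0, 1], by simp [Matrix.det_fin_two]⟩, orderOf_eq_prime ?_ ?_⟩
  · ext i j
    fin_cases i <;> fin_cases j <;>
      simp [pow_succ, Matrix.mul_apply, Fin.sum_univ_two] <;> decide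
  · intro h
    have := congrArg (fun g : SL25 => g.1 0 1) h
    simp at this

/-- An element of order three is inverted by an element whose square is `-1`. -/
theorem exists_inverter (g : SL25) (h : g * g * g = 1) (h1 : g ≠ 1) :
    ∃ u : SL25, u * u = -1 ∧ u * g * u⁻¹ = g⁻¹ := by
  have h' : ∀ i j, (g.1 * g.1 * g.1) i j = (1 : Matrix (Fin 2) (Fin 2) (ZMod 5)) i j := fun i j =>
    congrArg (fun x : SL25 => x.1 i j) h
  have h00 := h' 0 0
  have h01 := h' 0 1
  have h10 := h' 1 0
  have h11 := h' 1 1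
  simp [Matrix.mul_apply, Fin.sum_univ_two] at h00 h01 h10 h11
  have hne : ¬ (g.1 0 0 = 1 ∧ g.1 0 1 = 0 ∧ g.1 1 0 = 0 ∧ g.1 1 1 = 1) := by
    rintro ⟨e1, e2, e3, e4⟩
    exact h1 (by ext i j; fin_cases i <;> fin_cases j <;> simp [e1, e2, e3, e4])
  obtain ⟨x, y, w, hd, e00, e01, e10, e11⟩ :=
    trace_three _ _ _ _ (entries g) h00 h01 h10 h11 hne
  obtain ⟨u, hu⟩ : ∃ u : SL25, u.1 = !![x, y; w, -x] :=
    ⟨⟨!![x, y; w, -x], by rw [Matrix.det_fin_two_of]; linear_combination -hd⟩, rfl⟩
  refine ⟨u, ?_, ?_⟩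
  · refine Subtype.ext ?_
    show u.1 * u.1 = -(1 : Matrix (Fin 2) (Fin 2) (ZMod 5))
    rw [hu]
    ext i j
    fin_cases i <;> fin_cases j <;> simp [Matrix.mul_apply, Fin.sum_univ_two]
    · linear_combination hd
    · ring
    · ring
    · linear_combination hd
  · rw [mul_inv_eq_iff_eq_mul]
    refine Subtype.ext ?_
    show u.1 * g.1 = g.1.adjugate * u.1
    rw [hu]
    ext i j
    fin_cases i <;> fin_cases j <;>
      simp [Matrix.mul_apply, Fin.sum_univ_two, Matrix.adjugate_fin_two]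
    · linear_combination e00
    · linear_combination e01
    · linear_combination e10
    · linear_combination e11

/-- The action on five letters. -/
theorem exists_five_letters : ∃ ρ : SL25 →* Equiv.Perm (Fin 5),
    ρ.range = alternatingGroup (Fin 5) ∧ ∀ g, ρ g = 1 ↔ g = 1 ∨ g = -1 := by
  obtain ⟨e⟩ := Cfsg.Agent.S0253.result (F := ZMod 5) (by rw [ZMod.card])
  set f : SL25 →* alternatingGroup (Fin 5) :=
    e.toMonoidHom.comp (QuotientGroup.mk' (Subgroup.center SL25)) with hf
  have hfs : Function.Surjective f := e.surjective.comp (QuotientGroup.mk'_surjective _)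
  refine ⟨(alternatingGroup (Fin 5)).subtype.comp f, ?_, fun g => ?_⟩
  · rw [MonoidHom.range_comp, MonoidHom.range_eq_top.2 hfs, ← MonoidHom.range_eq_map,
      Subgroup.range_subtype]
  · have h1 : ((alternatingGroup (Fin 5)).subtype.comp f) g = 1 ↔ g ∈ Subgroup.center SL25 := by
      rw [← QuotientGroup.eq_one_iff (N := Subgroup.center SL25) g]
      show (alternatingGroup (Fin 5)).subtype (e (QuotientGroup.mk' _ g)) = 1 ↔ _
      rw [map_eq_one_iff _ (Subgroup.subtype_injective _), map_eq_one_iff e e.injective]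
      exact Iff.rfl
    rw [h1, Matrix.SpecialLinearGroup.mem_center_iff]
    constructor
    · rintro ⟨r, hr, hg⟩
      have hr2 : r * r = 1 := by simpa [sq] using hr
      have e0 : g.1 0 0 = r ∧ g.1 0 1 = 0 ∧ g.1 1 0 = 0 ∧ g.1 1 1 = r := by
        simp [← hg, Matrix.scalar_apply]
      rcases mul_self_eq_one_iff.1 hr2 with rfl | rfl
      · left; ext i j; fin_cases i <;> fin_cases j <;> simp [e0]
      · right; ext i j; fin_cases i <;> fin_cases j <;> simp [e0]
    · rintro (rfl | rfl)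
      · exact ⟨1, by simp, by simp⟩
      · refine ⟨-1, by simp, ?_⟩
        ext i j
        fin_cases i <;> fin_cases j <;> simp [Matrix.scalar_apply]

end CfsgLib.McLThree
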