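import Cfsg.Agent.Lib.McLThree.Defs
import Cfsg.Agent.Lib.McLThree.TopSL
import Cfsg.Agent.Lib.PGroups.Extraspecial

/-!
# S5523: the involution `t` on `Q`

An element `y` of order five of the component acts on `Q/Z` without invariant subgroups, so the
involution `t` inverts `Q/Z` and `C(z) = Q C(z, t)`.
-/

set_option autoImplicit false
set_option linter.style.haveILetI false
set_option linter.unusedSectionVars false

namespace CfsgLib.McLThree

open Subgroup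
open scoped commutatorElement

universe u

/-- The component with the chosen elements of orders two and five. -/
structure Base (G : Type u) [Group G] (Z J Q : Subgroup G) where
  hyp : Hyp G Z J Q
  z : G
  hz : zpowers z = Z
  L : Subgroup G
  QL : Q ≤ L
  LC : L ≤ centralizer (Z : Set G)
  LN : normalizer (Z : Set G) ≤ normalizer (L : Set G)
  φ : L →* SL25
  surj : Function.Surjective φ
  ker : φ.ker = Q.subgroupOf L
  t : L
  ord_t : orderOf (t : G) = 2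
  φ_t : φ t = -1
  y : L
  ord_y : orderOf (y : G) = 5
  φ_y : orderOf (φ y) = 5

variable {G : Type u} [Group G] [Finite G] {Z J Q : Subgroup G}

theorem Hyp.pow_dvd_of_mem (h : Hyp G Z J Q) {L : Subgroup G} {φ : L →* SL25}
    (hker : φ.ker = Q.subgroupOf L) {u : L} {m : ℕ} (hu : φ u ^ m = 1) :
    ((u : G) ^ m) ^ 3 = 1 := by
  rw [← map_pow, ← MonoidHom.mem_ker, hker, mem_subgroupOf, SubmonoidClass.coe_pow] at hu
  exact h.expQ _ hu

theorem Hyp.exists_base (h : Hyp G Z J Q) : Nonempty (Base G Z J Q) := by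
  obtain ⟨⟨z, hzm⟩, hz⟩ : ∃ z : Z, orderOf z = 3 := by
    haveI : Fact (Nat.Prime 3) := ⟨Nat.prime_three⟩
    exact exists_prime_orderOf_dvd_card' (G := Z) 3 (by rw [h.cardZ])
  rw [Subgroup.orderOf_mk] at hz
  have hzZ : zpowers z = Z := eq_of_le_of_card_ge (zpowers_le.2 hzm) (by
    rw [Nat.card_zpowers, hz, h.cardZ])
  obtain ⟨L, hQL, hLC, hLN, φ, hs, hk⟩ := h.sl
  obtain ⟨u, hu⟩ := hs (-1)
  obtain ⟨g₅, hg₅⟩ := exists_five
  obtain ⟨v, hv⟩ := hs g₅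
  have h2 := h.pow_dvd_of_mem hk (u := u) (m := 2) (by rw [hu, sq, neg_one_mul_self])
  have h5 := h.pow_dvd_of_mem hk (u := v) (m := 5) (by
    rw [hv]; exact orderOf_dvd_iff_pow_eq_one.1 hg₅.dvd)
  haveI : Fact (Nat.Prime 2) := ⟨Nat.prime_two⟩
  have hφt : φ (u ^ 3) = -1 := by
    rw [map_pow, hu, pow_succ, sq, neg_one_mul_self, one_mul]
  have hφy : φ (v ^ 6) = g₅ := by
    rw [map_pow, hv, pow_succ, orderOf_dvd_iff_pow_eq_one.1 hg₅.dvd, one_mul]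
  refine ⟨⟨h, z, hzZ, L, hQL, hLC, hLN, φ, hs, hk, u ^ 3, orderOf_eq_prime ?_ ?_, hφt, v ^ 6,
    orderOf_eq_prime ?_ ?_, by rw [hφy, hg₅]⟩⟩
  · rw [SubmonoidClass.coe_pow, ← pow_mul, show 3 * 2 = 2 * 3 from rfl, pow_mul, h2]
  · intro e
    rw [show u ^ 3 = 1 from Subtype.ext e, map_one] at hφt
    exact neg_one_ne hφt.symm
  · rw [SubmonoidClass.coe_pow, ← pow_mul, show 6 * 5 = 5 * 3 * 2 from rfl, pow_mul, pow_mul, h5,
      one_pow]
  · intro e
    rw [show v ^ 6 = 1 from Subtype.ext e, map_one] at hφy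
    rw [← hφy, orderOf_one] at hg₅
    omega

namespace Base

variable (B : Base G Z J Q)
include B

theorem ord_z : orderOf B.z = 3 := by rw [← Nat.card_zpowers, B.hz, B.hyp.cardZ]

theorem z_mem : B.z ∈ Z := B.hz.le (mem_zpowers _)

theorem z3 : B.z ^ 3 = 1 := by rw [← B.ord_z, pow_orderOf_eq_one]

theorem mem_cZ {x : G} : x ∈ centralizer (Z : Set G) ↔ Commute B.z x := by
  rw [mem_centralizer_iff]
  refine ⟨fun h => h _ B.z_mem, fun h w hw => ?_⟩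
  obtain ⟨k, rfl⟩ := mem_zpowers_iff.1 (B.hz.ge hw)
  exact (h.zpow_left k).eq

theorem cube_Z {w : G} (hw : w ∈ Z) : w ^ 3 = 1 := B.hyp.expQ w (B.hyp.zQ hw)

theorem card_Q : Nat.card Q = 243 := B.hyp.cardQ

theorem center_Q : (center Q).map Q.subtype = Z := by
  refine (eq_of_le_of_card_ge (fun w hw => ?_) ?_).symm
  · refine ⟨⟨w, B.hyp.zQ hw⟩, ?_, rfl⟩
    rw [SetLike.mem_coe, mem_center_iff]
    intro q
    exact Subtype.ext (mem_centralizer_iff.1 (B.hyp.cQ q.2) w hw).symm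
  · rw [B.hyp.cardZ, ← B.hyp.exQ.2]
    exact le_of_eq (Nat.card_congr
      ((center Q).equivMapOfInjective _ (subtype_injective _)).symm.toEquiv)

theorem centerQ {q : G} (hq : q ∈ Q) (h : ∀ x ∈ Q, Commute q x) : q ∈ Z := by
  rw [← B.center_Q]
  refine ⟨⟨q, hq⟩, ?_, rfl⟩
  rw [SetLike.mem_coe, mem_center_iff]
  exact fun x => Subtype.ext (h x x.2).eq.symm

theorem commQ {q x : G} (hq : q ∈ Q) (hx : x ∈ Q) : q * x * q⁻¹ * x⁻¹ ∈ Z := by
  rw [← B.center_Q]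
  haveI : Fact (Nat.Prime 3) := ⟨Nat.prime_three⟩
  exact ⟨⁅(⟨q, hq⟩ : Q), ⟨x, hx⟩⁆,
    CfsgLib.PGroups.Extraspecial.commutator_mem_center B.hyp.exQ _ _, rfl⟩

theorem centQ_eq {c : G} (h : ∀ q ∈ Q, Commute c q) : c ∈ Z := by
  have hc : c ∈ Q := B.hyp.centQ (mem_centralizer_iff.2 fun q hq => (h q hq).eq.symm)
  exact B.centerQ hc h

theorem conj_Q {c q : G} (hc : c ∈ centralizer (Z : Set G)) (hq : q ∈ Q) : c * q * c⁻¹ ∈ Q :=
  (mem_normalizer_iff.1 (B.hyp.nQ (centralizer_le_normalizer _ hc)) q).1 hq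

theorem mem_Q_of_φ {u : B.L} : (u : G) ∈ Q ↔ B.φ u = 1 := by
  rw [← MonoidHom.mem_ker, B.ker, mem_subgroupOf]

theorem t_cZ : (B.t : G) ∈ centralizer (Z : Set G) := B.LC B.t.2

theorem y_cZ : (B.y : G) ∈ centralizer (Z : Set G) := B.LC B.y.2

theorem Zc {w c : G} (hw : w ∈ Z) (hc : c ∈ centralizer (Z : Set G)) : Commute c w :=
  (mem_centralizer_iff.1 hc w hw).symm

theorem Qw {w q : G} (hw : w ∈ Z) (hq : q ∈ Q) : Commute q w := B.Zc hw (B.hyp.cQ hq)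

/-- Coprime action: fixing `q` modulo `Z` is fixing `q`. -/
theorem commute_of_mod {c q : G} {m : ℕ} (hm : Nat.Coprime m 3) (hcm : c ^ m = 1)
    (hc : c ∈ centralizer (Z : Set G)) (h : c * q * c⁻¹ * q⁻¹ ∈ Z) : Commute c q := by
  set w := c * q * c⁻¹ * q⁻¹ with hw
  have hcw := B.Zc h hc
  have e : ∀ j : ℕ, c ^ j * q * (c ^ j)⁻¹ = w ^ j * q := by
    intro j
    induction j with
    | zero => simp
    | succ j ih =>
      rw [pow_succ' c, pow_succ w, show c * c ^ j * q * (c * c ^ j)⁻¹ =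
        c * (c ^ j * q * (c ^ j)⁻¹) * c⁻¹ by group, ih]
      calc c * (w ^ j * q) * c⁻¹ = w ^ j * c * q * c⁻¹ := by
            rw [← mul_assoc, (hcw.pow_right j).eq]
        _ = w ^ j * (c * q * c⁻¹ * q⁻¹) * q := by group
        _ = w ^ j * w * q := by rw [← hw]
  have h1 : w ^ m = 1 := by
    have := e m
    rw [hcm, one_mul, inv_one, mul_one] at this
    exact mul_eq_right.1 this.symm
  have h3 := B.cube_Z h
  have hw1 : w = 1 := by
    have := pow_gcd_eq_one.2 ⟨h1, h3⟩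
    rwa [hm, pow_one] at this
  rw [hw] at hw1
  exact mul_inv_eq_iff_eq_mul.1 (mul_inv_eq_one.1 hw1)

/-- The subgroups between `Z` and `Q` invariant under `y`. -/
theorem eq_of_invariant {F : Subgroup G} (hZF : Z ≤ F) (hFQ : F ≤ Q)
    (hy : ∀ f ∈ F, (B.y : G) * f * (B.y : G)⁻¹ ∈ F) : F = Z ∨ F = Q := by
  classical
  haveI : Fact (Nat.Prime 5) := ⟨by norm_num⟩
  have key : ∀ S : Subgroup G, S ≤ Q → Z ≤ S → (∀ f ∈ S, (B.y : G) * f * (B.y : G)⁻¹ ∈ S) →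
      ∀ T : Subgroup G, T ≤ S → (∀ f ∈ S, (B.y : G) * f * (B.y : G)⁻¹ = f → f ∈ T) →
      (∀ f ∈ T, (B.y : G) * f * (B.y : G)⁻¹ = f) → Nat.card S % 5 = Nat.card T % 5 := by
    intro S _ _ hS T hTS hfix hT
    haveI := Fintype.ofFinite S
    let σ : Function.End S := fun f => ⟨(B.y : G) * f.1 * (B.y : G)⁻¹, hS f.1 f.2⟩
    have hpow : ∀ (j : ℕ) (f : S), ((σ ^ j) f : G) = (B.y : G) ^ j * f * ((B.y : G) ^ j)⁻¹ := by
      intro j
      induction j with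
      | zero =>
        intro f
        rw [pow_zero, pow_zero, one_mul, inv_one, mul_one]
        rfl
      | succ j ih =>
        intro f
        rw [pow_succ' σ]
        show (B.y : G) * ((σ ^ j) f : G) * (B.y : G)⁻¹ = _
        rw [ih f, pow_succ' (B.y : G)]
        group
    have h5 : σ ^ 5 ^ 1 = 1 := by
      funext f
      refine Subtype.ext ?_
      rw [hpow, pow_one, orderOf_dvd_iff_pow_eq_one.1 B.ord_y.dvd, one_mul, inv_one, mul_one]
      rfl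
    have hc := Equiv.Perm.card_fixedPoints_modEq (f := σ) (p := 5) (n := 1) h5
    rw [Nat.card_eq_fintype_card, hc]
    congr 1
    rw [← Nat.card_eq_fintype_card]
    refine Nat.card_congr
      { toFun := fun f => ⟨f.1.1, hfix _ f.1.2 (congrArg Subtype.val f.2)⟩
        invFun := fun f => ⟨⟨f.1, hTS f.2⟩, Subtype.ext (hT f.1 f.2)⟩
        left_inv := fun f => rfl
        right_inv := fun f => rfl }
  have hpw : ∀ S : Subgroup G, S ≤ Q → ∃ k ≤ 5, Nat.card S = 3 ^ k := fun S hS => by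
    have h := card_dvd_of_le hS
    rw [B.hyp.cardQ] at h
    exact (Nat.dvd_prime_pow Nat.prime_three).1 h
  set C := Q ⊓ centralizer ({(B.y : G)} : Set G) with hC
  have hCy : ∀ f ∈ C, (B.y : G) * f * (B.y : G)⁻¹ = f := fun f hf => by
    rw [← mem_centralizer_singleton_iff.1 hf.2, mul_inv_cancel_right]
  have hCZ : C = Z := by
    have hZC : Z ≤ C := fun w hw => ⟨B.hyp.zQ hw,
      mem_centralizer_singleton_iff.2 (B.Zc hw B.y_cZ).eq.symm⟩
    have h := key Q le_rfl B.hyp.zQ (fun f hf => B.conj_Q B.y_cZ hf) C inf_le_left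
      (fun f hf e => ⟨hf, mem_centralizer_singleton_iff.2 (mul_inv_eq_iff_eq_mul.1 e).symm⟩) hCy
    obtain ⟨k, hk, hck⟩ := hpw C inf_le_left
    rw [B.card_Q, hck] at h
    have hk15 : k = 1 ∨ k = 5 := by interval_cases k <;> omega
    rcases hk15 with rfl | rfl
    · exact (eq_of_le_of_card_ge hZC (by rw [hck, B.hyp.cardZ, pow_one])).symm
    exfalso
    have hCQ : C = Q := eq_of_le_of_card_ge inf_le_left (by rw [hck, B.card_Q]; norm_num)
    have hyZ := B.centQ_eq (c := (B.y : G)) fun q hq =>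
      (mem_centralizer_singleton_iff.1 (hCQ.ge hq).2).symm
    have := B.hyp.cardZ ▸ Z.orderOf_dvd_natCard hyZ
    rw [B.ord_y] at this
    omega
  have h := key F hFQ hZF hy Z hZF
    (fun f hf e => hCZ.le ⟨hFQ hf, mem_centralizer_singleton_iff.2 (mul_inv_eq_iff_eq_mul.1 e).symm⟩)
    (fun f hf => hCy f (hCZ.ge hf))
  obtain ⟨k, hk, hck⟩ := hpw F hFQ
  rw [hck, B.hyp.cardZ] at h
  have hk15 : k = 1 ∨ k = 5 := by interval_cases k <;> omega
  rcases hk15 with rfl | rfl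
  · exact Or.inl (eq_of_le_of_card_ge hZF (by rw [hck, B.hyp.cardZ, pow_one])).symm
  · exact Or.inr (eq_of_le_of_card_ge hFQ (by rw [hck, B.card_Q]; norm_num))

/-- The elements of `Q` fixed modulo `Z`. -/
def fixMod (B : Base G Z J Q) (c : G) (hc : c ∈ centralizer (Z : Set G)) : Subgroup G where
  carrier := {q | q ∈ Q ∧ c * q * c⁻¹ * q⁻¹ ∈ Z}
  one_mem' := ⟨one_mem _, by simp⟩
  mul_mem' := by
    rintro a b ⟨ha, ha'⟩ ⟨hb, hb'⟩
    refine ⟨mul_mem ha hb, ?_⟩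
    rw [show c * (a * b) * c⁻¹ * (a * b)⁻¹ =
      c * a * c⁻¹ * (c * b * c⁻¹ * b⁻¹) * a⁻¹ by group,
      (B.Qw hb' (B.conj_Q hc ha)).eq,
      show c * b * c⁻¹ * b⁻¹ * (c * a * c⁻¹) * a⁻¹ =
        c * b * c⁻¹ * b⁻¹ * (c * a * c⁻¹ * a⁻¹) by group]
    exact mul_mem hb' ha'
  inv_mem' := by
    rintro a ⟨ha, ha'⟩
    refine ⟨inv_mem ha, ?_⟩
    have h1 : c * a⁻¹ * c⁻¹ * a⁻¹⁻¹ = a⁻¹ * (c * a * c⁻¹ * a⁻¹)⁻¹ * a := by group
    rw [h1, (B.Qw (inv_mem ha') (inv_mem ha)).eq, inv_mul_cancel_right]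
    exact inv_mem ha'

theorem Z_le_fixMod (c : G) (hc : c ∈ centralizer (Z : Set G)) : Z ≤ B.fixMod c hc := fun w hw =>
  ⟨B.hyp.zQ hw, by rw [(B.Zc hw hc).eq]; simp⟩

theorem fixMod_le (c : G) (hc : c ∈ centralizer (Z : Set G)) : B.fixMod c hc ≤ Q :=
  fun _ hq => hq.1

/-- An element commuting with `y` modulo `Q` fixes nothing or everything. -/
theorem fixMod_cases {c : G} (hc : c ∈ centralizer (Z : Set G))
    (hcy : (B.y : G)⁻¹ * c * (B.y : G) * c⁻¹ ∈ Q) :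
    B.fixMod c hc = Z ∨ B.fixMod c hc = Q := by
  refine B.eq_of_invariant (B.Z_le_fixMod c hc) (B.fixMod_le c hc) ?_
  rintro q ⟨hq, hq'⟩
  refine ⟨B.conj_Q B.y_cZ hq, ?_⟩
  set e := (B.y : G)⁻¹ * c * (B.y : G) * c⁻¹ with he
  set s := c * q * c⁻¹ * q⁻¹ with hs
  have h1 : c * ((B.y : G) * q * (B.y : G)⁻¹) * c⁻¹ * ((B.y : G) * q * (B.y : G)⁻¹)⁻¹ =
      (B.y : G) * (e * (s * q) * e⁻¹ * q⁻¹) * (B.y : G)⁻¹ := by rw [he, hs]; group
  have h2 : e * (s * q) * e⁻¹ * q⁻¹ ∈ Z := by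
    rw [show e * (s * q) * e⁻¹ * q⁻¹ = (e * s * e⁻¹) * (e * q * e⁻¹ * q⁻¹) by group]
    refine mul_mem ?_ (B.commQ hcy hq)
    rw [(B.Qw hq' hcy).eq, mul_inv_cancel_right]
    exact hq'
  rw [h1, (B.Zc h2 B.y_cZ).eq, mul_inv_cancel_right]
  exact h2

theorem t_y : (B.y : G)⁻¹ * (B.t : G) * (B.y : G) * (B.t : G)⁻¹ ∈ Q := by
  rw [show (B.y : G)⁻¹ * (B.t : G) * (B.y : G) * (B.t : G)⁻¹ =
    ((B.y⁻¹ * B.t * B.y * B.t⁻¹ : B.L) : G) by push_cast; rfl, B.mem_Q_of_φ]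
  rw [map_mul, map_mul, map_mul, map_inv, map_inv, B.φ_t, mul_assoc (B.φ B.y)⁻¹,
    neg_one_central (B.φ B.y), ← mul_assoc, inv_mul_cancel, one_mul, mul_inv_cancel]

theorem t_sq : (B.t : G) * (B.t : G) = 1 := by rw [← sq, ← B.ord_t, pow_orderOf_eq_one]

theorem t_inv : (B.t : G)⁻¹ = B.t := inv_eq_of_mul_eq_one_right B.t_sq

theorem t_fix {q : G} (hq : q ∈ Q) (h : Commute (B.t : G) q) : q ∈ Z := by
  have hmem : q ∈ B.fixMod B.t B.t_cZ := ⟨hq, by rw [h.eq]; simp⟩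
  rcases B.fixMod_cases B.t_cZ B.t_y with e | e
  · exact e.le hmem
  · exfalso
    have htZ := B.centQ_eq (c := (B.t : G)) fun x hx =>
      B.commute_of_mod (m := 2) (by norm_num) (by rw [sq]; exact B.t_sq) B.t_cZ (e.ge hx).2
    have := B.hyp.cardZ ▸ Z.orderOf_dvd_natCard htZ
    rw [B.ord_t] at this
    omega

/-- `t` inverts `Q` modulo `Z`. -/
theorem t_inverts {q : G} (hq : q ∈ Q) : (B.t : G) * q * (B.t : G)⁻¹ * q ∈ Z := by
  set s := (B.t : G) * q * (B.t : G)⁻¹ * q with hs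
  have hsQ : s ∈ Q := mul_mem (B.conj_Q B.t_cZ hq) hq
  refine B.t_fix hsQ (B.commute_of_mod (m := 2) (by norm_num) (by rw [sq]; exact B.t_sq) B.t_cZ ?_)
  have e : (B.t : G) * s * (B.t : G)⁻¹ * s⁻¹ =
      q * ((B.t : G) * q * (B.t : G)⁻¹) * q⁻¹ * ((B.t : G) * q * (B.t : G)⁻¹)⁻¹ := by
    rw [hs, B.t_inv]
    calc (B.t : G) * ((B.t : G) * q * (B.t : G) * q) * (B.t : G) * ((B.t : G) * q * (B.t : G) * q)⁻¹
        = ((B.t : G) * (B.t : G)) * q * ((B.t : G) * q * (B.t : G)) * q⁻¹ *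
            ((B.t : G) * q * (B.t : G))⁻¹ := by group
      _ = q * ((B.t : G) * q * (B.t : G)) * q⁻¹ * ((B.t : G) * q * (B.t : G))⁻¹ := by
        rw [B.t_sq, one_mul]
  rw [e]
  exact B.commQ hq (B.conj_Q B.t_cZ hq)

/-- Every element of `C(Z)` is an element of `Q` times one commuting with `t`. -/
theorem exists_translate {c : G} (hc : c ∈ centralizer (Z : Set G)) :
    ∃ q ∈ Q, Commute (q⁻¹ * c) (B.t : G) := by
  have hNL := B.LN (centralizer_le_normalizer _ hc)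
  set t' := c * (B.t : G) * c⁻¹ with ht'
  have ht'L : t' ∈ B.L := (mem_normalizer_iff.1 hNL _).1 B.t.2
  have ht't' : t' * t' = 1 := by
    rw [ht', show c * (B.t : G) * c⁻¹ * (c * (B.t : G) * c⁻¹) = c * ((B.t : G) * (B.t : G)) * c⁻¹ by group,
      B.t_sq, mul_one, mul_inv_cancel]
  have hφ : B.φ ⟨t', ht'L⟩ = -1 := by
    refine (sq_one _ ?_).resolve_left ?_
    · rw [← map_mul, show (⟨t', ht'L⟩ * ⟨t', ht'L⟩ : B.L) = 1 from Subtype.ext ht't', map_one]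
    · intro e
      have hQ : t' ∈ Q := (B.mem_Q_of_φ (u := ⟨t', ht'L⟩)).2 e
      have h3 := B.hyp.expQ _ hQ
      rw [pow_succ, sq, ht't', one_mul] at h3
      have : (B.t : G) = 1 := by rw [ht'] at h3; exact conj_eq_one_iff.1 h3
      have := B.ord_t
      simp_all
  set w := (B.t : G) * t' with hw
  have hwQ : w ∈ Q := by
    refine (B.mem_Q_of_φ (u := ⟨w, mul_mem B.t.2 ht'L⟩)).2 ?_
    rw [show (⟨w, mul_mem B.t.2 ht'L⟩ : B.L) = B.t * ⟨t', ht'L⟩ from rfl, map_mul, B.φ_t, hφ,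
      neg_one_mul_self]
  have h3 := B.hyp.expQ _ hwQ
  refine ⟨w, hwQ, ?_⟩
  have htw : (B.t : G) * w * (B.t : G) = w⁻¹ := by
    refine eq_inv_of_mul_eq_one_left ?_
    calc (B.t : G) * w * (B.t : G) * w = (B.t : G) * ((B.t : G) * t') * ((B.t : G) * (B.t : G)) * t' := by
          rw [hw]; group
      _ = ((B.t : G) * (B.t : G)) * (t' * t') := by
        rw [B.t_sq, mul_one, ← mul_assoc (B.t : G) (B.t : G) t', B.t_sq, one_mul, one_mul]
      _ = 1 := by rw [B.t_sq, ht't', one_mul]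
  have hconj : w * (B.t : G) * w⁻¹ = t' := by
    calc w * (B.t : G) * w⁻¹ = w * (B.t : G) * ((B.t : G) * w * (B.t : G)) := by rw [htw]
      _ = w * ((B.t : G) * (B.t : G)) * w * (B.t : G) := by group
      _ = w ^ 3 * (w⁻¹ * (B.t : G)) := by rw [B.t_sq, mul_one, pow_succ, sq]; group
      _ = t' := by
        rw [h3, one_mul, ← htw]
        calc (B.t : G) * w * (B.t : G) * (B.t : G) = (B.t : G) * w * ((B.t : G) * (B.t : G)) := by group
          _ = t' := by rw [B.t_sq, mul_one, hw, ← mul_assoc, B.t_sq, one_mul]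
  show w⁻¹ * c * (B.t : G) = (B.t : G) * (w⁻¹ * c)
  calc w⁻¹ * c * (B.t : G) = w⁻¹ * t' * c := by rw [ht']; group
    _ = (B.t : G) * (w⁻¹ * c) := by rw [← hconj]; group

/-- `C(z, t)`. -/
def C0 (B : Base G Z J Q) : Subgroup G :=
  centralizer ({B.z} : Set G) ⊓ centralizer ({(B.t : G)} : Set G)

theorem cz_eq : centralizer ({B.z} : Set G) = centralizer (Z : Set G) := by
  ext x
  rw [B.mem_cZ, mem_centralizer_singleton_iff]
  exact ⟨fun h => h.symm, fun h => h.eq.symm⟩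

theorem C0_le : B.C0 ≤ centralizer (Z : Set G) := inf_le_left.trans B.cz_eq.le

theorem mem_C0 {x : G} : x ∈ B.C0 ↔ x ∈ centralizer (Z : Set G) ∧ Commute x (B.t : G) := by
  rw [C0, mem_inf, B.cz_eq, mem_centralizer_singleton_iff]
  exact Iff.rfl

theorem C0_inf_Q {q : G} (hq : q ∈ B.C0) (hQ : q ∈ Q) : q ∈ Z :=
  B.t_fix hQ (B.mem_C0.1 hq).2.symm

theorem Z_le_C0 : Z ≤ B.C0 := fun w hw =>
  B.mem_C0.2 ⟨B.hyp.cQ (B.hyp.zQ hw), (B.Zc hw B.t_cZ).symm⟩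

theorem exists_lift (g : SL25) : ∃ v : B.L, (v : G) ∈ B.C0 ∧ B.φ v = g := by
  obtain ⟨u, hu⟩ := B.surj g
  obtain ⟨q, hq, hc⟩ := B.exists_translate (B.LC u.2)
  refine ⟨⟨q, B.QL hq⟩⁻¹ * u, B.mem_C0.2 ⟨?_, hc⟩, ?_⟩
  · exact mul_mem (inv_mem (B.LC (B.QL hq))) (B.LC u.2)
  · rw [map_mul, map_inv, (B.mem_Q_of_φ (u := ⟨q, B.QL hq⟩)).1 hq, inv_one, one_mul, hu]

theorem exists_mul {c : G} (hc : c ∈ centralizer (Z : Set G)) :
    ∃ q ∈ Q, ∃ c' ∈ B.C0, c = q * c' := by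
  obtain ⟨q, hq, h⟩ := B.exists_translate hc
  exact ⟨q, hq, q⁻¹ * c, B.mem_C0.2 ⟨mul_mem (inv_mem (B.hyp.cQ hq)) hc, h⟩, by group⟩

theorem gen_eq : centralizer ({B.z} : Set G) = Q ⊔ B.C0 := by
  refine le_antisymm (fun c hc => ?_) (sup_le ?_ inf_le_left)
  · obtain ⟨q, hq, c', hc', rfl⟩ := B.exists_mul (B.cz_eq.le hc)
    exact mul_mem (mem_sup_left hq) (mem_sup_right hc')
  · rw [B.cz_eq]; exact B.hyp.cQ

end Base

end CfsgLib.McLThree
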