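import Cfsg.Agent.Lib.McLThree.TopBase
import Cfsg.Agent.Lib.KnownA.AutAlt
import Cfsg.Agent.Lib.Classical.Order

/-!
# S5523: `C(z, t)` on five letters

`C(z, t)` acts on five letters with a kernel of order dividing 48, which is `⟨z, t⟩` unless it has
a square root of `t`; in particular a Sylow 3-subgroup of `G` has order 729.
-/

set_option autoImplicit false
set_option linter.style.haveILetI false
set_option linter.unusedSectionVars false

namespace CfsgLib.McLThree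

open Subgroup

universe u

variable {G : Type u} [Group G] [Finite G] {Z J Q : Subgroup G}

/-- One may choose `y` in `C(z, t)`. -/
theorem Hyp.exists_base' (h : Hyp G Z J Q) : ∃ B : Base G Z J Q, (B.y : G) ∈ B.C0 := by
  obtain ⟨B⟩ := h.exists_base
  obtain ⟨v, hv, hφ⟩ := B.exists_lift (B.φ B.y)
  have h5 : B.φ B.y ^ 5 = 1 := orderOf_dvd_iff_pow_eq_one.1 B.φ_y.dvd
  have hvQ : ((v ^ 5 : B.L) : G) ∈ Q := by rw [B.mem_Q_of_φ, map_pow, hφ, h5]
  have hvZ : (v : G) ^ 5 ∈ Z :=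
    B.C0_inf_Q (pow_mem hv 5) (by rwa [SubmonoidClass.coe_pow] at hvQ)
  have hφ6 : B.φ (v ^ 6) = B.φ B.y := by rw [map_pow, hφ, pow_succ, h5, one_mul]
  have hord : orderOf ((v ^ 6 : B.L) : G) = 5 := by
    haveI : Fact (Nat.Prime 5) := ⟨by norm_num⟩
    refine orderOf_eq_prime ?_ fun e => ?_
    · rw [SubmonoidClass.coe_pow, ← pow_mul, show 6 * 5 = 5 * 3 * 2 from rfl, pow_mul, pow_mul,
        B.cube_Z hvZ, one_pow]
    · have := B.φ_y
      rw [← hφ6, show v ^ 6 = 1 from Subtype.ext e, map_one, orderOf_one] at this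
      omega
  exact ⟨{ B with y := v ^ 6, ord_y := hord, φ_y := hφ6 ▸ B.φ_y },
    show ((v ^ 6 : B.L) : G) ∈ B.C0 by rw [SubmonoidClass.coe_pow]; exact pow_mem hv 6⟩

namespace Base

variable (B : Base G Z J Q)
include B

/-- Membership of `⟨z, t⟩`. -/
def InTZ (B : Base G Z J Q) (x : G) : Prop := x ∈ Z ∨ x * (B.t : G) ∈ Z

theorem t_mem_C0 : (B.t : G) ∈ B.C0 := B.mem_C0.2 ⟨B.t_cZ, Commute.refl _⟩

theorem eq_mul_t {x : G} : x = x * (B.t : G) * (B.t : G) := by rw [mul_assoc, B.t_sq, mul_one]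

theorem InTZ.mem_C0 {x : G} (h : B.InTZ x) : x ∈ B.C0 := by
  rcases h with h | h
  · exact B.Z_le_C0 h
  · rw [B.eq_mul_t (x := x)]; exact mul_mem (B.Z_le_C0 h) B.t_mem_C0

theorem InTZ.mem_L {x : G} (h : B.InTZ x) : x ∈ B.L := by
  rcases h with h | h
  · exact B.QL (B.hyp.zQ h)
  · rw [B.eq_mul_t (x := x)]; exact mul_mem (B.QL (B.hyp.zQ h)) B.t.2

theorem InTZ.comm {x c : G} (h : B.InTZ x) (hc : c ∈ B.C0) : Commute c x := by
  rcases h with h | h
  · exact B.Zc h (B.C0_le hc)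
  · rw [B.eq_mul_t (x := x)]
    exact (B.Zc h (B.C0_le hc)).mul_right (B.mem_C0.1 hc).2

theorem InTZ.pow_six {x : G} (h : B.InTZ x) : x ^ 6 = 1 := by
  rcases h with h | h
  · rw [show 6 = 3 * 2 from rfl, pow_mul, B.cube_Z h, one_pow]
  · rw [B.eq_mul_t (x := x), (B.Zc h B.t_cZ).symm.mul_pow, show 6 = 3 * 2 from rfl, pow_mul,
      B.cube_Z h, pow_mul', show (B.t : G) ^ 2 = 1 by rw [sq, B.t_sq]]
    simp

theorem InTZ.of_φ {x : B.L} (hx : (x : G) ∈ B.C0) (h : B.φ x = 1 ∨ B.φ x = -1) :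
    B.InTZ (x : G) := by
  rcases h with h | h
  · exact Or.inl (B.C0_inf_Q hx (B.mem_Q_of_φ.2 h))
  · refine Or.inr (B.C0_inf_Q (mul_mem hx B.t_mem_C0) ?_)
    rw [← MulMemClass.coe_mul, B.mem_Q_of_φ, map_mul, h, B.φ_t, neg_one_mul_self]

theorem InTZ.φ_eq {x : B.L} (h : B.InTZ (x : G)) : B.φ x = 1 ∨ B.φ x = -1 := by
  rcases h with h | h
  · exact Or.inl (B.mem_Q_of_φ.1 (B.hyp.zQ h))
  · right
    have hQ := B.hyp.zQ h
    rw [← MulMemClass.coe_mul, B.mem_Q_of_φ, map_mul, B.φ_t] at hQ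
    calc B.φ x = B.φ x * (-1 * -1) := by rw [neg_one_mul_self, mul_one]
      _ = -1 := by rw [← mul_assoc, hQ, one_mul]

theorem C0_normL : B.C0 ≤ normalizer (B.L : Set G) :=
  B.C0_le.trans ((centralizer_le_normalizer _).trans B.LN)

/-- The action on five letters. -/
structure Letters (B : Base G Z J Q) where
  ρ : SL25 →* Equiv.Perm (Fin 5)
  ρ_range : ρ.range = alternatingGroup (Fin 5)
  ρ_ker : ∀ g, ρ g = 1 ↔ g = 1 ∨ g = -1
  ψ : B.C0 →* Equiv.Perm (Fin 5)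
  on_L : ∀ (x : B.C0) (h : (x : G) ∈ B.L), ψ x = ρ (B.φ ⟨x, h⟩)

theorem exists_letters : Nonempty B.Letters := by
  classical
  obtain ⟨ρ, hr, hk⟩ := exists_five_letters
  set L1 : Subgroup B.C0 := B.L.subgroupOf B.C0 with hL1
  haveI : L1.Normal := ⟨fun x hx c => by
    rw [hL1, mem_subgroupOf] at hx ⊢
    push_cast
    exact (mem_normalizer_iff.1 (B.C0_normL c.2) _).1 hx⟩
  let ι : L1 →* B.L := (B.C0.subtype.comp L1.subtype).codRestrict B.L fun x => x.2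
  have hρm : ∀ g, ρ g ∈ alternatingGroup (Fin 5) := fun g => hr ▸ ⟨g, rfl⟩
  let f : L1 →* alternatingGroup (Fin 5) :=
    (ρ.codRestrict (alternatingGroup (Fin 5)) hρm).comp (B.φ.comp ι)
  have hfv : ∀ x, (f x : Equiv.Perm (Fin 5)) = ρ (B.φ (ι x)) := fun x => rfl
  have hf : Function.Surjective f := by
    intro g
    obtain ⟨s, hs⟩ := hr.ge g.2
    obtain ⟨v, hv, hφ⟩ := B.exists_lift s
    exact ⟨⟨⟨v, hv⟩, v.2⟩, Subtype.ext ((congrArg ρ hφ).trans hs)⟩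
  have uniq : ∀ σ τ : Equiv.Perm (Fin 5),
      (∀ x, σ * (f x : Equiv.Perm (Fin 5)) * σ⁻¹ = τ * f x * τ⁻¹) → σ = τ := by
    intro σ τ h
    refine KnownA.conjNormal_injective (Ω := Fin 5) (by simp) (MulEquiv.ext fun g => Subtype.ext ?_)
    obtain ⟨x, rfl⟩ := hf g
    rw [MulAut.conjNormal_apply, MulAut.conjNormal_apply]
    exact h x
  have ex : ∀ c : B.C0, ∃ σ : Equiv.Perm (Fin 5), ∀ x,
      (f (MulAut.conjNormal c x) : Equiv.Perm (Fin 5)) = σ * f x * σ⁻¹ := by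
    intro c
    let g : L1 →* alternatingGroup (Fin 5) :=
      f.comp (MulAut.conjNormal c : MulAut L1).toMonoidHom
    have hker : f.ker ≤ g.ker := by
      intro x hx
      have hx1 : ρ (B.φ (ι x)) = 1 := by
        rw [← hfv, MonoidHom.mem_ker.1 hx]; rfl
      have hc := InTZ.comm B (InTZ.of_φ B (x := ι x) x.1.2 ((hk _).1 hx1)) c.2
      have e : MulAut.conjNormal c x = x := by
        refine Subtype.ext (Subtype.ext ?_)
        rw [MulAut.conjNormal_apply]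
        push_cast
        exact mul_inv_eq_iff_eq_mul.2 hc.eq
      rw [MonoidHom.mem_ker]
      show f (MulAut.conjNormal c x) = 1
      rw [e]
      exact hx
    let e : alternatingGroup (Fin 5) →* alternatingGroup (Fin 5) :=
      MonoidHom.liftOfSurjective f hf ⟨g, hker⟩
    have he : ∀ x, e (f x) = g x := fun x =>
      MonoidHom.liftOfRightInverse_comp_apply f _ _ ⟨g, hker⟩ x
    have hes : Function.Surjective e := by
      intro a
      obtain ⟨x, rfl⟩ := hf a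
      refine ⟨f ((MulAut.conjNormal c).symm x), ?_⟩
      rw [he]
      show f (MulAut.conjNormal c ((MulAut.conjNormal c).symm x)) = f x
      rw [MulEquiv.apply_symm_apply]
    obtain ⟨σ, hσ⟩ := KnownA.exists_conj_aut (Ω := Fin 5) (by simp) (by simp)
      (MulEquiv.ofBijective e ⟨Finite.injective_iff_surjective.2 hes, hes⟩)
    refine ⟨σ, fun x => ?_⟩
    have h := congrArg (fun q : MulAut (alternatingGroup (Fin 5)) => ((q (f x)) : Equiv.Perm (Fin 5))) hσ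
    simp only [MulAut.conjNormal_apply] at h
    rw [h]
    exact congrArg Subtype.val (he x).symm
  choose σ hσ using ex
  have hmul : ∀ c d, σ (c * d) = σ c * σ d := by
    intro c d
    refine uniq _ _ fun x => ?_
    rw [← hσ, map_mul, MulAut.mul_apply, hσ, hσ]
    group
  refine ⟨⟨ρ, hr, hk, MonoidHom.mk' σ hmul, fun x hx => ?_⟩⟩
  refine uniq _ _ fun w => ?_
  show σ x * _ * (σ x)⁻¹ = _
  rw [← hσ, hfv, hfv, ← map_inv, ← map_mul, ← map_mul]
  congr 1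
  rw [← map_inv, ← map_mul, ← map_mul]
  refine congrArg B.φ (Subtype.ext ?_)
  show ((MulAut.conjNormal x w : L1) : B.C0).1 = _
  rw [MulAut.conjNormal_apply]
  rfl

namespace Letters

variable {B} (T : B.Letters)
include T

theorem inTZ_of_ker {x : B.C0} (hx : (x : G) ∈ B.L) (h : T.ψ x = 1) : B.InTZ (x : G) :=
  InTZ.of_φ B (x := ⟨x, hx⟩) x.2 ((T.ρ_ker _).1 (T.on_L x hx ▸ h))

theorem ker_of_inTZ {x : B.C0} (h : B.InTZ (x : G)) : T.ψ x = 1 := by
  rw [T.on_L x (InTZ.mem_L B h), T.ρ_ker]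
  exact InTZ.φ_eq B (x := ⟨x, _⟩) h

theorem alt_le : alternatingGroup (Fin 5) ≤ T.ψ.range := by
  intro g hg
  obtain ⟨s, rfl⟩ := T.ρ_range.ge hg
  obtain ⟨v, hv, rfl⟩ := B.exists_lift s
  exact ⟨⟨v, hv⟩, T.on_L ⟨v, hv⟩ v.2⟩

/-- The kernel of the action. -/
def ker (T : B.Letters) : Subgroup G := T.ψ.ker.map B.C0.subtype

theorem ker_le : T.ker ≤ B.C0 := map_subtype_le _

theorem mem_ker {x : G} : x ∈ T.ker ↔ ∃ h : x ∈ B.C0, T.ψ ⟨x, h⟩ = 1 := by
  constructor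
  · rintro ⟨⟨x, hx⟩, h, rfl⟩
    exact ⟨hx, h⟩
  · rintro ⟨hx, h⟩
    exact ⟨⟨x, hx⟩, h, rfl⟩

theorem inTZ_mem_ker {x : G} (h : B.InTZ x) : x ∈ T.ker :=
  T.mem_ker.2 ⟨InTZ.mem_C0 B h, T.ker_of_inTZ (x := ⟨x, _⟩) h⟩

theorem Z_le_ker : Z ≤ T.ker := fun _ hw => T.inTZ_mem_ker (Or.inl hw)

/-- The kernel centralises the component modulo `⟨z, t⟩`. -/
theorem ker_comm {d x : G} (hd : d ∈ T.ker) (hx : x ∈ B.C0) (hxL : x ∈ B.L) :
    B.InTZ (d * x * d⁻¹ * x⁻¹) := by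
  obtain ⟨hd0, hd1⟩ := T.mem_ker.1 hd
  refine T.inTZ_of_ker (x := ⟨d, hd0⟩ * ⟨x, hx⟩ * ⟨d, hd0⟩⁻¹ * ⟨x, hx⟩⁻¹) ?_ ?_
  · exact mul_mem ((mem_normalizer_iff.1 (B.C0_normL hd0) _).1 hxL) (inv_mem hxL)
  · rw [map_mul, map_mul, map_mul, map_inv, map_inv, hd1, one_mul, inv_one, mul_one,
      mul_inv_cancel]

variable (hy : (B.y : G) ∈ B.C0)
include hy

theorem ker_y {d : G} (hd : d ∈ T.ker) : Commute d (B.y : G) := by
  set w := d * (B.y : G) * d⁻¹ * (B.y : G)⁻¹ with hw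
  have hTZ : B.InTZ w := T.ker_comm hd hy B.y.2
  have h5 : (B.y : G) ^ 5 = 1 := orderOf_dvd_iff_pow_eq_one.1 B.ord_y.dvd
  have e : d * (B.y : G) * d⁻¹ = w * (B.y : G) := by rw [hw]; group
  have h := congrArg (· ^ 5) e
  simp only [conj_pow, (InTZ.comm B hTZ hy).symm.mul_pow, h5, mul_one, mul_inv_cancel] at h
  have h1 : w = 1 := by
    have := InTZ.pow_six B hTZ
    rwa [pow_succ, ← h, one_mul] at this
  exact mul_inv_eq_iff_eq_mul.1 (mul_inv_eq_one.1 (hw ▸ h1))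

end Letters

/-- `C(z, t, y)`. -/
def W (B : Base G Z J Q) : Subgroup G := B.C0 ⊓ centralizer ({(B.y : G)} : Set G)

theorem mem_W {w : G} : w ∈ B.W ↔ w ∈ B.C0 ∧ Commute w (B.y : G) := by
  rw [W, mem_inf, mem_centralizer_singleton_iff]
  exact Iff.rfl

theorem W_le_C0 : B.W ≤ B.C0 := inf_le_left

theorem Z_le_W : Z ≤ B.W := fun w hw =>
  B.mem_W.2 ⟨B.Z_le_C0 hw, (B.Zc hw B.y_cZ).symm⟩

theorem fixMod_W {w : G} (hw : w ∈ B.W) (hwZ : w ∉ Z) :
    B.fixMod w (B.C0_le hw.1) = Z := by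
  obtain ⟨hw0, hwy⟩ := B.mem_W.1 hw
  refine (B.fixMod_cases (B.C0_le hw.1) ?_).resolve_right fun hQ => hwZ ?_
  · rw [mul_assoc (B.y : G)⁻¹, hwy.eq, ← mul_assoc, inv_mul_cancel, one_mul, mul_inv_cancel]
    exact one_mem _
  have hm : ∀ q : Q, w * (q : G) * w⁻¹ * (q : G)⁻¹ ∈ Z := fun q => (hQ.ge q.2).2
  let f : Q →* Z := MonoidHom.mk' (fun q => ⟨_, hm q⟩) fun a b => Subtype.ext (by
    show w * ((a : G) * b) * w⁻¹ * ((a : G) * b)⁻¹ =
      (w * (a : G) * w⁻¹ * (a : G)⁻¹) * (w * (b : G) * w⁻¹ * (b : G)⁻¹)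
    calc w * ((a : G) * b) * w⁻¹ * ((a : G) * b)⁻¹
        = (w * (a : G) * w⁻¹) * (w * (b : G) * w⁻¹ * (b : G)⁻¹) * (a : G)⁻¹ := by group
      _ = (w * (a : G) * w⁻¹) * (a : G)⁻¹ * (w * (b : G) * w⁻¹ * (b : G)⁻¹) := by
        rw [mul_assoc, (B.Qw (hm b) (inv_mem a.2)).eq.symm, ← mul_assoc])
  set F := Q ⊓ centralizer ({w} : Set G) with hF
  have hker : f.ker ≤ F.subgroupOf Q := by
    intro q hq
    have h1 : w * (q : G) * w⁻¹ * (q : G)⁻¹ = 1 := congrArg Subtype.val (MonoidHom.mem_ker.1 hq)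
    exact ⟨q.2, mem_centralizer_singleton_iff.2
      (mul_inv_eq_iff_eq_mul.1 (mul_inv_eq_one.1 h1)).symm⟩
  have hcard : 81 ≤ Nat.card F := by
    have h1 := card_eq_card_quotient_mul_card_subgroup f.ker
    rw [B.card_Q, Nat.card_congr (QuotientGroup.quotientKerEquivRange f).toEquiv] at h1
    have h2 : Nat.card f.range ≤ 3 := B.hyp.cardZ ▸ card_le_card_group f.range
    have h3 : Nat.card f.ker ≤ Nat.card F := by
      refine (Subgroup.card_le_of_le hker).trans (le_of_eq ?_)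
      exact Nat.card_congr (subgroupOfEquivOfLe inf_le_left).toEquiv
    nlinarith
  have hZF : Z ≤ F := fun c hc =>
    ⟨B.hyp.zQ hc, mem_centralizer_singleton_iff.2 (B.Zc hc (B.C0_le hw0)).eq.symm⟩
  have hyF : ∀ q ∈ F, (B.y : G) * q * (B.y : G)⁻¹ ∈ F := by
    intro q hq
    have h1 : Commute q w := mem_centralizer_singleton_iff.1 hq.2
    have h2 := (Commute.conj_iff (B.y : G)).2 h1
    rw [← hwy.eq, mul_inv_cancel_right] at h2
    exact ⟨B.conj_Q B.y_cZ hq.1, mem_centralizer_singleton_iff.2 h2.eq⟩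
  rcases B.eq_of_invariant hZF inf_le_left hyF with e | e
  · rw [e, B.hyp.cardZ] at hcard; omega
  · exact B.centQ_eq fun q hq => (mem_centralizer_singleton_iff.1 (e.ge hq).2).symm

/-- `W/Z` acts without fixed points on `Q/Z`. -/
theorem card_W_dvd : Nat.card B.W ∣ 240 := by
  classical
  let X := {q : G // q ∈ Q ∧ q ∉ Z}
  have hX : Nat.card X = 240 := by
    have h : Nat.card X + 3 = 243 := by
      rw [← B.hyp.cardZ, ← B.card_Q]
      have := Set.ncard_sdiff_add_ncard_of_subset (s := (Z : Set G)) (t := (Q : Set G))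
        B.hyp.zQ (Set.toFinite _)
      rw [← Nat.card_coe_set_eq, ← Nat.card_coe_set_eq, ← Nat.card_coe_set_eq] at this
      exact this
    omega
  have hcq : ∀ (p : B.W × Z) (q : X), (p.1 : G) * (q : G) * (p.1 : G)⁻¹ * (p.2 : G) ∈ Q ∧
      (p.1 : G) * (q : G) * (p.1 : G)⁻¹ * (p.2 : G) ∉ Z := by
    intro p q
    refine ⟨mul_mem (B.conj_Q (B.C0_le p.1.2.1) q.2.1) (B.hyp.zQ p.2.2), fun h => q.2.2 ?_⟩
    have h1 : (p.1 : G) * (q : G) * (p.1 : G)⁻¹ ∈ Z := by simpa using mul_mem h (inv_mem p.2.2)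
    have h2 := (B.Zc h1 (inv_mem (B.C0_le p.1.2.1))).eq
    have h3 : (q : G) = (p.1 : G) * (q : G) * (p.1 : G)⁻¹ := by
      refine (mul_right_cancel (b := (p.1 : G)⁻¹) ?_)
      rw [← h2]
      group
    rw [h3]
    exact h1
  letI : MulAction (B.W × Z) X :=
    { smul := fun p q => ⟨_, hcq p q⟩
      one_smul := fun q => Subtype.ext (show (1 : G) * (q : G) * (1 : G)⁻¹ * 1 = q by simp)
      mul_smul := fun p r q => Subtype.ext (by
        show ((p.1 : G) * r.1) * (q : G) * ((p.1 : G) * r.1)⁻¹ * ((p.2 : G) * r.2) =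
          (p.1 : G) * ((r.1 : G) * q * (r.1 : G)⁻¹ * r.2) * (p.1 : G)⁻¹ * p.2
        calc ((p.1 : G) * r.1) * (q : G) * ((p.1 : G) * r.1)⁻¹ * ((p.2 : G) * r.2)
            = ((p.1 : G) * r.1) * (q : G) * ((p.1 : G) * r.1)⁻¹ * ((r.2 : G) * p.2) := by
              rw [(B.Zc r.2.2 (B.hyp.cQ (B.hyp.zQ p.2.2))).eq]
          _ = (p.1 : G) * ((r.1 : G) * q * (r.1 : G)⁻¹) * ((p.1 : G)⁻¹ * r.2) * p.2 := by group
          _ = _ := by rw [(B.Zc r.2.2 (inv_mem (B.C0_le p.1.2.1))).eq]; group) }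
  have hst : ∀ q : X, Nat.card (MulAction.stabilizer (B.W × Z) q) = 3 := by
    intro q
    rw [← B.hyp.cardZ]
    have key : ∀ p : B.W × Z, p • q = q → (p.1 : G) ∈ Z ∧ p.2 = 1 := by
      intro p hp
      have e : (p.1 : G) * (q : G) * (p.1 : G)⁻¹ * (p.2 : G) = q := congrArg Subtype.val hp
      have h1 : (p.1 : G) ∈ Z := by
        by_contra h
        have hfix : (q : G) ∈ B.fixMod p.1 (B.C0_le p.1.2.1) := by
          refine ⟨q.2.1, ?_⟩
          have e2 : (p.1 : G) * (q : G) * (p.1 : G)⁻¹ * (q : G)⁻¹ = (p.2 : G)⁻¹ := by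
            rw [eq_mul_inv_of_mul_eq e, ((B.Qw p.2.2 q.2.1).inv_right).eq, mul_inv_cancel_right]
          rw [e2]
          exact inv_mem p.2.2
        exact q.2.2 ((B.fixMod_W p.1.2 h).le hfix)
      refine ⟨h1, Subtype.ext ?_⟩
      rw [← (B.Qw h1 q.2.1).eq, mul_inv_cancel_right] at e
      exact mul_eq_left.1 e
    exact Nat.card_congr
      { toFun := fun p => ⟨(p.1.1 : G), (key p.1 p.2).1⟩
        invFun := fun c => ⟨(⟨c.1, B.Z_le_W c.2⟩, 1), Subtype.ext (by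
          show c.1 * (q : G) * c.1⁻¹ * 1 = q
          rw [mul_one, ← (B.Qw c.2 q.2.1).eq, mul_inv_cancel_right])⟩
        left_inv := fun p => Subtype.ext (Prod.ext rfl (key p.1 p.2).2.symm)
        right_inv := fun c => rfl }
  haveI := Fintype.ofFinite (MulAction.orbitRel.Quotient (B.W × Z) X)
  have h := Nat.card_congr (MulAction.selfEquivSigmaOrbitsQuotientStabilizer (B.W × Z) X)
  rw [hX, Nat.card_sigma] at h
  rw [h]
  refine Finset.dvd_sum fun ω _ => ?_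
  have h1 := card_eq_card_quotient_mul_card_subgroup (MulAction.stabilizer (B.W × Z) ω.out)
  rw [hst, Nat.card_prod, B.hyp.cardZ] at h1
  rw [Nat.eq_of_mul_eq_mul_right (by norm_num : 0 < 3) h1]

/-- An involution of `W` outside `Z` inverts `Q` modulo `Z`. -/
theorem W_inverts {c q : G} (hc : c ∈ B.W) (hcZ : c ∉ Z) (h2 : c * c = 1) (hq : q ∈ Q) :
    c * q * c⁻¹ * q ∈ Z := by
  have hcZ' : c ∈ centralizer (Z : Set G) := B.C0_le hc.1
  have hi : c⁻¹ = c := inv_eq_of_mul_eq_one_right h2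
  refine (B.fixMod_W hc hcZ).le ⟨mul_mem (B.conj_Q hcZ' hq) hq, ?_⟩
  have e : c * (c * q * c⁻¹ * q) * c⁻¹ * (c * q * c⁻¹ * q)⁻¹ =
      q * (c * q * c⁻¹) * q⁻¹ * (c * q * c⁻¹)⁻¹ := by
    rw [hi]
    calc c * (c * q * c * q) * c * (c * q * c * q)⁻¹
        = (c * c) * q * (c * q * c) * q⁻¹ * (c * q * c)⁻¹ := by group
      _ = _ := by rw [h2, one_mul]
  rw [e]
  exact B.commQ hq (B.conj_Q hcZ' hq)

theorem t_mem_W (hy : (B.y : G) ∈ B.C0) : (B.t : G) ∈ B.W :=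
  B.mem_W.2 ⟨B.t_mem_C0, (B.mem_C0.1 hy).2.symm⟩

theorem t_notZ : (B.t : G) ∉ Z := fun h => by
  have := B.hyp.cardZ ▸ Z.orderOf_dvd_natCard h
  rw [B.ord_t] at this
  omega

namespace Letters

variable {B} (T : B.Letters) (hy : (B.y : G) ∈ B.C0)
include T hy

theorem ker_le_W : T.ker ≤ B.W := fun _ hd => B.mem_W.2 ⟨T.ker_le hd, T.ker_y hy hd⟩

theorem card_ker_dvd : Nat.card T.ker ∣ 48 := by
  set f : B.W →* Equiv.Perm (Fin 5) := T.ψ.comp (inclusion B.W_le_C0) with hf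
  have hk : Nat.card f.ker = Nat.card T.ker := Nat.card_congr
    { toFun := fun w => ⟨w.1.1, T.mem_ker.2 ⟨w.1.2.1, w.2⟩⟩
      invFun := fun d => ⟨⟨d.1, T.ker_le_W hy d.2⟩, (T.mem_ker.1 d.2).2⟩
      left_inv := fun w => rfl
      right_inv := fun d => rfl }
  have h5 : 5 ∣ Nat.card f.range := by
    let yW : B.W := ⟨B.y, B.mem_W.2 ⟨hy, Commute.refl _⟩⟩
    have h1 : orderOf (f yW) ∣ 5 := by
      refine (orderOf_map_dvd f yW).trans ?_
      rw [← Subgroup.orderOf_coe]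
      exact B.ord_y.dvd
    rcases (Nat.dvd_prime (by norm_num)).1 h1 with e | e
    · exfalso
      have h : T.ρ (B.φ B.y) = 1 := by
        rw [← T.on_L ⟨B.y, hy⟩ B.y.2]
        exact orderOf_eq_one_iff.1 e
      have := B.φ_y
      rcases (T.ρ_ker _).1 h with e' | e' <;> rw [e'] at this
      · rw [orderOf_one] at this; omega
      · have : (-1 : SL25) ^ 5 = 1 := orderOf_dvd_iff_pow_eq_one.1 this.dvd
        rw [pow_succ, show 4 = 2 * 2 from rfl, pow_mul, sq (-1 : SL25), neg_one_mul_self, one_pow,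
          one_mul] at this
        exact neg_one_ne this
    · exact e.symm.dvd.trans (f.range.orderOf_dvd_natCard ⟨yW, rfl⟩)
  have h1 := card_eq_card_quotient_mul_card_subgroup f.ker
  rw [Nat.card_congr (QuotientGroup.quotientKerEquivRange f).toEquiv, hk] at h1
  have h2 : 5 * Nat.card T.ker ∣ 5 * 48 :=
    (Nat.mul_dvd_mul_right h5 _).trans (h1 ▸ B.card_W_dvd)
  exact Nat.dvd_of_mul_dvd_mul_left (by norm_num) h2

theorem ker_pow {d : G} (hd : d ∈ T.ker) : d ^ 16 ∈ Z := by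
  set Z' := Z.subgroupOf T.ker with hZ'
  haveI : Z'.Normal := ⟨fun x hx c => by
    rw [hZ', mem_subgroupOf] at hx ⊢
    push_cast
    rwa [(B.Zc hx (B.C0_le (T.ker_le c.2))).eq, mul_inv_cancel_right]⟩
  have h1 := Z'.card_mul_index
  rw [Nat.card_congr (subgroupOfEquivOfLe T.Z_le_ker).toEquiv, B.hyp.cardZ] at h1
  have h2 : 3 * Z'.index ∣ 3 * 16 := h1 ▸ T.card_ker_dvd hy
  obtain ⟨k, hk⟩ := Nat.dvd_of_mul_dvd_mul_left (by norm_num) h2
  have h3 : (⟨d, hd⟩ : T.ker) ^ 16 ∈ Z' := by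
    rw [hk, pow_mul]
    exact pow_mem (Z'.pow_index_mem _) _
  exact h3

theorem inTZ_of_sq {d : G} (hd : d ∈ T.ker) (h2 : d * d ∈ Z) : B.InTZ d := by
  have h3 := B.cube_Z h2
  have hd3 : d ^ 3 * d ^ 3 = 1 := by
    rw [← pow_add, show 3 + 3 = 2 * 3 from rfl, pow_mul, sq, h3]
  have hW : d ^ 3 ∈ B.W := T.ker_le_W hy (pow_mem hd 3)
  have e : d = d ^ 3 * (d * d)⁻¹ := by group
  by_cases hZ : d ^ 3 ∈ Z
  · exact Or.inl (e ▸ mul_mem hZ (inv_mem h2))
  right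
  rw [e, mul_assoc, (B.Zc (inv_mem h2) B.t_cZ).symm.eq, ← mul_assoc]
  refine mul_mem ?_ (inv_mem h2)
  by_contra hn
  have hWt : d ^ 3 * (B.t : G) ∈ B.W := mul_mem hW (B.t_mem_W hy)
  have hQ : Q ≤ Z := by
    intro q hq
    refine (B.fixMod_W hWt hn).le ⟨hq, ?_⟩
    obtain ⟨c, hc, hct⟩ : ∃ c ∈ Z, (B.t : G) * q * (B.t : G)⁻¹ = c * q⁻¹ :=
      ⟨_, B.t_inverts hq, by group⟩
    have h4 := B.W_inverts hW hZ hd3 (inv_mem hq)
    have hcd := B.Zc hc (B.C0_le hW.1)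
    have : d ^ 3 * (B.t : G) * q * (d ^ 3 * (B.t : G))⁻¹ * q⁻¹ =
        c * (d ^ 3 * q⁻¹ * (d ^ 3)⁻¹ * q⁻¹) := by
      calc d ^ 3 * (B.t : G) * q * (d ^ 3 * (B.t : G))⁻¹ * q⁻¹
          = d ^ 3 * ((B.t : G) * q * (B.t : G)⁻¹) * (d ^ 3)⁻¹ * q⁻¹ := by group
        _ = (d ^ 3 * c) * q⁻¹ * (d ^ 3)⁻¹ * q⁻¹ := by rw [hct]; group
        _ = _ := by rw [hcd.eq]; group
    rw [this]
    exact mul_mem hc h4
  have := Subgroup.card_le_of_le hQ
  rw [B.card_Q, B.hyp.cardZ] at this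
  omega

/-- The kernel is `⟨z, t⟩` unless it has a square root of `t`. -/
theorem inTZ_of_noRoot (hno : ∀ i ∈ T.ker, i * i ≠ (B.t : G)) {d : G} (hd : d ∈ T.ker) :
    B.InTZ d := by
  suffices key : ∀ (n : ℕ) (d : G), d ∈ T.ker → d ^ (2 ^ n) ∈ Z → B.InTZ d from
    key 4 d hd (T.ker_pow hy hd)
  intro n
  induction n with
  | zero => intro d _ h; exact Or.inl (by simpa using h)
  | succ n ih =>
    intro d hd h
    rw [pow_succ', pow_mul, sq] at h
    rcases ih (d * d) (mul_mem hd hd) h with h' | h'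
    · exact T.inTZ_of_sq hy hd h'
    · refine absurd ?_ (hno (d ^ 3) (pow_mem hd 3))
      have hc : Commute (d * d) (B.t : G) := by
        have := (B.mem_C0.1 (T.ker_le hd)).2
        exact this.mul_left this
      have h3 := B.cube_Z h'
      rw [hc.mul_pow, show (B.t : G) ^ 3 = B.t by rw [pow_succ, sq, B.t_sq, one_mul]] at h3
      rw [← pow_add, show 3 + 3 = 2 * 3 from rfl, pow_mul, sq]
      rw [← mul_one ((d * d) ^ 3), ← B.t_sq, ← mul_assoc, h3, one_mul]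

end Letters

end Base

end CfsgLib.McLThree
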