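import Cfsg.Agent.Lib.McLThree.TopA

/-!
# S5523: no square root of `t` in the kernel

Such an element `i` would act on `Q/Z` as a square root of `-1` commuting with `y` and `a`; the
conjugates of `J ∩ Q` by the powers of `y` would then give five `i`-invariant maximal abelian
subgroups meeting in `Z`, which is one too many.
-/

set_option autoImplicit false
set_option linter.style.haveILetI false
set_option linter.unusedSectionVars false

namespace CfsgLib.McLThree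

open Subgroup

universe u

variable {G : Type u} [Group G] [Finite G] {Z J Q : Subgroup G}

namespace Base

variable (B : Base G Z J Q)
include B

theorem Good.conj {A : Subgroup G} (h : B.Good A) {c : G} (hc : c ∈ centralizer (Z : Set G)) :
    B.Good (A.map (MulAut.conj c).toMonoidHom) where
  le := by
    rintro _ ⟨q, hq, rfl⟩
    exact B.conj_Q hc (h.le hq)
  zle := fun w hw => ⟨w, h.zle hw, by
    show c * w * c⁻¹ = w
    rw [(B.Zc hw hc).eq, mul_inv_cancel_right]⟩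
  card := by rw [card_map_of_injective (MulAut.conj c).injective, h.card]
  comm := by
    rintro _ ⟨p, hp, rfl⟩ _ ⟨q, hq, rfl⟩
    exact (h.comm p hp q hq).map _

/-- Two abelian subgroups of order 27 meeting in `Z` generate `Q`. -/
theorem decomp {A A₁ : Subgroup G} (hA : B.Good A) (hA₁ : B.Good A₁) (hAA : A ⊓ A₁ ≤ Z) {q : G}
    (hq : q ∈ Q) : ∃ a ∈ A, ∃ b ∈ A₁, q = a * b := by
  haveI : Fact (Nat.Prime 3) := ⟨Nat.prime_three⟩
  set A' := A.subgroupOf Q with hA'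
  set B' := A₁.subgroupOf Q with hB'
  have hZA : center Q ≤ A' := fun x hx => hA.zle (B.center_Q.le ⟨x, hx, rfl⟩)
  have hZM : center Q ≤ A' ⊔ B' := hZA.trans le_sup_left
  have e := CfsgLib.PGroups.Extraspecial.card_mul_card_centralizer B.hyp.exQ hZM
  have hC : centralizer ((A' ⊔ B' : Subgroup Q) : Set Q) ≤ center Q := by
    intro x hx
    have h1 : (x : G) ∈ A := B.selfcent hA x.2 fun p hp =>
      (congrArg Subtype.val (hx ⟨p, hA.le hp⟩ (mem_sup_left hp))).symm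
    have h2 : (x : G) ∈ A₁ := B.selfcent hA₁ x.2 fun p hp =>
      (congrArg Subtype.val (hx ⟨p, hA₁.le hp⟩ (mem_sup_right hp))).symm
    obtain ⟨w, hw, e⟩ := B.center_Q.ge (hAA ⟨h1, h2⟩)
    rwa [← Subtype.ext e]
  have hC3 := Subgroup.card_le_of_le hC
  rw [B.hyp.exQ.2] at hC3
  rw [B.card_Q] at e
  have htop : A' ⊔ B' = ⊤ := by
    refine eq_top_of_le_card _ ?_
    rw [B.card_Q]
    nlinarith
  haveI : A'.Normal := CfsgLib.PGroups.Extraspecial.normal_of_center_le B.hyp.exQ hZA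
  have hmem : (⟨q, hq⟩ : Q) ∈ ((A' ⊔ B' : Subgroup Q) : Set Q) := by rw [htop]; trivial
  rw [Subgroup.normal_mul] at hmem
  obtain ⟨a, ha, b, hb, e'⟩ := hmem
  exact ⟨a, ha, b, hb, (congrArg Subtype.val e').symm⟩

variable {B}

theorem Elem.card_conj_inter {A A₁ : Subgroup G} (hA : B.Good A) (hA₁ : B.Good A₁) (hne : A ≠ A₁)
    {i : G} (hiA : ∀ q ∈ A, i * q * i⁻¹ ∈ A) (hiA₁ : ∀ q ∈ A₁, i * q * i⁻¹ ∈ A₁)
    (h2 : i * i = (B.t : G)) : A ⊓ A₁ ≤ Z := by
  have hd : Nat.card (A ⊓ A₁ : Subgroup G) ∣ 3 ^ 3 := by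
    have := card_dvd_of_le (inf_le_left : A ⊓ A₁ ≤ A)
    rwa [hA.card] at this
  obtain ⟨k, hk, e⟩ := (Nat.dvd_prime_pow Nat.prime_three).1 hd
  have hge := Subgroup.card_le_of_le (le_inf hA.zle hA₁.zle)
  rw [e, B.hyp.cardZ] at hge
  interval_cases k
  · omega
  · exact (eq_of_le_of_card_ge (le_inf hA.zle hA₁.zle) (by rw [e, B.hyp.cardZ]; norm_num)).ge
  · exfalso
    exact B.no_four (A := A) (M := A ⊓ A₁) hA.le (le_inf hA.zle hA₁.zle) inf_le_left
      (by rw [hA.card, e]; norm_num) (u := i) hiA (fun q hq => ⟨hiA q hq.1, hiA₁ q hq.2⟩)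
      (by rw [h2, B.t_sq]; exact one_mem _)
  · exfalso
    refine hne ?_
    have h1 : A ⊓ A₁ = A :=
      eq_of_le_of_card_ge inf_le_left (by rw [hA.card, e]; norm_num)
    have h2' : A ⊓ A₁ = A₁ :=
      eq_of_le_of_card_ge inf_le_right (by rw [hA₁.card, e]; norm_num)
    exact h1.symm.trans h2'

theorem Elem.no_root (E : B.Elem) (T : B.Letters) (hy : (B.y : G) ∈ B.C0) {i : G}
    (hi : i ∈ T.ker) (h2 : i * i = (B.t : G)) : False := by
  classical
  have hi0 : i ∈ B.C0 := T.ker_le hi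
  have hiy : Commute i (B.y : G) := T.ker_y hy hi
  have hia : Commute i E.a := by
    set w := i * E.a * i⁻¹ * E.a⁻¹ with hw
    have hTZ : B.InTZ w := T.ker_comm hi E.a_C0 E.a_L
    have e : i * E.a * i⁻¹ = w * E.a := by rw [hw]; group
    have h3 : w ^ 3 = 1 := by
      have h := congrArg (· ^ 3) e
      simp only [conj_pow, E.a3, mul_one, mul_inv_cancel] at h
      rw [(InTZ.comm B hTZ E.a_C0).symm.mul_pow, E.a3, mul_one] at h
      exact h.symm
    have hwZ : w ∈ Z := by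
      refine hTZ.resolve_right fun h => ?_
      have h' := B.cube_Z h
      rw [(InTZ.comm B hTZ B.t_mem_C0).symm.mul_pow, h3, one_mul, pow_succ, sq, B.t_sq, one_mul] at h'
      exact B.t_notZ (h' ▸ one_mem _)
    have hiw : Commute i w := B.Zc hwZ (B.C0_le hi0)
    have h4 : (B.t : G) * E.a * (B.t : G)⁻¹ = w * w * E.a := by
      rw [← h2]
      calc i * i * E.a * (i * i)⁻¹ = i * (i * E.a * i⁻¹) * i⁻¹ := by group
        _ = (i * w) * E.a * i⁻¹ := by rw [e]; group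
        _ = w * (i * E.a * i⁻¹) := by rw [hiw.eq]; group
        _ = _ := by rw [e, ← mul_assoc]
    rw [(B.mem_C0.1 E.a_C0).2.symm.eq, mul_inv_cancel_right] at h4
    have h5 : w * w = 1 := by simpa using h4.symm
    rw [pow_succ, sq, h5, one_mul] at h3
    have h6 : i * E.a * i⁻¹ = E.a := by rw [e, h3, one_mul]
    exact mul_inv_eq_iff_eq_mul.1 h6
  set I := J ⊓ Q with hI
  have hiI : ∀ q ∈ I, i * q * i⁻¹ ∈ I := by
    intro q hq
    rw [hI, ← E.inf_a] at hq ⊢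
    refine ⟨B.conj_Q (B.C0_le hi0) hq.1, mem_centralizer_singleton_iff.2 ?_⟩
    have h := (Commute.conj_iff i).2 (mem_centralizer_singleton_iff.1 hq.2 : Commute q E.a)
    rw [hia.eq, mul_inv_cancel_right] at h
    exact h.eq
  -- the conjugates
  let A : ℕ → Subgroup G := fun j => I.map (MulAut.conj ((B.y : G) ^ j)).toMonoidHom
  have hg : ∀ j, B.Good (A j) := fun j => Good.conj B E.good (pow_mem B.y_cZ j)
  have hiA : ∀ j, ∀ q ∈ A j, i * q * i⁻¹ ∈ A j := by
    rintro j _ ⟨q, hq, rfl⟩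
    refine ⟨i * q * i⁻¹, hiI q hq, ?_⟩
    show (B.y : G) ^ j * (i * q * i⁻¹) * ((B.y : G) ^ j)⁻¹ =
      i * ((B.y : G) ^ j * q * ((B.y : G) ^ j)⁻¹) * i⁻¹
    have hc := hiy.pow_right j
    calc (B.y : G) ^ j * (i * q * i⁻¹) * ((B.y : G) ^ j)⁻¹
        = ((B.y : G) ^ j * i) * q * ((B.y : G) ^ j * i)⁻¹ := by group
      _ = (i * (B.y : G) ^ j) * q * (i * (B.y : G) ^ j)⁻¹ := by rw [hc.eq]
      _ = _ := by group
  have h5 : (B.y : G) ^ 5 = 1 := orderOf_dvd_iff_pow_eq_one.1 B.ord_y.dvd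
  have hne : ∀ j k, j < k → k < 5 → A j ≠ A k := by
    intro j k hjk hk e
    set m := k - j with hm
    have hinv : ∀ r : ℕ, ∀ q ∈ I, (B.y : G) ^ (m * r) * q * ((B.y : G) ^ (m * r))⁻¹ ∈ I := by
      intro r
      induction r with
      | zero => intro q hq; simpa using hq
      | succ r ih =>
        intro q hq
        obtain ⟨w, hw, ew⟩ : (B.y : G) ^ k * q * ((B.y : G) ^ k)⁻¹ ∈ A j := by
          rw [e]; exact ⟨q, hq, rfl⟩
        have h1 : (B.y : G) ^ m * q * ((B.y : G) ^ m)⁻¹ = w := by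
          have hkj : k = j + m := by omega
          have ew' : (B.y : G) ^ j * w * ((B.y : G) ^ j)⁻¹ =
              (B.y : G) ^ k * q * ((B.y : G) ^ k)⁻¹ := ew
          rw [hkj, pow_add] at ew'
          refine mul_left_cancel (a := (B.y : G) ^ j) (mul_right_cancel (b := ((B.y : G) ^ j)⁻¹) ?_)
          rw [ew']
          group
        have h2 := ih w hw
        rw [← h1] at h2
        rw [show m * (r + 1) = m * r + m by ring, pow_add]
        convert h2 using 1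
        group
    obtain ⟨r, hr⟩ : ∃ r, m * r % 5 = 1 := by
      have h1 : 1 ≤ m := by omega
      have h2 : m ≤ 4 := by omega
      clear_value m
      interval_cases m
      · exact ⟨1, rfl⟩
      · exact ⟨3, rfl⟩
      · exact ⟨2, rfl⟩
      · exact ⟨4, rfl⟩
    have hy1 : (B.y : G) ^ (m * r) = B.y := by
      rw [← Nat.div_add_mod (m * r) 5, hr, pow_add, pow_mul, h5, one_pow, one_mul, pow_one]
    have h := hinv r
    rw [hy1] at h
    rcases B.eq_of_invariant E.good.zle E.good.le h with e' | e'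
    · have := E.good.card
      rw [e', B.hyp.cardZ] at this
      omega
    · have := E.good.card
      rw [e', B.card_Q] at this
      omega
  have hZmeet : ∀ j k, j < k → k < 5 → A j ⊓ A k ≤ Z := fun j k hjk hk =>
    Elem.card_conj_inter (hg j) (hg k) (hne j k hjk hk) (hiA j) (hiA k) h2
  have hA0 : ∀ q, q ∈ A 0 ↔ q ∈ I := fun q => by
    constructor
    · rintro ⟨w, hw, rfl⟩
      show (B.y : G) ^ 0 * w * ((B.y : G) ^ 0)⁻¹ ∈ I
      simpa using hw
    · intro hq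
      exact ⟨q, hq, by show (B.y : G) ^ 0 * q * ((B.y : G) ^ 0)⁻¹ = q; simp⟩
  obtain ⟨a₀, ha₀, ha₀Z⟩ : ∃ a₀ ∈ A 0, a₀ ∉ Z := by
    by_contra! h
    have := Subgroup.card_le_of_le (show A 0 ≤ Z from h)
    rw [(hg 0).card, B.hyp.cardZ] at this
    omega
  set a₁ := i * a₀ * i⁻¹ with ha₁
  have ha₁0 : a₁ ∈ A 0 := hiA 0 a₀ ha₀
  have ha₁Z : a₁ ∉ Z := fun h => ha₀Z (by
    have e : a₀ = i⁻¹ * a₁ * i := by rw [ha₁]; group
    rw [e, (B.Zc h (inv_mem (B.C0_le hi0))).eq, inv_mul_cancel_right]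
    exact h)
  -- each further conjugate gives an element of `A 1` orthogonal to `a₁`
  have key : ∀ k, 2 ≤ k → k < 5 → ∃ b ∈ A 1, a₀ * b ∈ A k ∧ b ∉ Z ∧ Commute a₁ b := by
    intro k hk2 hk5
    obtain ⟨v, hv, b', hb', e⟩ := B.decomp (hg k) (hg 1)
      (inf_comm (A k) (A 1) ▸ hZmeet 1 k (by omega) hk5) ((hg 0).le ha₀)
    have hv' : a₀ * b'⁻¹ = v := by rw [e, mul_inv_cancel_right]
    refine ⟨b'⁻¹, inv_mem hb', hv' ▸ hv, fun h => ?_, ?_⟩
    · refine ha₀Z (hZmeet 0 k (by omega) hk5 ⟨ha₀, ?_⟩)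
      rw [e]
      exact mul_mem hv ((hg k).zle (by simpa using inv_mem h))
    · -- isotropy
      have hbQ : b'⁻¹ ∈ Q := (hg 1).le (inv_mem hb')
      set b := b'⁻¹
      set b₁ := i * b * i⁻¹ with hb₁
      have hvv : Commute (a₁ * b₁) (a₀ * b) := by
        have h1 : a₀ * b ∈ A k := hv'.symm ▸ hv
        have h3 := (hg k).comm _ (hiA k _ h1) _ h1
        rwa [show i * (a₀ * b) * i⁻¹ = a₁ * b₁ by rw [ha₁, hb₁]; group] at h3
      have ha₁Q := (hg 0).le ha₁0
      have hb₁Q : b₁ ∈ Q := B.conj_Q (B.C0_le hi0) hbQ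
      set c := a₁ * b * a₁⁻¹ * b⁻¹ with hc
      have hcZ : c ∈ Z := B.commQ ha₁Q hbQ
      have hc1 : b₁ * a₀ * b₁⁻¹ * a₀⁻¹ = c := by
        obtain ⟨w, hw, ew⟩ : ∃ w ∈ Z, (B.t : G) * a₀ * (B.t : G)⁻¹ = w * a₀⁻¹ :=
          ⟨_, B.t_inverts ((hg 0).le ha₀), by group⟩
        have e1 : i * a₁ * i⁻¹ = w * a₀⁻¹ := by rw [← ew, ← h2, ha₁]; group
        have e2 : i * c * i⁻¹ = c := by rw [(B.Zc hcZ (B.C0_le hi0)).eq, mul_inv_cancel_right]
        have e3 : i * c * i⁻¹ = (i * a₁ * i⁻¹) * b₁ * (i * a₁ * i⁻¹)⁻¹ * b₁⁻¹ := by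
          rw [hc, hb₁]; group
        rw [e1, e2] at e3
        have hwa : Commute (a₀⁻¹ * b₁ * a₀) w :=
          B.Qw hw (mul_mem (mul_mem (inv_mem ((hg 0).le ha₀)) hb₁Q) ((hg 0).le ha₀))
        have e4 : c = a₀⁻¹ * b₁ * a₀ * b₁⁻¹ := by
          rw [e3]
          calc w * a₀⁻¹ * b₁ * (w * a₀⁻¹)⁻¹ * b₁⁻¹ = (w * (a₀⁻¹ * b₁ * a₀)) * w⁻¹ * b₁⁻¹ := by
                group
            _ = _ := by rw [← hwa.eq, mul_inv_cancel_right]
        have h4 := B.Qw hcZ ((hg 0).le ha₀)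
        calc b₁ * a₀ * b₁⁻¹ * a₀⁻¹ = a₀ * (a₀⁻¹ * b₁ * a₀ * b₁⁻¹) * a₀⁻¹ := by group
          _ = a₀ * c * a₀⁻¹ := by rw [e4]
          _ = c := by rw [h4.eq, mul_inv_cancel_right]
      have hab : Commute a₁ a₀ := (hg 0).comm _ ha₁0 _ ha₀
      have hbb : Commute b₁ b := (hg 1).comm _ (hiA 1 _ (inv_mem hb')) _ (inv_mem hb')
      have hL : a₁ * b₁ * (a₀ * b) = c * (a₁ * a₀ * (b₁ * b)) := by
        calc a₁ * b₁ * (a₀ * b) = (a₁ * (b₁ * a₀ * b₁⁻¹ * a₀⁻¹)) * a₀ * (b₁ * b) := by group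
          _ = _ := by rw [hc1, (B.Qw hcZ ha₁Q).eq]; group
      have hR : a₀ * b * (a₁ * b₁) = c⁻¹ * (a₁ * a₀ * (b₁ * b)) := by
        calc a₀ * b * (a₁ * b₁) = (a₀ * c⁻¹) * a₁ * (b * b₁) := by rw [hc]; group
          _ = (c⁻¹ * a₀) * a₁ * (b * b₁) := by
            rw [(B.Qw (inv_mem hcZ) ((hg 0).le ha₀)).eq]
          _ = c⁻¹ * (a₁ * a₀ * (b₁ * b)) := by
            rw [mul_assoc c⁻¹, ← hab.eq, ← hbb.eq, ← mul_assoc]
            group
      have hcc : c = c⁻¹ := mul_right_cancel (hL.symm.trans (hvv.eq.trans hR))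
      have hc11 : c = 1 := by
        have h3 := B.cube_Z hcZ
        rwa [pow_succ, sq, show c * c = 1 by nth_rw 2 [hcc]; rw [mul_inv_cancel], one_mul] at h3
      exact mul_inv_eq_iff_eq_mul.1 (mul_inv_eq_one.1 (hc ▸ hc11))
  choose b hb1 hbA hbZ hbc using key
  set K := A 1 ⊓ centralizer ({a₁} : Set G) with hK
  have hKcard : Nat.card K ≤ 9 := by
    have hd : Nat.card K ∣ 3 ^ 3 := by
      have := card_dvd_of_le (inf_le_left : K ≤ A 1)
      rwa [(hg 1).card] at this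
    obtain ⟨j, hj, e⟩ := (Nat.dvd_prime_pow Nat.prime_three).1 hd
    by_contra h9
    have hj3 : j = 3 := by interval_cases j <;> omega
    refine ha₁Z (hZmeet 0 1 (by norm_num) (by norm_num) ⟨ha₁0, ?_⟩)
    refine B.selfcent (hg 1) ((hg 0).le ha₁0) fun x hx => ?_
    have : x ∈ K :=
      (eq_of_le_of_card_ge (inf_le_left : K ≤ A 1) (by rw [(hg 1).card, e, hj3]; norm_num)).ge hx
    exact (mem_centralizer_singleton_iff.1 this.2).symm
  -- three cosets of `Z` in `K` besides `Z`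
  let f : Fin 4 → G := ![1, b 2 le_rfl (by norm_num), b 3 (by norm_num) (by norm_num),
    b 4 (by norm_num) (by norm_num)]
  have hfK : ∀ j, f j ∈ K := by
    intro j
    fin_cases j
    · exact one_mem _
    all_goals exact ⟨hb1 _ _ _, mem_centralizer_singleton_iff.2 (hbc _ _ _).eq.symm⟩
  have hdiff : ∀ k l (hk2 : 2 ≤ k) (hl2 : 2 ≤ l) (hk : k < 5) (hl : l < 5), k < l →
      (b l hl2 hl)⁻¹ * b k hk2 hk ∉ Z := by
    intro k l hk2 hl2 hk hl hkl h
    refine ha₀Z ?_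
    have e : a₀ * b k hk2 hk = a₀ * b l hl2 hl * ((b l hl2 hl)⁻¹ * b k hk2 hk) := by group
    have h1 : a₀ * b k hk2 hk ∈ Z :=
      hZmeet k l hkl hl ⟨hbA k hk2 hk, e ▸ mul_mem (hbA l hl2 hl) ((hg l).zle h)⟩
    have e' : a₀ = a₀ * b k hk2 hk * (b k hk2 hk)⁻¹ := by group
    have h0 : a₀ * b k hk2 hk * (b k hk2 hk)⁻¹ ∈ A 1 :=
      mul_mem ((hg 1).zle h1) (inv_mem (hb1 k hk2 hk))
    rw [← e'] at h0
    exact hZmeet 0 1 (by norm_num) (by norm_num) ⟨ha₀, h0⟩
  have hone : ∀ k hk2 hk, (b k hk2 hk)⁻¹ * 1 ∉ Z := fun k hk2 hk h =>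
    hbZ k hk2 hk (by simpa using h)
  have hfZ : ∀ j l : Fin 4, j < l → (f l)⁻¹ * f j ∉ Z := by
    intro j l hjl
    fin_cases j <;> fin_cases l <;> first
      | exact absurd hjl (by decide)
      | exact hone 2 le_rfl (by norm_num)
      | exact hone 3 (by norm_num) (by norm_num)
      | exact hone 4 (by norm_num) (by norm_num)
      | exact hdiff 2 3 le_rfl (by norm_num) (by norm_num) (by norm_num) (by norm_num)
      | exact hdiff 2 4 le_rfl (by norm_num) (by norm_num) (by norm_num) (by norm_num)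
      | exact hdiff 3 4 (by norm_num) (by norm_num) (by norm_num) (by norm_num) (by norm_num)
  have hinj : Function.Injective
      (fun p : Fin 4 × Z => (⟨f p.1 * p.2, mul_mem (hfK p.1)
        (⟨(hg 1).zle p.2.2, mem_centralizer_singleton_iff.2
          (B.Qw p.2.2 ((hg 0).le ha₁0)).eq.symm⟩ : (p.2 : G) ∈ K)⟩ : K)) := by
    rintro ⟨j, w⟩ ⟨l, w'⟩ e
    have e1 : f j * w = f l * w' := congrArg Subtype.val e
    have hjl : j = l := by
      rcases lt_trichotomy j l with h | h | h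
      · exfalso
        refine hfZ j l h ?_
        rw [eq_mul_inv_of_mul_eq e1, ← mul_assoc, ← mul_assoc, inv_mul_cancel, one_mul]
        exact mul_mem w'.2 (inv_mem w.2)
      · exact h
      · exfalso
        refine hfZ l j h ?_
        rw [eq_mul_inv_of_mul_eq e1.symm, ← mul_assoc, ← mul_assoc, inv_mul_cancel, one_mul]
        exact mul_mem w.2 (inv_mem w'.2)
    subst hjl
    exact Prod.ext rfl (Subtype.ext (mul_left_cancel e1))
  have := Nat.card_le_card_of_injective _ hinj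
  rw [Nat.card_prod, Nat.card_fin, B.hyp.cardZ] at this
  omega

/-- The kernel on five letters is `⟨z, t⟩`. -/
theorem Elem.ker_inTZ (E : B.Elem) (T : B.Letters) (hy : (B.y : G) ∈ B.C0) {d : G}
    (hd : d ∈ T.ker) : B.InTZ d :=
  T.inTZ_of_noRoot hy (fun _ hi h => E.no_root T hy hi h) hd

end Base

end CfsgLib.McLThree
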