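import Cfsg.Agent.Lib.McLThree.Adaptors
import Cfsg.Agent.Lib.Perm.Zass.SLFive

/-!
# The centre lies in `J`
-/

set_option autoImplicit false
set_option linter.style.haveILetI false

namespace CfsgLib.McLThree

open Subgroup
open scoped commutatorElement

universe u

/-- An abelian subgroup of an extraspecial group of order `3⁵` that contains the centre has order
at most `3³`. -/
theorem card_abelian_le {E : Type u} [Group E] [Finite E] (hE : Cfsg.IsExtraspecial 3 E)
    (hcard : Nat.card E = 3 ^ 5) (A : Subgroup E) (hA : ∀ a ∈ A, ∀ b ∈ A, a * b = b * a) :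
    Nat.card A < 3 ^ 4 := by
  by_contra hlt
  obtain ⟨k, hk, hAk⟩ := (Nat.dvd_prime_pow Nat.prime_three).1 (hcard ▸ card_subgroup_dvd_card A)
  have hk4 : 4 ≤ k := (Nat.pow_le_pow_iff_right (by norm_num : 1 < 3)).1 (by omega)
  have hne : center E ≠ ⊤ := fun h => by
    have := hE.2
    rw [h, Subgroup.card_top, hcard] at this
    norm_num at this
  have hAne : A ≠ ⊤ := fun h => hne (eq_top_iff.2 fun x _ => mem_center_iff.2 fun y =>
    hA y (h ▸ mem_top y) x (h ▸ mem_top x))
  have hcardA : Nat.card A = 3 ^ 4 := by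
    rcases (show k = 4 ∨ k = 5 by omega) with h | h
    · rw [hAk, h]
    · exact absurd (eq_top_of_card_eq _ (by rw [hAk, h, hcard])) hAne
  obtain ⟨q, -, hq⟩ := SetLike.exists_of_lt (lt_top_iff_ne_top.2 hAne)
  have hmax : A ⊔ zpowers q = ⊤ := by
    refine eq_top_of_card_eq _ ?_
    have hlt' : Nat.card A < Nat.card ↥(A ⊔ zpowers q) := by
      by_contra hh
      have := eq_of_le_of_card_ge (le_sup_left : A ≤ A ⊔ zpowers q) (not_lt.1 hh)
      exact hq (this ▸ mem_sup_right (mem_zpowers q))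
    obtain ⟨j, hj, hj'⟩ := (Nat.dvd_prime_pow Nat.prime_three).1
      (hcard ▸ card_subgroup_dvd_card (A ⊔ zpowers q))
    rw [hcardA, hj'] at hlt'
    have : 4 < j := (Nat.pow_lt_pow_iff_right (by norm_num : 1 < 3)).1 hlt'
    rw [hj', show j = 5 by omega, hcard]
  have hc : ∀ a : E, ⁅q, a⁆ ∈ center E := fun a =>
    hE.1.2.2 ▸ (commutator_def E ▸ commutator_mem_commutator (mem_top q) (mem_top a) :)
  let f : A →* center E :=
    { toFun := fun a => ⟨⁅q, (a : E)⁆, hc a⟩
      map_one' := Subtype.ext (commutatorElement_one_right q)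
      map_mul' := fun a b => Subtype.ext (by
        show ⁅q, (a : E) * b⁆ = ⁅q, (a : E)⁆ * ⁅q, (b : E)⁆
        have h := mem_center_iff.1 (hc b) (a : E)
        rw [commutatorElement_def, commutatorElement_def, commutatorElement_def] at *
        calc q * ((a : E) * b) * q⁻¹ * ((a : E) * b)⁻¹
            = q * a * q⁻¹ * ((q * b * q⁻¹ * (b : E)⁻¹) * (a : E)⁻¹) := by group
          _ = q * a * q⁻¹ * ((a : E)⁻¹ * ((a : E) * (q * b * q⁻¹ * (b : E)⁻¹)) * (a : E)⁻¹) := by
              group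
          _ = q * a * q⁻¹ * (a : E)⁻¹ * (q * b * q⁻¹ * (b : E)⁻¹) := by rw [h]; group) }
  have hker : f.ker.map A.subtype ≤ center E := by
    rintro _ ⟨a, ha, rfl⟩
    have hqa : q * (a : E) = a * q :=
      commutatorElement_eq_one_iff_mul_comm.1 (congrArg Subtype.val ha)
    have hsup : A ⊔ zpowers q ≤ centralizer ({(a : E)} : Set E) := by
      refine sup_le (fun b hb => mem_centralizer_singleton_iff.2 (hA b hb a a.2)) ?_
      rw [zpowers_le]
      exact mem_centralizer_singleton_iff.2 hqa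
    exact mem_center_iff.2 fun g =>
      mem_centralizer_singleton_iff.1 (hsup (hmax ▸ mem_top g))
  have h1 : Nat.card f.ker ≤ 3 := by
    rw [← card_subtype, ← hE.2]
    exact card_le_of_le hker
  have h2 : Nat.card f.range ≤ 3 := by
    rw [← hE.2]
    exact card_le_card_group _
  have h3 := f.ker.card_mul_index
  rw [index_ker, hcardA] at h3
  have := Nat.mul_le_mul h1 h2
  rw [h3] at this
  norm_num at this

variable {G : Type u} [Group G] [Finite G]

/-- Under the hypotheses of S3367 the centre of the Sylow subgroup has order three and lies in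
`J`. -/
theorem exists_generator_mem (S : Sylow 3 G) (Z : Subgroup G)
    (hZ : Z = (S : Subgroup G) ⊓ centralizer ((S : Subgroup G) : Set G))
    (J : Subgroup G) (hJS : J ≤ S) (hJcomm : IsMulCommutative J) (hJcard : Nat.card J = 3 ^ 4)
    (L₀ : Subgroup G)
    (hL₀ : L₀ = closure {g : G | g ∈ normalizer (Z : Set G) ∧ ∃ k : ℕ, orderOf g = 3 ^ k})
    (Q : Subgroup G)
    (hQ : Q = (Cfsg.pCore 3 (normalizer (Z : Set G))).map (normalizer (Z : Set G)).subtype)
    (hQex : Cfsg.IsExtraspecial 3 Q) (hQcard : Nat.card Q = 3 ^ 5)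
    (hQL : Q ≤ L₀) [(Q.subgroupOf L₀).Normal]
    (eL : L₀ ⧸ Q.subgroupOf L₀ ≃* Matrix.SpecialLinearGroup (Fin 2) (ZMod 5)) :
    ∃ x : G, zpowers x = Z ∧ x ∈ J ∧ x ≠ 1 := by
  set N := normalizer (Z : Set G) with hN
  have hSC : (S : Subgroup G) ≤ centralizer (Z : Set G) := by
    intro s hs
    refine mem_centralizer_iff.2 fun w hw => ?_
    rw [hZ] at hw
    exact (mem_centralizer_iff.1 hw.2 s hs).symm
  have hSN : (S : Subgroup G) ≤ N := hSC.trans (centralizer_le_normalizer _)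
  have hQS : Q ≤ S := by
    rw [hQ]
    calc (Cfsg.pCore 3 N).map N.subtype
        ≤ ((S.subtype hSN) : Subgroup N).map N.subtype :=
          Subgroup.map_mono (Base.pCore_le_sylow _)
      _ ≤ S := by
          rw [Sylow.coe_subtype, Subgroup.subgroupOf_map_subtype]
          exact inf_le_left
  have hZS : Z ≤ S := hZ ▸ inf_le_left
  have hZ3g : IsPGroup 3 Z := S.2.to_le hZS
  have hZQ : Z ≤ Q := by
    rw [hQ]
    exact Base.le_map_pCore le_normalizer le_rfl hZ3g
  have hSne : Nontrivial (S : Subgroup G) := by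
    rw [Subgroup.nontrivial_iff_ne_bot]
    intro h
    rw [le_bot_iff.1 (hQS.trans_eq h : Q ≤ ⊥), Subgroup.card_bot] at hQcard
    norm_num at hQcard
  have hZne : Z ≠ ⊥ := by
    rw [hZ, ← center_map_eq]
    intro h
    haveI := hSne
    haveI := S.2.center_nontrivial
    exact (Subgroup.nontrivial_iff_ne_bot (center ↥(S : Subgroup G))).1 inferInstance
      (Subgroup.map_injective (Subgroup.subtype_injective _) (h.trans (Subgroup.map_bot _).symm))
  have hZQ' : Z ≤ centralizer (Q : Set G) :=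
    Subgroup.le_centralizer_iff.1 (hQS.trans hSC)
  obtain ⟨hZ3, -⟩ := eq_center_of_le hQex hZne (le_inf hZQ hZQ')
  obtain ⟨x, hxZ, hx1⟩ := Z.ne_bot_iff_exists_ne_one.1 hZne |> fun ⟨a, ha⟩ =>
    (⟨(a : G), a.2, fun h => ha (Subtype.ext h)⟩ : ∃ x : G, x ∈ Z ∧ x ≠ 1)
  have hgen : zpowers x = Z := by
    refine eq_of_le_of_card_ge (zpowers_le.2 hxZ) ?_
    rw [hZ3, Nat.card_zpowers]
    have hd : orderOf x ∣ 3 := hZ3 ▸ Subgroup.orderOf_dvd_natCard Z hxZ
    rcases (Nat.dvd_prime Nat.prime_three).1 hd with h | h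
    · exact absurd (orderOf_eq_one_iff.1 h) hx1
    · rw [h]
  refine ⟨x, hgen, ?_, hx1⟩
  by_contra hxJ
  -- `J` has index at most three over its intersection with `Q`
  have hJL : J ≤ L₀ := fun g hg => hL₀ ▸ subset_closure
    ⟨hSN (hJS hg), by
      obtain ⟨k, hk⟩ := IsPGroup.iff_orderOf.1 S.2 ⟨g, hJS hg⟩
      exact ⟨k, by rw [← hk, Subgroup.orderOf_mk]⟩⟩
  let φ : J →* Matrix.SpecialLinearGroup (Fin 2) (ZMod 5) :=
    (eL.toMonoidHom.comp (QuotientGroup.mk' _)).comp (Subgroup.inclusion hJL)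
  have hker : φ.ker.map J.subtype ≤ J ⊓ Q := by
    rintro _ ⟨j, hj, rfl⟩
    refine ⟨j.2, ?_⟩
    have h : QuotientGroup.mk' (Q.subgroupOf L₀) (Subgroup.inclusion hJL j) = 1 :=
      eL.injective (hj.trans (map_one eL).symm)
    exact mem_subgroupOf.1
      ((QuotientGroup.eq_one_iff (N := Q.subgroupOf L₀) (Subgroup.inclusion hJL j)).1 h)
  have hrange : Nat.card φ.range ≤ 3 := by
    have hd : Nat.card φ.range ∣ 120 := Perm.Zass.card_SL_five ▸ card_subgroup_dvd_card _
    obtain ⟨i, -, hi⟩ := (Nat.dvd_prime_pow Nat.prime_three).1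
      (hJcard ▸ (Subgroup.card_range_dvd φ : Nat.card φ.range ∣ Nat.card J))
    rw [hi] at hd ⊢
    rcases i with _ | _ | i
    · norm_num
    · norm_num
    · have h9 : 3 ^ 2 ∣ 120 := (pow_dvd_pow 3 (by omega)).trans hd
      norm_num at h9
  have h27 : 3 ^ 3 ≤ Nat.card ↥(J ⊓ Q) := by
    have h3 := φ.ker.card_mul_index
    rw [index_ker, hJcard] at h3
    have hk := card_le_of_le hker
    rw [card_subtype] at hk
    have := Nat.mul_le_mul hk hrange
    rw [h3] at this
    norm_num at this ⊢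
    omega
  -- then `(J ⊓ Q) Z` is abelian of order at least `3⁴`
  set A : Subgroup Q := (J ⊓ Q ⊔ Z).subgroupOf Q with hA
  have hcomm : ∀ a ∈ A, ∀ b ∈ A, a * b = b * a := by
    have hle : J ⊓ Q ⊔ Z ≤ centralizer ((J ⊓ Q ⊔ Z : Subgroup G) : Set G) := by
      have hJJ : J ≤ centralizer (J : Set G) := fun a ha => mem_centralizer_iff.2 fun b hb =>
        congrArg Subtype.val (hJcomm.is_comm.comm (⟨b, hb⟩ : J) ⟨a, ha⟩)
      refine sup_le ?_ ?_ <;> rw [le_centralizer_iff] <;> refine sup_le ?_ ?_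
      · exact inf_le_left.trans (hJJ.trans (centralizer_le (show ((J ⊓ Q : Subgroup G) : Set G) ⊆ J
          from inf_le_left)))
      · exact hZQ'.trans (centralizer_le (show ((J ⊓ Q : Subgroup G) : Set G) ⊆ Q from inf_le_right))
      · exact inf_le_right.trans (hQS.trans hSC)
      · exact hZS.trans hSC
    intro a ha b hb
    exact Subtype.ext (mem_centralizer_iff.1 (hle (mem_subgroupOf.1 hb)) a (mem_subgroupOf.1 ha))
  have hlt := card_abelian_le hQex hQcard A hcomm
  have hAcard : Nat.card A = Nat.card ↥(J ⊓ Q ⊔ Z) :=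
    Nat.card_congr (subgroupOfEquivOfLe (sup_le inf_le_right hZQ)).toEquiv
  have hsub : J ⊓ Q < J ⊓ Q ⊔ Z := lt_of_le_of_ne le_sup_left fun h =>
    hxJ ((h ▸ mem_sup_right hxZ : x ∈ J ⊓ Q)).1
  obtain ⟨i, -, hi⟩ := (Nat.dvd_prime_pow Nat.prime_three).1
    (hQcard ▸ card_dvd_of_le (sup_le inf_le_right hZQ : J ⊓ Q ⊔ Z ≤ Q))
  have hgt : Nat.card ↥(J ⊓ Q) < Nat.card ↥(J ⊓ Q ⊔ Z) := by
    by_contra hh
    exact hsub.ne (eq_of_le_of_card_ge le_sup_left (not_lt.1 hh))
  rw [hAcard, hi] at hlt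
  rw [hi] at hgt
  have : 3 < i := (Nat.pow_lt_pow_iff_right (by norm_num : 1 < 3)).1 (lt_of_le_of_lt h27 hgt)
  have : i < 4 := (Nat.pow_lt_pow_iff_right (by norm_num : 1 < 3)).1 hlt
  omega

end CfsgLib.McLThree
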